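import Mathlib

/-!
# S2276: shared definitions (pairs of `p`-elements of alternating groups)

`Good p a b`     : `a * b` does not have `p`-power order and `⟨a, b⟩` is not solvable.
`GoodBoth p a b` : `Good p a b`, and `Good p a (τ * b * τ⁻¹)` for some odd permutation `τ`
                   (this lets us repair the parity of a conjugating permutation).
-/

set_option autoImplicit false

namespace Cfsg.Agent.Lib.helper95.AP

/-- a good pair: the product does not have `p`-power order, the generated group is not solvable -/
def Good (p : ℕ) {α : Type*} (a b : Equiv.Perm α) : Prop :=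
  (¬ ∃ k : ℕ, orderOf (a * b) = p ^ k) ∧
    ¬ Group.IsSolvable ↥(Subgroup.closure ({a, b} : Set (Equiv.Perm α)))

/-- a good pair with an odd-conjugate companion -/
def GoodBoth (p : ℕ) {m : ℕ} (a b : Equiv.Perm (Fin m)) : Prop :=
  Good p a b ∧ ∃ τ : Equiv.Perm (Fin m), Equiv.Perm.sign τ = -1 ∧ Good p a (τ * b * τ⁻¹)

end Cfsg.Agent.Lib.helper95.AP
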