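/-
Basic tooling for subgroups of GL(ι, F) given through their action on column vectors:
building elements of GL from linear equivalences, transvections, membership lemmas.
-/
import Cfsg.Prelude.Def_GeometricClasses

set_option autoImplicit false

namespace Cfsg.Agent.Lib.helper95

open Cfsg Cfsg.Geo Matrix

variable {ι : Type} [Fintype ι] [DecidableEq ι] {F : Type*} [Field F]

/-- The element of GL(ι, F) attached to a linear automorphism of F^ι. -/
noncomputable def glOfEquiv (e : (ι → F) ≃ₗ[F] (ι → F)) : GL ι F :=
  ⟨LinearMap.toMatrix' e.toLinearMap, LinearMap.toMatrix' e.symm.toLinearMap, by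
    rw [← LinearMap.toMatrix'_comp]; simp, by rw [← LinearMap.toMatrix'_comp]; simp⟩

theorem glOfEquiv_mulVec (e : (ι → F) ≃ₗ[F] (ι → F)) (v : ι → F) :
    ((glOfEquiv e : GL ι F) : Matrix ι ι F) *ᵥ v = e v := by
  show LinearMap.toMatrix' e.toLinearMap *ᵥ v = e v
  rw [← Matrix.toLin'_apply, Matrix.toLin'_toMatrix']
  rfl

theorem det_glOfEquiv (e : (ι → F) ≃ₗ[F] (ι → F)) :
    ((glOfEquiv e : GL ι F) : Matrix ι ι F).det = LinearMap.det e.toLinearMap := by
  show (LinearMap.toMatrix' e.toLinearMap).det = _
  exact LinearMap.det_toMatrix' _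

theorem mem_specialLinear_iff (g : GL ι F) :
    g ∈ specialLinear ι F ↔ (g : Matrix ι ι F).det = 1 := by
  unfold specialLinear
  rw [MonoidHom.mem_ker]
  constructor
  · intro h
    have := congrArg Units.val h
    simpa using this
  · intro h
    apply Units.ext
    simpa using h

theorem mem_subspaceStabilizer_iff (W : Submodule F (ι → F)) (g : GL ι F) :
    g ∈ subspaceStabilizer W ↔ ∀ v, v ∈ W ↔ (g : Matrix ι ι F) *ᵥ v ∈ W := Iff.rfl

/-- The transvection `x ↦ x + φ x • u` (with `φ u = 0`) as an element of GL(ι, F). -/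
noncomputable def glTransvection (φ : Module.Dual F (ι → F)) (u : ι → F) (h : φ u = 0) : GL ι F :=
  glOfEquiv (LinearEquiv.transvection h)

theorem glTransvection_mulVec (φ : Module.Dual F (ι → F)) (u : ι → F) (h : φ u = 0) (v : ι → F) :
    ((glTransvection φ u h : GL ι F) : Matrix ι ι F) *ᵥ v = v + φ v • u := by
  unfold glTransvection
  rw [glOfEquiv_mulVec]
  rfl

theorem glTransvection_mem_specialLinear (φ : Module.Dual F (ι → F)) (u : ι → F) (h : φ u = 0) :
    glTransvection φ u h ∈ specialLinear ι F := by
  rw [mem_specialLinear_iff]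
  unfold glTransvection
  rw [det_glOfEquiv]
  have := LinearMap.transvection.det φ u
  rw [h, add_zero] at this
  exact this

/-- A transvection along a vector of `W` stabilises `W`. -/
theorem glTransvection_mem_subspaceStabilizer (φ : Module.Dual F (ι → F)) (u : ι → F) (h : φ u = 0)
    (W : Submodule F (ι → F)) (hu : u ∈ W) : glTransvection φ u h ∈ subspaceStabilizer W := by
  rw [mem_subspaceStabilizer_iff]
  intro v
  rw [glTransvection_mulVec]
  constructor
  · intro hv
    exact W.add_mem hv (W.smul_mem _ hu)
  · intro hv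
    have := W.sub_mem hv (W.smul_mem (φ v) hu)
    simpa using this

omit [DecidableEq ι] in
/-- A linear form vanishing on `W` and taking the value `1` at a given vector outside `W`. -/
theorem exists_dual_eq_one_of_notMem (W : Submodule F (ι → F)) (x : ι → F) (hx : x ∉ W) :
    ∃ φ : Module.Dual F (ι → F), φ x = 1 ∧ ∀ w ∈ W, φ w = 0 := by
  obtain ⟨f, hf, hfW⟩ := Submodule.exists_dual_map_eq_bot_of_notMem hx inferInstance
  refine ⟨(f x)⁻¹ • f, ?_, ?_⟩
  · simp [hf]
  · intro w hw
    have : f w ∈ Submodule.map f W := Submodule.mem_map_of_mem hw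
    rw [hfW] at this
    have h0 : f w = 0 := by simpa using this
    simp [h0]

end Cfsg.Agent.Lib.helper95
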