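/-
Bases indexed by blocks `(i, j)`, `i : κ`, `j : Fin m`, of `F^ι`: block subspaces, block projections, the number of
non-zero block components ("block weight") of a vector, its invariance under matrices permuting the blocks,
and shears `x ↦ x + (∑_{i∈S} x_{i,j'}) • ∑_{i∈S} B_{i,j}`.
-/
import Cfsg.Agent.Lib.helper95.GLBasic

set_option autoImplicit false
set_option linter.unusedSectionVars false

namespace Cfsg.Agent.Lib.helper95

open Cfsg Cfsg.Geo Matrix Module

section Extra

variable {ι : Type} [Fintype ι] [DecidableEq ι] {F : Type*} [Field F]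

/-- The element of GL(ι, F) attached to an endomorphism of F^ι with non-zero determinant. -/
noncomputable def glOfLinearMap (f : (ι → F) →ₗ[F] (ι → F)) (h : LinearMap.det f ≠ 0) : GL ι F :=
  Matrix.GeneralLinearGroup.mkOfDetNeZero (LinearMap.toMatrix' f) (by rwa [LinearMap.det_toMatrix'])

theorem glOfLinearMap_mulVec (f : (ι → F) →ₗ[F] (ι → F)) (h : LinearMap.det f ≠ 0) (v : ι → F) :
    ((glOfLinearMap f h : GL ι F) : Matrix ι ι F) *ᵥ v = f v := by
  show LinearMap.toMatrix' f *ᵥ v = f v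
  rw [← Matrix.toLin'_apply, Matrix.toLin'_toMatrix']

theorem det_glOfLinearMap (f : (ι → F) →ₗ[F] (ι → F)) (h : LinearMap.det f ≠ 0) :
    ((glOfLinearMap f h : GL ι F) : Matrix ι ι F).det = LinearMap.det f := by
  show (LinearMap.toMatrix' f).det = _
  exact LinearMap.det_toMatrix' _

theorem gl_mulVec_injective (g : GL ι F) :
    Function.Injective (fun v : ι → F => (g : Matrix ι ι F) *ᵥ v) := by
  intro v w h
  have h2 := congrArg (fun z => ((g⁻¹ : GL ι F) : Matrix ι ι F) *ᵥ z) h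
  simpa [Matrix.mulVec_mulVec, ← Units.val_mul] using h2

theorem gl_mulVec_eq_zero_iff (g : GL ι F) (v : ι → F) :
    (g : Matrix ι ι F) *ᵥ v = 0 ↔ v = 0 := by
  constructor
  · intro h
    apply gl_mulVec_injective g
    simpa using h
  · rintro rfl
    simp

/-- The subgroup of GL(ι, F) of the matrices preserving a function on vectors. -/
def fnStabilizer {α : Type*} (N : (ι → F) → α) : Subgroup (GL ι F) where
  carrier := {g | ∀ x, N ((g : Matrix ι ι F) *ᵥ x) = N x}
  mul_mem' {a b} ha hb := by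
    intro x
    rw [Units.val_mul, ← Matrix.mulVec_mulVec, ha, hb]
  one_mem' := by
    intro x
    simp
  inv_mem' {a} ha := by
    intro x
    have h := ha (((a⁻¹ : GL ι F) : Matrix ι ι F) *ᵥ x)
    rw [Matrix.mulVec_mulVec, ← Units.val_mul, mul_inv_cancel, Units.val_one, Matrix.one_mulVec] at h
    exact h.symm

theorem mem_fnStabilizer_iff {α : Type*} (N : (ι → F) → α) (g : GL ι F) :
    g ∈ fnStabilizer N ↔ ∀ x, N ((g : Matrix ι ι F) *ᵥ x) = N x := Iff.rfl

end Extra

section Blocks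

variable {ι : Type} [Fintype ι] [DecidableEq ι] {F : Type*} [Field F]
variable {κ : Type*} [Fintype κ] [DecidableEq κ] {m : ℕ}

/-- The span of the `i`-th block of a basis indexed by pairs. -/
def blk (B : Basis ((_ : κ) × Fin m) F (ι → F)) (i : κ) : Submodule F (ι → F) :=
  Submodule.span F (Set.range fun j : Fin m => B ⟨i, j⟩)

omit [Fintype κ] [DecidableEq κ] [Fintype ι] [DecidableEq ι] in
theorem basis_mem_blk (B : Basis ((_ : κ) × Fin m) F (ι → F)) (i : κ) (j : Fin m) :
    B ⟨i, j⟩ ∈ blk B i := Submodule.subset_span ⟨j, rfl⟩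

omit [Fintype κ] [DecidableEq κ] [Fintype ι] [DecidableEq ι] in
theorem repr_of_mem_blk_ne (B : Basis ((_ : κ) × Fin m) F (ι → F)) {x : ι → F} {i i' : κ}
    (hx : x ∈ blk B i) (h : i ≠ i') (j : Fin m) : B.repr x ⟨i', j⟩ = 0 := by
  have hle : blk B i ≤ LinearMap.ker (B.coord ⟨i', j⟩) := by
    unfold blk
    rw [Submodule.span_le]
    rintro _ ⟨j', rfl⟩
    have hne : (⟨i, j'⟩ : (_ : κ) × Fin m) ≠ ⟨i', j⟩ := by
      intro heq
      exact h (congrArg Sigma.fst heq)
    simp [Basis.coord_apply, Basis.repr_self, hne]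
  have := hle hx
  simpa [Basis.coord_apply] using this

/-- The projection onto the `i`-th block. -/
noncomputable def bproj (B : Basis ((_ : κ) × Fin m) F (ι → F)) (i : κ) : (ι → F) →ₗ[F] (ι → F) :=
  ∑ j : Fin m, (B.coord ⟨i, j⟩).smulRight (B ⟨i, j⟩)

omit [Fintype κ] [DecidableEq κ] [Fintype ι] [DecidableEq ι] in
theorem bproj_apply (B : Basis ((_ : κ) × Fin m) F (ι → F)) (i : κ) (x : ι → F) :
    bproj B i x = ∑ j : Fin m, B.repr x ⟨i, j⟩ • B ⟨i, j⟩ := by
  simp [bproj, LinearMap.sum_apply, LinearMap.smulRight_apply, Basis.coord_apply]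

omit [Fintype κ] [DecidableEq κ] [Fintype ι] [DecidableEq ι] in
theorem bproj_mem (B : Basis ((_ : κ) × Fin m) F (ι → F)) (i : κ) (x : ι → F) :
    bproj B i x ∈ blk B i := by
  rw [bproj_apply]
  exact Submodule.sum_mem _ (fun j _ => Submodule.smul_mem _ _ (basis_mem_blk B i j))

omit [DecidableEq κ] [Fintype ι] [DecidableEq ι] in
theorem sum_bproj (B : Basis ((_ : κ) × Fin m) F (ι → F)) (x : ι → F) :
    ∑ i, bproj B i x = x := by
  simp_rw [bproj_apply]
  rw [← Fintype.sum_sigma (fun a : (_ : κ) × Fin m => B.repr x a • B a)]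
  exact B.sum_repr x

omit [Fintype κ] [DecidableEq κ] [Fintype ι] [DecidableEq ι] in
theorem bproj_of_mem_ne (B : Basis ((_ : κ) × Fin m) F (ι → F)) {x : ι → F} {i i' : κ}
    (hx : x ∈ blk B i) (h : i ≠ i') : bproj B i' x = 0 := by
  rw [bproj_apply]
  apply Finset.sum_eq_zero
  intro j _
  rw [repr_of_mem_blk_ne B hx h j, zero_smul]

omit [DecidableEq κ] [Fintype ι] [DecidableEq ι] in
theorem bproj_of_mem (B : Basis ((_ : κ) × Fin m) F (ι → F)) {x : ι → F} {i : κ}
    (hx : x ∈ blk B i) : bproj B i x = x := by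
  have h := sum_bproj B x
  rw [Finset.sum_eq_single i (fun i' _ hne => bproj_of_mem_ne B hx (Ne.symm hne)) (by simp)] at h
  exact h

omit [Fintype ι] [DecidableEq ι] in
/-- Projection of a sum of vectors taken from the blocks. -/
theorem bproj_sum (B : Basis ((_ : κ) × Fin m) F (ι → F)) (y : κ → (ι → F))
    (hy : ∀ i, y i ∈ blk B i) (i : κ) : bproj B i (∑ i', y i') = y i := by
  rw [map_sum, Finset.sum_eq_single i]
  · exact bproj_of_mem B (hy i)
  · intro i' _ hne
    exact bproj_of_mem_ne B (hy i') hne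
  · simp

omit [Fintype ι] [DecidableEq ι] in
theorem bproj_eq_zero_iff (B : Basis ((_ : κ) × Fin m) F (ι → F)) (i : κ) (x : ι → F) :
    bproj B i x = 0 ↔ ∀ j, B.repr x ⟨i, j⟩ = 0 := by
  constructor
  · intro h j
    have hx := sum_bproj B x
    rw [← hx, map_sum, Finsupp.coe_finsetSum, Finset.sum_apply]
    apply Finset.sum_eq_zero
    intro i' _
    by_cases hi : i' = i
    · subst hi
      rw [h]
      simp
    · exact repr_of_mem_blk_ne B (bproj_mem B i' x) hi j
  · intro h
    rw [bproj_apply]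
    simp [h]

open scoped Classical in
/-- The number of non-zero block components of a vector. -/
noncomputable def bwt (B : Basis ((_ : κ) × Fin m) F (ι → F)) (x : ι → F) : ℕ :=
  (Finset.univ.filter (fun i => bproj B i x ≠ 0)).card

/-- A matrix permuting the blocks permutes the block components. -/
theorem bproj_map (B : Basis ((_ : κ) × Fin m) F (ι → F)) (g : GL ι F) (σ : Equiv.Perm κ)
    (hσ : ∀ i, (blk B i).map (Matrix.toLin' (g : Matrix ι ι F)) = blk B (σ i)) (x : ι → F) (i : κ) :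
    bproj B (σ i) ((g : Matrix ι ι F) *ᵥ x) = (g : Matrix ι ι F) *ᵥ bproj B i x := by
  have hmem : ∀ i', (g : Matrix ι ι F) *ᵥ bproj B i' x ∈ blk B (σ i') := by
    intro i'
    rw [← hσ i']
    exact ⟨bproj B i' x, bproj_mem B i' x, by simp [Matrix.toLin'_apply]⟩
  have hx : (g : Matrix ι ι F) *ᵥ x = ∑ i', (g : Matrix ι ι F) *ᵥ bproj B (σ.symm i') x := by
    rw [Equiv.sum_comp σ.symm (fun i' => (g : Matrix ι ι F) *ᵥ bproj B i' x)]
    conv_lhs => rw [← sum_bproj B x]
    exact map_sum (Matrix.mulVecLin (g : Matrix ι ι F)) _ _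
  rw [hx, bproj_sum B _ (fun i' => by simpa using hmem (σ.symm i'))]
  simp

theorem bwt_map (B : Basis ((_ : κ) × Fin m) F (ι → F)) (g : GL ι F) (σ : Equiv.Perm κ)
    (hσ : ∀ i, (blk B i).map (Matrix.toLin' (g : Matrix ι ι F)) = blk B (σ i)) (x : ι → F) :
    bwt B ((g : Matrix ι ι F) *ᵥ x) = bwt B x := by
  unfold bwt
  symm
  apply Finset.card_bij (fun i _ => σ i)
  · intro i hi
    simp only [Finset.mem_filter, Finset.mem_univ, true_and] at hi ⊢
    rw [bproj_map B g σ hσ]
    intro h0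
    exact hi ((gl_mulVec_eq_zero_iff g _).mp h0)
  · intro i _ i' _ h
    exact σ.injective h
  · intro j hj
    simp only [Finset.mem_filter, Finset.mem_univ, true_and] at hj
    refine ⟨σ.symm j, ?_, by simp⟩
    simp only [Finset.mem_filter, Finset.mem_univ, true_and]
    intro h0
    apply hj
    have := bproj_map B g σ hσ x (σ.symm j)
    rw [Equiv.apply_symm_apply] at this
    rw [this, h0]
    simp

open scoped Classical in
theorem bwt_cast (B : Basis ((_ : κ) × Fin m) F (ι → F)) (x : ι → F) :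
    ((bwt B x : ℕ) : F) = ∑ i, if (fun j => B.repr x ⟨i, j⟩) = 0 then (0 : F) else 1 := by
  unfold bwt
  rw [Finset.natCast_card_filter]
  apply Finset.sum_congr rfl
  intro i _
  have hiff : bproj B i x = 0 ↔ (fun j => B.repr x ⟨i, j⟩) = 0 := by
    rw [bproj_eq_zero_iff]
    constructor
    · intro h
      funext j
      exact h j
    · intro h j
      exact congrFun h j
  by_cases h : bproj B i x = 0
  · rw [if_neg (not_not.mpr h), if_pos (hiff.mp h)]
  · rw [if_pos h, if_neg ((not_congr hiff).mp h)]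

theorem bproj_basis (B : Basis ((_ : κ) × Fin m) F (ι → F)) (i : κ) (a : (_ : κ) × Fin m) :
    bproj B i (B a) = if a.1 = i then B a else 0 := by
  obtain ⟨i', j⟩ := a
  by_cases h : i' = i
  · subst h
    simp [bproj_of_mem B (basis_mem_blk B i' j)]
  · simp [h, bproj_of_mem_ne B (basis_mem_blk B i' j) h]

open scoped Classical in
theorem bwt_basis (B : Basis ((_ : κ) × Fin m) F (ι → F)) (a : (_ : κ) × Fin m) :
    bwt B (B a) = 1 := by
  unfold bwt
  have : Finset.univ.filter (fun i => bproj B i (B a) ≠ 0) = {a.1} := by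
    ext i
    simp only [Finset.mem_filter, Finset.mem_univ, true_and, Finset.mem_singleton]
    rw [bproj_basis]
    by_cases h : a.1 = i
    · simp [h, B.ne_zero]
    · simp [h]
      exact fun h' => h h'.symm
  rw [this, Finset.card_singleton]

open scoped Classical in
theorem bwt_basis_add (B : Basis ((_ : κ) × Fin m) F (ι → F)) {i₀ i₁ : κ} (h : i₀ ≠ i₁)
    (j j' : Fin m) : bwt B (B ⟨i₀, j⟩ + B ⟨i₁, j'⟩) = 2 := by
  unfold bwt
  have : Finset.univ.filter (fun i => bproj B i (B ⟨i₀, j⟩ + B ⟨i₁, j'⟩) ≠ 0) = {i₀, i₁} := by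
    ext i
    simp only [Finset.mem_filter, Finset.mem_univ, true_and, Finset.mem_insert,
      Finset.mem_singleton]
    rw [map_add, bproj_basis, bproj_basis]
    by_cases h0 : i₀ = i
    · subst h0
      simp [Ne.symm h, B.ne_zero]
    · by_cases h1 : i₁ = i
      · subst h1
        simp [h0, B.ne_zero]
      · simp [h0, h1]
        exact ⟨fun h' => h0 h'.symm, fun h' => h1 h'.symm⟩
  rw [this, Finset.card_pair h]

open scoped Classical in
theorem one_lt_bwt (B : Basis ((_ : κ) × Fin m) F (ι → F)) {x : ι → F} {i i' : κ} (hne : i ≠ i')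
    (h : bproj B i x ≠ 0) (h' : bproj B i' x ≠ 0) : 1 < bwt B x := by
  unfold bwt
  rw [Finset.one_lt_card]
  exact ⟨i, by simp [h], i', by simp [h'], hne⟩

/-- The map `x ↦ x + (∑_{i∈S} x_{i,j'}) • ∑_{i∈S} B_{i,j}`. -/
noncomputable def blockShear (B : Basis ((_ : κ) × Fin m) F (ι → F)) (S : Finset κ) (j j' : Fin m) :
    (ι → F) →ₗ[F] (ι → F) :=
  LinearMap.transvection (∑ i ∈ S, B.coord ⟨i, j'⟩) (∑ i ∈ S, B ⟨i, j⟩)

omit [Fintype κ] [DecidableEq κ] [Fintype ι] [DecidableEq ι] in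
theorem blockShear_apply (B : Basis ((_ : κ) × Fin m) F (ι → F)) (S : Finset κ) (j j' : Fin m)
    (x : ι → F) :
    blockShear B S j j' x = x + (∑ i ∈ S, B.repr x ⟨i, j'⟩) • ∑ i ∈ S, B ⟨i, j⟩ := by
  simp [blockShear, LinearMap.transvection.apply, LinearMap.sum_apply, Basis.coord_apply]

omit [Fintype κ] [Fintype ι] [DecidableEq ι] in
theorem repr_blockShear (B : Basis ((_ : κ) × Fin m) F (ι → F)) (S : Finset κ) (j j' : Fin m)
    (x : ι → F) (i : κ) (k : Fin m) :
    B.repr (blockShear B S j j' x) ⟨i, k⟩ =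
      B.repr x ⟨i, k⟩ + (∑ i' ∈ S, B.repr x ⟨i', j'⟩) * (if i ∈ S ∧ k = j then 1 else 0) := by
  rw [blockShear_apply, map_add, map_smul, Finsupp.add_apply, Finsupp.smul_apply, smul_eq_mul,
    map_sum, Finsupp.coe_finsetSum, Finset.sum_apply]
  congr 2
  simp_rw [Basis.repr_self, Finsupp.single_apply]
  by_cases hk : k = j
  · subst hk
    simp [Sigma.mk.injEq]
  · have hne : ∀ i', (⟨i', j⟩ : (_ : κ) × Fin m) ≠ ⟨i, k⟩ := by
      intro i' heq
      simp [Sigma.mk.injEq] at heq
      exact hk heq.2.symm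
    simp [hne, hk]

omit [Fintype κ] in
theorem det_blockShear (B : Basis ((_ : κ) × Fin m) F (ι → F)) (S : Finset κ) (j j' : Fin m) :
    LinearMap.det (blockShear B S j j') = 1 + (if j = j' then (S.card : F) else 0) := by
  unfold blockShear
  rw [LinearMap.transvection.det]
  congr 1
  simp only [LinearMap.sum_apply, map_sum, Basis.coord_apply, Basis.repr_self, Finsupp.single_apply]
  by_cases h : j = j'
  · subst h
    simp [Sigma.mk.injEq]
  · simp [h, Sigma.mk.injEq]

open scoped Classical in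
/-- A shear preserves the block weight modulo the characteristic as soon as the indicator of non-zero blocks is
given by a function `φ` of the block coordinates whose total over `S` does not change. -/
theorem bwt_blockShear_cast (B : Basis ((_ : κ) × Fin m) F (ι → F)) (S : Finset κ) (j j' : Fin m)
    (φ : (Fin m → F) → F) (hφ0 : φ 0 = 0) (hφ1 : ∀ r : Fin m → F, r ≠ 0 → φ r = 1)
    (hsum : ∀ r : κ → Fin m → F,
      ∑ i ∈ S, (φ (r i + (∑ i' ∈ S, r i' j') • Pi.single j 1) - φ (r i)) = 0) (x : ι → F) :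
    ((bwt B (blockShear B S j j' x) : ℕ) : F) = (bwt B x : F) := by
  have hφ : ∀ r : Fin m → F, (if r = 0 then (0 : F) else 1) = φ r := by
    intro r
    by_cases hr : r = 0
    · rw [if_pos hr, hr, hφ0]
    · rw [if_neg hr, hφ1 r hr]
  rw [bwt_cast, bwt_cast]
  simp_rw [hφ]
  rw [← sub_eq_zero, ← Finset.sum_sub_distrib]
  have key : ∀ i, φ (fun k => B.repr (blockShear B S j j' x) ⟨i, k⟩) - φ (fun k => B.repr x ⟨i, k⟩)
      = if i ∈ S then (φ ((fun k => B.repr x ⟨i, k⟩) +
          (∑ i' ∈ S, B.repr x ⟨i', j'⟩) • Pi.single j 1) - φ (fun k => B.repr x ⟨i, k⟩)) else 0 := by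
    intro i
    by_cases hi : i ∈ S
    · rw [if_pos hi]
      congr 2
      funext k
      rw [repr_blockShear]
      simp [hi, Pi.single_apply]
    · rw [if_neg hi]
      have : (fun k => B.repr (blockShear B S j j' x) ⟨i, k⟩) = fun k => B.repr x ⟨i, k⟩ := by
        funext k
        rw [repr_blockShear]
        simp [hi]
      rw [this, sub_self]
  simp_rw [key]
  rw [Finset.sum_ite_mem, Finset.univ_inter]
  exact hsum (fun i k => B.repr x ⟨i, k⟩)

theorem one_lt_bwt_blockShear (B : Basis ((_ : κ) × Fin m) F (ι → F)) (S : Finset κ) (j j' : Fin m)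
    {i₁ i₂ i₃ : κ} (h1 : i₁ ∈ S) (h2 : i₂ ∈ S) (h3 : i₃ ∈ S) (h12 : i₁ ≠ i₂) (h13 : i₁ ≠ i₃)
    (h23 : i₂ ≠ i₃) : 1 < bwt B (blockShear B S j j' (B ⟨i₁, j'⟩)) := by
  have hcoef : ∀ i₂ : κ, i₂ ∈ S → i₁ ≠ i₂ →
      B.repr (blockShear B S j j' (B ⟨i₁, j'⟩)) ⟨i₂, j⟩ = 1 := by
    intro i₂ h2 h12
    rw [repr_blockShear]
    have hne : (⟨i₁, j'⟩ : (_ : κ) × Fin m) ≠ ⟨i₂, j⟩ := by
      intro heq
      exact h12 (congrArg Sigma.fst heq)
    simp [Basis.repr_self, Finsupp.single_apply, hne, h2, h1, Sigma.mk.injEq]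
  apply one_lt_bwt B h23
  · rw [Ne, bproj_eq_zero_iff]
    intro h
    have := h j
    rw [hcoef i₂ h2 h12] at this
    exact one_ne_zero this
  · rw [Ne, bproj_eq_zero_iff]
    intro h
    have := h j
    rw [hcoef i₃ h3 h13] at this
    exact one_ne_zero this

theorem exists_sl_not_preserving_bwt (B : Basis ((_ : κ) × Fin m) F (ι → F)) {i₀ i₁ : κ}
    (h : i₀ ≠ i₁) (j₀ : Fin m) :
    ∃ τ : GL ι F, τ ∈ specialLinear ι F ∧
      ∃ x, ((bwt B ((τ : Matrix ι ι F) *ᵥ x) : ℕ) : F) ≠ (bwt B x : F) := by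
  have hne : (⟨i₁, j₀⟩ : (_ : κ) × Fin m) ≠ ⟨i₀, j₀⟩ := fun heq => h (congrArg Sigma.fst heq).symm
  have h0 : B.coord ⟨i₀, j₀⟩ (B ⟨i₁, j₀⟩) = 0 := by
    simp [Basis.coord_apply, Basis.repr_self, hne]
  refine ⟨glTransvection _ _ h0, glTransvection_mem_specialLinear _ _ _, B ⟨i₀, j₀⟩, ?_⟩
  rw [glTransvection_mulVec]
  have h1 : B.coord ⟨i₀, j₀⟩ (B ⟨i₀, j₀⟩) = 1 := by
    simp [Basis.coord_apply, Basis.repr_self]
  rw [h1, one_smul, bwt_basis_add B h, bwt_basis]
  intro h2
  push_cast at h2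
  have : (1 : F) = 0 := by linear_combination h2
  exact one_ne_zero this

end Blocks

section Decomp

variable {ι : Type} [Fintype ι] [DecidableEq ι] {F : Type*} [Field F]
variable {t m : ℕ} {D : Fin t → Submodule F (ι → F)}

theorem decomp_isInternal (hD : IsMDecomposition m D) : DirectSum.IsInternal D :=
  DirectSum.isInternal_submodule_of_iSupIndep_of_iSup_eq_top hD.indep hD.iSup_eq_top

/-- A basis of `F^ι` adapted to an `m`-decomposition. -/
noncomputable def decompBasis (hD : IsMDecomposition m D) : Basis ((_ : Fin t) × Fin m) F (ι → F) :=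
  (decomp_isInternal hD).collectedBasis (fun i => Module.finBasisOfFinrankEq F (D i) (hD.finrank_eq i))

theorem decompBasis_mem (hD : IsMDecomposition m D) (i : Fin t) (j : Fin m) :
    decompBasis hD ⟨i, j⟩ ∈ D i := by
  have h := DirectSum.IsInternal.collectedBasis_mem (decomp_isInternal hD)
    (fun i => Module.finBasisOfFinrankEq F (D i) (hD.finrank_eq i)) ⟨i, j⟩
  exact h

theorem decompBasis_repr_of_mem_ne (hD : IsMDecomposition m D) {x : ι → F} {i i' : Fin t}
    (hx : x ∈ D i) (h : i ≠ i') (j : Fin m) : (decompBasis hD).repr x ⟨i', j⟩ = 0 := by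
  have h' := DirectSum.IsInternal.collectedBasis_repr_of_mem_ne (decomp_isInternal hD)
    (fun i => Module.finBasisOfFinrankEq F (D i) (hD.finrank_eq i)) h (a := j) hx
  exact h'

theorem blk_decompBasis (hD : IsMDecomposition m D) (i : Fin t) : blk (decompBasis hD) i = D i := by
  apply le_antisymm
  · unfold blk
    rw [Submodule.span_le]
    rintro _ ⟨j, rfl⟩
    exact decompBasis_mem hD i j
  · intro x hx
    have h := sum_bproj (decompBasis hD) x
    rw [Finset.sum_eq_single i] at h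
    · rw [← h]
      exact bproj_mem _ i x
    · intro i' _ hne
      rw [bproj_apply]
      apply Finset.sum_eq_zero
      intro j _
      rw [decompBasis_repr_of_mem_ne hD hx hne.symm j, zero_smul]
    · simp

theorem decomp_card (hD : IsMDecomposition m D) : t * m = Fintype.card ι := by
  have h1 := Module.finrank_eq_card_basis (decompBasis hD)
  rw [Module.finrank_fintype_fun_eq_card] at h1
  simpa using h1.symm

theorem bwt_of_mem_decompositionStabilizer (hD : IsMDecomposition m D) {g : GL ι F}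
    (hg : g ∈ decompositionStabilizer D) (x : ι → F) :
    bwt (decompBasis hD) ((g : Matrix ι ι F) *ᵥ x) = bwt (decompBasis hD) x := by
  obtain ⟨σ, hσ⟩ := hg
  exact bwt_map _ g σ (fun i => by rw [blk_decompBasis, blk_decompBasis]; exact hσ i) x

/-- Criterion for the stabiliser of a decomposition not to be maximal in a subgroup `G`: an element of `G`
preserving the block weight modulo the characteristic but not exactly, and an element of `G` not preserving it
modulo the characteristic. -/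
theorem decomp_not_maximal (hD : IsMDecomposition m D) (G : Subgroup (GL ι F))
    (g : GL ι F) (hgG : g ∈ G)
    (hgN : ∀ x, ((bwt (decompBasis hD) ((g : Matrix ι ι F) *ᵥ x) : ℕ) : F) = (bwt (decompBasis hD) x : F))
    (hgH : ∃ x, bwt (decompBasis hD) ((g : Matrix ι ι F) *ᵥ x) ≠ bwt (decompBasis hD) x)
    (τ : GL ι F) (hτG : τ ∈ G)
    (hτ : ∃ x, ((bwt (decompBasis hD) ((τ : Matrix ι ι F) *ᵥ x) : ℕ) : F) ≠ (bwt (decompBasis hD) x : F)) :
    ∃ K : Subgroup (GL ι F), decompositionStabilizer D ⊓ G < K ∧ K < G := by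
  refine ⟨fnStabilizer (fun x => ((bwt (decompBasis hD) x : ℕ) : F)) ⊓ G, ?_, ?_⟩
  · refine lt_of_le_of_ne ?_ ?_
    · intro g' hg'
      have h1 : g' ∈ fnStabilizer (fun x => ((bwt (decompBasis hD) x : ℕ) : F)) := by
        rw [mem_fnStabilizer_iff]
        intro x
        rw [bwt_of_mem_decompositionStabilizer hD hg'.1]
      exact ⟨h1, hg'.2⟩
    · intro heq
      have hmem : g ∈ fnStabilizer (fun x => ((bwt (decompBasis hD) x : ℕ) : F)) ⊓ G := ⟨hgN, hgG⟩
      rw [← heq] at hmem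
      obtain ⟨x, hx⟩ := hgH
      exact hx (bwt_of_mem_decompositionStabilizer hD hmem.1 x)
  · refine lt_of_le_of_ne inf_le_right ?_
    intro heq
    rw [← heq] at hτG
    obtain ⟨x, hx⟩ := hτ
    exact hx (hτG.1 x)

end Decomp

section SmallFields

variable {F : Type*} [Field F] [Fintype F]

theorem zero_pow_card_sub_one : (0 : F) ^ (Fintype.card F - 1) = 0 := by
  apply zero_pow
  have := Fintype.one_lt_card (α := F)
  omega

theorem two_eq_zero_of_card_two (h : Fintype.card F = 2) : (2 : F) = 0 := by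
  have := FiniteField.cast_card_eq_zero F
  rw [h] at this
  exact_mod_cast this

theorem three_eq_zero_of_card_three (h : Fintype.card F = 3) : (3 : F) = 0 := by
  have := FiniteField.cast_card_eq_zero F
  rw [h] at this
  exact_mod_cast this

theorem two_eq_zero_of_card_four (h : Fintype.card F = 4) : (2 : F) = 0 := by
  have := FiniteField.cast_card_eq_zero F
  rw [h] at this
  have h4 : (2 : F) ^ 2 = 0 := by
    have h4' : (4 : F) = 0 := by exact_mod_cast this
    linear_combination h4'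
  exact pow_eq_zero_iff (two_ne_zero) |>.mp h4

theorem eq_zero_or_one_of_card_two (h : Fintype.card F = 2) (a : F) : a = 0 ∨ a = 1 := by
  by_cases ha : a = 0
  · exact Or.inl ha
  · right
    have := FiniteField.pow_card_sub_one_eq_one a ha
    rw [h] at this
    simpa using this

end SmallFields

section SumIdentities

variable {R : Type*} [CommRing R] {κ : Type*}

theorem sum_shift_pow_one (S : Finset κ) (a : κ → R) (hS : (S.card : R) = 0) :
    ∑ i ∈ S, ((a i + ∑ i' ∈ S, a i') ^ 1 - a i ^ 1) = 0 := by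
  simp only [pow_one, add_sub_cancel_left, Finset.sum_const, nsmul_eq_mul, hS, zero_mul]

theorem sum_shift_pow_two (S : Finset κ) (a : κ → R) (hS : (2 + S.card : R) = 0) :
    ∑ i ∈ S, ((a i + ∑ i' ∈ S, a i') ^ 2 - a i ^ 2) = 0 := by
  set s := ∑ i' ∈ S, a i' with hs
  have h1 : ∀ i ∈ S, (a i + s) ^ 2 - a i ^ 2 = 2 * s * a i + s ^ 2 := fun i _ => by ring
  rw [Finset.sum_congr rfl h1, Finset.sum_add_distrib, ← Finset.mul_sum, ← hs, Finset.sum_const,
    nsmul_eq_mul]
  linear_combination s ^ 2 * hS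

theorem sq_sum_of_two_eq_zero (h2 : (2 : R) = 0) (S : Finset κ) (a : κ → R) :
    (∑ i ∈ S, a i) ^ 2 = ∑ i ∈ S, a i ^ 2 := by
  classical
  induction S using Finset.induction_on with
  | empty => simp
  | insert i S hi ih =>
    rw [Finset.sum_insert hi, Finset.sum_insert hi, ← ih]
    linear_combination (a i * ∑ x ∈ S, a x) * h2

theorem sum_shift_pow_three (S : Finset κ) (a : κ → R) (h2 : (2 : R) = 0) (hS : (S.card : R) = 0) :
    ∑ i ∈ S, ((a i + ∑ i' ∈ S, a i') ^ 3 - a i ^ 3) = 0 := by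
  have hsq := sq_sum_of_two_eq_zero h2 S a
  set s := ∑ i' ∈ S, a i' with hs
  have h1 : ∀ i ∈ S, (a i + s) ^ 3 - a i ^ 3 = 3 * s * a i ^ 2 + 3 * s ^ 2 * a i + s ^ 3 :=
    fun i _ => by ring
  rw [Finset.sum_congr rfl h1, Finset.sum_add_distrib, Finset.sum_add_distrib, ← Finset.mul_sum,
    ← Finset.mul_sum, ← hs, Finset.sum_const, nsmul_eq_mul, ← hsq]
  linear_combination 3 * s ^ 3 * h2 + s ^ 3 * hS

theorem sum_shift_quad (S : Finset κ) (a c : κ → R) (h2 : (2 : R) = 0) (hS : (S.card + 1 : R) = 0) :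
    ∑ i ∈ S, (((a i + ∑ i' ∈ S, c i') ^ 2 + (a i + ∑ i' ∈ S, c i') * c i + c i ^ 2) -
      (a i ^ 2 + a i * c i + c i ^ 2)) = 0 := by
  set l := ∑ i' ∈ S, c i' with hl
  have h1 : ∀ i ∈ S, ((a i + l) ^ 2 + (a i + l) * c i + c i ^ 2) - (a i ^ 2 + a i * c i + c i ^ 2) =
      2 * l * a i + l ^ 2 + l * c i := fun i _ => by ring
  rw [Finset.sum_congr rfl h1, Finset.sum_add_distrib, Finset.sum_add_distrib, ← Finset.mul_sum,
    ← Finset.mul_sum, ← hl, Finset.sum_const, nsmul_eq_mul]
  linear_combination (l * ∑ i ∈ S, a i) * h2 + l ^ 2 * hS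

end SumIdentities

section Size2

variable {ι : Type} [Fintype ι] [DecidableEq ι] {F : Type*} [Field F]
variable {κ : Type*} [Fintype κ] [DecidableEq κ] {m : ℕ}

open scoped Classical in
/-- The change of the block weight (as an element of `F`) under a shear, when the indicator of non-zero blocks
is given by a function `φ` of the block coordinates. -/
theorem bwt_blockShear_cast_sub (B : Basis ((_ : κ) × Fin m) F (ι → F)) (S : Finset κ) (j j' : Fin m)
    (φ : (Fin m → F) → F) (hφ0 : φ 0 = 0) (hφ1 : ∀ r : Fin m → F, r ≠ 0 → φ r = 1) (x : ι → F) :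
    ((bwt B (blockShear B S j j' x) : ℕ) : F) - (bwt B x : F) =
      ∑ i ∈ S, (φ ((fun k => B.repr x ⟨i, k⟩) + (∑ i' ∈ S, B.repr x ⟨i', j'⟩) • Pi.single j 1) -
        φ (fun k => B.repr x ⟨i, k⟩)) := by
  have hφ : ∀ r : Fin m → F, (if r = 0 then (0 : F) else 1) = φ r := by
    intro r
    by_cases hr : r = 0
    · rw [if_pos hr, hr, hφ0]
    · rw [if_neg hr, hφ1 r hr]
  rw [bwt_cast, bwt_cast]
  simp_rw [hφ]
  rw [← Finset.sum_sub_distrib]
  have key : ∀ i, φ (fun k => B.repr (blockShear B S j j' x) ⟨i, k⟩) - φ (fun k => B.repr x ⟨i, k⟩)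
      = if i ∈ S then (φ ((fun k => B.repr x ⟨i, k⟩) +
          (∑ i' ∈ S, B.repr x ⟨i', j'⟩) • Pi.single j 1) - φ (fun k => B.repr x ⟨i, k⟩)) else 0 := by
    intro i
    by_cases hi : i ∈ S
    · rw [if_pos hi]
      congr 2
      funext k
      rw [repr_blockShear]
      simp [hi, Pi.single_apply]
    · rw [if_neg hi]
      have : (fun k => B.repr (blockShear B S j j' x) ⟨i, k⟩) = fun k => B.repr x ⟨i, k⟩ := by
        funext k
        rw [repr_blockShear]
        simp [hi]
      rw [this, sub_self]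
  simp_rw [key]
  rw [Finset.sum_ite_mem, Finset.univ_inter]

theorem sum_shift_quad_eq {R : Type*} [CommRing R] {κ : Type*} (S : Finset κ) (a c : κ → R) :
    ∑ i ∈ S, (((a i + ∑ i' ∈ S, c i') ^ 2 + (a i + ∑ i' ∈ S, c i') * c i + c i ^ 2) -
      (a i ^ 2 + a i * c i + c i ^ 2)) =
      2 * (∑ i' ∈ S, c i') * ∑ i ∈ S, a i + ((S.card : R) + 1) * (∑ i' ∈ S, c i') ^ 2 := by
  set l := ∑ i' ∈ S, c i' with hl
  have h1 : ∀ i ∈ S, ((a i + l) ^ 2 + (a i + l) * c i + c i ^ 2) - (a i ^ 2 + a i * c i + c i ^ 2) =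
      2 * l * a i + l ^ 2 + l * c i := fun i _ => by ring
  rw [Finset.sum_congr rfl h1, Finset.sum_add_distrib, Finset.sum_add_distrib, ← Finset.mul_sum,
    ← Finset.mul_sum, ← hl, Finset.sum_const, nsmul_eq_mul]
  ring

/-- Blocks of size two over the field with two elements: the change of the parity of the number of non-zero
blocks under the shear along the first basis vectors of the blocks in `S`, with the sum of the second
coordinates as linear form. -/
theorem bwt_blockShear2_cast_sub [Fintype F] (B : Basis ((_ : κ) × Fin 2) F (ι → F))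
    (hq : Fintype.card F = 2) (S : Finset κ) (x : ι → F) :
    ((bwt B (blockShear B S 0 1 x) : ℕ) : F) - (bwt B x : F) =
      ((S.card : F) + 1) * (∑ i ∈ S, B.repr x ⟨i, 1⟩) ^ 2 := by
  have c2 := two_eq_zero_of_card_two hq
  have hφ1 : ∀ r : Fin 2 → F, r ≠ 0 → (fun r : Fin 2 → F => r 0 ^ 2 + r 0 * r 1 + r 1 ^ 2) r = 1 := by
    intro r hr
    rcases eq_zero_or_one_of_card_two hq (r 0) with h0 | h0 <;>
      rcases eq_zero_or_one_of_card_two hq (r 1) with h1 | h1
    · exfalso
      apply hr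
      funext k
      fin_cases k <;> simp [h0, h1]
    · simp [h0, h1]
    · simp [h0, h1]
    · simp only [h0, h1]
      linear_combination c2
  rw [bwt_blockShear_cast_sub B S 0 1 (fun r : Fin 2 → F => r 0 ^ 2 + r 0 * r 1 + r 1 ^ 2) (by simp) hφ1 x]
  have key := sum_shift_quad_eq S (fun i => B.repr x ⟨i, 0⟩) (fun i => B.repr x ⟨i, 1⟩)
  have e : ∑ i ∈ S, ((fun r : Fin 2 → F => r 0 ^ 2 + r 0 * r 1 + r 1 ^ 2)
        ((fun k => B.repr x ⟨i, k⟩) + (∑ i' ∈ S, B.repr x ⟨i', 1⟩) • Pi.single 0 1) -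
        (fun r : Fin 2 → F => r 0 ^ 2 + r 0 * r 1 + r 1 ^ 2) (fun k => B.repr x ⟨i, k⟩))
      = ∑ i ∈ S, (((B.repr x ⟨i, 0⟩ + ∑ i' ∈ S, B.repr x ⟨i', 1⟩) ^ 2 +
          (B.repr x ⟨i, 0⟩ + ∑ i' ∈ S, B.repr x ⟨i', 1⟩) * B.repr x ⟨i, 1⟩ + B.repr x ⟨i, 1⟩ ^ 2) -
          (B.repr x ⟨i, 0⟩ ^ 2 + B.repr x ⟨i, 0⟩ * B.repr x ⟨i, 1⟩ + B.repr x ⟨i, 1⟩ ^ 2)) := by
    apply Finset.sum_congr rfl
    intro i _
    simp [Pi.add_apply, Pi.smul_apply]
  rw [e, key]
  linear_combination ((∑ i' ∈ S, B.repr x ⟨i', 1⟩) * ∑ i ∈ S, B.repr x ⟨i, 0⟩) * c2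

end Size2

section More

variable {ι : Type} [Fintype ι] [DecidableEq ι] {F : Type*} [Field F]
variable {κ : Type*} [Fintype κ] [DecidableEq κ] {m : ℕ}

/-- General criterion: `H ⊓ G` is not maximal in `G` when `H ⊓ G` preserves a function `N` on vectors, some
element of `G` outside `H` preserves `N`, and some element of `G` does not preserve `N`. -/
theorem not_maximal_of_fn {α : Type*} (N : (ι → F) → α) (H G : Subgroup (GL ι F))
    (hH : ∀ g ∈ H ⊓ G, ∀ x, N ((g : Matrix ι ι F) *ᵥ x) = N x)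
    (g : GL ι F) (hgG : g ∈ G) (hgN : ∀ x, N ((g : Matrix ι ι F) *ᵥ x) = N x) (hgH : g ∉ H)
    (τ : GL ι F) (hτG : τ ∈ G) (hτ : ∃ x, N ((τ : Matrix ι ι F) *ᵥ x) ≠ N x) :
    ∃ K : Subgroup (GL ι F), H ⊓ G < K ∧ K < G := by
  refine ⟨fnStabilizer N ⊓ G, ?_, ?_⟩
  · refine lt_of_le_of_ne ?_ ?_
    · intro g' hg'
      have h1 : g' ∈ fnStabilizer N := by
        rw [mem_fnStabilizer_iff]
        exact hH g' hg'
      exact ⟨h1, hg'.2⟩
    · intro heq
      have hmem : g ∈ fnStabilizer N ⊓ G := ⟨hgN, hgG⟩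
      rw [← heq] at hmem
      exact hgH hmem.1
  · refine lt_of_le_of_ne inf_le_right ?_
    intro heq
    rw [← heq] at hτG
    obtain ⟨x, hx⟩ := hτ
    exact hx (hτG.1 x)

/-- General criterion: `H ⊓ G` is not maximal in `G` when it lies in a subgroup `K` containing an element of
`G` outside `H` and missing an element of `G`. -/
theorem not_maximal_of_subgroup {Γ : Type*} [Group Γ] (H G K : Subgroup Γ) (hHK : H ⊓ G ≤ K)
    (g : Γ) (hgG : g ∈ G) (hgK : g ∈ K) (hgH : g ∉ H) (τ : Γ) (hτG : τ ∈ G) (hτK : τ ∉ K) :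
    ∃ K' : Subgroup Γ, H ⊓ G < K' ∧ K' < G := by
  refine ⟨K ⊓ G, ?_, ?_⟩
  · refine lt_of_le_of_ne (le_inf hHK inf_le_right) ?_
    intro heq
    have hmem : g ∈ K ⊓ G := ⟨hgK, hgG⟩
    rw [← heq] at hmem
    exact hgH hmem.1
  · refine lt_of_le_of_ne inf_le_right ?_
    intro heq
    rw [← heq] at hτG
    exact hτK hτG.1

open scoped Classical in
theorem bwt_of_mem_blk (B : Basis ((_ : κ) × Fin m) F (ι → F)) {x : ι → F} {i : κ}
    (hx : x ∈ blk B i) (h0 : x ≠ 0) : bwt B x = 1 := by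
  unfold bwt
  have : Finset.univ.filter (fun i' => bproj B i' x ≠ 0) = {i} := by
    ext i'
    simp only [Finset.mem_filter, Finset.mem_univ, true_and, Finset.mem_singleton]
    by_cases h : i = i'
    · subst h
      simp [bproj_of_mem B hx, h0]
    · simp [bproj_of_mem_ne B hx h]
      exact fun h' => h h'.symm
  rw [this, Finset.card_singleton]

theorem repr_blockShear_basis (B : Basis ((_ : κ) × Fin m) F (ι → F)) (S : Finset κ) (j j' : Fin m)
    {i₁ i₂ : κ} (h1 : i₁ ∈ S) (h2 : i₂ ∈ S) (h12 : i₁ ≠ i₂) :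
    B.repr (blockShear B S j j' (B ⟨i₁, j'⟩)) ⟨i₂, j⟩ = 1 := by
  rw [repr_blockShear]
  have hne : (⟨i₁, j'⟩ : (_ : κ) × Fin m) ≠ ⟨i₂, j⟩ := by
    intro heq
    exact h12 (congrArg Sigma.fst heq)
  simp [Basis.repr_self, Finsupp.single_apply, hne, h2, h1, Sigma.mk.injEq]

end More

section DecompOf

variable {ι : Type} [Fintype ι] [DecidableEq ι] {F : Type*} [Field F]
variable {t m : ℕ} {D : Fin t → Submodule F (ι → F)}

/-- The basis of `F^ι` obtained by collecting given bases of the members of an `m`-decomposition. -/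
noncomputable def decompBasisOf (hD : IsMDecomposition m D) (b : ∀ i, Basis (Fin m) F (D i)) :
    Basis ((_ : Fin t) × Fin m) F (ι → F) :=
  (decomp_isInternal hD).collectedBasis b

theorem decompBasisOf_apply (hD : IsMDecomposition m D) (b : ∀ i, Basis (Fin m) F (D i))
    (i : Fin t) (j : Fin m) : decompBasisOf hD b ⟨i, j⟩ = (b i j : ι → F) := by
  have h := DirectSum.IsInternal.collectedBasis_coe (decomp_isInternal hD) b
  exact congrFun h ⟨i, j⟩

theorem decompBasisOf_mem (hD : IsMDecomposition m D) (b : ∀ i, Basis (Fin m) F (D i))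
    (i : Fin t) (j : Fin m) : decompBasisOf hD b ⟨i, j⟩ ∈ D i := by
  rw [decompBasisOf_apply]
  exact (b i j).2

theorem decompBasisOf_repr_of_mem_ne (hD : IsMDecomposition m D) (b : ∀ i, Basis (Fin m) F (D i))
    {x : ι → F} {i i' : Fin t} (hx : x ∈ D i) (h : i ≠ i') (j : Fin m) :
    (decompBasisOf hD b).repr x ⟨i', j⟩ = 0 := by
  have h' := DirectSum.IsInternal.collectedBasis_repr_of_mem_ne (decomp_isInternal hD) b h (a := j) hx
  exact h'

theorem blk_decompBasisOf (hD : IsMDecomposition m D) (b : ∀ i, Basis (Fin m) F (D i)) (i : Fin t) :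
    blk (decompBasisOf hD b) i = D i := by
  apply le_antisymm
  · unfold blk
    rw [Submodule.span_le]
    rintro _ ⟨j, rfl⟩
    exact decompBasisOf_mem hD b i j
  · intro x hx
    have h := sum_bproj (decompBasisOf hD b) x
    rw [Finset.sum_eq_single i] at h
    · rw [← h]
      exact bproj_mem _ i x
    · intro i' _ hne
      rw [bproj_apply]
      apply Finset.sum_eq_zero
      intro j _
      rw [decompBasisOf_repr_of_mem_ne hD b hx hne.symm j, zero_smul]
    · simp

end DecompOf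

end Cfsg.Agent.Lib.helper95
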