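import Mathlib
import Cfsg.Prelude.Def_GeometricClasses
import Cfsg.Agent.Lib.helper49.Spinor
import Cfsg.Agent.Lib.helper95.Blocks

/-!
# Tools for `Cfsg.Geo.omegaGL`

Products of two reflections lying in the commutator subgroup of the isometry group, bundling of
`IsNondegenerateQuadraticForm`, non-singular vectors orthogonal to a given orthogonal family.
-/

set_option autoImplicit false

namespace Cfsg.Agent.Lib.helper95

open Cfsg Cfsg.Geo Matrix Module Cfsg.Agent.Lib.helper49

section OmegaTools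

variable {F : Type*} [Field F] {ι : Type} [Fintype ι] [DecidableEq ι]

/-- A function satisfying `IsNondegenerateQuadraticForm` as a Mathlib quadratic form. -/
def qfOfNondeg (Q : (ι → F) → F) (hQ : IsNondegenerateQuadraticForm Q) : QuadraticForm F (ι → F) :=
  QuadraticMap.ofPolar Q (fun a x => by rw [hQ.smul, smul_eq_mul, sq])
    (fun x x' y => hQ.polar_bilinear.add_left x x' y)
    (fun a x y => by rw [hQ.polar_bilinear.smul_left, smul_eq_mul])

omit [Fintype ι] [DecidableEq ι] in
theorem qfOfNondeg_coe (Q : (ι → F) → F) (hQ : IsNondegenerateQuadraticForm Q) :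
    ⇑(qfOfNondeg Q hQ) = Q := rfl

theorem mem_omegaGL_of_mem (Q : (ι → F) → F) (g : isometryGroup F Q) (hg : g ∈ Omega F Q) :
    (g : GL ι F) ∈ omegaGL Q :=
  Subgroup.mem_map_of_mem _ hg

theorem isometry_of_mem_omegaGL {Q : (ι → F) → F} {g : GL ι F} (hg : g ∈ omegaGL Q) (u : ι → F) :
    Q ((g : Matrix ι ι F) *ᵥ u) = Q u := by
  obtain ⟨g', -, rfl⟩ := hg
  exact isometry_apply Q g' u

theorem polar_of_isometry {Q : (ι → F) → F} {g : GL ι F}
    (hg : ∀ u, Q ((g : Matrix ι ι F) *ᵥ u) = Q u) (u v : ι → F) :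
    QuadraticMap.polar Q ((g : Matrix ι ι F) *ᵥ u) ((g : Matrix ι ι F) *ᵥ v) = QuadraticMap.polar Q u v := by
  simp only [QuadraticMap.polar]
  rw [← Matrix.mulVec_add, hg, hg, hg]

omit [Fintype ι] [DecidableEq ι] in
theorem quad_sub (Q : QuadraticForm F (ι → F)) (u w : ι → F) :
    Q (u - w) = Q u + Q w - QuadraticMap.polar Q u w := by
  rw [sub_eq_add_neg, QuadraticMap.map_add (⇑Q) u (-w), QuadraticMap.map_neg,
    QuadraticMap.polar_neg_right]
  ring

/-- The reflection along `u - w` maps `u` to `w` when `Q u = Q w`. -/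
theorem refl_sub_mulVec (Q : QuadraticForm F (ι → F)) (u w : ι → F) (hQ : Q w = Q u)
    (hd : Q (u - w) ≠ 0) : reflectionMatrix ⇑Q (u - w) *ᵥ u = w := by
  rw [refl_mulVec]
  have h1 : QuadraticMap.polar Q (u - w) u = Q (u - w) := by
    rw [QuadraticMap.polar_sub_left, QuadraticMap.polar_self, quad_sub, hQ,
      QuadraticMap.polar_comm Q w u, two_smul]
  rw [h1, inv_mul_cancel₀ hd, one_smul]
  abel

/-- A product of two reflections along vectors of the same norm whose difference is non-singular is a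
commutator of reflections, hence lies in `Ω`. -/
theorem reflG_mul_reflG_mem_Omega (Q : QuadraticForm F (ι → F)) (u w : ι → F) (hu : Q u ≠ 0)
    (hw : Q w ≠ 0) (hQ : Q w = Q u) (hd : Q (u - w) ≠ 0) :
    reflG Q u hu * reflG Q w hw ∈ Omega F ⇑Q := by
  have himg : ((reflG Q (u - w) hd : GL ι F) : Matrix ι ι F) *ᵥ u = w := by
    rw [reflG_val, refl_sub_mulVec Q u w hQ hd]
  have hgv : Q (((reflG Q (u - w) hd : GL ι F) : Matrix ι ι F) *ᵥ u) ≠ 0 := by
    rw [himg]
    exact hw
  have hconj := refl_conj Q (reflG Q (u - w) hd) u hu hgv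
  have hw' : reflG Q (((reflG Q (u - w) hd : GL ι F) : Matrix ι ι F) *ᵥ u) hgv = reflG Q w hw := by
    apply Subtype.ext
    apply Units.ext
    show reflectionMatrix ⇑Q _ = reflectionMatrix ⇑Q w
    rw [himg]
  have hinv : (reflG Q u hu)⁻¹ = reflG Q u hu := inv_eq_of_mul_eq_one_right (reflG_mul_self Q u hu)
  have : reflG Q u hu * reflG Q w hw =
      reflG Q u hu * reflG Q (u - w) hd * (reflG Q u hu)⁻¹ * (reflG Q (u - w) hd)⁻¹ := by
    rw [← hw', ← hconj, hinv]
    group
  rw [this]
  show _ ∈ commutator (isometryGroup F ⇑Q)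
  rw [commutator_def]
  exact Subgroup.commutator_mem_commutator (g₁ := reflG Q u hu) (g₂ := reflG Q (u - w) hd)
    (Subgroup.mem_top _) (Subgroup.mem_top _)

/-- The product of two reflections, as an invertible matrix. -/
def refl2 (Q : QuadraticForm F (ι → F)) (u w : ι → F) (hu : Q u ≠ 0) (hw : Q w ≠ 0) : GL ι F :=
  ((reflG Q u hu * reflG Q w hw : isometryGroup F ⇑Q) : GL ι F)

theorem refl2_mulVec (Q : QuadraticForm F (ι → F)) (u w : ι → F) (hu : Q u ≠ 0) (hw : Q w ≠ 0)
    (x : ι → F) :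
    ((refl2 Q u w hu hw : GL ι F) : Matrix ι ι F) *ᵥ x =
      reflectionMatrix ⇑Q u *ᵥ (reflectionMatrix ⇑Q w *ᵥ x) := by
  show (reflectionMatrix ⇑Q u * reflectionMatrix ⇑Q w) *ᵥ x = _
  rw [Matrix.mulVec_mulVec]

theorem refl2_mem_omegaGL (Q : QuadraticForm F (ι → F)) (u w : ι → F) (hu : Q u ≠ 0) (hw : Q w ≠ 0)
    (hQ : Q w = Q u) (hd : Q (u - w) ≠ 0) : refl2 Q u w hu hw ∈ omegaGL ⇑Q :=
  mem_omegaGL_of_mem _ _ (reflG_mul_reflG_mem_Omega Q u w hu hw hQ hd)

/-- For orthogonal vectors of the same norm, in characteristic not two. -/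
theorem refl2_mem_omegaGL_of_orth (h2 : (2 : F) ≠ 0) (Q : QuadraticForm F (ι → F)) (u w : ι → F)
    (hu : Q u ≠ 0) (hw : Q w ≠ 0) (hQ : Q w = Q u) (horth : QuadraticMap.polar Q u w = 0) :
    refl2 Q u w hu hw ∈ omegaGL ⇑Q := by
  apply refl2_mem_omegaGL Q u w hu hw hQ
  rw [quad_sub, hQ, horth, sub_zero, ← two_mul]
  exact mul_ne_zero h2 hu

theorem refl_mulVec_of_orth (Q : QuadraticForm F (ι → F)) (v x : ι → F)
    (h : QuadraticMap.polar Q v x = 0) : reflectionMatrix ⇑Q v *ᵥ x = x := by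
  rw [refl_mulVec, h, mul_zero, zero_smul, sub_zero]

end OmegaTools

section Orth

variable {F : Type*} [Field F] {V : Type*} [AddCommGroup V] [Module F V]

theorem polar_sum_left (Q : QuadraticForm F V) {κ : Type*} (S : Finset κ) (c : κ → F) (u : κ → V)
    (w : V) : QuadraticMap.polar Q (∑ i ∈ S, c i • u i) w = ∑ i ∈ S, c i * QuadraticMap.polar Q (u i) w := by
  classical
  induction S using Finset.induction_on with
  | empty => simp [QuadraticMap.polar_zero_left]
  | insert a s ha ih =>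
    rw [Finset.sum_insert ha, Finset.sum_insert ha, QuadraticMap.polar_add_left,
      QuadraticMap.polar_smul_left, ih, smul_eq_mul]

/-- In a non-degenerate quadratic space (characteristic not two), a family of fewer than `dim V` pairwise
orthogonal non-singular vectors has a non-singular vector orthogonal to all of them. -/
theorem exists_nonsing_orth [FiniteDimensional F V] (h2 : (2 : F) ≠ 0) (Q : QuadraticForm F V)
    (hnd : ∀ z : V, z ≠ 0 → ∃ y, QuadraticMap.polar Q y z ≠ 0) {k : ℕ} (u : Fin k → V)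
    (hk : k < Module.finrank F V) (hu : ∀ i, Q (u i) ≠ 0)
    (horth : ∀ i j, i ≠ j → QuadraticMap.polar Q (u i) (u j) = 0) :
    ∃ z, Q z ≠ 0 ∧ ∀ i, QuadraticMap.polar Q z (u i) = 0 := by
  by_contra hcon
  push Not at hcon
  have hsing : ∀ x, (∀ i, QuadraticMap.polar Q x (u i) = 0) → Q x = 0 := by
    intro x hx
    by_contra h
    obtain ⟨i, hi⟩ := hcon x h
    exact hi (hx i)
  have hker : LinearMap.ker (LinearMap.pi (fun i => (QuadraticMap.polarBilin Q).flip (u i)) :
      V →ₗ[F] (Fin k → F)) ≠ ⊥ := by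
    apply LinearMap.ker_ne_bot_of_finrank_lt
    rw [Module.finrank_fin_fun]
    exact hk
  obtain ⟨z, hzker, hz0⟩ := Submodule.exists_mem_ne_zero_of_ne_bot hker
  have hz : ∀ i, QuadraticMap.polar Q z (u i) = 0 := fun i => by
    have := congrFun (LinearMap.mem_ker.mp hzker) i
    exact this
  obtain ⟨y, hy⟩ := hnd z hz0
  have huu : ∀ j, QuadraticMap.polar Q (u j) (u j) ≠ 0 := by
    intro j
    rw [QuadraticMap.polar_self, two_smul, ← two_mul]
    exact mul_ne_zero h2 (hu j)
  have hsumj : ∀ j, QuadraticMap.polar Q (∑ i, (QuadraticMap.polar Q y (u i) *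
      (QuadraticMap.polar Q (u i) (u i))⁻¹) • u i) (u j) = QuadraticMap.polar Q y (u j) := by
    intro j
    rw [polar_sum_left, Finset.sum_eq_single j]
    · rw [mul_assoc, inv_mul_cancel₀ (huu j), mul_one]
    · intro i _ hij
      rw [horth i j hij, mul_zero]
    · intro h
      exact absurd (Finset.mem_univ j) h
  obtain ⟨y', hy'def⟩ : ∃ y' : V, y' = y - ∑ i, (QuadraticMap.polar Q y (u i) *
      (QuadraticMap.polar Q (u i) (u i))⁻¹) • u i := ⟨_, rfl⟩
  have hy' : ∀ j, QuadraticMap.polar Q y' (u j) = 0 := by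
    intro j
    rw [hy'def, QuadraticMap.polar_sub_left, hsumj, sub_self]
  have h1 : QuadraticMap.polar Q y' z = 0 := by
    have e : QuadraticMap.polar Q y' z = Q (y' + z) - Q y' - Q z := rfl
    rw [e, hsing y' hy', hsing z hz,
      hsing (y' + z) (fun j => by rw [QuadraticMap.polar_add_left, hy', hz, add_zero])]
    simp
  have h2' : QuadraticMap.polar Q (∑ i, (QuadraticMap.polar Q y (u i) *
      (QuadraticMap.polar Q (u i) (u i))⁻¹) • u i) z = 0 := by
    rw [polar_sum_left]
    apply Finset.sum_eq_zero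
    intro i _
    rw [QuadraticMap.polar_comm (⇑Q) (u i) z, hz, mul_zero]
  apply hy
  have : y = y' + ∑ i, (QuadraticMap.polar Q y (u i) * (QuadraticMap.polar Q (u i) (u i))⁻¹) • u i := by
    rw [hy'def]
    abel
  rw [this, QuadraticMap.polar_add_left, h1, h2', add_zero]

end Orth

end Cfsg.Agent.Lib.helper95
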