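import Mathlib
import Cfsg.Prelude.Def_GeometricClasses
import Cfsg.Agent.Lib.helper95.Blocks

/-!
# Symmetric bilinear forms over the field with 3 elements

Orthogonal frames of non-degenerate 3-dimensional spaces: existence of an orthogonal basis whose members all
have the same norm, and rigidity (a similarity permutes the frame lines).
-/

set_option autoImplicit false

namespace Cfsg.Agent.Lib.helper95

open Cfsg Cfsg.Geo Matrix Module

section SymB

variable {F : Type*} [Field F] {V : Type*} [AddCommGroup V] [Module F V]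

/-- A symmetric bilinear form given as a function. -/
structure SymB (f : V → V → F) : Prop where
  add_left : ∀ x y v, f (x + y) v = f x v + f y v
  smul_left : ∀ (c : F) (x v : V), f (c • x) v = c * f x v
  symm : ∀ v w, f v w = f w v

namespace SymB

variable {f : V → V → F}

theorem add_right (hf : SymB f) (v x y : V) : f v (x + y) = f v x + f v y := by
  rw [hf.symm v, hf.add_left, hf.symm x, hf.symm y]

theorem smul_right (hf : SymB f) (c : F) (v x : V) : f v (c • x) = c * f v x := by
  rw [hf.symm v, hf.smul_left, hf.symm x]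

theorem zero_left (hf : SymB f) (v : V) : f 0 v = 0 := by
  have := hf.smul_left 0 0 v
  simpa using this

theorem zero_right (hf : SymB f) (v : V) : f v 0 = 0 := by
  rw [hf.symm, hf.zero_left]

theorem neg_left (hf : SymB f) (x v : V) : f (-x) v = -f x v := by
  have := hf.smul_left (-1) x v
  simpa using this

theorem neg_right (hf : SymB f) (v x : V) : f v (-x) = -f v x := by
  rw [hf.symm, hf.neg_left, hf.symm]

theorem sub_left (hf : SymB f) (x y v : V) : f (x - y) v = f x v - f y v := by
  rw [sub_eq_add_neg, hf.add_left, hf.neg_left, sub_eq_add_neg]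

theorem sub_right (hf : SymB f) (v x y : V) : f v (x - y) = f v x - f v y := by
  rw [hf.symm v, hf.sub_left, hf.symm x, hf.symm y]

/-- The linear functional `x ↦ f x w`. -/
def toLin (hf : SymB f) (w : V) : V →ₗ[F] F where
  toFun x := f x w
  map_add' x y := hf.add_left x y w
  map_smul' c x := by simpa using hf.smul_left c x w

theorem toLin_apply (hf : SymB f) (w x : V) : hf.toLin w x = f x w := rfl

theorem sum_left (hf : SymB f) {κ : Type*} (S : Finset κ) (x : κ → V) (w : V) :
    f (∑ i ∈ S, x i) w = ∑ i ∈ S, f (x i) w :=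
  map_sum (hf.toLin w) x S

theorem sum_right (hf : SymB f) {κ : Type*} (S : Finset κ) (w : V) (x : κ → V) :
    f w (∑ i ∈ S, x i) = ∑ i ∈ S, f w (x i) := by
  rw [hf.symm, hf.sum_left]
  exact Finset.sum_congr rfl (fun i _ => hf.symm _ _)

/-- The bundled bilinear form. -/
def toBilin (hf : SymB f) : LinearMap.BilinForm F V :=
  LinearMap.mk₂ F f hf.add_left hf.smul_left hf.add_right hf.smul_right

theorem toBilin_apply (hf : SymB f) (x y : V) : hf.toBilin x y = f x y := rfl

end SymB

theorem sq_eq_one_of_card_three [Fintype F] (hq : Fintype.card F = 3) {a : F} (ha : a ≠ 0) : a ^ 2 = 1 := by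
  have := FiniteField.pow_card_sub_one_eq_one a ha
  rwa [hq] at this

theorem eq_one_or_neg_one_of_card_three [Fintype F] (hq : Fintype.card F = 3) {a : F} (ha : a ≠ 0) :
    a = 1 ∨ a = -1 :=
  sq_eq_one_iff.mp (sq_eq_one_of_card_three hq ha)

theorem two_ne_zero_of_card_three [Fintype F] (hq : Fintype.card F = 3) : (2 : F) ≠ 0 := by
  have h3 := three_eq_zero_of_card_three hq
  intro h
  have : (1 : F) = 0 := by linear_combination h3 - h
  exact one_ne_zero this

/-- Three elements of the field with three elements whose squares sum to `1`: exactly one is non-zero. -/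
theorem exactly_one_of_sq_sum [Fintype F] (hq : Fintype.card F = 3) (x y z : F)
    (h : x ^ 2 + y ^ 2 + z ^ 2 = 1) :
    (x ≠ 0 ∧ y = 0 ∧ z = 0) ∨ (x = 0 ∧ y ≠ 0 ∧ z = 0) ∨ (x = 0 ∧ y = 0 ∧ z ≠ 0) := by
  have h3 := three_eq_zero_of_card_three hq
  have h1 : (1 : F) ≠ 0 := one_ne_zero
  have h2 : (1 : F) + 1 ≠ 0 := by
    intro h
    apply h1
    linear_combination h3 - h
  rcases eq_or_ne x 0 with hx | hx <;> rcases eq_or_ne y 0 with hy | hy <;>
    rcases eq_or_ne z 0 with hz | hz
  · exfalso
    rw [hx, hy, hz] at h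
    simp at h
  · exact Or.inr (Or.inr ⟨hx, hy, hz⟩)
  · exact Or.inr (Or.inl ⟨hx, hy, hz⟩)
  · exfalso
    rw [hx, sq_eq_one_of_card_three hq hy, sq_eq_one_of_card_three hq hz] at h
    apply h1
    linear_combination h
  · exact Or.inl ⟨hx, hy, hz⟩
  · exfalso
    rw [hy, sq_eq_one_of_card_three hq hx, sq_eq_one_of_card_three hq hz] at h
    apply h1
    linear_combination h
  · exfalso
    rw [hz, sq_eq_one_of_card_three hq hx, sq_eq_one_of_card_three hq hy] at h
    apply h1
    linear_combination h
  · exfalso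
    rw [sq_eq_one_of_card_three hq hx, sq_eq_one_of_card_three hq hy, sq_eq_one_of_card_three hq hz] at h
    apply h2
    linear_combination h

variable {f : V → V → F}

/-- Three pairwise orthogonal vectors of the same non-zero norm in a 3-dimensional space form a basis. -/
theorem basis_of_frame (hf : SymB f) (hdim : Module.finrank F V = 3) (c : Fin 3 → V) {ε : F}
    (hε : ε ≠ 0) (hc : ∀ j l, f (c j) (c l) = if j = l then ε else 0) :
    ∃ b : Basis (Fin 3) F V, ∀ j, b j = c j := by
  have hli : LinearIndependent F c := by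
    rw [linearIndependent_iff']
    intro s g hg i hi
    have := congrArg (fun x => f x (c i)) hg
    simp only [hf.sum_left, hf.smul_left, hc, hf.zero_left, mul_ite, mul_zero] at this
    rw [Finset.sum_ite_eq' s i, if_pos hi] at this
    exact (mul_eq_zero.mp this).resolve_right hε
  exact ⟨basisOfLinearIndependentOfCardEqFinrank hli (by simp [hdim]), fun j => by simp⟩

theorem frame_of_three (hf : SymB f) (hdim : Module.finrank F V = 3) (x₀ x₁ x₂ : V) {ε : F}
    (hε : ε ≠ 0) (h00 : f x₀ x₀ = ε) (h11 : f x₁ x₁ = ε) (h22 : f x₂ x₂ = ε) (h01 : f x₀ x₁ = 0)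
    (h02 : f x₀ x₂ = 0) (h12 : f x₁ x₂ = 0) :
    ∃ c : Basis (Fin 3) F V, ∀ j l, f (c j) (c l) = if j = l then ε else 0 := by
  have h10 : f x₁ x₀ = 0 := by rw [hf.symm, h01]
  have h20 : f x₂ x₀ = 0 := by rw [hf.symm, h02]
  have h21 : f x₂ x₁ = 0 := by rw [hf.symm, h12]
  have hc : ∀ j l, f (![x₀, x₁, x₂] j) (![x₀, x₁, x₂] l) = if j = l then ε else 0 := by
    intro j l
    fin_cases j <;> fin_cases l <;> simp [h00, h11, h22, h01, h02, h12, h10, h20, h21]
  obtain ⟨b, hb⟩ := basis_of_frame hf hdim ![x₀, x₁, x₂] hε hc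
  refine ⟨b, fun j l => ?_⟩
  rw [hb, hb, hc]

/-- A non-degenerate symmetric bilinear form on a 3-dimensional space over the field with three elements
has an orthogonal basis all of whose members have the same norm. -/
theorem exists_frame3 [Fintype F] (hq : Fintype.card F = 3) (hf : SymB f)
    (hnd : ∀ w : V, w ≠ 0 → ∃ x, f x w ≠ 0) (hdim : Module.finrank F V = 3) :
    ∃ (ε : F) (c : Basis (Fin 3) F V), ε ≠ 0 ∧ ∀ j l, f (c j) (c l) = if j = l then ε else 0 := by
  have hfin : Module.Finite F V := Module.finite_of_finrank_pos (by omega)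
  have h3 := three_eq_zero_of_card_three hq
  have h2 : (2 : F) ≠ 0 := two_ne_zero_of_card_three hq
  have hinv : Invertible (2 : F) := invertibleOfNonzero h2
  have hsymm : LinearMap.IsSymm hf.toBilin :=
    LinearMap.BilinForm.isSymm_iff.mp ⟨fun x y => hf.symm x y⟩
  obtain ⟨v, hv⟩ := LinearMap.BilinForm.exists_orthogonal_basis hsymm
  have horth : ∀ i j, i ≠ j → f (v i) (v j) = 0 := fun i j hij => hv hij
  have hnorm : ∀ i, f (v i) (v i) ≠ 0 := by
    intro i
    obtain ⟨x, hx⟩ := hnd (v i) (v.ne_zero i)
    intro h0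
    apply hx
    rw [← v.sum_repr x, hf.sum_left]
    apply Finset.sum_eq_zero
    intro k _
    rw [hf.smul_left]
    by_cases hk : k = i
    · rw [hk, h0, mul_zero]
    · rw [horth k i hk, mul_zero]
  -- the general step on three pairwise orthogonal non-singular vectors
  have key : ∀ a b z : V, f a b = 0 → f a z = 0 → f b z = 0 → f a a ≠ 0 → f b b ≠ 0 → f z z ≠ 0 →
      ∃ (ε : F) (c : Basis (Fin 3) F V), ε ≠ 0 ∧ ∀ j l, f (c j) (c l) = if j = l then ε else 0 := by
    intro a b z hab haz hbz ha hb hz
    have hba : f b a = 0 := by rw [hf.symm, hab]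
    have hza : f z a = 0 := by rw [hf.symm, haz]
    have hzb : f z b = 0 := by rw [hf.symm, hbz]
    -- replacing two vectors of the same norm `δ` by their sum and difference, of norm `-δ`
    have pair : ∀ p q r : V, f p q = 0 → f p r = 0 → f q r = 0 → f p p = f q q → f r r = -f p p →
        f r r ≠ 0 →
        ∃ (ε : F) (c : Basis (Fin 3) F V), ε ≠ 0 ∧ ∀ j l, f (c j) (c l) = if j = l then ε else 0 := by
      intro p q r hpq hpr hqr hpp hrr hr0
      have hqp : f q p = 0 := by rw [hf.symm, hpq]
      refine ⟨f r r, ?_⟩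
      obtain ⟨c, hc⟩ := frame_of_three hf hdim (p + q) (p - q) r hr0
        (by rw [hf.add_left, hf.add_right, hf.add_right, hpq, hqp, hrr, ← hpp]; linear_combination (f p p) * h3)
        (by rw [hf.sub_left, hf.sub_right, hf.sub_right, hpq, hqp, hrr, ← hpp]; linear_combination (f p p) * h3)
        rfl
        (by rw [hf.add_left, hf.sub_right, hf.sub_right, hpq, hqp, hpp]; ring)
        (by rw [hf.add_left, hpr, hqr, add_zero])
        (by rw [hf.sub_left, hpr, hqr, sub_zero])
      exact ⟨c, hr0, hc⟩
    have neg_of_ne : ∀ s t : F, s ≠ 0 → t ≠ 0 → s ≠ t → t = -s := by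
      intro s t hs ht hst
      rcases eq_one_or_neg_one_of_card_three hq hs with h | h <;>
        rcases eq_one_or_neg_one_of_card_three hq ht with h' | h'
      · exact absurd (h.trans h'.symm) hst
      · rw [h, h']
      · rw [h, h', neg_neg]
      · exact absurd (h.trans h'.symm) hst
    by_cases h1 : f a a = f b b
    · by_cases h2' : f z z = f a a
      · obtain ⟨c, hc⟩ := frame_of_three hf hdim a b z ha rfl h1.symm h2' hab haz hbz
        exact ⟨_, c, ha, hc⟩
      · exact pair a b z hab haz hbz h1 (neg_of_ne _ _ ha hz (Ne.symm h2')) hz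
    · by_cases h2' : f z z = f a a
      · exact pair a z b haz hab hzb h2'.symm (neg_of_ne _ _ ha hb h1) hb
      · have h3' : f z z = f b b := by
          rw [neg_of_ne _ _ ha hz (Ne.symm h2'), neg_of_ne _ _ ha hb h1]
        exact pair b z a hbz hba hza h3'.symm (by rw [neg_of_ne _ _ ha hb h1, neg_neg]) ha
  have hi : ∀ k : ℕ, k < 3 → k < Module.finrank F V := fun k hk => by omega
  exact key (v ⟨0, hi 0 (by omega)⟩) (v ⟨1, hi 1 (by omega)⟩) (v ⟨2, hi 2 (by omega)⟩)
    (horth _ _ (by simp [Fin.ext_iff])) (horth _ _ (by simp [Fin.ext_iff]))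
    (horth _ _ (by simp [Fin.ext_iff])) (hnorm _) (hnorm _) (hnorm _)

/-- Rigidity of frames: three pairwise orthogonal vectors whose common norm is a non-zero multiple of the
norm of the frame are, up to signs, a permutation of the frame. -/
theorem frame_monomial [Fintype F] (hq : Fintype.card F = 3) (hf : SymB f) (c : Basis (Fin 3) F V)
    {ε : F} (hε : ε ≠ 0) (hc : ∀ j l, f (c j) (c l) = if j = l then ε else 0) (d : Fin 3 → V)
    {lam : F} (hlam : lam ≠ 0) (hd : ∀ j l, f (d j) (d l) = if j = l then lam * ε else 0) :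
    ∃ π : Equiv.Perm (Fin 3), ∀ j, ∃ s : F, s ≠ 0 ∧ d j = s • c (π j) := by
  have hexp : ∀ j l, f (d j) (d l) = ε * ∑ k, c.repr (d j) k * c.repr (d l) k := by
    intro j l
    conv_lhs => rw [← c.sum_repr (d j), ← c.sum_repr (d l)]
    rw [hf.sum_left, Finset.mul_sum]
    apply Finset.sum_congr rfl
    intro k _
    rw [hf.smul_left, hf.sum_right, Finset.sum_eq_single k]
    · rw [hf.smul_right, hc, if_pos rfl]
      ring
    · intro k' _ hk'
      rw [hf.smul_right, hc, if_neg (Ne.symm hk'), mul_zero]
    · intro h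
      exact absurd (Finset.mem_univ k) h
  have hS : ∀ j l, ∑ k, c.repr (d j) k * c.repr (d l) k = if j = l then lam else 0 := by
    intro j l
    have := hexp j l
    rw [hd] at this
    by_cases hjl : j = l
    · rw [if_pos hjl] at this ⊢
      exact mul_left_cancel₀ hε (by rw [← this]; ring)
    · rw [if_neg hjl] at this ⊢
      exact (mul_eq_zero.mp this.symm).resolve_left hε
  have hSS : (Matrix.of fun j k => c.repr (d j) k : Matrix (Fin 3) (Fin 3) F) *
      (Matrix.of fun j k => c.repr (d j) k : Matrix (Fin 3) (Fin 3) F)ᵀ =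
        lam • (1 : Matrix (Fin 3) (Fin 3) F) := by
    ext j l
    rw [Matrix.mul_apply, Matrix.smul_apply, Matrix.one_apply]
    simp only [Matrix.of_apply, Matrix.transpose_apply]
    rw [hS]
    simp
  have hdet : (Matrix.of fun j k => c.repr (d j) k : Matrix (Fin 3) (Fin 3) F).det ^ 2 = lam ^ 3 := by
    have := congrArg Matrix.det hSS
    rw [Matrix.det_mul, Matrix.det_transpose, Matrix.det_smul, Matrix.det_one, Fintype.card_fin,
      mul_one] at this
    rw [sq]
    exact this
  have hlam3 : lam ^ 3 = lam := by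
    have := FiniteField.pow_card lam
    rwa [hq] at this
  have hdet0 : (Matrix.of fun j k => c.repr (d j) k : Matrix (Fin 3) (Fin 3) F).det ≠ 0 := by
    intro h0
    rw [h0, hlam3] at hdet
    simp at hdet
    exact hlam hdet.symm
  have hlam1 : lam = 1 := by
    rw [← hlam3, ← hdet]
    exact sq_eq_one_of_card_three hq hdet0
  have hrow : ∀ j, ∃ k, c.repr (d j) k ≠ 0 ∧ ∀ k', k' ≠ k → c.repr (d j) k' = 0 := by
    intro j
    have := hS j j
    rw [if_pos rfl, hlam1, Fin.sum_univ_three] at this
    have h' : (c.repr (d j) 0) ^ 2 + (c.repr (d j) 1) ^ 2 + (c.repr (d j) 2) ^ 2 = 1 := by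
      rw [← this]
      ring
    rcases exactly_one_of_sq_sum hq _ _ _ h' with ⟨h0, h1, h2⟩ | ⟨h0, h1, h2⟩ | ⟨h0, h1, h2⟩
    · refine ⟨0, h0, ?_⟩
      intro k' hk'
      fin_cases k'
      · exact absurd rfl hk'
      · exact h1
      · exact h2
    · refine ⟨1, h1, ?_⟩
      intro k' hk'
      fin_cases k'
      · exact h0
      · exact absurd rfl hk'
      · exact h2
    · refine ⟨2, h2, ?_⟩
      intro k' hk'
      fin_cases k'
      · exact h0
      · exact h1
      · exact absurd rfl hk'
  choose π hπ1 hπ2 using hrow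
  have hdj : ∀ j, d j = c.repr (d j) (π j) • c (π j) := by
    intro j
    conv_lhs => rw [← c.sum_repr (d j)]
    rw [Finset.sum_eq_single (π j)]
    · intro k' _ hk'
      rw [hπ2 j k' hk', zero_smul]
    · intro h
      exact absurd (Finset.mem_univ _) h
  have hinj : Function.Injective π := by
    intro j l hjl
    by_contra hne
    have := hS j l
    rw [if_neg hne, Finset.sum_eq_single (π j)] at this
    · rcases mul_eq_zero.mp this with h | h
      · exact hπ1 j h
      · rw [hjl] at h
        exact hπ1 l h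
    · intro k' _ hk'
      rw [hπ2 j k' hk', zero_mul]
    · intro h
      exact absurd (Finset.mem_univ _) h
  exact ⟨Equiv.ofBijective π (Finite.injective_iff_bijective.mp hinj), fun j => ⟨_, hπ1 j, hdj j⟩⟩

/-- Two frames of the same non-degenerate 3-dimensional space over the field with three elements have the
same norm. -/
theorem frame_lam_eq_one [Fintype F] (hq : Fintype.card F = 3) (hf : SymB f) (c : Basis (Fin 3) F V)
    {ε : F} (hε : ε ≠ 0) (hc : ∀ j l, f (c j) (c l) = if j = l then ε else 0) (d : Fin 3 → V)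
    {lam : F} (hlam : lam ≠ 0) (hd : ∀ j l, f (d j) (d l) = if j = l then lam * ε else 0) :
    lam = 1 := by
  obtain ⟨π, hπ⟩ := frame_monomial hq hf c hε hc d hlam hd
  obtain ⟨s, hs, hds⟩ := hπ 0
  have h := hd 0 0
  rw [if_pos rfl, hds, hf.smul_left, hf.smul_right, hc, if_pos rfl] at h
  have hs2 := sq_eq_one_of_card_three hq hs
  apply mul_right_cancel₀ hε
  rw [← h, one_mul]
  linear_combination ε * hs2

end SymB

end Cfsg.Agent.Lib.helper95
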