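import Mathlib
import Cfsg.Prelude.Def_GeometricClasses
import Cfsg.Agent.Lib.helper95.Blocks
import Cfsg.Agent.Lib.helper95.Ortho3
import Cfsg.Agent.Lib.helper95.OmegaTools

/-!
# Orthogonal frames and the frame weight

For a basis `E` of pairwise orthogonal vectors, the frame weight of a vector is the number of its non-zero
coordinates.  Products of two reflections permuting the frame preserve the frame weight; over small fields
the stabiliser of an orthogonal decomposition into small blocks preserves it as well, which shows that such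
stabilisers are not maximal in `Ω`.
-/

set_option autoImplicit false

namespace Cfsg.Agent.Lib.helper95

open Cfsg Cfsg.Geo Matrix Module Cfsg.Agent.Lib.helper49

section QuadSum

variable {F : Type*} [Field F] {V : Type*} [AddCommGroup V] [Module F V]

theorem quad_sum_orth (Q : QuadraticForm F V) {κ : Type*} (S : Finset κ) (c : κ → F) (u : κ → V)
    (horth : ∀ i j, i ≠ j → QuadraticMap.polar Q (u i) (u j) = 0) :
    Q (∑ i ∈ S, c i • u i) = ∑ i ∈ S, c i ^ 2 * Q (u i) := by
  classical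
  induction S using Finset.induction_on with
  | empty => simp
  | insert a s ha ih =>
    have hp : QuadraticMap.polar Q (c a • u a) (∑ i ∈ s, c i • u i) = 0 := by
      rw [QuadraticMap.polar_comm, polar_sum_left]
      apply Finset.sum_eq_zero
      intro i hi
      have hia : i ≠ a := fun h => ha (h ▸ hi)
      rw [QuadraticMap.polar_smul_right, horth i a hia, smul_zero, mul_zero]
    rw [Finset.sum_insert ha, Finset.sum_insert ha, QuadraticMap.map_add (⇑Q), ih, hp,
      QuadraticMap.map_smul, add_zero, smul_eq_mul, sq]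

end QuadSum

section FrameWeight

variable {F : Type*} [Field F] {ι : Type} [Fintype ι] [DecidableEq ι]

open scoped Classical in
/-- Indicator of being non-zero, as a natural number. -/
noncomputable def cntF (a : F) : ℕ := if a = 0 then 0 else 1

theorem cntF_zero : cntF (0 : F) = 0 := if_pos rfl

theorem cntF_of_ne {a : F} (h : a ≠ 0) : cntF a = 1 := if_neg h

theorem cntF_le_one (a : F) : cntF a ≤ 1 := by
  unfold cntF
  split_ifs <;> omega

/-- The frame weight: the number of non-zero coordinates. -/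
noncomputable def fwt {κ : Type*} [Fintype κ] (E : Basis κ F (ι → F)) (x : ι → F) : ℕ :=
  ∑ a, cntF (E.repr x a)

theorem fwt_basis {κ : Type*} [Fintype κ] [DecidableEq κ] (E : Basis κ F (ι → F)) (a : κ) :
    fwt E (E a) = 1 := by
  unfold fwt
  rw [Finset.sum_eq_single a]
  · simp [cntF]
  · intro b _ hb
    simp [cntF, hb.symm]
  · simp

theorem one_lt_fwt {κ : Type*} [Fintype κ] [DecidableEq κ] (E : Basis κ F (ι → F))
    {x : ι → F} {a a' : κ} (hne : a ≠ a') (h : E.repr x a ≠ 0) (h' : E.repr x a' ≠ 0) :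
    1 < fwt E x := by
  unfold fwt
  calc 1 < ∑ b ∈ ({a, a'} : Finset κ), cntF (E.repr x b) := by
        rw [Finset.sum_pair hne]
        simp [cntF, h, h']
    _ ≤ ∑ b, cntF (E.repr x b) := Finset.sum_le_sum_of_subset (Finset.subset_univ _)

theorem fwt_of_repr_perm {κ : Type*} [Fintype κ] (E : Basis κ F (ι → F)) (π : Equiv.Perm κ)
    (x y : ι → F) (h : ∀ a, E.repr y a = E.repr x (π a)) : fwt E y = fwt E x := by
  unfold fwt
  rw [← Equiv.sum_comp π (fun a => cntF (E.repr x a))]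
  exact Finset.sum_congr rfl (fun a _ => by rw [h])

variable {κ : Type*} [Fintype κ] [DecidableEq κ]

theorem polar_basis_left (Qf : QuadraticForm F (ι → F)) (E : Basis κ F (ι → F))
    (horth : ∀ a a', a ≠ a' → QuadraticMap.polar Qf (E a) (E a') = 0) (a : κ) (x : ι → F) :
    QuadraticMap.polar Qf (E a) x = E.repr x a * QuadraticMap.polar Qf (E a) (E a) := by
  conv_lhs => rw [← E.sum_repr x]
  rw [QuadraticMap.polar_comm, polar_sum_left, Finset.sum_eq_single a]
  · intro b _ hb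
    rw [horth b a hb, mul_zero]
  · simp

theorem repr_sum_basis (E : Basis κ F (ι → F)) (T : Finset κ) (b : κ) :
    E.repr (∑ c ∈ T, E c) b = if b ∈ T then 1 else 0 := by
  rw [map_sum, Finsupp.finsetSum_apply]
  simp only [Basis.repr_self, Finsupp.single_apply]
  rw [Finset.sum_ite_eq' T b]

theorem quad_sum_basis (Qf : QuadraticForm F (ι → F)) (E : Basis κ F (ι → F))
    (horth : ∀ a a', a ≠ a' → QuadraticMap.polar Qf (E a) (E a') = 0) (T : Finset κ) {δ : F}
    (hT : ∀ c ∈ T, Qf (E c) = δ) : Qf (∑ c ∈ T, E c) = T.card * δ := by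
  have := quad_sum_orth Qf T (fun _ => 1) (fun c => E c) horth
  simp only [one_smul, one_pow, one_mul] at this
  rw [this, Finset.sum_congr rfl hT, Finset.sum_const, nsmul_eq_mul]

/-- The reflection along the difference of two frame vectors of the same norm. -/
theorem refl_swap_mulVec (h2 : (2 : F) ≠ 0) (Qf : QuadraticForm F (ι → F)) (E : Basis κ F (ι → F))
    (horth : ∀ a a', a ≠ a' → QuadraticMap.polar Qf (E a) (E a') = 0) {a a' : κ} (haa : a ≠ a')
    {δ : F} (hδ : δ ≠ 0) (ha : Qf (E a) = δ) (ha' : Qf (E a') = δ) (x : ι → F) :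
    reflectionMatrix ⇑Qf (E a - E a') *ᵥ x = x - (E.repr x a - E.repr x a') • (E a - E a') := by
  rw [refl_mulVec]
  have hQ : Qf (E a - E a') = 2 * δ := by
    rw [quad_sub, ha, ha', horth a a' haa]
    ring
  have hp : QuadraticMap.polar Qf (E a - E a') x = (2 * δ) * (E.repr x a - E.repr x a') := by
    rw [QuadraticMap.polar_sub_left, polar_basis_left Qf E horth a x, polar_basis_left Qf E horth a' x,
      QuadraticMap.polar_self, QuadraticMap.polar_self, ha, ha']
    simp only [nsmul_eq_mul, Nat.cast_ofNat]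
    ring
  rw [hQ, hp, ← mul_assoc, inv_mul_cancel₀ (mul_ne_zero h2 hδ), one_mul]

theorem repr_refl_swap (h2 : (2 : F) ≠ 0) (Qf : QuadraticForm F (ι → F)) (E : Basis κ F (ι → F))
    (horth : ∀ a a', a ≠ a' → QuadraticMap.polar Qf (E a) (E a') = 0) {a a' : κ} (haa : a ≠ a')
    {δ : F} (hδ : δ ≠ 0) (ha : Qf (E a) = δ) (ha' : Qf (E a') = δ) (x : ι → F) (b : κ) :
    E.repr (reflectionMatrix ⇑Qf (E a - E a') *ᵥ x) b = E.repr x (Equiv.swap a a' b) := by
  rw [refl_swap_mulVec h2 Qf E horth haa hδ ha ha']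
  simp only [map_sub, map_smul, Basis.repr_self, Finsupp.sub_apply, Finsupp.smul_apply,
    Finsupp.single_apply, smul_eq_mul]
  by_cases hb : b = a
  · subst hb
    rw [Equiv.swap_apply_left]
    simp [haa, Ne.symm haa]
  · by_cases hb' : b = a'
    · subst hb'
      rw [Equiv.swap_apply_right]
      simp [haa, Ne.symm haa]
    · rw [Equiv.swap_apply_of_ne_of_ne hb hb']
      simp [Ne.symm hb, Ne.symm hb']

/-- A product of two reflections, in `Ω`, permuting the frame coordinates by two disjoint transpositions. -/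
theorem exists_refl2_swap (h2 : (2 : F) ≠ 0) (Qf : QuadraticForm F (ι → F)) (E : Basis κ F (ι → F))
    (horth : ∀ a a', a ≠ a' → QuadraticMap.polar Qf (E a) (E a') = 0) {δ : F} (hδ : δ ≠ 0)
    {a₁ a₂ a₃ a₄ : κ} (h12 : a₁ ≠ a₂) (h34 : a₃ ≠ a₄) (h13 : a₁ ≠ a₃) (h14 : a₁ ≠ a₄)
    (h23 : a₂ ≠ a₃) (h24 : a₂ ≠ a₄) (hn1 : Qf (E a₁) = δ) (hn2 : Qf (E a₂) = δ)
    (hn3 : Qf (E a₃) = δ) (hn4 : Qf (E a₄) = δ) :
    ∃ g : GL ι F, g ∈ omegaGL ⇑Qf ∧ ∀ x b, E.repr ((g : Matrix ι ι F) *ᵥ x) b =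
      E.repr x (Equiv.swap a₃ a₄ (Equiv.swap a₁ a₂ b)) := by
  have hQ : ∀ {a a' : κ}, a ≠ a' → Qf (E a) = δ → Qf (E a') = δ → Qf (E a - E a') = 2 * δ := by
    intro a a' haa ha ha'
    rw [quad_sub, ha, ha', horth a a' haa]
    ring
  have hu : Qf (E a₁ - E a₂) ≠ 0 := by
    rw [hQ h12 hn1 hn2]
    exact mul_ne_zero h2 hδ
  have hw : Qf (E a₃ - E a₄) ≠ 0 := by
    rw [hQ h34 hn3 hn4]
    exact mul_ne_zero h2 hδ
  refine ⟨refl2 Qf (E a₁ - E a₂) (E a₃ - E a₄) hu hw, ?_, ?_⟩
  · apply refl2_mem_omegaGL_of_orth h2 Qf _ _ hu hw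
    · rw [hQ h12 hn1 hn2, hQ h34 hn3 hn4]
    · rw [QuadraticMap.polar_sub_left, QuadraticMap.polar_sub_right, QuadraticMap.polar_sub_right,
        horth _ _ h13, horth _ _ h14, horth _ _ h23, horth _ _ h24]
      ring
  · intro x b
    rw [refl2_mulVec, repr_refl_swap h2 Qf E horth h12 hδ hn1 hn2,
      repr_refl_swap h2 Qf E horth h34 hδ hn3 hn4]

/-- A product of two reflections, in `Ω`, not preserving the frame weight. -/
theorem exists_refl2_fwt_ne (h2 : (2 : F) ≠ 0) (Qf : QuadraticForm F (ι → F)) (E : Basis κ F (ι → F))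
    (horth : ∀ a a', a ≠ a' → QuadraticMap.polar Qf (E a) (E a') = 0) {δ : F} (hδ : δ ≠ 0)
    (T : Finset κ) (hTn : ∀ c ∈ T, Qf (E c) = δ) (hTc : (T.card : F) ≠ 0) {a₁ a₂ a₃ : κ}
    (h1 : a₁ ∈ T) (h2' : a₂ ∈ T) (h3 : a₃ ∈ T) (h12 : a₁ ≠ a₂) (h13 : a₁ ≠ a₃) (h23 : a₂ ≠ a₃)
    (b : ι → F) (hQb : Qf b = T.card * δ) (hab : QuadraticMap.polar Qf (∑ c ∈ T, E c) b = 0)
    (hb1 : QuadraticMap.polar Qf b (E a₁) = 0) :
    ∃ τ : GL ι F, τ ∈ omegaGL ⇑Qf ∧ ∃ x, fwt E ((τ : Matrix ι ι F) *ᵥ x) ≠ fwt E x := by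
  have hQa : Qf (∑ c ∈ T, E c) = T.card * δ := quad_sum_basis Qf E horth T hTn
  have ha0 : Qf (∑ c ∈ T, E c) ≠ 0 := by
    rw [hQa]
    exact mul_ne_zero hTc hδ
  have hb0 : Qf b ≠ 0 := by
    rw [hQb]
    exact mul_ne_zero hTc hδ
  refine ⟨refl2 Qf (∑ c ∈ T, E c) b ha0 hb0, ?_, E a₁, ?_⟩
  · exact refl2_mem_omegaGL_of_orth h2 Qf _ _ ha0 hb0 (by rw [hQa, hQb]) hab
  · rw [refl2_mulVec, refl_mulVec_of_orth Qf b (E a₁) hb1, fwt_basis, refl_mulVec]
    have hpol : QuadraticMap.polar Qf (∑ c ∈ T, E c) (E a₁) = 2 * δ := by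
      rw [QuadraticMap.polar_comm, polar_basis_left Qf E horth, repr_sum_basis, if_pos h1,
        QuadraticMap.polar_self, hTn a₁ h1]
      simp only [nsmul_eq_mul, Nat.cast_ofNat]
      ring
    have hcoef : (Qf (∑ c ∈ T, E c))⁻¹ * QuadraticMap.polar Qf (∑ c ∈ T, E c) (E a₁) ≠ 0 := by
      rw [hpol]
      exact mul_ne_zero (inv_ne_zero ha0) (mul_ne_zero h2 hδ)
    refine (one_lt_fwt E h23 ?_ ?_).ne'
    · simp only [map_sub, map_smul, Basis.repr_self, Finsupp.sub_apply, Finsupp.smul_apply,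
        Finsupp.single_apply, smul_eq_mul, repr_sum_basis, if_pos h2', if_neg h12, mul_one, zero_sub]
      exact neg_ne_zero.mpr hcoef
    · simp only [map_sub, map_smul, Basis.repr_self, Finsupp.sub_apply, Finsupp.smul_apply,
        Finsupp.single_apply, smul_eq_mul, repr_sum_basis, if_pos h3, if_neg h13, mul_one, zero_sub]
      exact neg_ne_zero.mpr hcoef

end FrameWeight

section FrameDecomp

variable {F : Type*} [Field F] {ι : Type} [Fintype ι] [DecidableEq ι]

/-- The frame weight is preserved by the stabiliser of the block decomposition as soon as the weight of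
a block component can be read off from an invariant function. -/
theorem fwt_map_of_pw {t k : ℕ} (E : Basis ((_ : Fin t) × Fin k) F (ι → F))
    (D : Fin t → Submodule F (ι → F)) (hblk : ∀ i, blk E i = D i) (pw : (ι → F) → ℕ)
    (hpw : ∀ i x, pw (bproj E i x) = ∑ j, cntF (E.repr x ⟨i, j⟩)) (g : GL ι F)
    (hgD : g ∈ decompositionStabilizer D) (hg : ∀ y, pw ((g : Matrix ι ι F) *ᵥ y) = pw y)
    (x : ι → F) : fwt E ((g : Matrix ι ι F) *ᵥ x) = fwt E x := by
  obtain ⟨σ, hσ⟩ := hgD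
  have hfw : ∀ y, fwt E y = ∑ i, pw (bproj E i y) := by
    intro y
    unfold fwt
    rw [Fintype.sum_sigma]
    exact Finset.sum_congr rfl (fun i _ => (hpw i y).symm)
  rw [hfw, hfw, ← Equiv.sum_comp σ (fun i => pw (bproj E i ((g : Matrix ι ι F) *ᵥ x)))]
  apply Finset.sum_congr rfl
  intro i _
  rw [bproj_map E g σ (fun i => by rw [hblk, hblk]; exact hσ i), hg]

/-- Non-maximality of the stabiliser of an orthogonal decomposition from a frame whose weight it
preserves. -/
theorem frame_not_maximal (h2 : (2 : F) ≠ 0) (Qf : QuadraticForm F (ι → F)) {t k : ℕ} (ht : 4 ≤ t)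
    (D : Fin t → Submodule F (ι → F)) (E : Basis ((_ : Fin t) × Fin k) F (ι → F))
    (hblk : ∀ i, blk E i = D i)
    (horth : ∀ a a', a ≠ a' → QuadraticMap.polar Qf (E a) (E a') = 0) {δ : F} (hδ : δ ≠ 0)
    {j₀ j₁ : Fin k} (hj : j₀ ≠ j₁) (hnorm : ∀ i, Qf (E ⟨i, j₀⟩) = δ)
    (hinv : ∀ g : GL ι F, g ∈ decompositionStabilizer D →
      (∀ u, Qf ((g : Matrix ι ι F) *ᵥ u) = Qf u) → ∀ x, fwt E ((g : Matrix ι ι F) *ᵥ x) = fwt E x)
    (τ : GL ι F) (hτ : τ ∈ omegaGL ⇑Qf) (hτx : ∃ x, fwt E ((τ : Matrix ι ι F) *ᵥ x) ≠ fwt E x) :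
    ∃ K : Subgroup (GL ι F), decompositionStabilizer D ⊓ omegaGL ⇑Qf < K ∧ K < omegaGL ⇑Qf := by
  obtain ⟨i₁, i₂, i₃, i₄, h12, h13, h14, h23, h24, h34⟩ :
      ∃ i₁ i₂ i₃ i₄ : Fin t, i₁ ≠ i₂ ∧ i₁ ≠ i₃ ∧ i₁ ≠ i₄ ∧ i₂ ≠ i₃ ∧ i₂ ≠ i₄ ∧ i₃ ≠ i₄ :=
    ⟨⟨0, by omega⟩, ⟨1, by omega⟩, ⟨2, by omega⟩, ⟨3, by omega⟩, by simp [Fin.ext_iff],
      by simp [Fin.ext_iff], by simp [Fin.ext_iff], by simp [Fin.ext_iff], by simp [Fin.ext_iff],
      by simp [Fin.ext_iff]⟩
  have hne : ∀ {i i' : Fin t} (j j' : Fin k), i ≠ i' →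
      (⟨i, j⟩ : (_ : Fin t) × Fin k) ≠ ⟨i', j'⟩ := fun _ _ h heq => h (congrArg Sigma.fst heq)
  obtain ⟨g, hgΩ, hg⟩ := exists_refl2_swap h2 Qf E horth hδ (a₁ := ⟨i₁, j₀⟩) (a₂ := ⟨i₂, j₀⟩)
    (a₃ := ⟨i₃, j₀⟩) (a₄ := ⟨i₄, j₀⟩) (hne _ _ h12) (hne _ _ h34) (hne _ _ h13) (hne _ _ h14)
    (hne _ _ h23) (hne _ _ h24) (hnorm _) (hnorm _) (hnorm _) (hnorm _)
  refine not_maximal_of_fn (fwt E) (decompositionStabilizer D) (omegaGL ⇑Qf) ?_ g hgΩ ?_ ?_ τ hτ hτx
  · intro g' hg' x
    exact hinv g' hg'.1 (fun u => isometry_of_mem_omegaGL hg'.2 u) x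
  · intro x
    exact fwt_of_repr_perm E ((Equiv.swap (⟨i₁, j₀⟩ : (_ : Fin t) × Fin k) ⟨i₂, j₀⟩).trans
      (Equiv.swap (⟨i₃, j₀⟩ : (_ : Fin t) × Fin k) ⟨i₄, j₀⟩)) x _ (fun b => hg x b)
  · rintro ⟨σ, hσ⟩
    have hb := bwt_map E g σ (fun i => by rw [hblk, hblk]; exact hσ i) (E ⟨i₁, j₀⟩ + E ⟨i₁, j₁⟩)
    have hj' : (⟨i₁, j₀⟩ : (_ : Fin t) × Fin k) ≠ ⟨i₁, j₁⟩ := by
      intro h
      simp only [Sigma.mk.injEq, heq_eq_eq, true_and] at h
      exact hj h
    have hx0 : E ⟨i₁, j₀⟩ + E ⟨i₁, j₁⟩ ≠ 0 := by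
      intro h0
      have := congrArg (fun v => E.repr v ⟨i₁, j₀⟩) h0
      simp [Basis.repr_self, Finsupp.single_apply, hj'.symm] at this
    rw [bwt_of_mem_blk E ((blk E i₁).add_mem (basis_mem_blk E i₁ j₀) (basis_mem_blk E i₁ j₁)) hx0]
      at hb
    have hlt : 1 < bwt E ((g : Matrix ι ι F) *ᵥ (E ⟨i₁, j₀⟩ + E ⟨i₁, j₁⟩)) := by
      apply one_lt_bwt E h12
      · rw [Ne, bproj_eq_zero_iff]
        intro h
        have := h j₁
        rw [hg, Equiv.swap_apply_of_ne_of_ne hj'.symm (hne _ _ h12),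
          Equiv.swap_apply_of_ne_of_ne (hne _ _ h13) (hne _ _ h14)] at this
        simp [Basis.repr_self, Finsupp.single_apply, hj'] at this
      · rw [Ne, bproj_eq_zero_iff]
        intro h
        have := h j₀
        rw [hg, Equiv.swap_apply_right,
          Equiv.swap_apply_of_ne_of_ne (hne _ _ h13) (hne _ _ h14)] at this
        simp [Basis.repr_self, Finsupp.single_apply, hj'] at this
    omega

end FrameDecomp

section FrameThree

variable {F : Type*} [Field F] [Fintype F] {ι : Type} [Fintype ι] [DecidableEq ι]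

open scoped Classical in
/-- The weight of a vector of a block with at most three frame vectors, all of norm `δ`, over the field
with three elements, read off from the quadratic form. -/
noncomputable def pwQ (Q : (ι → F) → F) (δ : F) (y : ι → F) : ℕ :=
  if y = 0 then 0 else if Q y = δ then 1 else if Q y = -δ then 2 else 3

omit [Fintype F] in
theorem pwQ_isometry (Q : (ι → F) → F) (δ : F) (g : GL ι F)
    (hg : ∀ u, Q ((g : Matrix ι ι F) *ᵥ u) = Q u) (y : ι → F) :
    pwQ Q δ ((g : Matrix ι ι F) *ᵥ y) = pwQ Q δ y := by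
  unfold pwQ
  rw [hg]
  by_cases hy : y = 0
  · rw [if_pos hy, if_pos ((gl_mulVec_eq_zero_iff g y).mpr hy)]
  · rw [if_neg hy, if_neg (fun h => hy ((gl_mulVec_eq_zero_iff g y).mp h))]

theorem sq_eq_cntF (hq : Fintype.card F = 3) (a : F) : a ^ 2 = (cntF a : F) := by
  by_cases h : a = 0
  · rw [h, cntF_zero]
    simp
  · rw [cntF_of_ne h, sq_eq_one_of_card_three hq h]
    simp

theorem pwQ_bproj (hq : Fintype.card F = 3) (Qf : QuadraticForm F (ι → F)) {t k : ℕ} (hk : k ≤ 3)
    (E : Basis ((_ : Fin t) × Fin k) F (ι → F))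
    (horth : ∀ a a', a ≠ a' → QuadraticMap.polar Qf (E a) (E a') = 0) {δ : F} (hδ : δ ≠ 0)
    (hnorm : ∀ a, Qf (E a) = δ) (i : Fin t) (x : ι → F) :
    pwQ ⇑Qf δ (bproj E i x) = ∑ j, cntF (E.repr x ⟨i, j⟩) := by
  have hQ : Qf (bproj E i x) = ((∑ j, cntF (E.repr x ⟨i, j⟩) : ℕ) : F) * δ := by
    rw [bproj_apply, quad_sum_orth Qf Finset.univ (fun j => E.repr x ⟨i, j⟩) (fun j => E ⟨i, j⟩)
      (fun j l hjl => horth _ _ (by
        intro h
        simp only [Sigma.mk.injEq, heq_eq_eq, true_and] at h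
        exact hjl h)), Nat.cast_sum, Finset.sum_mul]
    apply Finset.sum_congr rfl
    intro j _
    rw [hnorm, sq_eq_cntF hq]
  have hle : ∑ j, cntF (E.repr x ⟨i, j⟩) ≤ 3 := by
    calc ∑ j, cntF (E.repr x ⟨i, j⟩) ≤ ∑ _j : Fin k, 1 := Finset.sum_le_sum (fun j _ => cntF_le_one _)
      _ = k := by simp
      _ ≤ 3 := hk
  have hzero : bproj E i x = 0 ↔ ∑ j, cntF (E.repr x ⟨i, j⟩) = 0 := by
    rw [bproj_eq_zero_iff, Finset.sum_eq_zero_iff]
    constructor
    · intro h j _
      rw [h j, cntF_zero]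
    · intro h j
      by_contra hne
      have := h j (Finset.mem_univ j)
      rw [cntF_of_ne hne] at this
      exact one_ne_zero this
  generalize (∑ j, cntF (E.repr x ⟨i, j⟩)) = N at hQ hle hzero ⊢
  unfold pwQ
  have h3 := three_eq_zero_of_card_three hq
  have h2 := two_ne_zero_of_card_three hq
  interval_cases N
  · rw [if_pos (hzero.mpr rfl)]
  · have hne : bproj E i x ≠ 0 := fun h => by simpa using hzero.mp h
    rw [if_neg hne, if_pos (by rw [hQ]; simp)]
  · have hne : bproj E i x ≠ 0 := fun h => by simpa using hzero.mp h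
    have h1 : Qf (bproj E i x) ≠ δ := by
      rw [hQ]
      intro h
      apply hδ
      push_cast at h
      linear_combination h
    have h2' : Qf (bproj E i x) = -δ := by
      rw [hQ]
      push_cast
      linear_combination δ * h3
    rw [if_neg hne, if_neg h1, if_pos h2']
  · have hne : bproj E i x ≠ 0 := fun h => by simpa using hzero.mp h
    have h0 : Qf (bproj E i x) = 0 := by
      rw [hQ]
      push_cast
      rw [h3, zero_mul]
    have h1 : Qf (bproj E i x) ≠ δ := by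
      rw [h0]
      exact hδ.symm
    have h2' : Qf (bproj E i x) ≠ -δ := by
      rw [h0]
      exact (neg_ne_zero.mpr hδ).symm
    rw [if_neg hne, if_neg h1, if_neg h2']

/-- Over the field with three elements, the stabiliser in `Ω` of an orthogonal decomposition into at least
five blocks of dimension two or three spanned by frame vectors of the same norm is not maximal. -/
theorem frame_not_maximal_three (hq : Fintype.card F = 3) (Qf : QuadraticForm F (ι → F)) {t k : ℕ}
    (ht : 5 ≤ t) (hk : k ≤ 3) (D : Fin t → Submodule F (ι → F))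
    (E : Basis ((_ : Fin t) × Fin k) F (ι → F)) (hblk : ∀ i, blk E i = D i)
    (horth : ∀ a a', a ≠ a' → QuadraticMap.polar Qf (E a) (E a') = 0) {δ : F} (hδ : δ ≠ 0)
    {j₀ j₁ : Fin k} (hj : j₀ ≠ j₁) (hnorm : ∀ a, Qf (E a) = δ) :
    ∃ K : Subgroup (GL ι F), decompositionStabilizer D ⊓ omegaGL ⇑Qf < K ∧ K < omegaGL ⇑Qf := by
  have h3 := three_eq_zero_of_card_three hq
  have h2 := two_ne_zero_of_card_three hq
  have hinj : Function.Injective (fun i : Fin t => (⟨i, j₀⟩ : (_ : Fin t) × Fin k)) :=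
    fun i i' h => congrArg Sigma.fst h
  obtain ⟨S, -, hS⟩ := Finset.exists_subset_card_eq (s := (Finset.univ : Finset (Fin t))) (n := 4)
    (by simp; omega)
  obtain ⟨i₅, hi₅⟩ : ∃ i₅ : Fin t, i₅ ∉ S := by
    by_contra hcon
    push Not at hcon
    have : S = Finset.univ := Finset.eq_univ_iff_forall.mpr hcon
    rw [this, Finset.card_univ, Fintype.card_fin] at hS
    omega
  obtain ⟨i₁, h1, i₂, h2', i₃, h3', h12, h13, h23⟩ := Finset.two_lt_card.mp (by omega : 2 < S.card)
  have hTc : ((S.image (fun i : Fin t => (⟨i, j₀⟩ : (_ : Fin t) × Fin k))).card : F) = 1 := by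
    rw [Finset.card_image_of_injective S hinj, hS]
    push_cast
    linear_combination h3
  obtain ⟨τ, hτ, hτx⟩ := exists_refl2_fwt_ne h2 Qf E horth hδ
    (S.image (fun i : Fin t => (⟨i, j₀⟩ : (_ : Fin t) × Fin k))) (fun c _ => hnorm c)
    (by rw [hTc]; exact one_ne_zero)
    (Finset.mem_image_of_mem _ h1) (Finset.mem_image_of_mem _ h2') (Finset.mem_image_of_mem _ h3')
    (fun h => h12 (hinj h)) (fun h => h13 (hinj h)) (fun h => h23 (hinj h)) (E ⟨i₅, j₀⟩)
    (by rw [hTc, one_mul, hnorm])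
    (by
      rw [QuadraticMap.polar_comm, polar_basis_left Qf E horth, repr_sum_basis, if_neg, zero_mul]
      intro hmem
      obtain ⟨i, hi, hieq⟩ := Finset.mem_image.mp hmem
      exact hi₅ (hinj hieq ▸ hi))
    (horth _ _ (fun h => by
      have := hinj h
      exact hi₅ (this ▸ h1)))
  refine frame_not_maximal h2 Qf (by omega) D E hblk horth hδ hj (fun i => hnorm _) ?_ τ hτ hτx
  intro g hgD hg x
  exact fwt_map_of_pw E D hblk (pwQ ⇑Qf δ) (pwQ_bproj hq Qf hk E horth hδ hnorm) g hgD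
    (pwQ_isometry _ δ g hg) x

/-- A common frame for an orthogonal decomposition into isometric non-degenerate 3-spaces over the field
with three elements. -/
theorem exists_frame_of_decomp3 (hq : Fintype.card F = 3) (Qf : QuadraticForm F (ι → F)) {t : ℕ}
    (D : Fin t → Submodule F (ι → F)) (hD : IsOrthogonalMDecomposition ⇑Qf 3 D) :
    ∃ (δ : F) (E : Basis ((_ : Fin t) × Fin 3) F (ι → F)), δ ≠ 0 ∧ (∀ i, blk E i = D i) ∧
      (∀ a a', a ≠ a' → QuadraticMap.polar Qf (E a) (E a') = 0) ∧ ∀ a, Qf (E a) = δ := by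
  classical
  have h3 := three_eq_zero_of_card_three hq
  have ht : 2 ≤ t := hD.decomp.decomp.two_le
  have hf : ∀ i, SymB (fun x y : D i => QuadraticMap.polar Qf (x : ι → F) (y : ι → F)) := fun i =>
    { add_left := fun x y v => by
        simp only [Submodule.coe_add]
        exact QuadraticMap.polar_add_left _ _ _ _
      smul_left := fun c x v => by
        simp only [Submodule.coe_smul]
        rw [QuadraticMap.polar_smul_left, smul_eq_mul]
      symm := fun v w => QuadraticMap.polar_comm _ _ _ }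
  have hnd : ∀ i (w : D i), w ≠ 0 →
      ∃ x : D i, QuadraticMap.polar Qf (x : ι → F) (w : ι → F) ≠ 0 := by
    intro i w hw
    obtain ⟨⟨x, hx, hxw⟩, -⟩ := hD.decomp.nondegenerate i w w.2 (fun h => hw (Subtype.ext h))
    exact ⟨⟨x, hx⟩, hxw⟩
  choose ε c hε hc using fun i => exists_frame3 hq (hf i) (hnd i) (hD.decomp.decomp.finrank_eq i)
  have heq : ∀ i, ε i = ε ⟨0, by omega⟩ := by
    intro i
    obtain ⟨e, he⟩ := hD.isometric i ⟨0, by omega⟩
    have hpol : ∀ x y : D i, QuadraticMap.polar Qf ((e x : D _) : ι → F) ((e y : D _) : ι → F) =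
        QuadraticMap.polar Qf (x : ι → F) (y : ι → F) := by
      intro x y
      simp only [QuadraticMap.polar]
      rw [← Submodule.coe_add, ← map_add, he, he, he, Submodule.coe_add]
    have hlam := frame_lam_eq_one hq (hf ⟨0, by omega⟩) (c ⟨0, by omega⟩) (hε _) (hc _)
      (fun j => e (c i j)) (lam := ε i * (ε ⟨0, by omega⟩)⁻¹)
      (mul_ne_zero (hε i) (inv_ne_zero (hε _))) (by
        intro j l
        have := hc i j l
        rw [hpol, this]
        split_ifs
        · rw [mul_assoc, inv_mul_cancel₀ (hε _), mul_one]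
        · rfl)
    exact (mul_inv_eq_one₀ (hε _)).mp hlam
  refine ⟨-(ε ⟨0, by omega⟩), decompBasisOf hD.decomp.decomp c, neg_ne_zero.mpr (hε _),
    blk_decompBasisOf _ c, ?_, ?_⟩
  · rintro ⟨i, j⟩ ⟨i', j'⟩ hne
    rw [decompBasisOf_apply, decompBasisOf_apply]
    by_cases hii : i = i'
    · subst hii
      have := hc i j j'
      rw [if_neg (fun h => hne (by rw [h]))] at this
      exact this
    · exact hD.decomp.orthogonal i i' hii _ (c i j).2 _ (c i' j').2
  · rintro ⟨i, j⟩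
    rw [decompBasisOf_apply]
    have := hc i j j
    rw [if_pos rfl, heq i] at this
    simp only [QuadraticMap.polar_self, nsmul_eq_mul, Nat.cast_ofNat] at this
    linear_combination (Qf (c i j : ι → F)) * h3 - this

/-- Over the field with three elements, the stabiliser in `Ω` of an orthogonal decomposition into at least
five isometric non-degenerate 3-spaces is not maximal. -/
theorem decomp3_not_maximal (hq : Fintype.card F = 3) (Qf : QuadraticForm F (ι → F)) {t : ℕ}
    (ht : 5 ≤ t) (D : Fin t → Submodule F (ι → F)) (hD : IsOrthogonalMDecomposition ⇑Qf 3 D) :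
    ∃ K : Subgroup (GL ι F), decompositionStabilizer D ⊓ omegaGL ⇑Qf < K ∧ K < omegaGL ⇑Qf := by
  obtain ⟨δ, E, hδ, hblk, horth, hnorm⟩ := exists_frame_of_decomp3 hq Qf D hD
  exact frame_not_maximal_three hq Qf ht le_rfl D E hblk horth hδ (j₀ := 0) (j₁ := 1) (by decide)
    hnorm

end FrameThree

section FrameTwo

variable {F : Type*} [Field F] [Fintype F] {ι : Type} [Fintype ι] [DecidableEq ι]

omit [Fintype F] [Fintype ι] [DecidableEq ι] in
/-- A plane which is not of plus type is anisotropic. -/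
theorem aniso_of_not_plus (Qf : QuadraticForm F (ι → F)) (W : Submodule F (ι → F))
    (hdim : Module.finrank F W = 2) (hW : ¬ IsPlusTypeOn ⇑Qf W) :
    ∀ w ∈ W, w ≠ 0 → Qf w ≠ 0 := by
  intro w hw hw0 hQ
  apply hW
  refine ⟨Submodule.span F {w}, ?_, ?_, ?_⟩
  · rw [Submodule.span_singleton_le_iff_mem]
    exact hw
  · intro u hu
    obtain ⟨c, rfl⟩ := Submodule.mem_span_singleton.mp hu
    rw [QuadraticMap.map_smul, hQ, smul_zero]
  · rw [finrank_span_singleton hw0, hdim]

omit [DecidableEq ι] in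
/-- An anisotropic plane over the field with three elements has an orthonormal basis. -/
theorem exists_frame2_aniso (hq : Fintype.card F = 3) (Qf : QuadraticForm F (ι → F))
    (W : Submodule F (ι → F)) (hdim : Module.finrank F W = 2)
    (haniso : ∀ w ∈ W, w ≠ 0 → Qf w ≠ 0) :
    ∃ c : Basis (Fin 2) F W, QuadraticMap.polar Qf (c 0 : ι → F) (c 1 : ι → F) = 0 ∧
      Qf (c 0 : ι → F) = 1 ∧ Qf (c 1 : ι → F) = 1 := by
  have h3 := three_eq_zero_of_card_three hq
  have h2 := two_ne_zero_of_card_three hq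
  have hne : W ≠ ⊥ := by
    rintro rfl
    simp at hdim
  obtain ⟨v₀, hv₀, hv₀0⟩ := Submodule.exists_mem_ne_zero_of_ne_bot hne
  have hker : LinearMap.ker ((QuadraticMap.polarBilin Qf v₀).comp W.subtype) ≠ ⊥ := by
    apply LinearMap.ker_ne_bot_of_finrank_lt
    rw [hdim, Module.finrank_self]
    norm_num
  obtain ⟨v₁, hv₁ker, hv₁0⟩ := Submodule.exists_mem_ne_zero_of_ne_bot hker
  have h01 : QuadraticMap.polar Qf v₀ (v₁ : ι → F) = 0 := hv₁ker
  have h10 : QuadraticMap.polar Qf (v₁ : ι → F) v₀ = 0 := by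
    rw [QuadraticMap.polar_comm]
    exact h01
  have hv₁0' : (v₁ : ι → F) ≠ 0 := fun h => hv₁0 (Subtype.ext h)
  have hQ0 := haniso v₀ hv₀ hv₀0
  have hQ1 := haniso v₁ v₁.2 hv₁0'
  have key : ∀ (u₀ u₁ : ι → F) (hu₀ : u₀ ∈ W) (hu₁ : u₁ ∈ W), QuadraticMap.polar Qf u₀ u₁ = 0 →
      Qf u₀ = 1 → Qf u₁ = 1 → ∃ c : Basis (Fin 2) F W,
        QuadraticMap.polar Qf (c 0 : ι → F) (c 1 : ι → F) = 0 ∧
        Qf (c 0 : ι → F) = 1 ∧ Qf (c 1 : ι → F) = 1 := by
    intro u₀ u₁ hu₀ hu₁ hp h0 h1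
    have hp' : QuadraticMap.polar Qf u₁ u₀ = 0 := by
      rw [QuadraticMap.polar_comm]
      exact hp
    have hli : LinearIndependent F ![(⟨u₀, hu₀⟩ : W), ⟨u₁, hu₁⟩] := by
      rw [LinearIndependent.pair_iff]
      intro s t hst
      have hst' : s • u₀ + t • u₁ = 0 := by
        have := congrArg Subtype.val hst
        simpa using this
      have e0 := congrArg (fun x => QuadraticMap.polar Qf u₀ x) hst'
      have e1 := congrArg (fun x => QuadraticMap.polar Qf u₁ x) hst'
      simp only [QuadraticMap.polar_add_right, QuadraticMap.polar_smul_right, QuadraticMap.polar_self,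
        h0, h1, hp, hp', QuadraticMap.polar_zero_right, smul_eq_mul, nsmul_eq_mul, Nat.cast_ofNat,
        mul_one, mul_zero, add_zero, zero_add] at e0 e1
      exact ⟨(mul_eq_zero.mp e0).resolve_right h2, (mul_eq_zero.mp e1).resolve_right h2⟩
    refine ⟨basisOfLinearIndependentOfCardEqFinrank hli (by simp [hdim]), ?_, ?_, ?_⟩
    · simpa [coe_basisOfLinearIndependentOfCardEqFinrank] using hp
    · simpa [coe_basisOfLinearIndependentOfCardEqFinrank] using h0
    · simpa [coe_basisOfLinearIndependentOfCardEqFinrank] using h1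
  have hsum : v₀ + (v₁ : ι → F) ≠ 0 := by
    intro h
    have e := congrArg (fun x => QuadraticMap.polar Qf v₀ x) h
    simp only [QuadraticMap.polar_add_right, QuadraticMap.polar_self, h01,
      QuadraticMap.polar_zero_right, nsmul_eq_mul, Nat.cast_ofNat, add_zero] at e
    exact hQ0 ((mul_eq_zero.mp e).resolve_left h2)
  rcases eq_one_or_neg_one_of_card_three hq hQ0 with h0 | h0 <;>
    rcases eq_one_or_neg_one_of_card_three hq hQ1 with h1 | h1
  · exact key v₀ v₁ hv₀ v₁.2 h01 h0 h1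
  · exfalso
    apply haniso (v₀ + v₁) (W.add_mem hv₀ v₁.2) hsum
    rw [QuadraticMap.map_add (⇑Qf), h0, h1, h01]
    ring
  · exfalso
    apply haniso (v₀ + v₁) (W.add_mem hv₀ v₁.2) hsum
    rw [QuadraticMap.map_add (⇑Qf), h0, h1, h01]
    ring
  · apply key (v₀ + v₁) (v₀ - v₁) (W.add_mem hv₀ v₁.2) (W.sub_mem hv₀ v₁.2)
    · rw [QuadraticMap.polar_add_left, QuadraticMap.polar_sub_right, QuadraticMap.polar_sub_right,
        h01, h10, QuadraticMap.polar_self, QuadraticMap.polar_self, h0, h1]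
      simp
    · rw [QuadraticMap.map_add (⇑Qf), h0, h1, h01]
      linear_combination -h3
    · rw [quad_sub, h0, h1, h01]
      linear_combination -h3

/-- A common orthonormal frame for an orthogonal decomposition into anisotropic planes over the field with
three elements. -/
theorem exists_frame_of_decomp2_aniso (hq : Fintype.card F = 3) (Qf : QuadraticForm F (ι → F)) {t : ℕ}
    (D : Fin t → Submodule F (ι → F)) (hD : IsOrthogonalMDecomposition ⇑Qf 2 D)
    (haniso : ∀ i, ∀ w ∈ D i, w ≠ 0 → Qf w ≠ 0) :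
    ∃ E : Basis ((_ : Fin t) × Fin 2) F (ι → F), (∀ i, blk E i = D i) ∧
      (∀ a a', a ≠ a' → QuadraticMap.polar Qf (E a) (E a') = 0) ∧ ∀ a, Qf (E a) = 1 := by
  choose c hc01 hc0 hc1 using fun i =>
    exists_frame2_aniso hq Qf (D i) (hD.decomp.decomp.finrank_eq i) (haniso i)
  refine ⟨decompBasisOf hD.decomp.decomp c, blk_decompBasisOf _ c, ?_, ?_⟩
  · rintro ⟨i, j⟩ ⟨i', j'⟩ hne
    rw [decompBasisOf_apply, decompBasisOf_apply]
    by_cases hii : i = i'
    · subst hii
      fin_cases j <;> fin_cases j'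
      · exact absurd rfl hne
      · exact hc01 i
      · rw [QuadraticMap.polar_comm]
        exact hc01 i
      · exact absurd rfl hne
    · exact hD.decomp.orthogonal i i' hii _ (c i j).2 _ (c i' j').2
  · rintro ⟨i, j⟩
    rw [decompBasisOf_apply]
    fin_cases j
    · exact hc0 i
    · exact hc1 i

/-- Over the field with three elements, the stabiliser in `Ω` of an orthogonal decomposition into at least
five anisotropic planes is not maximal. -/
theorem decomp2_aniso_not_maximal (hq : Fintype.card F = 3) (Qf : QuadraticForm F (ι → F)) {t : ℕ}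
    (ht : 5 ≤ t) (D : Fin t → Submodule F (ι → F)) (hD : IsOrthogonalMDecomposition ⇑Qf 2 D)
    (haniso : ∀ i, ∀ w ∈ D i, w ≠ 0 → Qf w ≠ 0) :
    ∃ K : Subgroup (GL ι F), decompositionStabilizer D ⊓ omegaGL ⇑Qf < K ∧ K < omegaGL ⇑Qf := by
  obtain ⟨E, hblk, horth, hnorm⟩ := exists_frame_of_decomp2_aniso hq Qf D hD haniso
  exact frame_not_maximal_three hq Qf ht (by omega) D E hblk horth one_ne_zero (j₀ := 0) (j₁ := 1)
    (by decide) hnorm

end FrameTwo

end Cfsg.Agent.Lib.helper95
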