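import Mathlib
import Cfsg.Prelude.Def_GeometricClasses
import Cfsg.Agent.Lib.helper95.GLBasic
import Cfsg.Agent.Lib.helper95.Blocks
import Cfsg.Agent.Lib.helper95.Ortho3
import Cfsg.Agent.Lib.helper95.OmegaTools

/-!
# Stabilisers of hyperbolic planes over the fields with two and three elements

Over these fields a hyperbolic plane `W = ⟨e, f⟩` has, up to sign, a unique vector `p = e + f` with `Q p = 1`,
so that the stabiliser of `W` in the isometry group stabilises the line `⟨p⟩`; it is therefore not maximal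
in `Ω`.
-/

set_option autoImplicit false

namespace Cfsg.Agent.Lib.helper95

open Cfsg Cfsg.Geo Matrix Module Cfsg.Agent.Lib.helper49

section General

variable {F : Type*} [Field F] {V : Type*} [AddCommGroup V] [Module F V]

theorem exists_ne_zero_orth [FiniteDimensional F V] (Q : QuadraticForm F V) {k : ℕ} (u : Fin k → V)
    (hk : k < Module.finrank F V) : ∃ z : V, z ≠ 0 ∧ ∀ i, QuadraticMap.polar Q z (u i) = 0 := by
  have hker : LinearMap.ker (LinearMap.pi (fun i => (QuadraticMap.polarBilin Q).flip (u i)) :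
      V →ₗ[F] (Fin k → F)) ≠ ⊥ := by
    apply LinearMap.ker_ne_bot_of_finrank_lt
    rw [Module.finrank_fin_fun]
    exact hk
  obtain ⟨z, hzker, hz0⟩ := Submodule.exists_mem_ne_zero_of_ne_bot hker
  refine ⟨z, hz0, fun i => ?_⟩
  have := congrFun (LinearMap.mem_ker.mp hzker) i
  exact this

theorem orth_family_cons (Q : QuadraticForm F V) {k : ℕ} (u : Fin k → V) (z : V) (hz : Q z ≠ 0)
    (hzu : ∀ i, QuadraticMap.polar Q z (u i) = 0) (hu : ∀ i, Q (u i) ≠ 0)
    (horth : ∀ i j, i ≠ j → QuadraticMap.polar Q (u i) (u j) = 0) :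
    (∀ i, Q ((Fin.cons z u : Fin (k + 1) → V) i) ≠ 0) ∧
      ∀ i j, i ≠ j → QuadraticMap.polar Q ((Fin.cons z u : Fin (k + 1) → V) i)
        ((Fin.cons z u : Fin (k + 1) → V) j) = 0 := by
  constructor
  · intro i
    refine Fin.cases ?_ (fun i => ?_) i
    · simpa using hz
    · simpa using hu i
  · intro i j
    refine Fin.cases ?_ (fun i => ?_) i <;> refine Fin.cases ?_ (fun j => ?_) j
    · intro h
      exact absurd rfl h
    · intro _
      simpa using hzu j
    · intro _
      rw [Fin.cons_succ, Fin.cons_zero, QuadraticMap.polar_comm]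
      exact hzu i
    · intro h
      simpa using horth i j (fun h' => h (by rw [h']))

end General

section Plane

variable {F : Type*} [Field F] {ι : Type} [Fintype ι] [DecidableEq ι]

theorem mem_subspaceStabilizer_span_singleton (g : GL ι F) (p : ι → F) (c : F) (hc : c ≠ 0)
    (h : (g : Matrix ι ι F) *ᵥ p = c • p) : g ∈ subspaceStabilizer (Submodule.span F {p}) := by
  rw [mem_subspaceStabilizer_iff]
  intro v
  constructor
  · intro hv
    obtain ⟨a, rfl⟩ := Submodule.mem_span_singleton.mp hv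
    rw [Matrix.mulVec_smul, h]
    exact Submodule.smul_mem _ _ (Submodule.smul_mem _ _ (Submodule.mem_span_singleton_self p))
  · intro hv
    obtain ⟨a, ha⟩ := Submodule.mem_span_singleton.mp hv
    have : (g : Matrix ι ι F) *ᵥ ((a * c⁻¹) • p) = (g : Matrix ι ι F) *ᵥ v := by
      rw [Matrix.mulVec_smul, h, smul_smul, mul_assoc, inv_mul_cancel₀ hc, mul_one, ha]
    rw [← gl_mulVec_injective g this]
    exact Submodule.smul_mem _ _ (Submodule.mem_span_singleton_self p)

omit [DecidableEq ι] in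
/-- A non-degenerate plane containing a singular line has a hyperbolic basis. -/
theorem exists_hyp_basis (Qf : QuadraticForm F (ι → F)) (W : Submodule F (ι → F))
    (hdim : Module.finrank F W = 2) (hW : IsNondegenerateOn (QuadraticMap.polar ⇑Qf) W)
    (hplus : IsPlusTypeOn ⇑Qf W) :
    ∃ c : Basis (Fin 2) F W, Qf (c 0 : ι → F) = 0 ∧ Qf (c 1 : ι → F) = 0 ∧
      QuadraticMap.polar Qf (c 0 : ι → F) (c 1 : ι → F) = 1 := by
  obtain ⟨U, hUW, hUs, hUd⟩ := hplus
  have hU1 : Module.finrank F U = 1 := by omega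
  have hUne : U ≠ ⊥ := by
    rintro rfl
    simp at hU1
  obtain ⟨e, heU, he0⟩ := Submodule.exists_mem_ne_zero_of_ne_bot hUne
  have heW := hUW heU
  have hQe : Qf e = 0 := hUs e heU
  obtain ⟨⟨x, hxW, hxe⟩, -⟩ := hW e heW he0
  obtain ⟨x', hx'⟩ : ∃ x' : ι → F, x' = (QuadraticMap.polar Qf x e)⁻¹ • x := ⟨_, rfl⟩
  have hx'e : QuadraticMap.polar Qf x' e = 1 := by
    rw [hx', QuadraticMap.polar_smul_left, smul_eq_mul, inv_mul_cancel₀ hxe]
  have hx'W : x' ∈ W := by
    rw [hx']
    exact W.smul_mem _ hxW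
  obtain ⟨f, hf⟩ : ∃ f : ι → F, f = x' - Qf x' • e := ⟨_, rfl⟩
  have hfW : f ∈ W := by
    rw [hf]
    exact W.sub_mem hx'W (W.smul_mem _ heW)
  have hee : QuadraticMap.polar Qf e e = 0 := by
    rw [QuadraticMap.polar_self, hQe, smul_zero]
  have hfe : QuadraticMap.polar Qf f e = 1 := by
    rw [hf, QuadraticMap.polar_sub_left, QuadraticMap.polar_smul_left, hee, hx'e]
    simp
  have hQf : Qf f = 0 := by
    rw [hf, quad_sub, QuadraticMap.map_smul, hQe, QuadraticMap.polar_smul_right, hx'e]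
    simp
  have hef : QuadraticMap.polar Qf e f = 1 := by
    rw [QuadraticMap.polar_comm]
    exact hfe
  have hff : QuadraticMap.polar Qf f f = 0 := by
    rw [QuadraticMap.polar_self, hQf, smul_zero]
  have hli : LinearIndependent F ![(⟨e, heW⟩ : W), ⟨f, hfW⟩] := by
    rw [LinearIndependent.pair_iff]
    intro s t hst
    have hst' : s • e + t • f = 0 := by
      have := congrArg Subtype.val hst
      simpa using this
    have e0 := congrArg (fun y => QuadraticMap.polar Qf e y) hst'
    have e1 := congrArg (fun y => QuadraticMap.polar Qf f y) hst'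
    simp only [QuadraticMap.polar_add_right, QuadraticMap.polar_smul_right, hee, hff, hef, hfe,
      QuadraticMap.polar_zero_right, smul_eq_mul, mul_one, mul_zero, add_zero, zero_add] at e0 e1
    exact ⟨e1, e0⟩
  refine ⟨basisOfLinearIndependentOfCardEqFinrank hli (by simp [hdim]), ?_, ?_, ?_⟩
  · simpa [coe_basisOfLinearIndependentOfCardEqFinrank] using hQe
  · simpa [coe_basisOfLinearIndependentOfCardEqFinrank] using hQf
  · simpa [coe_basisOfLinearIndependentOfCardEqFinrank] using hef

theorem eq_neg_of_ne_of_card_three [Fintype F] (hq : Fintype.card F = 3) {s t : F} (hs : s ≠ 0)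
    (ht : t ≠ 0) (hst : s ≠ t) : t = -s := by
  rcases eq_one_or_neg_one_of_card_three hq hs with h | h <;>
    rcases eq_one_or_neg_one_of_card_three hq ht with h' | h'
  · exact absurd (h.trans h'.symm) hst
  · rw [h, h']
  · rw [h, h', neg_neg]
  · exact absurd (h.trans h'.symm) hst

omit [DecidableEq ι] in
/-- Over the field with three elements: two orthogonal vectors of norms `-1` and `1`, orthogonal to a given
family of pairwise orthogonal non-singular vectors. -/
theorem exists_orth_pm [Fintype F] (hq : Fintype.card F = 3) (Qf : QuadraticForm F (ι → F))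
    (hnd : ∀ z : ι → F, z ≠ 0 → ∃ y, QuadraticMap.polar Qf y z ≠ 0) {k : ℕ} (u : Fin k → ι → F)
    (hk : k + 3 ≤ Fintype.card ι) (hu : ∀ i, Qf (u i) ≠ 0)
    (horth : ∀ i j, i ≠ j → QuadraticMap.polar Qf (u i) (u j) = 0) :
    ∃ z z' : ι → F, Qf z = -1 ∧ Qf z' = 1 ∧ QuadraticMap.polar Qf z z' = 0 ∧
      (∀ i, QuadraticMap.polar Qf z (u i) = 0) ∧ (∀ i, QuadraticMap.polar Qf z' (u i) = 0) := by
  have h3 := three_eq_zero_of_card_three hq
  have h2 := two_ne_zero_of_card_three hq
  have hfr : Module.finrank F (ι → F) = Fintype.card ι := Module.finrank_fintype_fun_eq_card F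
  obtain ⟨z₁, hz₁, hz₁u⟩ := exists_nonsing_orth h2 Qf hnd u (by rw [hfr]; omega) hu horth
  obtain ⟨hu1, horth1⟩ := orth_family_cons Qf u z₁ hz₁ hz₁u hu horth
  obtain ⟨z₂, hz₂, hz₂u⟩ := exists_nonsing_orth h2 Qf hnd (Fin.cons z₁ u : Fin (k + 1) → ι → F)
    (by rw [hfr]; omega) hu1 horth1
  obtain ⟨hu2, horth2⟩ := orth_family_cons Qf (Fin.cons z₁ u : Fin (k + 1) → ι → F) z₂ hz₂ hz₂u hu1
    horth1
  obtain ⟨z₃, hz₃, hz₃u⟩ := exists_nonsing_orth h2 Qf hnd
    (Fin.cons z₂ (Fin.cons z₁ u : Fin (k + 1) → ι → F) : Fin (k + 1 + 1) → ι → F)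
    (by rw [hfr]; omega) hu2 horth2
  have h21 : QuadraticMap.polar Qf z₂ z₁ = 0 := by simpa using hz₂u 0
  have h2u : ∀ i, QuadraticMap.polar Qf z₂ (u i) = 0 := fun i => by simpa using hz₂u i.succ
  have h32 : QuadraticMap.polar Qf z₃ z₂ = 0 := by simpa using hz₃u 0
  have h31 : QuadraticMap.polar Qf z₃ z₁ = 0 := by simpa using hz₃u (Fin.succ 0)
  have h3u : ∀ i, QuadraticMap.polar Qf z₃ (u i) = 0 := fun i => by simpa using hz₃u i.succ.succ
  have key : ∃ a b : ι → F, Qf a ≠ 0 ∧ Qf b = -Qf a ∧ QuadraticMap.polar Qf a b = 0 ∧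
      (∀ i, QuadraticMap.polar Qf a (u i) = 0) ∧ (∀ i, QuadraticMap.polar Qf b (u i) = 0) := by
    by_cases h12 : Qf z₁ = Qf z₂
    · by_cases h13 : Qf z₃ = Qf z₁
      · refine ⟨z₃, z₁ + z₂, hz₃, ?_, ?_, h3u, ?_⟩
        · rw [QuadraticMap.map_add (⇑Qf), ← h12, h13, QuadraticMap.polar_comm, h21]
          linear_combination (Qf z₁) * h3
        · rw [QuadraticMap.polar_add_right, h31, h32, add_zero]
        · intro i
          rw [QuadraticMap.polar_add_left, hz₁u, h2u, add_zero]
      · refine ⟨z₁, z₃, hz₁, ?_, ?_, hz₁u, h3u⟩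
        · exact eq_neg_of_ne_of_card_three hq hz₁ hz₃ (fun h => h13 h.symm)
        · rw [QuadraticMap.polar_comm]
          exact h31
    · refine ⟨z₁, z₂, hz₁, ?_, ?_, hz₁u, h2u⟩
      · exact eq_neg_of_ne_of_card_three hq hz₁ hz₂ h12
      · rw [QuadraticMap.polar_comm]
        exact h21
  obtain ⟨a, b, ha, hb, hab, hau, hbu⟩ := key
  rcases eq_one_or_neg_one_of_card_three hq ha with h | h
  · refine ⟨b, a, by rw [hb, h], h, ?_, hbu, hau⟩
    rw [QuadraticMap.polar_comm]
    exact hab
  · exact ⟨a, b, h, by rw [hb, h, neg_neg], hab, hau, hbu⟩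

/-- Over the field with three elements, the stabiliser in `Ω` of a hyperbolic plane is not maximal. -/
theorem plus_plane_not_maximal_three [Fintype F] (hq : Fintype.card F = 3)
    (Qf : QuadraticForm F (ι → F))
    (hnd : ∀ z : ι → F, z ≠ 0 → ∃ y, QuadraticMap.polar Qf y z ≠ 0) (hcard : 5 ≤ Fintype.card ι)
    (W : Submodule F (ι → F)) (hdim : Module.finrank F W = 2)
    (hW : IsNondegenerateOn (QuadraticMap.polar ⇑Qf) W) (hplus : IsPlusTypeOn ⇑Qf W) :
    ∃ K : Subgroup (GL ι F), subspaceStabilizer W ⊓ omegaGL ⇑Qf < K ∧ K < omegaGL ⇑Qf := by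
  have h3 := three_eq_zero_of_card_three hq
  have h2 := two_ne_zero_of_card_three hq
  obtain ⟨c, he, hf, hef⟩ := exists_hyp_basis Qf W hdim hW hplus
  obtain ⟨e, he_def⟩ : ∃ e : ι → F, e = (c 0 : ι → F) := ⟨_, rfl⟩
  obtain ⟨f, hf_def⟩ : ∃ f : ι → F, f = (c 1 : ι → F) := ⟨_, rfl⟩
  rw [← he_def] at he hef
  rw [← hf_def] at hf hef
  have heW : e ∈ W := by
    rw [he_def]
    exact (c 0).2
  have hfW : f ∈ W := by
    rw [hf_def]
    exact (c 1).2
  have hfe : QuadraticMap.polar Qf f e = 1 := by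
    rw [QuadraticMap.polar_comm]
    exact hef
  have hee : QuadraticMap.polar Qf e e = 0 := by
    rw [QuadraticMap.polar_self, he, smul_zero]
  have hff : QuadraticMap.polar Qf f f = 0 := by
    rw [QuadraticMap.polar_self, hf, smul_zero]
  have hQp : Qf (e + f) = 1 := by
    rw [QuadraticMap.map_add (⇑Qf), he, hf, hef]
    ring
  have hQp' : Qf (e - f) = -1 := by
    rw [quad_sub, he, hf, hef]
    ring
  have hpp' : QuadraticMap.polar Qf (e + f) (e - f) = 0 := by
    rw [QuadraticMap.polar_add_left, QuadraticMap.polar_sub_right, QuadraticMap.polar_sub_right, hee,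
      hef, hfe, hff]
    ring
  have hp'p : QuadraticMap.polar Qf (e - f) (e + f) = 0 := by
    rw [QuadraticMap.polar_comm]
    exact hpp'
  have hpW : e + f ∈ W := W.add_mem heW hfW
  have hp'W : e - f ∈ W := W.sub_mem heW hfW
  have hWdesc : ∀ w ∈ W, ∃ a b : F, w = a • e + b • f := by
    intro w hw
    refine ⟨c.repr ⟨w, hw⟩ 0, c.repr ⟨w, hw⟩ 1, ?_⟩
    have hsum := c.sum_repr ⟨w, hw⟩
    rw [Fin.sum_univ_two] at hsum
    have := congrArg Subtype.val hsum
    rw [he_def, hf_def]
    simpa using this.symm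
  have hone : ∀ w ∈ W, Qf w = 1 → w = e + f ∨ w = -(e + f) := by
    intro w hw hQw
    obtain ⟨a, b, rfl⟩ := hWdesc w hw
    have hab : a * b = 1 := by
      rw [QuadraticMap.map_add (⇑Qf), QuadraticMap.map_smul, QuadraticMap.map_smul, he, hf,
        QuadraticMap.polar_smul_left, QuadraticMap.polar_smul_right, hef] at hQw
      simpa using hQw
    have ha : a ≠ 0 := left_ne_zero_of_mul_eq_one hab
    rcases eq_one_or_neg_one_of_card_three hq ha with rfl | rfl
    · left
      have hb : b = 1 := by simpa using hab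
      rw [hb]
      simp
    · right
      have hb : b = -1 := by linear_combination -hab
      rw [hb]
      simp
      abel
  -- the two extra vectors
  have hu : ∀ i, Qf ((![e + f, e - f] : Fin 2 → ι → F) i) ≠ 0 := by
    intro i
    fin_cases i
    · simp [hQp]
    · simp [hQp']
  have horth : ∀ i j, i ≠ j → QuadraticMap.polar Qf ((![e + f, e - f] : Fin 2 → ι → F) i)
      ((![e + f, e - f] : Fin 2 → ι → F) j) = 0 := by
    intro i j hij
    fin_cases i <;> fin_cases j
    · exact absurd rfl hij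
    · simpa using hpp'
    · simpa using hp'p
    · exact absurd rfl hij
  obtain ⟨z, z', hQz, hQz', hzz', hzu, hz'u⟩ := exists_orth_pm hq Qf hnd
    (![e + f, e - f] : Fin 2 → ι → F) (by omega) hu horth
  have hzp : QuadraticMap.polar Qf z (e + f) = 0 := by simpa using hzu 0
  have hzp' : QuadraticMap.polar Qf z (e - f) = 0 := by simpa using hzu 1
  have hz'p : QuadraticMap.polar Qf z' (e + f) = 0 := by simpa using hz'u 0
  have hz'p' : QuadraticMap.polar Qf z' (e - f) = 0 := by simpa using hz'u 1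
  have hpz : QuadraticMap.polar Qf (e + f) z = 0 := by
    rw [QuadraticMap.polar_comm]
    exact hzp
  have hp'z : QuadraticMap.polar Qf (e - f) z = 0 := by
    rw [QuadraticMap.polar_comm]
    exact hzp'
  have hpz' : QuadraticMap.polar Qf (e + f) z' = 0 := by
    rw [QuadraticMap.polar_comm]
    exact hz'p
  have hp'z' : QuadraticMap.polar Qf (e - f) z' = 0 := by
    rw [QuadraticMap.polar_comm]
    exact hz'p'
  have hz'z : QuadraticMap.polar Qf z' z = 0 := by
    rw [QuadraticMap.polar_comm]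
    exact hzz'
  -- `z` is orthogonal to `W`
  have hze : QuadraticMap.polar Qf e z = 0 := by
    have h1 : QuadraticMap.polar Qf (e + f) z + QuadraticMap.polar Qf (e - f) z =
        2 * QuadraticMap.polar Qf e z := by
      rw [QuadraticMap.polar_add_left, QuadraticMap.polar_sub_left]
      ring
    rw [hpz, hp'z, add_zero] at h1
    exact (mul_eq_zero.mp h1.symm).resolve_left h2
  have hzf : QuadraticMap.polar Qf f z = 0 := by
    have h1 : QuadraticMap.polar Qf (e + f) z = QuadraticMap.polar Qf e z + QuadraticMap.polar Qf f z :=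
      QuadraticMap.polar_add_left _ _ _ _
    rw [hpz, hze, zero_add] at h1
    exact h1.symm
  have hzW : z ∉ W := by
    intro hzW
    have hz0 : z ≠ 0 := by
      rintro rfl
      rw [map_zero] at hQz
      exact one_ne_zero (neg_eq_zero.mp hQz.symm)
    obtain ⟨⟨x, hxW, hxz⟩, -⟩ := hW z hzW hz0
    obtain ⟨a, b, rfl⟩ := hWdesc x hxW
    apply hxz
    rw [QuadraticMap.polar_add_left, QuadraticMap.polar_smul_left, QuadraticMap.polar_smul_left, hze,
      hzf]
    simp
  -- the witnesses
  have hu0 : Qf ((e - f) - z) = 1 := by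
    rw [quad_sub, hQp', hQz, hp'z]
    linear_combination -h3
  have hw0 : Qf ((e + f) - z') = -1 := by
    rw [quad_sub, hQp, hQz', hpz']
    linear_combination h3
  have hu0' : Qf ((e - f) - z) ≠ 0 := by
    rw [hu0]
    exact one_ne_zero
  have hw0' : Qf ((e + f) - z') ≠ 0 := by
    rw [hw0]
    exact neg_ne_zero.mpr one_ne_zero
  have hz0' : Qf z ≠ 0 := by
    rw [hQz]
    exact neg_ne_zero.mpr one_ne_zero
  have hz'0 : Qf z' ≠ 0 := by
    rw [hQz']
    exact one_ne_zero
  refine not_maximal_of_subgroup (subspaceStabilizer W) (omegaGL ⇑Qf)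
    (subspaceStabilizer (Submodule.span F {e + f})) ?_
    (refl2 Qf ((e - f) - z) z' hu0' hz'0) ?_ ?_ ?_ (refl2 Qf ((e + f) - z') z hw0' hz0') ?_ ?_
  · intro g hg
    have h1 : (g : Matrix ι ι F) *ᵥ (e + f) ∈ W := ((mem_subspaceStabilizer_iff W g).mp hg.1 _).mp hpW
    have h2' : Qf ((g : Matrix ι ι F) *ᵥ (e + f)) = 1 := by
      rw [isometry_of_mem_omegaGL hg.2, hQp]
    rcases hone _ h1 h2' with h | h
    · exact mem_subspaceStabilizer_span_singleton g _ 1 one_ne_zero (by rw [h, one_smul])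
    · exact mem_subspaceStabilizer_span_singleton g _ (-1) (neg_ne_zero.mpr one_ne_zero)
        (by rw [h, neg_smul, one_smul])
  · apply refl2_mem_omegaGL_of_orth h2 Qf _ _ hu0' hz'0
    · rw [hu0, hQz']
    · rw [QuadraticMap.polar_sub_left, hp'z', hzz', sub_zero]
  · apply mem_subspaceStabilizer_span_singleton _ _ 1 one_ne_zero
    rw [refl2_mulVec, refl_mulVec_of_orth Qf z' (e + f) hz'p, refl_mulVec_of_orth Qf _ (e + f)
      (by rw [QuadraticMap.polar_sub_left, hp'p, hzp, sub_zero]), one_smul]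
  · intro hmem
    have := ((mem_subspaceStabilizer_iff W _).mp hmem (e - f)).mp hp'W
    rw [refl2_mulVec, refl_mulVec_of_orth Qf z' (e - f) hz'p',
      refl_sub_mulVec Qf (e - f) z (by rw [hQz, hQp']) hu0'] at this
    exact hzW this
  · apply refl2_mem_omegaGL_of_orth h2 Qf _ _ hw0' hz0'
    · rw [hw0, hQz]
    · rw [QuadraticMap.polar_sub_left, hpz, hz'z, sub_zero]
  · intro hmem
    have := ((mem_subspaceStabilizer_iff _ _).mp hmem (e + f)).mp (Submodule.mem_span_singleton_self _)
    rw [refl2_mulVec, refl_mulVec_of_orth Qf z (e + f) hzp,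
      refl_sub_mulVec Qf (e + f) z' (by rw [hQz', hQp]) hw0'] at this
    obtain ⟨a, ha⟩ := Submodule.mem_span_singleton.mp this
    have hpol : QuadraticMap.polar Qf z' (e + f) = a * 2 := by
      rw [← ha, QuadraticMap.polar_smul_left, QuadraticMap.polar_self, hQp]
      simp
    rw [hz'p] at hpol
    have ha0 : a = 0 := (mul_eq_zero.mp hpol.symm).resolve_right h2
    rw [ha0, zero_smul] at ha
    rw [← ha, map_zero] at hQz'
    exact zero_ne_one hQz'

end Plane

section PlaneTwo

variable {F : Type*} [Field F] [Fintype F] {ι : Type} [Fintype ι] [DecidableEq ι]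

/-- Over the field with two elements, the stabiliser in `Ω` of a hyperbolic plane is not maximal. -/
theorem plus_plane_not_maximal_two (hq : Fintype.card F = 2) (Qf : QuadraticForm F (ι → F))
    (hnd : ∀ z : ι → F, z ≠ 0 → ∃ y, QuadraticMap.polar Qf y z ≠ 0) (hcard : 5 ≤ Fintype.card ι)
    (W : Submodule F (ι → F)) (hdim : Module.finrank F W = 2)
    (hW : IsNondegenerateOn (QuadraticMap.polar ⇑Qf) W) (hplus : IsPlusTypeOn ⇑Qf W) :
    ∃ K : Subgroup (GL ι F), subspaceStabilizer W ⊓ omegaGL ⇑Qf < K ∧ K < omegaGL ⇑Qf := by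
  have c2 := two_eq_zero_of_card_two hq
  have h11 : (1 : F) + 1 = 0 := by linear_combination c2
  have hone' : ∀ a : F, a ≠ 0 → a = 1 := fun a ha => (eq_zero_or_one_of_card_two hq a).resolve_left ha
  have hself : ∀ x : ι → F, QuadraticMap.polar Qf x x = 0 := by
    intro x
    rw [QuadraticMap.polar_self, two_smul, ← two_mul, c2, zero_mul]
  obtain ⟨c, he, hf, hef⟩ := exists_hyp_basis Qf W hdim hW hplus
  obtain ⟨e, he_def⟩ : ∃ e : ι → F, e = (c 0 : ι → F) := ⟨_, rfl⟩
  obtain ⟨f, hf_def⟩ : ∃ f : ι → F, f = (c 1 : ι → F) := ⟨_, rfl⟩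
  rw [← he_def] at he hef
  rw [← hf_def] at hf hef
  have heW : e ∈ W := by
    rw [he_def]
    exact (c 0).2
  have hfW : f ∈ W := by
    rw [hf_def]
    exact (c 1).2
  have hfe : QuadraticMap.polar Qf f e = 1 := by
    rw [QuadraticMap.polar_comm]
    exact hef
  have hQp : Qf (e + f) = 1 := by
    rw [QuadraticMap.map_add (⇑Qf), he, hf, hef]
    ring
  have hpW : e + f ∈ W := W.add_mem heW hfW
  have hWdesc : ∀ w ∈ W, ∃ a b : F, w = a • e + b • f := by
    intro w hw
    refine ⟨c.repr ⟨w, hw⟩ 0, c.repr ⟨w, hw⟩ 1, ?_⟩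
    have hsum := c.sum_repr ⟨w, hw⟩
    rw [Fin.sum_univ_two] at hsum
    have := congrArg Subtype.val hsum
    rw [he_def, hf_def]
    simpa using this.symm
  have hone : ∀ w ∈ W, Qf w = 1 → w = e + f := by
    intro w hw hQw
    obtain ⟨a, b, rfl⟩ := hWdesc w hw
    have hab : a * b = 1 := by
      rw [QuadraticMap.map_add (⇑Qf), QuadraticMap.map_smul, QuadraticMap.map_smul, he, hf,
        QuadraticMap.polar_smul_left, QuadraticMap.polar_smul_right, hef] at hQw
      simpa using hQw
    rw [hone' a (left_ne_zero_of_mul_eq_one hab), hone' b (right_ne_zero_of_mul_eq_one hab), one_smul,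
      one_smul]
  have hfr : Module.finrank F (ι → F) = Fintype.card ι := Module.finrank_fintype_fun_eq_card F
  -- the projection onto the orthogonal complement of `W`
  have hproj : ∀ x : ι → F, ∃ x' : ι → F, QuadraticMap.polar Qf x' e = 0 ∧
      QuadraticMap.polar Qf x' f = 0 ∧ ∀ a : ι → F, QuadraticMap.polar Qf a e = 0 →
        QuadraticMap.polar Qf a f = 0 → QuadraticMap.polar Qf x' a = QuadraticMap.polar Qf x a := by
    intro x
    refine ⟨x + QuadraticMap.polar Qf x f • e + QuadraticMap.polar Qf x e • f, ?_, ?_, ?_⟩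
    · rw [QuadraticMap.polar_add_left, QuadraticMap.polar_add_left, QuadraticMap.polar_smul_left,
        QuadraticMap.polar_smul_left, hself e, hfe]
      simp only [smul_eq_mul, mul_zero, mul_one, add_zero]
      linear_combination (QuadraticMap.polar Qf x e) * c2
    · rw [QuadraticMap.polar_add_left, QuadraticMap.polar_add_left, QuadraticMap.polar_smul_left,
        QuadraticMap.polar_smul_left, hef, hself f]
      simp only [smul_eq_mul, mul_zero, mul_one, add_zero]
      linear_combination (QuadraticMap.polar Qf x f) * c2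
    · intro a hae haf
      rw [QuadraticMap.polar_add_left, QuadraticMap.polar_add_left, QuadraticMap.polar_smul_left,
        QuadraticMap.polar_smul_left, QuadraticMap.polar_comm (⇑Qf) e a,
        QuadraticMap.polar_comm (⇑Qf) f a, hae, haf]
      simp
  obtain ⟨a, ha0, hau⟩ := exists_ne_zero_orth Qf (![e, f] : Fin 2 → ι → F) (by rw [hfr]; omega)
  have hae : QuadraticMap.polar Qf a e = 0 := by simpa using hau 0
  have haf : QuadraticMap.polar Qf a f = 0 := by simpa using hau 1
  obtain ⟨y₀, hy₀⟩ := hnd a ha0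
  obtain ⟨b, hbe, hbf, hbp⟩ := hproj y₀
  have hba : QuadraticMap.polar Qf b a = 1 := by
    rw [hbp a hae haf]
    exact hone' _ hy₀
  obtain ⟨d, hd0, hdu⟩ := exists_ne_zero_orth Qf (![e, f, a, b] : Fin 4 → ι → F)
    (by rw [hfr]; omega)
  have hde : QuadraticMap.polar Qf d e = 0 := by simpa using hdu 0
  have hdf : QuadraticMap.polar Qf d f = 0 := by simpa using hdu 1
  have hda : QuadraticMap.polar Qf d a = 0 := by simpa using hdu 2
  have hdb : QuadraticMap.polar Qf d b = 0 := by simpa using hdu 3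
  -- a non-zero singular vector orthogonal to `W`
  have hs : ∃ s : ι → F, s ≠ 0 ∧ Qf s = 0 ∧ QuadraticMap.polar Qf s e = 0 ∧
      QuadraticMap.polar Qf s f = 0 := by
    by_cases hQa : Qf a = 0
    · exact ⟨a, ha0, hQa, hae, haf⟩
    by_cases hQb : Qf b = 0
    · refine ⟨b, ?_, hQb, hbe, hbf⟩
      rintro rfl
      rw [QuadraticMap.polar_zero_left] at hba
      exact zero_ne_one hba
    by_cases hQd : Qf d = 0
    · exact ⟨d, hd0, hQd, hde, hdf⟩
    refine ⟨a + d, ?_, ?_, ?_, ?_⟩
    · intro h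
      have h1 : QuadraticMap.polar Qf (a + d) b = 1 := by
        rw [QuadraticMap.polar_add_left, QuadraticMap.polar_comm (⇑Qf) a b, hba, hdb, add_zero]
      rw [h, QuadraticMap.polar_zero_left] at h1
      exact zero_ne_one h1
    · rw [QuadraticMap.map_add (⇑Qf), hone' _ hQa, hone' _ hQd, QuadraticMap.polar_comm, hda]
      linear_combination c2
    · rw [QuadraticMap.polar_add_left, hae, hde, add_zero]
    · rw [QuadraticMap.polar_add_left, haf, hdf, add_zero]
  obtain ⟨s, hs0, hQs, hse, hsf⟩ := hs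
  obtain ⟨y₁, hy₁⟩ := hnd s hs0
  obtain ⟨y₂, hy₂e, hy₂f, hy₂p⟩ := hproj y₁
  have hy₂s : QuadraticMap.polar Qf y₂ s = 1 := by
    rw [hy₂p s hse hsf]
    exact hone' _ hy₁
  have hy : ∃ y : ι → F, Qf y = 1 ∧ QuadraticMap.polar Qf y s = 1 ∧ QuadraticMap.polar Qf y e = 0 ∧
      QuadraticMap.polar Qf y f = 0 := by
    by_cases hQy : Qf y₂ = 0
    · refine ⟨y₂ + s, ?_, ?_, ?_, ?_⟩
      · rw [QuadraticMap.map_add (⇑Qf), hQy, hQs, hy₂s]
        ring
      · rw [QuadraticMap.polar_add_left, hy₂s, hself s, add_zero]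
      · rw [QuadraticMap.polar_add_left, hy₂e, hse, add_zero]
      · rw [QuadraticMap.polar_add_left, hy₂f, hsf, add_zero]
    · exact ⟨y₂, hone' _ hQy, hy₂s, hy₂e, hy₂f⟩
  obtain ⟨y, hQy, hys, hye, hyf⟩ := hy
  have hsW : s ∉ W := by
    intro hsW
    obtain ⟨⟨x, hxW, hxs⟩, -⟩ := hW s hsW hs0
    obtain ⟨a', b', rfl⟩ := hWdesc x hxW
    apply hxs
    rw [QuadraticMap.polar_add_left, QuadraticMap.polar_smul_left, QuadraticMap.polar_smul_left,
      QuadraticMap.polar_comm (⇑Qf) e s, QuadraticMap.polar_comm (⇑Qf) f s, hse, hsf]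
    simp
  have hsp : QuadraticMap.polar Qf s (e + f) = 0 := by
    rw [QuadraticMap.polar_add_right, hse, hsf, add_zero]
  have hyp : QuadraticMap.polar Qf y (e + f) = 0 := by
    rw [QuadraticMap.polar_add_right, hye, hyf, add_zero]
  have hpe : QuadraticMap.polar Qf (e + f) e = 1 := by
    rw [QuadraticMap.polar_add_left, hself e, hfe, zero_add]
  have hep : QuadraticMap.polar Qf e (e + f) = 1 := by
    rw [QuadraticMap.polar_comm]
    exact hpe
  have hpp : QuadraticMap.polar Qf (e + f) (e + f) = 0 := hself _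
  have hQu : Qf ((e + f) + s) = 1 := by
    rw [QuadraticMap.map_add (⇑Qf), hQp, hQs, QuadraticMap.polar_comm, hsp]
    ring
  have hQw : Qf (e + y) = 1 := by
    rw [QuadraticMap.map_add (⇑Qf), he, hQy, QuadraticMap.polar_comm, hye]
    ring
  have hu0 : Qf ((e + f) + s) ≠ 0 := by
    rw [hQu]
    exact one_ne_zero
  have hy0 : Qf y ≠ 0 := by
    rw [hQy]
    exact one_ne_zero
  have hw0 : Qf (e + y) ≠ 0 := by
    rw [hQw]
    exact one_ne_zero
  have hp0 : Qf (e + f) ≠ 0 := by
    rw [hQp]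
    exact one_ne_zero
  refine not_maximal_of_subgroup (subspaceStabilizer W) (omegaGL ⇑Qf)
    (subspaceStabilizer (Submodule.span F {e + f})) ?_
    (refl2 Qf ((e + f) + s) y hu0 hy0) ?_ ?_ ?_ (refl2 Qf (e + y) (e + f) hw0 hp0) ?_ ?_
  · intro g hg
    have h1 : (g : Matrix ι ι F) *ᵥ (e + f) ∈ W := ((mem_subspaceStabilizer_iff W g).mp hg.1 _).mp hpW
    have h2' : Qf ((g : Matrix ι ι F) *ᵥ (e + f)) = 1 := by
      rw [isometry_of_mem_omegaGL hg.2, hQp]
    exact mem_subspaceStabilizer_span_singleton g _ 1 one_ne_zero (by rw [hone _ h1 h2', one_smul])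
  · apply refl2_mem_omegaGL Qf _ _ hu0 hy0 (by rw [hQy, hQu])
    rw [quad_sub, hQu, hQy, QuadraticMap.polar_add_left, QuadraticMap.polar_comm (⇑Qf) (e + f) y, hyp,
      QuadraticMap.polar_comm (⇑Qf) s y, hys]
    norm_num
  · apply mem_subspaceStabilizer_span_singleton _ _ 1 one_ne_zero
    rw [refl2_mulVec, refl_mulVec_of_orth Qf y (e + f) hyp, refl_mulVec_of_orth Qf _ (e + f)
      (by rw [QuadraticMap.polar_add_left, hpp, hsp, add_zero]), one_smul]
  · intro hmem
    have := ((mem_subspaceStabilizer_iff W _).mp hmem e).mp heW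
    rw [refl2_mulVec, refl_mulVec_of_orth Qf y e hye, refl_mulVec, hQu, QuadraticMap.polar_add_left,
      hpe, hse] at this
    apply hsW
    have h2 := W.sub_mem (W.sub_mem heW this) hpW
    convert h2 using 1
    simp
  · apply refl2_mem_omegaGL Qf _ _ hw0 hp0 (by rw [hQp, hQw])
    rw [quad_sub, hQw, hQp, QuadraticMap.polar_add_left, hep, hyp]
    norm_num
  · intro hmem
    have := ((mem_subspaceStabilizer_iff _ _).mp hmem (e + f)).mp (Submodule.mem_span_singleton_self _)
    rw [refl2_mulVec, refl_mulVec_of_orth Qf (e + f) (e + f) hpp, refl_mulVec, hQw,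
      QuadraticMap.polar_add_left, hep, hyp] at this
    obtain ⟨a', ha'⟩ := Submodule.mem_span_singleton.mp this
    have h := congrArg (fun v => QuadraticMap.polar Qf v (e + f)) ha'
    simp only [QuadraticMap.polar_smul_left, QuadraticMap.polar_sub_left, QuadraticMap.polar_add_left,
      hself, hfe, hef, hye, hyf, QuadraticMap.polar_add_right, smul_eq_mul] at h
    have h' : a' * 2 = 1 := by
      have e1 : ((1 : F))⁻¹ = 1 := inv_one
      rw [e1] at h
      linear_combination h
    rw [c2, mul_zero] at h'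
    exact zero_ne_one h'

end PlaneTwo

end Cfsg.Agent.Lib.helper95
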