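import Cfsg.Agent.Lib.helper81.WTDefs

/-!
# S4414 piece CNT2: a `Q`-invariant set of characters on which `Q` (of prime order `q`) acts freely
has size divisible by `q`.
-/

set_option autoImplicit false

namespace Cfsg.Agent.Lib.helper81.WT

open scoped TensorProduct

universe u v w

/-- the action of `↥Q` on a `Q`-invariant set of characters. -/
noncomputable def helper95_actOn {S : Type u} [Group S] {F : Type w} [Field F]
    (Y : Subgroup S) [Y.Normal] (Q : Subgroup S)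
    (Θ : Set (↥Y →* Fˣ)) (hΘ : ∀ x ∈ Q, ∀ μ ∈ Θ, cj Y x μ ∈ Θ) : MulAction ↥Q ↥Θ where
  smul x μ := ⟨cj Y (x : S) μ.1, hΘ x.1 x.2 μ.1 μ.2⟩
  one_smul μ := Subtype.ext (cj_one Y μ.1)
  mul_smul x z μ := Subtype.ext (cj_mul Y (x : S) (z : S) μ.1)

/-- [CNT2] a Q-invariant set of characters on which Q acts freely has size divisible by q -/
theorem card_free {S : Type u} [Group S] [Finite S] {F : Type w} [Field F] [Finite F]
    (Y : Subgroup S) [Y.Normal]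
    (Q : Subgroup S) (q : ℕ) (hq : q.Prime) (hQ : Nat.card ↥Q = q)
    (Θ : Set (↥Y →* Fˣ)) (hΘ : ∀ x ∈ Q, ∀ μ ∈ Θ, cj Y x μ ∈ Θ)
    (hfree : ∀ x ∈ Q, x ≠ 1 → ∀ μ ∈ Θ, cj Y x μ ≠ μ) :
    q ∣ Nat.card ↥Θ := by
  classical
  haveI : Fact q.Prime := ⟨hq⟩
  letI act : MulAction ↥Q ↥Θ := helper95_actOn Y Q Θ hΘ
  haveI : Finite (↥Y →* Fˣ) :=
    Finite.of_injective (fun f : ↥Y →* Fˣ => (f : ↥Y → Fˣ)) DFunLike.coe_injective
  haveI : Finite ↥Θ := Subtype.finite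
  have hP : IsPGroup q ↥Q := IsPGroup.of_card (n := 1) (by rw [hQ, pow_one])
  have hmod := hP.card_modEq_card_fixedPoints ↥Θ
  have hempty : IsEmpty ↥(MulAction.fixedPoints ↥Q ↥Θ) := by
    refine ⟨fun μ => ?_⟩
    have hnt : Nontrivial ↥Q := by
      rw [← Finite.one_lt_card_iff_nontrivial, hQ]
      exact hq.one_lt
    obtain ⟨x, hx⟩ := exists_ne (1 : ↥Q)
    have hfix : x • μ.1 = μ.1 := μ.2 x
    have h1 : cj Y (x : S) μ.1.1 = μ.1.1 := congrArg Subtype.val hfix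
    exact hfree x.1 x.2 (fun h => hx (Subtype.ext h)) μ.1.1 μ.1.2 h1
  have h0 : Nat.card ↥(MulAction.fixedPoints ↥Q ↥Θ) = 0 := by
    rw [Nat.card_eq_zero]
    exact Or.inl hempty
  rw [h0] at hmod
  exact (Nat.modEq_zero_iff_dvd).1 hmod

end Cfsg.Agent.Lib.helper81.WT
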