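import Cfsg.Agent.Lib.helper81.WTDefs

/-!
# S4414 piece QF: an element `x ≠ 1` of `Q` (of prime order) fixes no nontrivial character of
`Y = [Y, Q]`.
-/

set_option autoImplicit false

namespace Cfsg.Agent.Lib.helper81.WT

open scoped TensorProduct

universe u v w

/-- the stabiliser of a character under the conjugation action. -/
def helper95_stab {S : Type u} [Group S] {F : Type w} [Field F]
    (Y : Subgroup S) [Y.Normal] (μ : ↥Y →* Fˣ) : Subgroup S where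
  carrier := {g | cj Y g μ = μ}
  mul_mem' := by
    intro a b ha hb
    show cj Y (a * b) μ = μ
    rw [cj_mul]
    rw [show cj Y b μ = μ from hb]
    exact ha
  one_mem' := cj_one Y μ
  inv_mem' := by
    intro a ha
    show cj Y a⁻¹ μ = μ
    have h : cj Y a⁻¹ (cj Y a μ) = μ := by
      rw [← cj_mul, inv_mul_cancel, cj_one]
    rw [show cj Y a μ = μ from ha] at h
    exact h

/-- [QF] an element `x ≠ 1` of `Q` fixes no nontrivial character of `Y = [Y, Q]` -/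
theorem cj_fixed_eq_one {S : Type u} [Group S] [Finite S] {F : Type w} [Field F] [Finite F]
    (Y : Subgroup S) [Y.Normal]
    (Q : Subgroup S) (q : ℕ) (hq : q.Prime) (hq2 : q ≠ 2) (hQ : Nat.card ↥Q = q) (hcomm : ⁅Y, Q⁆ = Y)
    (x : S) (hx : x ∈ Q) (hx1 : x ≠ 1) (μ : ↥Y →* Fˣ) (hμ : cj Y x μ = μ) : μ = 1 := by
  classical
  haveI : Fact q.Prime := ⟨hq⟩
  -- `Q` is generated by `x`
  have htop : Subgroup.zpowers (⟨x, hx⟩ : ↥Q) = ⊤ :=
    zpowers_eq_top_of_prime_card hQ (fun h => hx1 (congrArg Subtype.val h))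
  have hQle : Q ≤ helper95_stab Y μ := by
    intro z hz
    have hmem : (⟨z, hz⟩ : ↥Q) ∈ Subgroup.zpowers (⟨x, hx⟩ : ↥Q) := by
      rw [htop]; exact Subgroup.mem_top _
    obtain ⟨k, hk⟩ := Subgroup.mem_zpowers_iff.1 hmem
    have hz' : z = x ^ k := by
      have := congrArg Subtype.val hk
      simpa using this.symm
    rw [hz']
    exact (helper95_stab Y μ).zpow_mem (show x ∈ helper95_stab Y μ from hμ) k
  -- `μ` kills all commutators
  have hle : ⁅Y, Q⁆ ≤ (μ.ker).map Y.subtype := by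
    rw [Subgroup.commutator_le]
    intro y hy z hz
    have hzy : z * y⁻¹ * z⁻¹ ∈ Y := by
      have := ‹Y.Normal›.conj_mem y⁻¹ (Y.inv_mem hy) z
      exact this
    have hcm : y * z * y⁻¹ * z⁻¹ = y * (z * y⁻¹ * z⁻¹) := by
      group
    refine ⟨⟨y, hy⟩ * ⟨z * y⁻¹ * z⁻¹, hzy⟩, ?_, ?_⟩
    · show (⟨y, hy⟩ * ⟨z * y⁻¹ * z⁻¹, hzy⟩ : ↥Y) ∈ μ.ker
      rw [MonoidHom.mem_ker, map_mul]
      have hzinv : cj Y z⁻¹ μ = μ := (helper95_stab Y μ).inv_mem (hQle hz)
      have h2 : μ ⟨z * y⁻¹ * z⁻¹, hzy⟩ = μ ⟨y⁻¹, Y.inv_mem hy⟩ := by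
        have h3 : cj Y z⁻¹ μ ⟨y⁻¹, Y.inv_mem hy⟩ = μ ⟨z * y⁻¹ * z⁻¹, hzy⟩ := by
          rw [cj_apply]
          congr 1
          apply Subtype.ext
          simp [MulAut.conjNormal_apply]
        rw [← h3, hzinv]
      rw [h2, ← map_mul]
      have : (⟨y, hy⟩ * ⟨y⁻¹, Y.inv_mem hy⟩ : ↥Y) = 1 := by
        apply Subtype.ext; simp
      rw [this, map_one]
    · show y * (z * y⁻¹ * z⁻¹) = y * z * y⁻¹ * z⁻¹
      exact hcm.symm
  have hYle : Y ≤ (μ.ker).map Y.subtype := by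
    calc Y = ⁅Y, Q⁆ := hcomm.symm
      _ ≤ _ := hle
  ext y
  obtain ⟨y', hy', hyy⟩ := hYle y.2
  have : y' = y := Subtype.ext hyy
  rw [← this]
  have h1 := MonoidHom.mem_ker.1 hy'
  rw [h1]; rfl

end Cfsg.Agent.Lib.helper81.WT
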