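import Cfsg.Agent.Lib.helper95.D4Defs

/-!
# S1082, piece B: basic identities of the root elements `X8 r t`
-/

set_option autoImplicit false

namespace Cfsg.Agent.Lib.helper95.D4

open Matrix Cfsg Cfsg.Lie

variable {F : Type*} [Field F]

theorem mat_ext_mv (A B : Matrix (Fin 8) (Fin 8) F) (h : ∀ v : Fin 8 → F, A *ᵥ v = B *ᵥ v) :
    A = B := by
  ext i j
  have h1 := congrFun (h (Pi.single j 1)) i
  rw [Matrix.mulVec_single_one, Matrix.mulVec_single_one] at h1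
  exact h1

theorem X8_mv_0 (t : F) (v : Fin 8 → F) : X8 0 t *ᵥ v = ![v 0, v 1, v 2, v 3, v 4 - t * v 1, v 5 + t * v 0, v 6, v 7] := by
  funext i
  fin_cases i <;> simp [X8, Matrix.mulVec, dotProduct, Fin.sum_univ_succ] <;> ring

theorem X8_add_0 (s t : F) : X8 0 s * X8 0 t = X8 0 (s + t) := by
  apply mat_ext_mv
  intro v
  rw [← Matrix.mulVec_mulVec, X8_mv_0, X8_mv_0, X8_mv_0]
  funext i
  fin_cases i <;> simp <;> ring

theorem X8_zero_0 : X8 0 (0 : F) = 1 := by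
  apply mat_ext_mv
  intro v
  rw [X8_mv_0, Matrix.one_mulVec]
  funext i
  fin_cases i <;> simp

theorem X8_Q_0 (t : F) (v : Fin 8 → F) : Q8 (X8 0 t *ᵥ v) = Q8 v := by
  rw [X8_mv_0]
  simp [Q8]
  ring

theorem X8_mv_1 (t : F) (v : Fin 8 → F) : X8 1 t *ᵥ v = ![v 0, v 1, v 2, v 3, v 4 - t * v 2, v 5, v 6 + t * v 0, v 7] := by
  funext i
  fin_cases i <;> simp [X8, Matrix.mulVec, dotProduct, Fin.sum_univ_succ] <;> ring

theorem X8_add_1 (s t : F) : X8 1 s * X8 1 t = X8 1 (s + t) := by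
  apply mat_ext_mv
  intro v
  rw [← Matrix.mulVec_mulVec, X8_mv_1, X8_mv_1, X8_mv_1]
  funext i
  fin_cases i <;> simp <;> ring

theorem X8_zero_1 : X8 1 (0 : F) = 1 := by
  apply mat_ext_mv
  intro v
  rw [X8_mv_1, Matrix.one_mulVec]
  funext i
  fin_cases i <;> simp

theorem X8_Q_1 (t : F) (v : Fin 8 → F) : Q8 (X8 1 t *ᵥ v) = Q8 v := by
  rw [X8_mv_1]
  simp [Q8]
  ring

theorem X8_mv_2 (t : F) (v : Fin 8 → F) : X8 2 t *ᵥ v = ![v 0, v 1, v 2, v 3 + t * v 0, v 4 - t * v 7, v 5, v 6, v 7] := by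
  funext i
  fin_cases i <;> simp [X8, Matrix.mulVec, dotProduct, Fin.sum_univ_succ] <;> ring

theorem X8_add_2 (s t : F) : X8 2 s * X8 2 t = X8 2 (s + t) := by
  apply mat_ext_mv
  intro v
  rw [← Matrix.mulVec_mulVec, X8_mv_2, X8_mv_2, X8_mv_2]
  funext i
  fin_cases i <;> simp <;> ring

theorem X8_zero_2 : X8 2 (0 : F) = 1 := by
  apply mat_ext_mv
  intro v
  rw [X8_mv_2, Matrix.one_mulVec]
  funext i
  fin_cases i <;> simp

theorem X8_Q_2 (t : F) (v : Fin 8 → F) : Q8 (X8 2 t *ᵥ v) = Q8 v := by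
  rw [X8_mv_2]
  simp [Q8]
  ring

theorem X8_mv_3 (t : F) (v : Fin 8 → F) : X8 3 t *ᵥ v = ![v 0, v 1, v 2, v 3, v 4 - t * v 3, v 5, v 6, v 7 + t * v 0] := by
  funext i
  fin_cases i <;> simp [X8, Matrix.mulVec, dotProduct, Fin.sum_univ_succ] <;> ring

theorem X8_add_3 (s t : F) : X8 3 s * X8 3 t = X8 3 (s + t) := by
  apply mat_ext_mv
  intro v
  rw [← Matrix.mulVec_mulVec, X8_mv_3, X8_mv_3, X8_mv_3]
  funext i
  fin_cases i <;> simp <;> ring

theorem X8_zero_3 : X8 3 (0 : F) = 1 := by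
  apply mat_ext_mv
  intro v
  rw [X8_mv_3, Matrix.one_mulVec]
  funext i
  fin_cases i <;> simp

theorem X8_Q_3 (t : F) (v : Fin 8 → F) : Q8 (X8 3 t *ᵥ v) = Q8 v := by
  rw [X8_mv_3]
  simp [Q8]
  ring

theorem X8_mv_4 (t : F) (v : Fin 8 → F) : X8 4 t *ᵥ v = ![v 0, v 1, v 2 - t * v 0, v 3, v 4 + t * v 6, v 5, v 6, v 7] := by
  funext i
  fin_cases i <;> simp [X8, Matrix.mulVec, dotProduct, Fin.sum_univ_succ] <;> ring

theorem X8_add_4 (s t : F) : X8 4 s * X8 4 t = X8 4 (s + t) := by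
  apply mat_ext_mv
  intro v
  rw [← Matrix.mulVec_mulVec, X8_mv_4, X8_mv_4, X8_mv_4]
  funext i
  fin_cases i <;> simp <;> ring

theorem X8_zero_4 : X8 4 (0 : F) = 1 := by
  apply mat_ext_mv
  intro v
  rw [X8_mv_4, Matrix.one_mulVec]
  funext i
  fin_cases i <;> simp

theorem X8_Q_4 (t : F) (v : Fin 8 → F) : Q8 (X8 4 t *ᵥ v) = Q8 v := by
  rw [X8_mv_4]
  simp [Q8]
  ring

theorem X8_mv_5 (t : F) (v : Fin 8 → F) : X8 5 t *ᵥ v = ![v 0, v 1 + t * v 0, v 2, v 3, v 4 - t * v 5, v 5, v 6, v 7] := by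
  funext i
  fin_cases i <;> simp [X8, Matrix.mulVec, dotProduct, Fin.sum_univ_succ] <;> ring

theorem X8_add_5 (s t : F) : X8 5 s * X8 5 t = X8 5 (s + t) := by
  apply mat_ext_mv
  intro v
  rw [← Matrix.mulVec_mulVec, X8_mv_5, X8_mv_5, X8_mv_5]
  funext i
  fin_cases i <;> simp <;> ring

theorem X8_zero_5 : X8 5 (0 : F) = 1 := by
  apply mat_ext_mv
  intro v
  rw [X8_mv_5, Matrix.one_mulVec]
  funext i
  fin_cases i <;> simp

theorem X8_Q_5 (t : F) (v : Fin 8 → F) : Q8 (X8 5 t *ᵥ v) = Q8 v := by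
  rw [X8_mv_5]
  simp [Q8]
  ring

theorem X8_mv_6 (t : F) (v : Fin 8 → F) : X8 6 t *ᵥ v = ![v 0, v 1, v 2, v 3, v 4, v 5 + t * v 2, v 6 - t * v 1, v 7] := by
  funext i
  fin_cases i <;> simp [X8, Matrix.mulVec, dotProduct, Fin.sum_univ_succ] <;> ring

theorem X8_add_6 (s t : F) : X8 6 s * X8 6 t = X8 6 (s + t) := by
  apply mat_ext_mv
  intro v
  rw [← Matrix.mulVec_mulVec, X8_mv_6, X8_mv_6, X8_mv_6]
  funext i
  fin_cases i <;> simp <;> ring

theorem X8_zero_6 : X8 6 (0 : F) = 1 := by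
  apply mat_ext_mv
  intro v
  rw [X8_mv_6, Matrix.one_mulVec]
  funext i
  fin_cases i <;> simp

theorem X8_Q_6 (t : F) (v : Fin 8 → F) : Q8 (X8 6 t *ᵥ v) = Q8 v := by
  rw [X8_mv_6]
  simp [Q8]
  ring

theorem X8_mv_7 (t : F) (v : Fin 8 → F) : X8 7 t *ᵥ v = ![v 0, v 1, v 2, v 3 - t * v 1, v 4, v 5 + t * v 7, v 6, v 7] := by
  funext i
  fin_cases i <;> simp [X8, Matrix.mulVec, dotProduct, Fin.sum_univ_succ] <;> ring

theorem X8_add_7 (s t : F) : X8 7 s * X8 7 t = X8 7 (s + t) := by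
  apply mat_ext_mv
  intro v
  rw [← Matrix.mulVec_mulVec, X8_mv_7, X8_mv_7, X8_mv_7]
  funext i
  fin_cases i <;> simp <;> ring

theorem X8_zero_7 : X8 7 (0 : F) = 1 := by
  apply mat_ext_mv
  intro v
  rw [X8_mv_7, Matrix.one_mulVec]
  funext i
  fin_cases i <;> simp

theorem X8_Q_7 (t : F) (v : Fin 8 → F) : Q8 (X8 7 t *ᵥ v) = Q8 v := by
  rw [X8_mv_7]
  simp [Q8]
  ring

theorem X8_mv_8 (t : F) (v : Fin 8 → F) : X8 8 t *ᵥ v = ![v 0, v 1, v 2, v 3, v 4, v 5 + t * v 3, v 6, v 7 - t * v 1] := by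
  funext i
  fin_cases i <;> simp [X8, Matrix.mulVec, dotProduct, Fin.sum_univ_succ] <;> ring

theorem X8_add_8 (s t : F) : X8 8 s * X8 8 t = X8 8 (s + t) := by
  apply mat_ext_mv
  intro v
  rw [← Matrix.mulVec_mulVec, X8_mv_8, X8_mv_8, X8_mv_8]
  funext i
  fin_cases i <;> simp <;> ring

theorem X8_zero_8 : X8 8 (0 : F) = 1 := by
  apply mat_ext_mv
  intro v
  rw [X8_mv_8, Matrix.one_mulVec]
  funext i
  fin_cases i <;> simp

theorem X8_Q_8 (t : F) (v : Fin 8 → F) : Q8 (X8 8 t *ᵥ v) = Q8 v := by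
  rw [X8_mv_8]
  simp [Q8]
  ring

theorem X8_mv_9 (t : F) (v : Fin 8 → F) : X8 9 t *ᵥ v = ![v 0, v 1, v 2 + t * v 1, v 3, v 4, v 5 - t * v 6, v 6, v 7] := by
  funext i
  fin_cases i <;> simp [X8, Matrix.mulVec, dotProduct, Fin.sum_univ_succ] <;> ring

theorem X8_add_9 (s t : F) : X8 9 s * X8 9 t = X8 9 (s + t) := by
  apply mat_ext_mv
  intro v
  rw [← Matrix.mulVec_mulVec, X8_mv_9, X8_mv_9, X8_mv_9]
  funext i
  fin_cases i <;> simp <;> ring

theorem X8_zero_9 : X8 9 (0 : F) = 1 := by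
  apply mat_ext_mv
  intro v
  rw [X8_mv_9, Matrix.one_mulVec]
  funext i
  fin_cases i <;> simp

theorem X8_Q_9 (t : F) (v : Fin 8 → F) : Q8 (X8 9 t *ᵥ v) = Q8 v := by
  rw [X8_mv_9]
  simp [Q8]
  ring

theorem X8_mv_10 (t : F) (v : Fin 8 → F) : X8 10 t *ᵥ v = ![v 0, v 1, v 2, v 3 + t * v 2, v 4, v 5, v 6 - t * v 7, v 7] := by
  funext i
  fin_cases i <;> simp [X8, Matrix.mulVec, dotProduct, Fin.sum_univ_succ] <;> ring

theorem X8_add_10 (s t : F) : X8 10 s * X8 10 t = X8 10 (s + t) := by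
  apply mat_ext_mv
  intro v
  rw [← Matrix.mulVec_mulVec, X8_mv_10, X8_mv_10, X8_mv_10]
  funext i
  fin_cases i <;> simp <;> ring

theorem X8_zero_10 : X8 10 (0 : F) = 1 := by
  apply mat_ext_mv
  intro v
  rw [X8_mv_10, Matrix.one_mulVec]
  funext i
  fin_cases i <;> simp

theorem X8_Q_10 (t : F) (v : Fin 8 → F) : Q8 (X8 10 t *ᵥ v) = Q8 v := by
  rw [X8_mv_10]
  simp [Q8]
  ring

theorem X8_mv_11 (t : F) (v : Fin 8 → F) : X8 11 t *ᵥ v = ![v 0, v 1, v 2, v 3, v 4, v 5, v 6 - t * v 3, v 7 + t * v 2] := by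
  funext i
  fin_cases i <;> simp [X8, Matrix.mulVec, dotProduct, Fin.sum_univ_succ] <;> ring

theorem X8_add_11 (s t : F) : X8 11 s * X8 11 t = X8 11 (s + t) := by
  apply mat_ext_mv
  intro v
  rw [← Matrix.mulVec_mulVec, X8_mv_11, X8_mv_11, X8_mv_11]
  funext i
  fin_cases i <;> simp <;> ring

theorem X8_zero_11 : X8 11 (0 : F) = 1 := by
  apply mat_ext_mv
  intro v
  rw [X8_mv_11, Matrix.one_mulVec]
  funext i
  fin_cases i <;> simp

theorem X8_Q_11 (t : F) (v : Fin 8 → F) : Q8 (X8 11 t *ᵥ v) = Q8 v := by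
  rw [X8_mv_11]
  simp [Q8]
  ring

theorem X8_mv_12 (t : F) (v : Fin 8 → F) : X8 12 t *ᵥ v = ![v 0, v 1, v 2 + t * v 7, v 3 - t * v 6, v 4, v 5, v 6, v 7] := by
  funext i
  fin_cases i <;> simp [X8, Matrix.mulVec, dotProduct, Fin.sum_univ_succ] <;> ring

theorem X8_add_12 (s t : F) : X8 12 s * X8 12 t = X8 12 (s + t) := by
  apply mat_ext_mv
  intro v
  rw [← Matrix.mulVec_mulVec, X8_mv_12, X8_mv_12, X8_mv_12]
  funext i
  fin_cases i <;> simp <;> ring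

theorem X8_zero_12 : X8 12 (0 : F) = 1 := by
  apply mat_ext_mv
  intro v
  rw [X8_mv_12, Matrix.one_mulVec]
  funext i
  fin_cases i <;> simp

theorem X8_Q_12 (t : F) (v : Fin 8 → F) : Q8 (X8 12 t *ᵥ v) = Q8 v := by
  rw [X8_mv_12]
  simp [Q8]
  ring

theorem X8_mv_13 (t : F) (v : Fin 8 → F) : X8 13 t *ᵥ v = ![v 0, v 1, v 2 + t * v 3, v 3, v 4, v 5, v 6, v 7 - t * v 6] := by
  funext i
  fin_cases i <;> simp [X8, Matrix.mulVec, dotProduct, Fin.sum_univ_succ] <;> ring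

theorem X8_add_13 (s t : F) : X8 13 s * X8 13 t = X8 13 (s + t) := by
  apply mat_ext_mv
  intro v
  rw [← Matrix.mulVec_mulVec, X8_mv_13, X8_mv_13, X8_mv_13]
  funext i
  fin_cases i <;> simp <;> ring

theorem X8_zero_13 : X8 13 (0 : F) = 1 := by
  apply mat_ext_mv
  intro v
  rw [X8_mv_13, Matrix.one_mulVec]
  funext i
  fin_cases i <;> simp

theorem X8_Q_13 (t : F) (v : Fin 8 → F) : Q8 (X8 13 t *ᵥ v) = Q8 v := by
  rw [X8_mv_13]
  simp [Q8]
  ring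

theorem X8_mv_14 (t : F) (v : Fin 8 → F) : X8 14 t *ᵥ v = ![v 0, v 1 + t * v 2, v 2, v 3, v 4, v 5, v 6 - t * v 5, v 7] := by
  funext i
  fin_cases i <;> simp [X8, Matrix.mulVec, dotProduct, Fin.sum_univ_succ] <;> ring

theorem X8_add_14 (s t : F) : X8 14 s * X8 14 t = X8 14 (s + t) := by
  apply mat_ext_mv
  intro v
  rw [← Matrix.mulVec_mulVec, X8_mv_14, X8_mv_14, X8_mv_14]
  funext i
  fin_cases i <;> simp <;> ring

theorem X8_zero_14 : X8 14 (0 : F) = 1 := by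
  apply mat_ext_mv
  intro v
  rw [X8_mv_14, Matrix.one_mulVec]
  funext i
  fin_cases i <;> simp

theorem X8_Q_14 (t : F) (v : Fin 8 → F) : Q8 (X8 14 t *ᵥ v) = Q8 v := by
  rw [X8_mv_14]
  simp [Q8]
  ring

theorem X8_mv_15 (t : F) (v : Fin 8 → F) : X8 15 t *ᵥ v = ![v 0, v 1 - t * v 7, v 2, v 3 + t * v 5, v 4, v 5, v 6, v 7] := by
  funext i
  fin_cases i <;> simp [X8, Matrix.mulVec, dotProduct, Fin.sum_univ_succ] <;> ring

theorem X8_add_15 (s t : F) : X8 15 s * X8 15 t = X8 15 (s + t) := by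
  apply mat_ext_mv
  intro v
  rw [← Matrix.mulVec_mulVec, X8_mv_15, X8_mv_15, X8_mv_15]
  funext i
  fin_cases i <;> simp <;> ring

theorem X8_zero_15 : X8 15 (0 : F) = 1 := by
  apply mat_ext_mv
  intro v
  rw [X8_mv_15, Matrix.one_mulVec]
  funext i
  fin_cases i <;> simp

theorem X8_Q_15 (t : F) (v : Fin 8 → F) : Q8 (X8 15 t *ᵥ v) = Q8 v := by
  rw [X8_mv_15]
  simp [Q8]
  ring

theorem X8_mv_16 (t : F) (v : Fin 8 → F) : X8 16 t *ᵥ v = ![v 0, v 1 - t * v 3, v 2, v 3, v 4, v 5, v 6, v 7 + t * v 5] := by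
  funext i
  fin_cases i <;> simp [X8, Matrix.mulVec, dotProduct, Fin.sum_univ_succ] <;> ring

theorem X8_add_16 (s t : F) : X8 16 s * X8 16 t = X8 16 (s + t) := by
  apply mat_ext_mv
  intro v
  rw [← Matrix.mulVec_mulVec, X8_mv_16, X8_mv_16, X8_mv_16]
  funext i
  fin_cases i <;> simp <;> ring

theorem X8_zero_16 : X8 16 (0 : F) = 1 := by
  apply mat_ext_mv
  intro v
  rw [X8_mv_16, Matrix.one_mulVec]
  funext i
  fin_cases i <;> simp

theorem X8_Q_16 (t : F) (v : Fin 8 → F) : Q8 (X8 16 t *ᵥ v) = Q8 v := by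
  rw [X8_mv_16]
  simp [Q8]
  ring

theorem X8_mv_17 (t : F) (v : Fin 8 → F) : X8 17 t *ᵥ v = ![v 0, v 1 - t * v 6, v 2 + t * v 5, v 3, v 4, v 5, v 6, v 7] := by
  funext i
  fin_cases i <;> simp [X8, Matrix.mulVec, dotProduct, Fin.sum_univ_succ] <;> ring

theorem X8_add_17 (s t : F) : X8 17 s * X8 17 t = X8 17 (s + t) := by
  apply mat_ext_mv
  intro v
  rw [← Matrix.mulVec_mulVec, X8_mv_17, X8_mv_17, X8_mv_17]
  funext i
  fin_cases i <;> simp <;> ring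

theorem X8_zero_17 : X8 17 (0 : F) = 1 := by
  apply mat_ext_mv
  intro v
  rw [X8_mv_17, Matrix.one_mulVec]
  funext i
  fin_cases i <;> simp

theorem X8_Q_17 (t : F) (v : Fin 8 → F) : Q8 (X8 17 t *ᵥ v) = Q8 v := by
  rw [X8_mv_17]
  simp [Q8]
  ring

theorem X8_mv_18 (t : F) (v : Fin 8 → F) : X8 18 t *ᵥ v = ![v 0 + t * v 1, v 1, v 2, v 3, v 4, v 5 - t * v 4, v 6, v 7] := by
  funext i
  fin_cases i <;> simp [X8, Matrix.mulVec, dotProduct, Fin.sum_univ_succ] <;> ring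

theorem X8_add_18 (s t : F) : X8 18 s * X8 18 t = X8 18 (s + t) := by
  apply mat_ext_mv
  intro v
  rw [← Matrix.mulVec_mulVec, X8_mv_18, X8_mv_18, X8_mv_18]
  funext i
  fin_cases i <;> simp <;> ring

theorem X8_zero_18 : X8 18 (0 : F) = 1 := by
  apply mat_ext_mv
  intro v
  rw [X8_mv_18, Matrix.one_mulVec]
  funext i
  fin_cases i <;> simp

theorem X8_Q_18 (t : F) (v : Fin 8 → F) : Q8 (X8 18 t *ᵥ v) = Q8 v := by
  rw [X8_mv_18]
  simp [Q8]
  ring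

theorem X8_mv_19 (t : F) (v : Fin 8 → F) : X8 19 t *ᵥ v = ![v 0 - t * v 2, v 1, v 2, v 3, v 4, v 5, v 6 + t * v 4, v 7] := by
  funext i
  fin_cases i <;> simp [X8, Matrix.mulVec, dotProduct, Fin.sum_univ_succ] <;> ring

theorem X8_add_19 (s t : F) : X8 19 s * X8 19 t = X8 19 (s + t) := by
  apply mat_ext_mv
  intro v
  rw [← Matrix.mulVec_mulVec, X8_mv_19, X8_mv_19, X8_mv_19]
  funext i
  fin_cases i <;> simp <;> ring

theorem X8_zero_19 : X8 19 (0 : F) = 1 := by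
  apply mat_ext_mv
  intro v
  rw [X8_mv_19, Matrix.one_mulVec]
  funext i
  fin_cases i <;> simp

theorem X8_Q_19 (t : F) (v : Fin 8 → F) : Q8 (X8 19 t *ᵥ v) = Q8 v := by
  rw [X8_mv_19]
  simp [Q8]
  ring

theorem X8_mv_20 (t : F) (v : Fin 8 → F) : X8 20 t *ᵥ v = ![v 0 + t * v 7, v 1, v 2, v 3 - t * v 4, v 4, v 5, v 6, v 7] := by
  funext i
  fin_cases i <;> simp [X8, Matrix.mulVec, dotProduct, Fin.sum_univ_succ] <;> ring

theorem X8_add_20 (s t : F) : X8 20 s * X8 20 t = X8 20 (s + t) := by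
  apply mat_ext_mv
  intro v
  rw [← Matrix.mulVec_mulVec, X8_mv_20, X8_mv_20, X8_mv_20]
  funext i
  fin_cases i <;> simp <;> ring

theorem X8_zero_20 : X8 20 (0 : F) = 1 := by
  apply mat_ext_mv
  intro v
  rw [X8_mv_20, Matrix.one_mulVec]
  funext i
  fin_cases i <;> simp

theorem X8_Q_20 (t : F) (v : Fin 8 → F) : Q8 (X8 20 t *ᵥ v) = Q8 v := by
  rw [X8_mv_20]
  simp [Q8]
  ring

theorem X8_mv_21 (t : F) (v : Fin 8 → F) : X8 21 t *ᵥ v = ![v 0 + t * v 3, v 1, v 2, v 3, v 4, v 5, v 6, v 7 - t * v 4] := by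
  funext i
  fin_cases i <;> simp [X8, Matrix.mulVec, dotProduct, Fin.sum_univ_succ] <;> ring

theorem X8_add_21 (s t : F) : X8 21 s * X8 21 t = X8 21 (s + t) := by
  apply mat_ext_mv
  intro v
  rw [← Matrix.mulVec_mulVec, X8_mv_21, X8_mv_21, X8_mv_21]
  funext i
  fin_cases i <;> simp <;> ring

theorem X8_zero_21 : X8 21 (0 : F) = 1 := by
  apply mat_ext_mv
  intro v
  rw [X8_mv_21, Matrix.one_mulVec]
  funext i
  fin_cases i <;> simp

theorem X8_Q_21 (t : F) (v : Fin 8 → F) : Q8 (X8 21 t *ᵥ v) = Q8 v := by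
  rw [X8_mv_21]
  simp [Q8]
  ring

theorem X8_mv_22 (t : F) (v : Fin 8 → F) : X8 22 t *ᵥ v = ![v 0 + t * v 6, v 1, v 2 - t * v 4, v 3, v 4, v 5, v 6, v 7] := by
  funext i
  fin_cases i <;> simp [X8, Matrix.mulVec, dotProduct, Fin.sum_univ_succ] <;> ring

theorem X8_add_22 (s t : F) : X8 22 s * X8 22 t = X8 22 (s + t) := by
  apply mat_ext_mv
  intro v
  rw [← Matrix.mulVec_mulVec, X8_mv_22, X8_mv_22, X8_mv_22]
  funext i
  fin_cases i <;> simp <;> ring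

theorem X8_zero_22 : X8 22 (0 : F) = 1 := by
  apply mat_ext_mv
  intro v
  rw [X8_mv_22, Matrix.one_mulVec]
  funext i
  fin_cases i <;> simp

theorem X8_Q_22 (t : F) (v : Fin 8 → F) : Q8 (X8 22 t *ᵥ v) = Q8 v := by
  rw [X8_mv_22]
  simp [Q8]
  ring

theorem X8_mv_23 (t : F) (v : Fin 8 → F) : X8 23 t *ᵥ v = ![v 0 + t * v 5, v 1 - t * v 4, v 2, v 3, v 4, v 5, v 6, v 7] := by
  funext i
  fin_cases i <;> simp [X8, Matrix.mulVec, dotProduct, Fin.sum_univ_succ] <;> ring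

theorem X8_add_23 (s t : F) : X8 23 s * X8 23 t = X8 23 (s + t) := by
  apply mat_ext_mv
  intro v
  rw [← Matrix.mulVec_mulVec, X8_mv_23, X8_mv_23, X8_mv_23]
  funext i
  fin_cases i <;> simp <;> ring

theorem X8_zero_23 : X8 23 (0 : F) = 1 := by
  apply mat_ext_mv
  intro v
  rw [X8_mv_23, Matrix.one_mulVec]
  funext i
  fin_cases i <;> simp

theorem X8_Q_23 (t : F) (v : Fin 8 → F) : Q8 (X8 23 t *ᵥ v) = Q8 v := by
  rw [X8_mv_23]
  simp [Q8]
  ring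

theorem X8_add (r : Fin 24) (s t : F) : X8 r s * X8 r t = X8 r (s + t) := by
  fin_cases r
  · exact X8_add_0 s t
  · exact X8_add_1 s t
  · exact X8_add_2 s t
  · exact X8_add_3 s t
  · exact X8_add_4 s t
  · exact X8_add_5 s t
  · exact X8_add_6 s t
  · exact X8_add_7 s t
  · exact X8_add_8 s t
  · exact X8_add_9 s t
  · exact X8_add_10 s t
  · exact X8_add_11 s t
  · exact X8_add_12 s t
  · exact X8_add_13 s t
  · exact X8_add_14 s t
  · exact X8_add_15 s t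
  · exact X8_add_16 s t
  · exact X8_add_17 s t
  · exact X8_add_18 s t
  · exact X8_add_19 s t
  · exact X8_add_20 s t
  · exact X8_add_21 s t
  · exact X8_add_22 s t
  · exact X8_add_23 s t

theorem X8_zero (r : Fin 24) : X8 r (0 : F) = 1 := by
  fin_cases r
  · exact X8_zero_0
  · exact X8_zero_1
  · exact X8_zero_2
  · exact X8_zero_3
  · exact X8_zero_4
  · exact X8_zero_5
  · exact X8_zero_6
  · exact X8_zero_7
  · exact X8_zero_8
  · exact X8_zero_9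
  · exact X8_zero_10
  · exact X8_zero_11
  · exact X8_zero_12
  · exact X8_zero_13
  · exact X8_zero_14
  · exact X8_zero_15
  · exact X8_zero_16
  · exact X8_zero_17
  · exact X8_zero_18
  · exact X8_zero_19
  · exact X8_zero_20
  · exact X8_zero_21
  · exact X8_zero_22
  · exact X8_zero_23

theorem X8_Q (r : Fin 24) (t : F) (v : Fin 8 → F) : Q8 (X8 r t *ᵥ v) = Q8 v := by
  fin_cases r
  · exact X8_Q_0 t v
  · exact X8_Q_1 t v
  · exact X8_Q_2 t v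
  · exact X8_Q_3 t v
  · exact X8_Q_4 t v
  · exact X8_Q_5 t v
  · exact X8_Q_6 t v
  · exact X8_Q_7 t v
  · exact X8_Q_8 t v
  · exact X8_Q_9 t v
  · exact X8_Q_10 t v
  · exact X8_Q_11 t v
  · exact X8_Q_12 t v
  · exact X8_Q_13 t v
  · exact X8_Q_14 t v
  · exact X8_Q_15 t v
  · exact X8_Q_16 t v
  · exact X8_Q_17 t v
  · exact X8_Q_18 t v
  · exact X8_Q_19 t v
  · exact X8_Q_20 t v
  · exact X8_Q_21 t v
  · exact X8_Q_22 t v
  · exact X8_Q_23 t v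

theorem Eg8_le_Og8 : Eg8 F ≤ Og8 F := by
  unfold Eg8
  rw [Subgroup.closure_le]
  rintro g ⟨r, t, h⟩
  rw [SetLike.mem_coe, mem_Og8]
  intro v
  rw [h]
  exact X8_Q r t v

theorem B8_eq (u v : Fin 8 → F) : B8 u v = Q8 (u + v) - Q8 u - Q8 v := by
  simp only [B8, Q8, Pi.add_apply]
  ring

/-- isometries of `Q8` preserve the polar form -/
theorem Og8_B8 (g : GL (Fin 8) F) (hg : g ∈ Og8 F) (u v : Fin 8 → F) :
    B8 ((g : Matrix (Fin 8) (Fin 8) F) *ᵥ u) ((g : Matrix (Fin 8) (Fin 8) F) *ᵥ v) = B8 u v := by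
  rw [mem_Og8] at hg
  rw [B8_eq, B8_eq, ← Matrix.mulVec_add, hg, hg, hg]

end Cfsg.Agent.Lib.helper95.D4
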