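import Mathlib
import Cfsg.Prelude.Def_GeometricClasses
import Cfsg.Agent.Lib.helper17.SympStab
import Cfsg.Agent.Lib.helper17.SympPrim
import Cfsg.Agent.Lib.helper17.Symp4
import Cfsg.Agent.Lib.helper95.GLBasic

/-!
Maximality tools for subgroups of the symplectic group `spGL m F` (as a subgroup of GL): symplectic
transvections as elements of GL, the Siegel-type elements `x ↦ x + f(x,w) z + f(x,z) w`, generation of
`spGL` by transvections, and maximality of the stabiliser of a totally isotropic subspace.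
-/

set_option autoImplicit false

namespace Cfsg.Agent.Lib.helper95

open Matrix Cfsg Cfsg.Geo Cfsg.Agent.Lib.helper17

section
variable {F : Type*} [Field F]

theorem gl_ext_mulVec {ι : Type} [Fintype ι] [DecidableEq ι] {g h : GL ι F}
    (H : ∀ x, (g : Matrix ι ι F) *ᵥ x = (h : Matrix ι ι F) *ᵥ x) : g = h := by
  apply Units.ext
  apply Matrix.toLin'.injective
  apply LinearMap.ext
  intro x
  rw [Matrix.toLin'_apply, Matrix.toLin'_apply]
  exact H x

theorem gl_inv_mulVec_mulVec {ι : Type} [Fintype ι] [DecidableEq ι] (g : GL ι F) (x : ι → F) :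
    ((g⁻¹ : GL ι F) : Matrix ι ι F) *ᵥ ((g : Matrix ι ι F) *ᵥ x) = x := by
  rw [Matrix.mulVec_mulVec, ← Units.val_mul, inv_mul_cancel, Units.val_one, Matrix.one_mulVec]

theorem gl_mulVec_inv_mulVec {ι : Type} [Fintype ι] [DecidableEq ι] (g : GL ι F) (x : ι → F) :
    (g : Matrix ι ι F) *ᵥ (((g⁻¹ : GL ι F) : Matrix ι ι F) *ᵥ x) = x := by
  rw [Matrix.mulVec_mulVec, ← Units.val_mul, mul_inv_cancel, Units.val_one, Matrix.one_mulVec]

/-- A GL element mapping the subspace `W` into itself stabilises it. -/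
theorem mem_subspaceStabilizer_of_forall {ι : Type} [Fintype ι] [DecidableEq ι]
    (W : Submodule F (ι → F)) (g : GL ι F)
    (h : ∀ v ∈ W, (g : Matrix ι ι F) *ᵥ v ∈ W) : g ∈ subspaceStabilizer W := by
  rw [mem_subspaceStabilizer_iff]
  intro v
  refine ⟨h v, fun hv => ?_⟩
  let φ : W →ₗ[F] W :=
    { toFun := fun w => ⟨(g : Matrix ι ι F) *ᵥ (w : ι → F), h w w.2⟩
      map_add' := fun a b => Subtype.ext (Matrix.mulVec_add _ _ _)
      map_smul' := fun c a => Subtype.ext (Matrix.mulVec_smul _ _ _) }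
  have hinj : Function.Injective φ := by
    intro a b hab
    have h1 : (g : Matrix ι ι F) *ᵥ (a : ι → F) = (g : Matrix ι ι F) *ᵥ (b : ι → F) :=
      congrArg Subtype.val hab
    have h2 := congrArg (fun y => ((g⁻¹ : GL ι F) : Matrix ι ι F) *ᵥ y) h1
    simp only [gl_inv_mulVec_mulVec] at h2
    exact Subtype.ext h2
  have hsurj : Function.Surjective φ := LinearMap.surjective_of_injective hinj
  obtain ⟨w, hw⟩ := hsurj ⟨_, hv⟩
  have h1 : (g : Matrix ι ι F) *ᵥ (w : ι → F) = (g : Matrix ι ι F) *ᵥ v := congrArg Subtype.val hw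
  have h2 := congrArg (fun y => ((g⁻¹ : GL ι F) : Matrix ι ι F) *ᵥ y) h1
  simp only [gl_inv_mulVec_mulVec] at h2
  rw [← h2]
  exact w.2

end

section
variable {F : Type*} [Field F] (m : ℕ)

theorem mem_spGL_iff (g : GL (Fin m ⊕ Fin m) F) :
    g ∈ spGL m F ↔ ∀ u v, sympForm m F ((g : Matrix (Fin m ⊕ Fin m) (Fin m ⊕ Fin m) F) *ᵥ u)
      ((g : Matrix (Fin m ⊕ Fin m) (Fin m ⊕ Fin m) F) *ᵥ v) = sympForm m F u v := Iff.rfl

/-- The symplectic transvection `x ↦ x + c f(x, w) w` as an element of GL. -/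
noncomputable def spT (w : Fin m ⊕ Fin m → F) (c : F) : GL (Fin m ⊕ Fin m) F :=
  Matrix.GeneralLinearGroup.mkOfDetNeZero (sympTransvection m w c)
    (SymplecticGroup.symplectic_det (sympTransvection_mem m w c)).ne_zero

theorem spT_val (w : Fin m ⊕ Fin m → F) (c : F) :
    ((spT m w c : GL (Fin m ⊕ Fin m) F) : Matrix (Fin m ⊕ Fin m) (Fin m ⊕ Fin m) F) =
      sympTransvection m w c := rfl

theorem spT_mulVec (w : Fin m ⊕ Fin m → F) (c : F) (x : Fin m ⊕ Fin m → F) :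
    ((spT m w c : GL (Fin m ⊕ Fin m) F) : Matrix (Fin m ⊕ Fin m) (Fin m ⊕ Fin m) F) *ᵥ x =
      x + (c * sympForm m F x w) • w := by
  rw [spT_val]
  exact sympTransvection_mulVec m w c x

theorem spT_mem (w : Fin m ⊕ Fin m → F) (c : F) : spT m w c ∈ spGL m F := by
  rw [mem_spGL_iff]
  intro u v
  rw [spT_val]
  exact sympForm_mulVec_of_mem m (sympTransvection_mem m w c) u v

theorem sympForm_inv_left (g : GL (Fin m ⊕ Fin m) F) (hg : g ∈ spGL m F) (x w : Fin m ⊕ Fin m → F) :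
    sympForm m F (((g⁻¹ : GL (Fin m ⊕ Fin m) F) : Matrix (Fin m ⊕ Fin m) (Fin m ⊕ Fin m) F) *ᵥ x) w =
      sympForm m F x ((g : Matrix (Fin m ⊕ Fin m) (Fin m ⊕ Fin m) F) *ᵥ w) := by
  have h := (mem_spGL_iff m g).mp hg
    (((g⁻¹ : GL (Fin m ⊕ Fin m) F) : Matrix (Fin m ⊕ Fin m) (Fin m ⊕ Fin m) F) *ᵥ x) w
  rw [gl_mulVec_inv_mulVec] at h
  exact h.symm

theorem spT_conj (g : GL (Fin m ⊕ Fin m) F) (hg : g ∈ spGL m F) (w : Fin m ⊕ Fin m → F) (c : F) :
    g * spT m w c * g⁻¹ =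
      spT m ((g : Matrix (Fin m ⊕ Fin m) (Fin m ⊕ Fin m) F) *ᵥ w) c := by
  apply gl_ext_mulVec
  intro x
  rw [Units.val_mul, Units.val_mul, ← Matrix.mulVec_mulVec, ← Matrix.mulVec_mulVec, spT_mulVec,
    spT_mulVec, Matrix.mulVec_add, Matrix.mulVec_smul, gl_mulVec_inv_mulVec,
    sympForm_inv_left m g hg]

theorem spT_smul (a : F) (w : Fin m ⊕ Fin m → F) (c : F) :
    spT m (a • w) c = spT m w (a * a * c) := by
  apply gl_ext_mulVec
  intro x
  rw [spT_mulVec, spT_mulVec, sympForm_smul_right, smul_smul]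
  congr 2
  ring

/-- The Siegel-type element `x ↦ x + f(x,w) z + f(x,z) w` (for `f(w,z) = 0`). -/
noncomputable def spE (w z : Fin m ⊕ Fin m → F) : GL (Fin m ⊕ Fin m) F :=
  spT m (w + z) 1 * spT m w (-1) * spT m z (-1)

theorem spE_mem (w z : Fin m ⊕ Fin m → F) : spE m w z ∈ spGL m F :=
  mul_mem (mul_mem (spT_mem m _ _) (spT_mem m _ _)) (spT_mem m _ _)

theorem spE_mulVec (w z : Fin m ⊕ Fin m → F) (hwz : sympForm m F w z = 0) (x : Fin m ⊕ Fin m → F) :
    ((spE m w z : GL (Fin m ⊕ Fin m) F) : Matrix (Fin m ⊕ Fin m) (Fin m ⊕ Fin m) F) *ᵥ x =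
      x + sympForm m F x w • z + sympForm m F x z • w := by
  have hzw : sympForm m F z w = 0 := by rw [sympForm_swap, hwz, neg_zero]
  unfold spE
  rw [Units.val_mul, Units.val_mul, ← Matrix.mulVec_mulVec, ← Matrix.mulVec_mulVec, spT_mulVec,
    spT_mulVec, spT_mulVec]
  simp only [sympForm_add_left, sympForm_add_right, sympForm_smul_left, sympForm_self, hwz, hzw,
    mul_zero, add_zero, one_mul, neg_mul]
  module

/-- `spGL` is generated by the symplectic transvections. -/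
theorem spGL_le_of_transv (M : Subgroup (GL (Fin m ⊕ Fin m) F)) (hT : ∀ v c, spT m v c ∈ M) :
    spGL m F ≤ M := by
  intro g hg
  have hA : (g : Matrix (Fin m ⊕ Fin m) (Fin m ⊕ Fin m) F) ∈ Matrix.symplecticGroup (Fin m) F :=
    mem_symplectic_of_preserves m _ ((mem_spGL_iff m g).mp hg)
  have key : ∀ A ∈ transvSubgroup m F, ∀ g : GL (Fin m ⊕ Fin m) F,
      (g : Matrix (Fin m ⊕ Fin m) (Fin m ⊕ Fin m) F) =
        (A : Matrix (Fin m ⊕ Fin m) (Fin m ⊕ Fin m) F) → g ∈ M := by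
    intro A hA
    unfold transvSubgroup at hA
    refine Subgroup.closure_induction (p := fun (A : Matrix.symplecticGroup (Fin m) F) _ =>
      ∀ g : GL (Fin m ⊕ Fin m) F,
      (g : Matrix (Fin m ⊕ Fin m) (Fin m ⊕ Fin m) F) =
        (A : Matrix (Fin m ⊕ Fin m) (Fin m ⊕ Fin m) F) → g ∈ M) ?_ ?_ ?_ ?_ hA
    · rintro A ⟨w, c, hAw⟩ g hg
      have : g = spT m w c := Units.ext (by rw [hg, hAw]; rfl)
      rw [this]; exact hT w c
    · intro g hg
      have : g = 1 := Units.ext (by rw [hg]; rfl)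
      rw [this]; exact M.one_mem
    · intro A B _ _ ihA ihB g hg
      obtain ⟨gA, hgA⟩ := exists_spGL m A.2
      obtain ⟨gB, hgB⟩ := exists_spGL m B.2
      have : g = gA.1 * gB.1 := Units.ext (by rw [hg, Units.val_mul, hgA, hgB]; rfl)
      rw [this]; exact M.mul_mem (ihA _ hgA) (ihB _ hgB)
    · intro A _ ihA g hg
      obtain ⟨gA, hgA⟩ := exists_spGL m A.2
      have : g = gA.1⁻¹ := by
        apply eq_inv_of_mul_eq_one_left
        apply Units.ext
        rw [Units.val_mul, hg, hgA]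
        have h1 : A⁻¹ * A = 1 := inv_mul_cancel A
        exact congrArg Subtype.val h1
      rw [this]; exact M.inv_mem (ihA _ hgA)
  exact key ⟨_, hA⟩ (by rw [transvSubgroup_eq_top]; trivial) g rfl

/-- A vector outside `W` is not orthogonal to the whole of `W^⊥`. -/
theorem exists_perp_ne (W : Submodule F (Fin m ⊕ Fin m → F)) (u : Fin m ⊕ Fin m → F) (hu : u ∉ W) :
    ∃ z, (∀ w ∈ W, sympForm m F w z = 0) ∧ sympForm m F z u ≠ 0 := by
  have hrefl : (sympBilin m (F := F)).IsRefl := by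
    intro x y hxy
    rw [sympBilin_apply] at hxy ⊢
    rw [sympForm_swap, hxy, neg_zero]
  have h2 := LinearMap.BilinForm.orthogonal_orthogonal (sympBilin_nondegenerate m (F := F)) hrefl W
  rw [← h2] at hu
  rw [LinearMap.BilinForm.mem_orthogonal_iff] at hu
  push Not at hu
  obtain ⟨z, hz, hzu⟩ := hu
  refine ⟨z, fun w hw => ?_, hzu⟩
  rw [LinearMap.BilinForm.mem_orthogonal_iff] at hz
  exact hz w hw

/-- If `M ≤ spGL` contains the stabiliser of the totally isotropic `W` and an element not stabilising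
`W`, then `M` contains every symplectic transvection. -/
theorem sp_parabolic_transv_all (W : Submodule F (Fin m ⊕ Fin m → F))
    (hW : ∀ u ∈ W, ∀ v ∈ W, sympForm m F u v = 0)
    (M : Subgroup (GL (Fin m ⊕ Fin m) F))
    (hPM : subspaceStabilizer W ⊓ spGL m F ≤ M) (hMG : M ≤ spGL m F)
    (h : GL (Fin m ⊕ Fin m) F) (hhM : h ∈ M) (hhW : h ∉ subspaceStabilizer W)
    (v : Fin m ⊕ Fin m → F) (c : F) : spT m v c ∈ M := by
  have ha : ∀ u, (∀ w ∈ W, sympForm m F w u = 0) → ∀ c, spT m u c ∈ M := by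
    intro u hu c
    apply hPM
    refine ⟨mem_subspaceStabilizer_of_forall W _ ?_, spT_mem m u c⟩
    intro v hv
    rw [spT_mulVec, hu v hv, mul_zero, zero_smul, add_zero]
    exact hv
  have hb : ∀ g ∈ M, ∀ v, (∀ c, spT m v c ∈ M) →
      ∀ c, spT m ((g : Matrix (Fin m ⊕ Fin m) (Fin m ⊕ Fin m) F) *ᵥ v) c ∈ M := by
    intro g hg v hv c
    rw [← spT_conj m g (hMG hg) v c]
    exact M.mul_mem (M.mul_mem hg (hv c)) (M.inv_mem hg)
  have hc : ∀ (a : F) v, (∀ c, spT m v c ∈ M) → ∀ c, spT m (a • v) c ∈ M := by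
    intro a v hv c
    rw [spT_smul]
    exact hv _
  have hmove : ∀ u, (∀ c, spT m u c ∈ M) → ∀ v, (∀ c, spT m v c ∈ M) → sympForm m F u v ≠ 0 →
      ∀ c, spT m (u + v) c ∈ M := by
    intro u hu v hv huv
    have h1 := hb (spT m v (sympForm m F u v)⁻¹) (hv _) u hu
    rw [spT_mulVec, inv_mul_cancel₀ huv, one_smul] at h1
    exact h1
  have hd : ∀ v, (∀ c, spT m v c ∈ M) → ∀ z₁ ∈ W, sympForm m F z₁ v ≠ 0 →
      ∀ z, (∀ w ∈ W, sympForm m F w z = 0) → ∀ c, spT m (v + z) c ∈ M := by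
    intro v hv z₁ hz₁W hz₁ z hz
    by_cases hvz : sympForm m F v z = 0
    · have hvz₁ : sympForm m F v z₁ ≠ 0 := by rw [sympForm_swap]; exact neg_ne_zero.mpr hz₁
      have h1 := hmove v hv z₁ (ha z₁ (fun w hw => hW w hw z₁ hz₁W)) hvz₁
      have h2 : ∀ c, spT m (z - z₁) c ∈ M := ha _ (fun w hw => by
        rw [sympForm_sub_right, hz w hw, hW w hw z₁ hz₁W, sub_zero])
      have h3 := hmove (v + z₁) h1 (z - z₁) h2 (by
        rw [sympForm_add_left, sympForm_sub_right, sympForm_sub_right, hvz, hz z₁ hz₁W,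
          sympForm_self, zero_sub, sub_zero, add_zero]
        exact neg_ne_zero.mpr hvz₁)
      have e : v + z₁ + (z - z₁) = v + z := by abel
      rw [e] at h3
      exact h3
    · exact hmove v hv z (ha z hz) hvz
  have he : ∀ v, (∀ c, spT m v c ∈ M) → ∀ w ∈ W, sympForm m F v w ≠ 0 →
      ∀ z, sympForm m F w z = 0 → ∀ c, spT m (v + z) c ∈ M := by
    intro v hv w hwW hvw z hwz
    have hwz' : sympForm m F w ((sympForm m F v w)⁻¹ • z) = 0 := by
      rw [sympForm_smul_right, hwz, mul_zero]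
    have hE : spE m w ((sympForm m F v w)⁻¹ • z) ∈ M := by
      apply hPM
      refine ⟨mem_subspaceStabilizer_of_forall W _ ?_, spE_mem m _ _⟩
      intro w' hw'
      rw [spE_mulVec m w _ hwz', hW w' hw' w hwW, zero_smul, add_zero]
      exact W.add_mem hw' (W.smul_mem _ hwW)
    have hy := hb _ hE v hv
    rw [spE_mulVec m w _ hwz', smul_smul, mul_inv_cancel₀ hvw, one_smul] at hy
    by_cases hyW : ∃ w' ∈ W, sympForm m F w'
        (v + z + sympForm m F v ((sympForm m F v w)⁻¹ • z) • w) ≠ 0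
    · obtain ⟨w', hw'W, hw'⟩ := hyW
      have h1 := hd _ hy w' hw'W hw' (-(sympForm m F v ((sympForm m F v w)⁻¹ • z) • w))
        (fun w'' hw'' => by
          rw [sympForm_neg_right, sympForm_smul_right, hW w'' hw'' w hwW, mul_zero, neg_zero])
      have e : v + z + sympForm m F v ((sympForm m F v w)⁻¹ • z) • w +
          -(sympForm m F v ((sympForm m F v w)⁻¹ • z) • w) = v + z := by abel
      rw [e] at h1
      exact h1
    · push Not at hyW
      apply ha
      intro w' hw'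
      have h1 := hyW w' hw'
      rw [sympForm_add_right, sympForm_smul_right, hW w' hw' w hwW, mul_zero, add_zero] at h1
      exact h1
  have hf : ∀ v, (∀ c, spT m v c ∈ M) → ∀ w ∈ W, sympForm m F v w ≠ 0 →
      ∀ x, sympForm m F x w ≠ 0 → ∀ c, spT m x c ∈ M := by
    intro v hv w hwW hvw x hxw
    have ha0 : sympForm m F x w / sympForm m F v w ≠ 0 := div_ne_zero hxw hvw
    have h1 := he v hv w hwW hvw ((sympForm m F x w / sympForm m F v w)⁻¹ • x - v) (by
      rw [sympForm_sub_right, sympForm_smul_right, sympForm_swap m x w, sympForm_swap m v w]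
      field_simp
      ring)
    have h2 := hc (sympForm m F x w / sympForm m F v w) _ h1
    have e : (sympForm m F x w / sympForm m F v w) •
        (v + ((sympForm m F x w / sympForm m F v w)⁻¹ • x - v)) = x := by
      rw [add_sub_cancel, smul_smul, mul_inv_cancel₀ ha0, one_smul]
    rw [e] at h2
    exact h2
  have hv₀ : ∀ h ∈ M, ∀ u, u ∉ W → (h : Matrix (Fin m ⊕ Fin m) (Fin m ⊕ Fin m) F) *ᵥ u ∈ W →
      ∃ v₀ w, (∀ c, spT m v₀ c ∈ M) ∧ w ∈ W ∧ sympForm m F v₀ w ≠ 0 := by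
    intro h hh u hu hhu
    obtain ⟨z, hz, hzu⟩ := exists_perp_ne m W u hu
    refine ⟨(h : Matrix (Fin m ⊕ Fin m) (Fin m ⊕ Fin m) F) *ᵥ z,
      (h : Matrix (Fin m ⊕ Fin m) (Fin m ⊕ Fin m) F) *ᵥ u, hb h hh z (ha z hz), hhu, ?_⟩
    rw [(mem_spGL_iff m h).mp (hMG hh)]
    exact hzu
  have hex : ∃ v₀ w, (∀ c, spT m v₀ c ∈ M) ∧ w ∈ W ∧ sympForm m F v₀ w ≠ 0 := by
    rw [mem_subspaceStabilizer_iff, not_forall] at hhW
    obtain ⟨u, hu⟩ := hhW
    by_cases hu1 : u ∈ W
    · have hu2 : (h : Matrix (Fin m ⊕ Fin m) (Fin m ⊕ Fin m) F) *ᵥ u ∉ W :=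
        fun h2 => hu ⟨fun _ => h2, fun _ => hu1⟩
      refine hv₀ h⁻¹ (M.inv_mem hhM) _ hu2 ?_
      rw [gl_inv_mulVec_mulVec]
      exact hu1
    · have hu2 : (h : Matrix (Fin m ⊕ Fin m) (Fin m ⊕ Fin m) F) *ᵥ u ∈ W := by
        by_contra h2
        exact hu ⟨fun h3 => absurd h3 hu1, fun h3 => absurd h3 h2⟩
      exact hv₀ h hhM u hu1 hu2
  obtain ⟨v₀, w, hv₀S, hwW, hv₀w⟩ := hex
  by_cases hx : ∀ w' ∈ W, sympForm m F w' v = 0
  · exact ha v hx c
  · push Not at hx
    obtain ⟨w', hw'W, hw'⟩ := hx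
    have hvw' : sympForm m F v w' ≠ 0 := by rw [sympForm_swap]; exact neg_ne_zero.mpr hw'
    by_cases hvw : sympForm m F v w = 0
    · have hv₁ : ∀ c, spT m (v₀ + v) c ∈ M := hf v₀ hv₀S w hwW hv₀w (v₀ + v) (by
        rw [sympForm_add_left, hvw, add_zero]; exact hv₀w)
      by_cases h1 : sympForm m F (v₀ + v) w' = 0
      · exact hf (v₀ + v) hv₁ (w' + w) (W.add_mem hw'W hwW) (by
          rw [sympForm_add_right, h1, zero_add, sympForm_add_left, hvw, add_zero]; exact hv₀w) v (by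
          rw [sympForm_add_right, hvw, add_zero]; exact hvw') c
      · exact hf (v₀ + v) hv₁ w' hw'W h1 v hvw' c
    · exact hf v₀ hv₀S w hwW hv₀w v hvw c

/-- The stabiliser in `spGL m F` of a non-zero totally isotropic subspace is a maximal subgroup. -/
theorem sp_parabolic_maximal (W : Submodule F (Fin m ⊕ Fin m → F)) (hW0 : W ≠ ⊥)
    (hW : IsTotallySingularFor (sympForm m F) W) :
    IsMaximalIn (spGL m F) (subspaceStabilizer W ⊓ spGL m F) := by
  refine ⟨?_, ?_⟩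
  · refine lt_of_le_of_ne inf_le_right ?_
    intro heq
    obtain ⟨w, hwW, hw0⟩ := (Submodule.ne_bot_iff W).mp hW0
    obtain ⟨x, hx⟩ := exists_sympForm_ne_zero m w hw0
    have hxW : x ∉ W := fun hxW => hx (hW w hwW x hxW)
    have hx0 : x ≠ 0 := fun h0 => hxW (h0 ▸ W.zero_mem)
    obtain ⟨g, hg⟩ := spGL_transitive_vectors m w x hw0 hx0
    have hgP : (g : GL (Fin m ⊕ Fin m) F) ∈ subspaceStabilizer W ⊓ spGL m F := by
      rw [heq]; exact g.2
    have := ((mem_subspaceStabilizer_iff W _).mp hgP.1 w).mp hwW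
    rw [hg] at this
    exact hxW this
  · intro M hPM hMG
    by_cases hM : M ≤ subspaceStabilizer W
    · left; exact le_antisymm (le_inf hM hMG) hPM
    · right
      obtain ⟨h, hhM, hhW⟩ := SetLike.not_le_iff_exists.mp hM
      exact le_antisymm hMG (spGL_le_of_transv m M (fun v c =>
        sp_parabolic_transv_all m W hW M hPM hMG h hhM hhW v c))

theorem sympBilin_isRefl : (sympBilin m (F := F)).IsRefl := by
  intro x y hxy
  rw [sympBilin_apply] at hxy ⊢
  rw [sympForm_swap, hxy, neg_zero]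

/-- If `M ≤ spGL` contains the stabiliser of the non-degenerate subspace `W` (with `dim W < m`) and an
element not stabilising `W`, then `M` contains every symplectic transvection. -/
theorem sp_nondeg_transv_all (W : Submodule F (Fin m ⊕ Fin m → F)) (hW0 : W ≠ ⊥)
    (hW : IsNondegenerateOn (sympForm m F) W) (hdim : Module.finrank F W < m)
    (M : Subgroup (GL (Fin m ⊕ Fin m) F))
    (hPM : subspaceStabilizer W ⊓ spGL m F ≤ M) (hMG : M ≤ spGL m F)
    (h : GL (Fin m ⊕ Fin m) F) (hhM : h ∈ M) (hhW : h ∉ subspaceStabilizer W)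
    (v : Fin m ⊕ Fin m → F) (c : F) : spT m v c ∈ M := by
  classical
  have hrefl : (sympBilin m (F := F)).IsRefl := sympBilin_isRefl m
  obtain ⟨Wp, hWp⟩ : ∃ Wp : Submodule F (Fin m ⊕ Fin m → F),
      Wp = LinearMap.BilinForm.orthogonal (sympBilin m) W := ⟨_, rfl⟩
  have hmemWp : ∀ x, x ∈ Wp ↔ ∀ w ∈ W, sympForm m F w x = 0 := by
    intro x
    rw [hWp, LinearMap.BilinForm.mem_orthogonal_iff]
    rfl
  have hdisj : Disjoint W Wp := by
    rw [Submodule.disjoint_def]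
    intro x hxW hxWp
    by_contra hx0
    obtain ⟨⟨y, hyW, hy⟩, -⟩ := hW x hxW hx0
    exact hy ((hmemWp x).mp hxWp y hyW)
  have hcompl : IsCompl W Wp := by
    rw [hWp]
    rw [hWp] at hdisj
    exact (LinearMap.BilinForm.isCompl_orthogonal_iff_disjoint hrefl).mpr hdisj
  have hdec : ∀ x, ∃ a ∈ W, ∃ b ∈ Wp, a + b = x := by
    intro x
    have : x ∈ W ⊔ Wp := by rw [hcompl.sup_eq_top]; trivial
    exact Submodule.mem_sup.mp this
  have hUW : ∀ u ∈ W, u ≠ 0 → ∃ w ∈ W, sympForm m F u w ≠ 0 := fun u hu hu0 => (hW u hu hu0).2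
  have hUWp : ∀ u ∈ Wp, u ≠ 0 → ∃ w ∈ Wp, sympForm m F u w ≠ 0 := by
    intro u hu hu0
    obtain ⟨x, hx⟩ := exists_sympForm_ne_zero m u hu0
    obtain ⟨a, haW, b, hbWp, rfl⟩ := hdec x
    refine ⟨b, hbWp, ?_⟩
    rw [sympForm_add_right, sympForm_swap m a u, (hmemWp u).mp hu a haW, neg_zero, zero_add] at hx
    exact hx
  have ha1 : ∀ u ∈ W, ∀ c, spT m u c ∈ M := by
    intro u hu c
    apply hPM
    refine ⟨mem_subspaceStabilizer_of_forall W _ ?_, spT_mem m u c⟩
    intro x hx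
    rw [spT_mulVec]
    exact W.add_mem hx (W.smul_mem _ hu)
  have ha2 : ∀ u ∈ Wp, ∀ c, spT m u c ∈ M := by
    intro u hu c
    apply hPM
    refine ⟨mem_subspaceStabilizer_of_forall W _ ?_, spT_mem m u c⟩
    intro x hx
    rw [spT_mulVec, (hmemWp u).mp hu x hx, mul_zero, zero_smul, add_zero]
    exact hx
  have hb : ∀ g ∈ M, ∀ v, (∀ c, spT m v c ∈ M) →
      ∀ c, spT m ((g : Matrix (Fin m ⊕ Fin m) (Fin m ⊕ Fin m) F) *ᵥ v) c ∈ M := by
    intro g hg v hv c
    rw [← spT_conj m g (hMG hg) v c]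
    exact M.mul_mem (M.mul_mem hg (hv c)) (M.inv_mem hg)
  have hkey : ∀ v₀, (∀ c, spT m v₀ c ∈ M) → v₀ ∉ W → v₀ ∉ Wp → ∀ x c, spT m x c ∈ M := by
    intro v₀ hv₀ hv₀W hv₀Wp x
    obtain ⟨a, haW, b, hbWp, hab⟩ := hdec v₀
    obtain ⟨a', ha'W, b', hb'Wp, hab'⟩ := hdec x
    have ha0 : a ≠ 0 := by
      rintro rfl
      rw [zero_add] at hab
      exact hv₀Wp (hab ▸ hbWp)
    have hb0 : b ≠ 0 := by
      rintro rfl
      rw [add_zero] at hab
      exact hv₀W (hab ▸ haW)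
    by_cases ha'0 : a' = 0
    · rw [ha'0, zero_add] at hab'
      exact ha2 x (hab' ▸ hb'Wp)
    by_cases hb'0 : b' = 0
    · rw [hb'0, add_zero] at hab'
      exact ha1 x (hab' ▸ ha'W)
    obtain ⟨A₁, -, hA₁a, hA₁fix, hA₁W⟩ :=
      transv_transitive_vectors_rel m W hUW a a' haW ha'W ha0 ha'0
    obtain ⟨A₂, -, hA₂b, hA₂fix, hA₂W⟩ :=
      transv_transitive_vectors_rel m Wp hUWp b b' hbWp hb'Wp hb0 hb'0
    obtain ⟨g₁, hg₁⟩ := exists_spGL m A₁.2
    obtain ⟨g₂, hg₂⟩ := exists_spGL m A₂.2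
    have hg₁M : (g₁ : GL (Fin m ⊕ Fin m) F) ∈ M := by
      apply hPM
      refine ⟨mem_subspaceStabilizer_of_forall W _ ?_, g₁.2⟩
      intro z hz
      rw [hg₁]; exact hA₁W z hz
    have hg₂M : (g₂ : GL (Fin m ⊕ Fin m) F) ∈ M := by
      apply hPM
      refine ⟨mem_subspaceStabilizer_of_forall W _ ?_, g₂.2⟩
      intro z hz
      rw [hg₂, hA₂fix z (fun w hw => (hmemWp w).mp hw z hz)]
      exact hz
    have h1 := hb _ (M.mul_mem hg₂M hg₁M) v₀ hv₀
    have e : (((g₂ : GL (Fin m ⊕ Fin m) F) * (g₁ : GL (Fin m ⊕ Fin m) F) :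
        GL (Fin m ⊕ Fin m) F) : Matrix (Fin m ⊕ Fin m) (Fin m ⊕ Fin m) F) *ᵥ v₀ = x := by
      rw [Units.val_mul, ← Matrix.mulVec_mulVec, hg₁, hg₂, ← hab, Matrix.mulVec_add, hA₁a,
        hA₁fix b (fun w hw => by rw [sympForm_swap, (hmemWp b).mp hbWp w hw, neg_zero]),
        Matrix.mulVec_add, hA₂b, hA₂fix a' (fun w hw => (hmemWp w).mp hw a' ha'W), hab']
    rw [e] at h1
    exact h1
  have hunion : ∀ X : Submodule F (Fin m ⊕ Fin m → F),
      (∀ x ∈ X, (h : Matrix (Fin m ⊕ Fin m) (Fin m ⊕ Fin m) F) *ᵥ x ∈ W ∨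
        (h : Matrix (Fin m ⊕ Fin m) (Fin m ⊕ Fin m) F) *ᵥ x ∈ Wp) →
      (∀ x ∈ X, (h : Matrix (Fin m ⊕ Fin m) (Fin m ⊕ Fin m) F) *ᵥ x ∈ W) ∨
        (∀ x ∈ X, (h : Matrix (Fin m ⊕ Fin m) (Fin m ⊕ Fin m) F) *ᵥ x ∈ Wp) := by
    intro X hX
    by_contra hcon
    push Not at hcon
    obtain ⟨⟨x, hxX, hx⟩, ⟨y, hyX, hy⟩⟩ := hcon
    have hx' := (hX x hxX).resolve_left hx
    have hy' := (hX y hyX).resolve_right hy
    rcases hX (x + y) (X.add_mem hxX hyX) with h1 | h1
    · rw [Matrix.mulVec_add] at h1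
      exact hx (by simpa using W.sub_mem h1 hy')
    · rw [Matrix.mulVec_add] at h1
      exact hy (by simpa using Wp.sub_mem h1 hx')
  by_cases hex : ∃ v₀, (∀ c, spT m v₀ c ∈ M) ∧ v₀ ∉ W ∧ v₀ ∉ Wp
  · obtain ⟨v₀, h1, h2, h3⟩ := hex
    exact hkey v₀ h1 h2 h3 v c
  · exfalso
    have hS : ∀ v₀, (∀ c, spT m v₀ c ∈ M) → v₀ ∈ W ∨ v₀ ∈ Wp := by
      intro v₀ hv₀
      by_cases h1 : v₀ ∈ W
      · exact Or.inl h1
      · by_cases h2 : v₀ ∈ Wp
        · exact Or.inr h2
        · exact absurd ⟨v₀, hv₀, h1, h2⟩ hex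
    rcases hunion W (fun x hx => hS _ (hb h hhM x (ha1 x hx))) with h1 | h1
    · exact hhW (mem_subspaceStabilizer_of_forall W h h1)
    · rcases hunion Wp (fun x hx => hS _ (hb h hhM x (ha2 x hx))) with h2 | h2
      · let φ : Wp →ₗ[F] W :=
          { toFun := fun w => ⟨(h : Matrix (Fin m ⊕ Fin m) (Fin m ⊕ Fin m) F) *ᵥ
              (w : Fin m ⊕ Fin m → F), h2 w w.2⟩
            map_add' := fun a b => by
              apply Subtype.ext
              show (h : Matrix (Fin m ⊕ Fin m) (Fin m ⊕ Fin m) F) *ᵥ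
                  ((a : Fin m ⊕ Fin m → F) + (b : Fin m ⊕ Fin m → F)) =
                (h : Matrix (Fin m ⊕ Fin m) (Fin m ⊕ Fin m) F) *ᵥ (a : Fin m ⊕ Fin m → F) +
                  (h : Matrix (Fin m ⊕ Fin m) (Fin m ⊕ Fin m) F) *ᵥ (b : Fin m ⊕ Fin m → F)
              exact Matrix.mulVec_add _ _ _
            map_smul' := fun r a => by
              apply Subtype.ext
              show (h : Matrix (Fin m ⊕ Fin m) (Fin m ⊕ Fin m) F) *ᵥ
                  (r • (a : Fin m ⊕ Fin m → F)) =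
                r • ((h : Matrix (Fin m ⊕ Fin m) (Fin m ⊕ Fin m) F) *ᵥ (a : Fin m ⊕ Fin m → F))
              exact Matrix.mulVec_smul _ _ _ }
        have hinj : Function.Injective φ := by
          intro a b hab
          have h3 : (h : Matrix (Fin m ⊕ Fin m) (Fin m ⊕ Fin m) F) *ᵥ (a : Fin m ⊕ Fin m → F) =
              (h : Matrix (Fin m ⊕ Fin m) (Fin m ⊕ Fin m) F) *ᵥ (b : Fin m ⊕ Fin m → F) :=
            congrArg Subtype.val hab
          have h4 := congrArg (fun y =>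
            ((h⁻¹ : GL (Fin m ⊕ Fin m) F) : Matrix (Fin m ⊕ Fin m) (Fin m ⊕ Fin m) F) *ᵥ y) h3
          simp only [gl_inv_mulVec_mulVec] at h4
          exact Subtype.ext h4
        have h5 := LinearMap.finrank_le_finrank_of_injective hinj
        have h6 := Submodule.finrank_add_eq_of_isCompl hcompl
        have h7 : Module.finrank F (Fin m ⊕ Fin m → F) = m + m := by simp
        omega
      · obtain ⟨w, hwW, hw0⟩ := (Submodule.ne_bot_iff W).mp hW0
        obtain ⟨a, haW, b, hbWp, hab⟩ := hdec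
          (((h⁻¹ : GL (Fin m ⊕ Fin m) F) : Matrix (Fin m ⊕ Fin m) (Fin m ⊕ Fin m) F) *ᵥ w)
        have h3 : w ∈ Wp := by
          have : w = (h : Matrix (Fin m ⊕ Fin m) (Fin m ⊕ Fin m) F) *ᵥ a +
              (h : Matrix (Fin m ⊕ Fin m) (Fin m ⊕ Fin m) F) *ᵥ b := by
            rw [← Matrix.mulVec_add, hab, gl_mulVec_inv_mulVec]
          rw [this]
          exact Wp.add_mem (h1 a haW) (h2 b hbWp)
        exact hw0 (Submodule.disjoint_def.mp hdisj w hwW h3)

/-- The stabiliser in `spGL m F` of a non-zero non-degenerate subspace of dimension `< m` is a maximal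
subgroup. -/
theorem sp_nondeg_maximal (W : Submodule F (Fin m ⊕ Fin m → F)) (hW0 : W ≠ ⊥)
    (hW : IsNondegenerateOn (sympForm m F) W) (hdim : Module.finrank F W < m) :
    IsMaximalIn (spGL m F) (subspaceStabilizer W ⊓ spGL m F) := by
  refine ⟨?_, ?_⟩
  · refine lt_of_le_of_ne inf_le_right ?_
    intro heq
    obtain ⟨w, hwW, hw0⟩ := (Submodule.ne_bot_iff W).mp hW0
    have hWtop : W ≠ ⊤ := by
      intro htop
      have h7 : Module.finrank F (Fin m ⊕ Fin m → F) = m + m := by simp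
      rw [htop, finrank_top] at hdim
      omega
    obtain ⟨x, hxW⟩ : ∃ x, x ∉ W := by
      by_contra hcon
      push Not at hcon
      exact hWtop ((Submodule.eq_top_iff').mpr hcon)
    have hx0 : x ≠ 0 := fun h0 => hxW (h0 ▸ W.zero_mem)
    obtain ⟨g, hg⟩ := spGL_transitive_vectors m w x hw0 hx0
    have hgP : (g : GL (Fin m ⊕ Fin m) F) ∈ subspaceStabilizer W ⊓ spGL m F := by
      rw [heq]; exact g.2
    have := ((mem_subspaceStabilizer_iff W _).mp hgP.1 w).mp hwW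
    rw [hg] at this
    exact hxW this
  · intro M hPM hMG
    by_cases hM : M ≤ subspaceStabilizer W
    · left; exact le_antisymm (le_inf hM hMG) hPM
    · right
      obtain ⟨h, hhM, hhW⟩ := SetLike.not_le_iff_exists.mp hM
      exact le_antisymm hMG (spGL_le_of_transv m M (fun v c =>
        sp_nondeg_transv_all m W hW0 hW hdim M hPM hMG h hhM hhW v c))

end

end Cfsg.Agent.Lib.helper95
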