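import Mathlib
import Cfsg.Prelude.Def_GeometricClasses
import Cfsg.Agent.Lib.helper17.SymmForm
import Cfsg.Agent.Lib.helper95.SpMax

/-!
Geometry of a skew-adjoint square root `κ` of a non-square `δ` for the standard alternating form
(the unitary geometry of the field `F[κ]`, written over `F`): the quadratic form `x ↦ f(κ x, x)`,
existence of isotropic vectors with prescribed pairings, unitary transvections.
-/

set_option autoImplicit false

namespace Cfsg.Agent.Lib.helper95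

open Matrix Cfsg Cfsg.Geo Cfsg.Agent.Lib.helper17 Module

section
variable {F : Type*} [Field F] (m : ℕ)

/-- `κ` is skew-adjoint for the standard alternating form, with `κ² = δ` a non-square, in
characteristic not two. -/
structure SkewK (κ : Matrix (Fin m ⊕ Fin m) (Fin m ⊕ Fin m) F) (δ : F) : Prop where
  sq : κ * κ = δ • (1 : Matrix (Fin m ⊕ Fin m) (Fin m ⊕ Fin m) F)
  skew : ∀ u v : Fin m ⊕ Fin m → F, sympForm m F (κ *ᵥ u) v = - sympForm m F u (κ *ᵥ v)
  nsq : ∀ c : F, c * c ≠ δ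
  two : (2 : F) ≠ 0

/-- The quadratic form `x ↦ f(κ x, x)`. -/
def kq (κ : Matrix (Fin m ⊕ Fin m) (Fin m ⊕ Fin m) F) (x : Fin m ⊕ Fin m → F) : F :=
  sympForm m F (κ *ᵥ x) x

theorem mat_ext_mulVec {ι : Type} [Fintype ι] [DecidableEq ι] {A B : Matrix ι ι F}
    (H : ∀ x, A *ᵥ x = B *ᵥ x) : A = B := by
  apply Matrix.toLin'.injective
  apply LinearMap.ext
  intro x
  rw [Matrix.toLin'_apply, Matrix.toLin'_apply]
  exact H x

variable {m}
variable {κ : Matrix (Fin m ⊕ Fin m) (Fin m ⊕ Fin m) F} {δ : F}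

theorem SkewK.kk (h : SkewK m κ δ) (x : Fin m ⊕ Fin m → F) : κ *ᵥ (κ *ᵥ x) = δ • x := by
  rw [Matrix.mulVec_mulVec, h.sq, Matrix.smul_mulVec, Matrix.one_mulVec]

theorem SkewK.delta_ne (h : SkewK m κ δ) : δ ≠ 0 := by
  intro h0
  exact h.nsq 0 (by rw [h0]; ring)

theorem SkewK.form_kk (h : SkewK m κ δ) (x y : Fin m ⊕ Fin m → F) :
    sympForm m F (κ *ᵥ x) (κ *ᵥ y) = - (δ * sympForm m F x y) := by
  rw [h.skew, h.kk, sympForm_smul_right]

theorem SkewK.b_symm (h : SkewK m κ δ) (x y : Fin m ⊕ Fin m → F) :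
    sympForm m F (κ *ᵥ x) y = sympForm m F (κ *ᵥ y) x := by
  rw [h.skew x y, sympForm_swap]
  ring

theorem SkewK.form_right (h : SkewK m κ δ) (x y : Fin m ⊕ Fin m → F) :
    sympForm m F x (κ *ᵥ y) = - sympForm m F (κ *ᵥ x) y := by
  rw [h.skew]; ring

theorem kq_zero (κ : Matrix (Fin m ⊕ Fin m) (Fin m ⊕ Fin m) F) : kq m κ 0 = 0 := by
  unfold kq
  rw [sympForm_zero_right]

theorem SkewK.kq_add (h : SkewK m κ δ) (x y : Fin m ⊕ Fin m → F) :
    kq m κ (x + y) = kq m κ x + kq m κ y + 2 * sympForm m F (κ *ᵥ x) y := by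
  unfold kq
  rw [Matrix.mulVec_add, sympForm_add_left, sympForm_add_right, sympForm_add_right, h.b_symm y x]
  ring

theorem kq_smul (κ : Matrix (Fin m ⊕ Fin m) (Fin m ⊕ Fin m) F) (a : F) (x : Fin m ⊕ Fin m → F) :
    kq m κ (a • x) = a * a * kq m κ x := by
  unfold kq
  rw [Matrix.mulVec_smul, sympForm_smul_left, sympForm_smul_right]
  ring

theorem SkewK.kq_kappa (h : SkewK m κ δ) (x : Fin m ⊕ Fin m → F) :
    kq m κ (κ *ᵥ x) = - (δ * kq m κ x) := by
  unfold kq
  rw [h.kk, sympForm_smul_left, h.form_right]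
  ring

theorem SkewK.kq_comb (h : SkewK m κ δ) (a b : F) (x : Fin m ⊕ Fin m → F) :
    kq m κ (a • x + b • κ *ᵥ x) = (a * a - δ * b * b) * kq m κ x := by
  rw [h.kq_add, kq_smul, kq_smul, h.kq_kappa, Matrix.mulVec_smul, sympForm_smul_left,
    sympForm_smul_right, sympForm_self]
  ring

theorem SkewK.kq_sub (h : SkewK m κ δ) (x y : Fin m ⊕ Fin m → F) :
    kq m κ (x - y) = kq m κ x + kq m κ y - 2 * sympForm m F (κ *ᵥ x) y := by
  have e : x - y = x + (-1 : F) • y := by module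
  rw [e, h.kq_add, kq_smul, sympForm_smul_right]
  ring

theorem SkewK.kappa_indep (h : SkewK m κ δ) {x : Fin m ⊕ Fin m → F} (hx : x ≠ 0) {a b : F}
    (hab : a • x + b • κ *ᵥ x = 0) : a = 0 ∧ b = 0 := by
  by_cases hb : b = 0
  · subst hb
    rw [zero_smul, add_zero] at hab
    exact ⟨(smul_eq_zero.mp hab).resolve_right hx, rfl⟩
  · exfalso
    have h1 : κ *ᵥ x = (-a / b) • x := by
      have h2 : b • κ *ᵥ x = -(a • x) := eq_neg_of_add_eq_zero_right hab
      calc κ *ᵥ x = b⁻¹ • (b • κ *ᵥ x) := by rw [smul_smul, inv_mul_cancel₀ hb, one_smul]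
        _ = (-a / b) • x := by
          rw [h2, smul_neg, smul_smul, ← neg_smul]
          congr 1
          field_simp
    have h3 := h.kk x
    rw [h1, Matrix.mulVec_smul, h1, smul_smul] at h3
    have h4 : ((-a / b) * (-a / b) - δ) • x = 0 := by
      rw [sub_smul, h3, sub_self]
    have h5 := (smul_eq_zero.mp h4).resolve_right hx
    exact h.nsq (-a / b) (by linear_combination h5)

theorem SkewK.kappa_ne_zero (h : SkewK m κ δ) {x : Fin m ⊕ Fin m → F} (hx : x ≠ 0) :
    κ *ᵥ x ≠ 0 := by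
  intro h0
  have := h.kappa_indep hx (a := 0) (b := 1) (by rw [h0]; simp)
  exact one_ne_zero this.2

theorem SkewK.norm_ne (h : SkewK m κ δ) {a b : F} (hab : a ≠ 0 ∨ b ≠ 0) :
    a * a - δ * b * b ≠ 0 := by
  intro h0
  by_cases hb : b = 0
  · subst hb
    have ha : a ≠ 0 := by
      rcases hab with ha | hb
      · exact ha
      · exact absurd rfl hb
    have : a * a = 0 := by linear_combination h0
    exact ha (mul_self_eq_zero.mp this)
  · apply h.nsq (a / b)
    field_simp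
    linear_combination h0

theorem SkewK.exists_norm [Finite F] (h : SkewK m κ δ) (t : F) :
    ∃ a b : F, a * a - δ * b * b = t := by
  by_cases ht : t = 0
  · exact ⟨0, 0, by rw [ht]; ring⟩
  · obtain ⟨x, y, hxy⟩ := exists_sq_add_sq_eq_one h.two (1 / t) (-δ / t)
      (one_div_ne_zero ht) (div_ne_zero (neg_ne_zero.mpr h.delta_ne) ht)
    refine ⟨x, y, ?_⟩
    field_simp at hxy
    linear_combination hxy

end

end Cfsg.Agent.Lib.helper95
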