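import Mathlib
import Cfsg.Prelude.Def_GeometricClasses
import Cfsg.Agent.Lib.helper95.SpUnit1

/-!
Existence lemmas for isotropic vectors of the form `x ↦ f(κ x, x)`.
-/

set_option autoImplicit false

namespace Cfsg.Agent.Lib.helper95

open Matrix Cfsg Cfsg.Geo Cfsg.Agent.Lib.helper17 Module

section
variable {F : Type*} [Field F] {m : ℕ}
variable {κ : Matrix (Fin m ⊕ Fin m) (Fin m ⊕ Fin m) F} {δ : F}

/-- The `F[κ]`-span of a finite family of vectors. -/
def kspan (κ : Matrix (Fin m ⊕ Fin m) (Fin m ⊕ Fin m) F) {n : ℕ} (v : Fin n → (Fin m ⊕ Fin m → F)) :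
    Submodule F (Fin m ⊕ Fin m → F) :=
  Submodule.span F (Set.range (Sum.elim v (fun i => κ *ᵥ v i)))

theorem mem_kspan (κ : Matrix (Fin m ⊕ Fin m) (Fin m ⊕ Fin m) F) {n : ℕ}
    (v : Fin n → (Fin m ⊕ Fin m → F)) (i : Fin n) : v i ∈ kspan κ v :=
  Submodule.subset_span ⟨Sum.inl i, rfl⟩

theorem kappa_mem_kspan (κ : Matrix (Fin m ⊕ Fin m) (Fin m ⊕ Fin m) F) {n : ℕ}
    (v : Fin n → (Fin m ⊕ Fin m → F)) (i : Fin n) : κ *ᵥ v i ∈ kspan κ v :=
  Submodule.subset_span ⟨Sum.inr i, rfl⟩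

theorem finrank_kspan_le (κ : Matrix (Fin m ⊕ Fin m) (Fin m ⊕ Fin m) F) {n : ℕ}
    (v : Fin n → (Fin m ⊕ Fin m → F)) : finrank F (kspan κ v) ≤ n + n := by
  have h := finrank_range_le_card (R := F) (Sum.elim v (fun i => κ *ᵥ v i))
  rw [Fintype.card_sum, Fintype.card_fin] at h
  exact h

theorem SkewK.kspan_stable (h : SkewK m κ δ) {n : ℕ} (v : Fin n → (Fin m ⊕ Fin m → F))
    {z : Fin m ⊕ Fin m → F} (hz : z ∈ kspan κ v) : κ *ᵥ z ∈ kspan κ v := by
  unfold kspan at hz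
  induction hz using Submodule.span_induction with
  | mem x hx =>
    obtain ⟨j, rfl⟩ := hx
    rcases j with j | j
    · exact kappa_mem_kspan κ v j
    · simp only [Sum.elim_inr]
      rw [h.kk]
      exact Submodule.smul_mem _ _ (mem_kspan κ v j)
  | zero => rw [Matrix.mulVec_zero]; exact Submodule.zero_mem _
  | add x y _ _ hx hy => rw [Matrix.mulVec_add]; exact Submodule.add_mem _ hx hy
  | smul a x _ hx => rw [Matrix.mulVec_smul]; exact Submodule.smul_mem _ _ hx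

theorem SkewK.mem_orth_kspan_iff (_h : SkewK m κ δ) {n : ℕ} (v : Fin n → (Fin m ⊕ Fin m → F))
    (z : Fin m ⊕ Fin m → F) :
    z ∈ LinearMap.BilinForm.orthogonal (sympBilin m) (kspan κ v) ↔
      ∀ i, sympForm m F z (v i) = 0 ∧ sympForm m F z (κ *ᵥ v i) = 0 := by
  rw [LinearMap.BilinForm.mem_orthogonal_iff]
  constructor
  · intro hz i
    have h1 := hz _ (mem_kspan κ v i)
    have h2 := hz _ (kappa_mem_kspan κ v i)
    rw [sympBilin_apply] at h1 h2
    constructor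
    · rw [sympForm_swap, h1, neg_zero]
    · rw [sympForm_swap, h2, neg_zero]
  · intro hz x hx
    rw [sympBilin_apply]
    unfold kspan at hx
    induction hx using Submodule.span_induction with
    | mem x hx =>
      obtain ⟨j, rfl⟩ := hx
      rcases j with j | j
      · simp only [Sum.elim_inl]
        rw [sympForm_swap, (hz j).1, neg_zero]
      · simp only [Sum.elim_inr]
        rw [sympForm_swap, (hz j).2, neg_zero]
    | zero => exact sympForm_zero_left m z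
    | add x y _ _ hx hy => rw [sympForm_add_left, hx, hy, add_zero]
    | smul a x _ hx => rw [sympForm_smul_left, hx, mul_zero]

theorem SkewK.orth_kspan_stable (h : SkewK m κ δ) {n : ℕ} (v : Fin n → (Fin m ⊕ Fin m → F))
    {z : Fin m ⊕ Fin m → F} (hz : z ∈ LinearMap.BilinForm.orthogonal (sympBilin m) (kspan κ v)) :
    κ *ᵥ z ∈ LinearMap.BilinForm.orthogonal (sympBilin m) (kspan κ v) := by
  rw [h.mem_orth_kspan_iff] at hz ⊢
  intro i
  constructor
  · rw [h.skew, (hz i).2, neg_zero]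
  · rw [h.form_kk, (hz i).1, mul_zero, neg_zero]

theorem finrank_orth_kspan (κ : Matrix (Fin m ⊕ Fin m) (Fin m ⊕ Fin m) F) {n : ℕ}
    (v : Fin n → (Fin m ⊕ Fin m → F)) :
    m + m - (n + n) ≤ finrank F (LinearMap.BilinForm.orthogonal (sympBilin m) (kspan κ v)) := by
  rw [LinearMap.BilinForm.finrank_orthogonal (sympBilin_nondegenerate m (F := F))]
  have h1 := finrank_kspan_le κ v
  have h7 : Module.finrank F (Fin m ⊕ Fin m → F) = m + m := by simp
  omega

/-- A `κ`-stable subspace of dimension more than `m` contains a vector with `f(κ z, z) ≠ 0`. -/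
theorem SkewK.exists_kq_ne (h : SkewK m κ δ) (Y : Submodule F (Fin m ⊕ Fin m → F))
    (hY : ∀ z ∈ Y, κ *ᵥ z ∈ Y) (hdim : m < finrank F Y) : ∃ z ∈ Y, kq m κ z ≠ 0 := by
  by_contra hcon
  push Not at hcon
  have hzero : ∀ z ∈ Y, ∀ z' ∈ Y, sympForm m F z z' = 0 := by
    intro z hz z' hz'
    have h1 := h.kq_add (κ *ᵥ z) z'
    rw [hcon _ (Y.add_mem (hY z hz) hz'), hcon _ (hY z hz), hcon _ hz', h.kk, sympForm_smul_left] at h1
    have h2 : 2 * δ * sympForm m F z z' = 0 := by linear_combination -h1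
    rcases mul_eq_zero.mp h2 with h3 | h3
    · exact absurd h3 (mul_ne_zero h.two h.delta_ne)
    · exact h3
  have hle : Y ≤ LinearMap.BilinForm.orthogonal (sympBilin m) Y := by
    intro z hz
    rw [LinearMap.BilinForm.mem_orthogonal_iff]
    intro x hx
    rw [sympBilin_apply]
    exact hzero x hx z hz
  have h1 := Submodule.finrank_mono hle
  rw [LinearMap.BilinForm.finrank_orthogonal (sympBilin_nondegenerate m (F := F))] at h1
  have h7 : Module.finrank F (Fin m ⊕ Fin m → F) = m + m := by simp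
  omega

/-- Adjusting the value of `f(κ z, z)` inside the orthogonal complement of three `F[κ]`-lines. -/
theorem SkewK.adjust [Finite F] (h : SkewK m κ δ) (hm : 7 ≤ m) (a b c : Fin m ⊕ Fin m → F) (t : F) :
    ∃ z, (sympForm m F z a = 0 ∧ sympForm m F z (κ *ᵥ a) = 0) ∧
      (sympForm m F z b = 0 ∧ sympForm m F z (κ *ᵥ b) = 0) ∧
      (sympForm m F z c = 0 ∧ sympForm m F z (κ *ᵥ c) = 0) ∧ kq m κ z = t := by
  have hdim := finrank_orth_kspan κ ![a, b, c]
  obtain ⟨z₀, hz₀, hq⟩ := h.exists_kq_ne _ (fun z hz => h.orth_kspan_stable ![a, b, c] hz)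
    (by omega)
  obtain ⟨α, β, hαβ⟩ := h.exists_norm (t / kq m κ z₀)
  have hz : α • z₀ + β • κ *ᵥ z₀ ∈
      LinearMap.BilinForm.orthogonal (sympBilin m) (kspan κ ![a, b, c]) :=
    Submodule.add_mem _ (Submodule.smul_mem _ _ hz₀)
      (Submodule.smul_mem _ _ (h.orth_kspan_stable ![a, b, c] hz₀))
  rw [h.mem_orth_kspan_iff] at hz
  refine ⟨α • z₀ + β • κ *ᵥ z₀, by simpa using hz 0, by simpa using hz 1, by simpa using hz 2, ?_⟩
  rw [h.kq_comb, hαβ]
  field_simp

/-- A subspace of dimension at least three contains a non-zero isotropic vector. -/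
theorem SkewK.iso_exists [Finite F] (h : SkewK m κ δ) (C : Submodule F (Fin m ⊕ Fin m → F))
    (hC : 3 ≤ finrank F C) : ∃ v ∈ C, v ≠ 0 ∧ kq m κ v = 0 := by
  obtain ⟨c', hc'⟩ := exists_linearIndependent_of_le_finrank hC
  have hli : LinearIndependent F (fun i => (c' i : Fin m ⊕ Fin m → F)) :=
    hc'.map' C.subtype (Submodule.ker_subtype C)
  have hind : ∀ a b c : F, a • (c' 0 : Fin m ⊕ Fin m → F) + b • (c' 1 : Fin m ⊕ Fin m → F) +
      c • (c' 2 : Fin m ⊕ Fin m → F) = 0 → a = 0 ∧ b = 0 ∧ c = 0 := by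
    intro a b c habc
    have h1 := Fintype.linearIndependent_iff.mp hli ![a, b, c] (by
      rw [Fin.sum_univ_three]
      simpa using habc)
    exact ⟨by simpa using h1 0, by simpa using h1 1, by simpa using h1 2⟩
  obtain ⟨x, hx⟩ : ∃ x : Fin m ⊕ Fin m → F, x = c' 0 := ⟨_, rfl⟩
  obtain ⟨c1, hc1⟩ : ∃ x : Fin m ⊕ Fin m → F, x = c' 1 := ⟨_, rfl⟩
  obtain ⟨c2, hc2⟩ : ∃ x : Fin m ⊕ Fin m → F, x = c' 2 := ⟨_, rfl⟩
  rw [← hx, ← hc1, ← hc2] at hind
  have hxC : x ∈ C := by rw [hx]; exact (c' 0).2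
  have hc1C : c1 ∈ C := by rw [hc1]; exact (c' 1).2
  have hc2C : c2 ∈ C := by rw [hc2]; exact (c' 2).2
  have hx0 : x ≠ 0 := by
    intro h0
    have := hind 1 0 0 (by rw [h0]; simp)
    exact one_ne_zero this.1
  by_cases hqx : kq m κ x = 0
  · exact ⟨x, hxC, hx0, hqx⟩
  obtain ⟨l, hl⟩ : ∃ l : F, l = sympForm m F (κ *ᵥ x) c1 / kq m κ x := ⟨_, rfl⟩
  obtain ⟨y, hy⟩ : ∃ y : Fin m ⊕ Fin m → F, y = c1 - l • x := ⟨_, rfl⟩
  have hyC : y ∈ C := by rw [hy]; exact C.sub_mem hc1C (C.smul_mem _ hxC)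
  have hy0 : y ≠ 0 := by
    intro h0
    have := hind (-l) 1 0 (by rw [← h0, hy]; module)
    exact one_ne_zero this.2.1
  have hxy : sympForm m F (κ *ᵥ x) y = 0 := by
    rw [hy, sympForm_sub_right, sympForm_smul_right, hl]
    unfold kq at hqx ⊢
    field_simp
    ring
  by_cases hqy : kq m κ y = 0
  · exact ⟨y, hyC, hy0, hqy⟩
  obtain ⟨l2, hl2⟩ : ∃ l : F, l = sympForm m F (κ *ᵥ x) c2 / kq m κ x := ⟨_, rfl⟩
  obtain ⟨l3, hl3⟩ : ∃ l : F, l = sympForm m F (κ *ᵥ y) c2 / kq m κ y := ⟨_, rfl⟩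
  obtain ⟨z, hz⟩ : ∃ z : Fin m ⊕ Fin m → F, z = c2 - l2 • x - l3 • y := ⟨_, rfl⟩
  have hzC : z ∈ C := by
    rw [hz]; exact C.sub_mem (C.sub_mem hc2C (C.smul_mem _ hxC)) (C.smul_mem _ hyC)
  have hz0 : z ≠ 0 := by
    intro h0
    have := hind (-l2 + l3 * l) (-l3) 1 (by rw [← h0, hz, hy]; module)
    exact one_ne_zero this.2.2
  have hyx : sympForm m F (κ *ᵥ y) x = 0 := by rw [h.b_symm, hxy]
  have hxz : sympForm m F (κ *ᵥ x) z = 0 := by
    rw [hz, sympForm_sub_right, sympForm_sub_right, sympForm_smul_right, sympForm_smul_right, hxy, hl2]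
    unfold kq at hqx ⊢
    field_simp
    ring
  have hyz : sympForm m F (κ *ᵥ y) z = 0 := by
    rw [hz, sympForm_sub_right, sympForm_sub_right, sympForm_smul_right, sympForm_smul_right, hyx, hl3]
    unfold kq at hqy ⊢
    field_simp
    ring
  by_cases hqz : kq m κ z = 0
  · exact ⟨z, hzC, hz0, hqz⟩
  obtain ⟨s, t, hst⟩ := exists_sq_add_sq_eq_one h.two (-kq m κ x / kq m κ z) (-kq m κ y / kq m κ z)
    (div_ne_zero (neg_ne_zero.mpr hqx) hqz) (div_ne_zero (neg_ne_zero.mpr hqy) hqz)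
  refine ⟨s • x + t • y + z, C.add_mem (C.add_mem (C.smul_mem _ hxC) (C.smul_mem _ hyC)) hzC, ?_, ?_⟩
  · intro h0
    have := hind (s - t * l - l2 + l3 * l) (t - l3) 1 (by rw [← h0, hz, hy]; module)
    exact one_ne_zero this.2.2
  · rw [h.kq_add, h.kq_add, kq_smul, kq_smul]
    simp only [Matrix.mulVec_add, Matrix.mulVec_smul, sympForm_add_left, sympForm_smul_left,
      sympForm_smul_right, hxy, hxz, hyz]
    field_simp at hst
    linear_combination -hst

/-- A non-zero isotropic vector orthogonal to two given `F[κ]`-lines and outside their span. -/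
theorem SkewK.iso_partner [Finite F] (h : SkewK m κ δ) (hm : 7 ≤ m) (a b : Fin m ⊕ Fin m → F) :
    ∃ v, v ≠ 0 ∧ kq m κ v = 0 ∧ (sympForm m F v a = 0 ∧ sympForm m F v (κ *ᵥ a) = 0) ∧
      (sympForm m F v b = 0 ∧ sympForm m F v (κ *ᵥ b) = 0) ∧ v ∉ kspan κ ![a, b] := by
  obtain ⟨C', hC'⟩ := Submodule.exists_isCompl
    (LinearMap.BilinForm.orthogonal (sympBilin m) (kspan κ ![a, b]) ⊓ kspan κ ![a, b])
  have hdim := finrank_orth_kspan κ ![a, b]
  have h1 := finrank_kspan_le κ ![a, b]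
  have h2 := Submodule.finrank_add_eq_of_isCompl hC'
  have h3 : finrank F ↥(LinearMap.BilinForm.orthogonal (sympBilin m) (kspan κ ![a, b]) ⊓
      kspan κ ![a, b]) ≤ 4 := le_trans (Submodule.finrank_mono inf_le_right) h1
  have h4 := Submodule.finrank_sup_add_finrank_inf_eq
    (LinearMap.BilinForm.orthogonal (sympBilin m) (kspan κ ![a, b])) C'
  have h5 : finrank F ↥(LinearMap.BilinForm.orthogonal (sympBilin m) (kspan κ ![a, b]) ⊔ C') ≤
      m + m := by
    have := Submodule.finrank_le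
      (LinearMap.BilinForm.orthogonal (sympBilin m) (kspan κ ![a, b]) ⊔ C')
    simpa using this
  have h7 : Module.finrank F (Fin m ⊕ Fin m → F) = m + m := by simp
  obtain ⟨v, hvC, hv0, hqv⟩ := h.iso_exists
    (LinearMap.BilinForm.orthogonal (sympBilin m) (kspan κ ![a, b]) ⊓ C') (by omega)
  have hvX : v ∈ LinearMap.BilinForm.orthogonal (sympBilin m) (kspan κ ![a, b]) := hvC.1
  rw [h.mem_orth_kspan_iff] at hvX
  refine ⟨v, hv0, hqv, by simpa using hvX 0, by simpa using hvX 1, ?_⟩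
  intro hvU
  have : v ∈ (LinearMap.BilinForm.orthogonal (sympBilin m) (kspan κ ![a, b]) ⊓ kspan κ ![a, b]) ⊓
      C' := ⟨⟨hvC.1, hvU⟩, hvC.2⟩
  rw [hC'.inf_eq_bot] at this
  exact hv0 ((Submodule.mem_bot F).mp this)

/-- Independence over `F[κ]` of a non-zero vector of a `κ`-stable subspace and a vector outside it. -/
theorem SkewK.kindep (h : SkewK m κ δ) (U : Submodule F (Fin m ⊕ Fin m → F))
    (hU : ∀ z ∈ U, κ *ᵥ z ∈ U) {x y : Fin m ⊕ Fin m → F} (hxU : x ∈ U) (hx : x ≠ 0) (hy : y ∉ U)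
    (a b c d : F) (hrel : a • x + b • κ *ᵥ x + c • y + d • κ *ᵥ y = 0) :
    a = 0 ∧ b = 0 ∧ c = 0 ∧ d = 0 := by
  have h1 : c • y + d • κ *ᵥ y ∈ U := by
    have e : c • y + d • κ *ᵥ y = -(a • x + b • κ *ᵥ x) := by
      linear_combination (exp := 1) hrel
    rw [e]
    exact U.neg_mem (U.add_mem (U.smul_mem _ hxU) (U.smul_mem _ (hU x hxU)))
  have h2 : (c * c - δ * d * d) • y ∈ U := by
    have e : (c * c - δ * d * d) • y =
        c • (c • y + d • κ *ᵥ y) - d • κ *ᵥ (c • y + d • κ *ᵥ y) := by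
      rw [Matrix.mulVec_add, Matrix.mulVec_smul, Matrix.mulVec_smul, h.kk]
      module
    rw [e]
    exact U.sub_mem (U.smul_mem _ h1) (U.smul_mem _ (hU _ h1))
  have hcd : c = 0 ∧ d = 0 := by
    by_contra hcon
    have hne : c ≠ 0 ∨ d ≠ 0 := by
      by_contra h3
      push Not at h3
      exact hcon h3
    have h4 := h.norm_ne hne
    apply hy
    have := U.smul_mem (c * c - δ * d * d)⁻¹ h2
    rwa [smul_smul, inv_mul_cancel₀ h4, one_smul] at this
  obtain ⟨hc, hd⟩ := hcd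
  subst hc hd
  rw [zero_smul, zero_smul, add_zero, add_zero] at hrel
  obtain ⟨ha, hb⟩ := h.kappa_indep hx hrel
  exact ⟨ha, hb, rfl, rfl⟩

/-- Prescribing the pairings with `x` and `κ x`. -/
theorem SkewK.exists_two_values (h : SkewK m κ δ) {x : Fin m ⊕ Fin m → F} (hx : x ≠ 0) (s r : F) :
    ∃ x₀, sympForm m F x₀ x = s ∧ sympForm m F x₀ (κ *ᵥ x) = r := by
  have h1 : x ∉ Submodule.span F {κ *ᵥ x} := by
    intro hmem
    obtain ⟨a, ha⟩ := Submodule.mem_span_singleton.mp hmem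
    have := h.kappa_indep hx (a := -1) (b := a) (by rw [ha]; module)
    exact one_ne_zero (neg_eq_zero.mp this.1)
  have h2 : κ *ᵥ x ∉ Submodule.span F {x} := by
    intro hmem
    obtain ⟨a, ha⟩ := Submodule.mem_span_singleton.mp hmem
    have := h.kappa_indep hx (a := a) (b := -1) (by rw [ha]; module)
    exact one_ne_zero (neg_eq_zero.mp this.2)
  obtain ⟨z₁, hz₁, hz₁x⟩ := exists_perp_ne m _ x h1
  obtain ⟨z₂, hz₂, hz₂x⟩ := exists_perp_ne m _ (κ *ᵥ x) h2
  have e1 : sympForm m F z₁ (κ *ᵥ x) = 0 := by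
    rw [sympForm_swap, hz₁ _ (Submodule.mem_span_singleton_self _), neg_zero]
  have e2 : sympForm m F z₂ x = 0 := by
    rw [sympForm_swap, hz₂ _ (Submodule.mem_span_singleton_self _), neg_zero]
  refine ⟨(s / sympForm m F z₁ x) • z₁ + (r / sympForm m F z₂ (κ *ᵥ x)) • z₂, ?_, ?_⟩
  · rw [sympForm_add_left, sympForm_smul_left, sympForm_smul_left, e2]
    field_simp
    ring
  · rw [sympForm_add_left, sympForm_smul_left, sympForm_smul_left, e1]
    field_simp
    ring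

/-- Every non-zero vector is the sum of two isotropic vectors, the first not orthogonal to it. -/
theorem SkewK.iso_decomp [Finite F] (h : SkewK m κ δ) (hm : 7 ≤ m) {x : Fin m ⊕ Fin m → F}
    (hx : x ≠ 0) : ∃ x₁, kq m κ x₁ = 0 ∧ kq m κ (x - x₁) = 0 ∧ sympForm m F x₁ x ≠ 0 := by
  obtain ⟨x₀, hx₀1, hx₀2⟩ := h.exists_two_values hx 1 (-(kq m κ x / 2))
  obtain ⟨z, ⟨hz1, hz2⟩, ⟨hz3, hz4⟩, -, hqz⟩ := h.adjust hm x₀ x x (-kq m κ x₀)
  have h2 := h.two
  have e0 : sympForm m F (κ *ᵥ x₀) z = 0 := by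
    rw [sympForm_swap, hz2, neg_zero]
  have hq1 : kq m κ (x₀ + z) = 0 := by
    rw [h.kq_add, hqz, e0]
    ring
  refine ⟨x₀ + z, hq1, ?_, ?_⟩
  · rw [h.kq_sub, hq1]
    have e : sympForm m F (κ *ᵥ x) (x₀ + z) = kq m κ x / 2 := by
      rw [sympForm_swap, sympForm_add_left, hx₀2, hz4]
      ring
    rw [e]
    field_simp
    ring
  · rw [sympForm_add_left, hx₀1, hz3, add_zero]
    exact one_ne_zero

end

end Cfsg.Agent.Lib.helper95
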