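import Mathlib
import Cfsg.Prelude.Def_GeometricClasses
import Cfsg.Agent.Lib.helper95.SpUnit2

/-!
Unitary transvections for `F[κ]` inside the symplectic group, and the rigidity lemma: a square root
of `δ` preserving every isotropic `F[κ]`-line is `± κ`.
-/

set_option autoImplicit false

namespace Cfsg.Agent.Lib.helper95

open Matrix Cfsg Cfsg.Geo Cfsg.Agent.Lib.helper17 Module

section
variable {F : Type*} [Field F] {m : ℕ}
variable {κ : Matrix (Fin m ⊕ Fin m) (Fin m ⊕ Fin m) F} {δ : F}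

/-- The unitary transvection `z ↦ z + c δ f(z,v) v - c f(z, κ v) κ v` (for isotropic `v`). -/
noncomputable def sU (κ : Matrix (Fin m ⊕ Fin m) (Fin m ⊕ Fin m) F) (δ : F)
    (v : Fin m ⊕ Fin m → F) (c : F) : GL (Fin m ⊕ Fin m) F :=
  spT m v (c * δ) * spT m (κ *ᵥ v) (-c)

theorem sU_mem_sp (κ : Matrix (Fin m ⊕ Fin m) (Fin m ⊕ Fin m) F) (δ : F)
    (v : Fin m ⊕ Fin m → F) (c : F) : sU κ δ v c ∈ spGL m F :=
  mul_mem (spT_mem m _ _) (spT_mem m _ _)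

theorem sU_mulVec (κ : Matrix (Fin m ⊕ Fin m) (Fin m ⊕ Fin m) F) (δ : F)
    {v : Fin m ⊕ Fin m → F} (hv : kq m κ v = 0) (c : F) (z : Fin m ⊕ Fin m → F) :
    ((sU κ δ v c : GL (Fin m ⊕ Fin m) F) : Matrix (Fin m ⊕ Fin m) (Fin m ⊕ Fin m) F) *ᵥ z =
      z + (c * δ * sympForm m F z v) • v - (c * sympForm m F z (κ *ᵥ v)) • κ *ᵥ v := by
  unfold kq at hv
  unfold sU
  rw [Units.val_mul, ← Matrix.mulVec_mulVec, spT_mulVec, spT_mulVec]
  simp only [sympForm_add_left, sympForm_smul_left, hv, mul_zero, add_zero]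
  module

theorem SkewK.sU_comm (h : SkewK m κ δ) {v : Fin m ⊕ Fin m → F} (hv : kq m κ v = 0) (c : F) :
    ((sU κ δ v c : GL (Fin m ⊕ Fin m) F) : Matrix (Fin m ⊕ Fin m) (Fin m ⊕ Fin m) F) * κ =
      κ * ((sU κ δ v c : GL (Fin m ⊕ Fin m) F) : Matrix (Fin m ⊕ Fin m) (Fin m ⊕ Fin m) F) := by
  apply mat_ext_mulVec
  intro z
  rw [← Matrix.mulVec_mulVec, ← Matrix.mulVec_mulVec, sU_mulVec κ δ hv, sU_mulVec κ δ hv]
  simp only [Matrix.mulVec_add, Matrix.mulVec_sub, Matrix.mulVec_smul, h.kk, h.form_kk, h.skew z v]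
  module

/-- Two orthogonal independent isotropic vectors have the same coefficients. -/
theorem SkewK.same_coeff (h : SkewK m κ δ) (A : Matrix (Fin m ⊕ Fin m) (Fin m ⊕ Fin m) F)
    (hAv : ∀ v, kq m κ v = 0 → ∃ a b : F, A *ᵥ v = a • v + b • κ *ᵥ v)
    {x y : Fin m ⊕ Fin m → F} (hx : kq m κ x = 0) (hy : kq m κ y = 0)
    (hxy2 : sympForm m F x (κ *ᵥ y) = 0)
    (hind : ∀ a b c d : F, a • x + b • κ *ᵥ x + c • y + d • κ *ᵥ y = 0 →
      a = 0 ∧ b = 0 ∧ c = 0 ∧ d = 0)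
    {a b a' b' : F} (hAx : A *ᵥ x = a • x + b • κ *ᵥ x) (hAy : A *ᵥ y = a' • y + b' • κ *ᵥ y) :
    a = a' ∧ b = b' := by
  have hq : kq m κ (x + y) = 0 := by
    rw [h.kq_add, hx, hy, h.skew, hxy2]
    ring
  obtain ⟨a'', b'', hA''⟩ := hAv _ hq
  rw [Matrix.mulVec_add, hAx, hAy, Matrix.mulVec_add] at hA''
  have h1 := hind (a - a'') (b - b'') (a' - a'') (b' - b'') (by
    linear_combination (norm := module) hA'')
  obtain ⟨h1, h2, h3, h4⟩ := h1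
  exact ⟨by linear_combination h1 - h3, by linear_combination h2 - h4⟩

theorem SkewK.pm_on_pair (h : SkewK m κ δ) (A : Matrix (Fin m ⊕ Fin m) (Fin m ⊕ Fin m) F)
    (hA : A * A = δ • (1 : Matrix (Fin m ⊕ Fin m) (Fin m ⊕ Fin m) F))
    (hAv : ∀ v, kq m κ v = 0 → ∃ a b : F, A *ᵥ v = a • v + b • κ *ᵥ v)
    {x y : Fin m ⊕ Fin m → F} (hx : kq m κ x = 0) (hy : kq m κ y = 0)
    (hxy1 : sympForm m F x y = 0) (hxy2 : sympForm m F x (κ *ᵥ y) = 0)
    (hind : ∀ a b c d : F, a • x + b • κ *ᵥ x + c • y + d • κ *ᵥ y = 0 →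
      a = 0 ∧ b = 0 ∧ c = 0 ∧ d = 0) :
    (A *ᵥ x = κ *ᵥ x ∧ A *ᵥ y = κ *ᵥ y) ∨ (A *ᵥ x = -(κ *ᵥ x) ∧ A *ᵥ y = -(κ *ᵥ y)) := by
  obtain ⟨a, b, hAx⟩ := hAv x hx
  obtain ⟨a', b', hAy⟩ := hAv y hy
  have hkx : kq m κ (κ *ᵥ x) = 0 := by rw [h.kq_kappa, hx, mul_zero, neg_zero]
  obtain ⟨a3, b3, hAkx⟩ := hAv _ hkx
  obtain ⟨e1, e2⟩ := h.same_coeff A hAv hx hy hxy2 hind hAx hAy
  have hind' : ∀ a b c d : F, a • κ *ᵥ x + b • κ *ᵥ (κ *ᵥ x) + c • y + d • κ *ᵥ y = 0 →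
      a = 0 ∧ b = 0 ∧ c = 0 ∧ d = 0 := by
    intro a b c d hrel
    rw [h.kk] at hrel
    obtain ⟨h1, h2, h3, h4⟩ := hind (b * δ) a c d (by
      linear_combination (norm := module) hrel)
    exact ⟨h2, (mul_eq_zero.mp h1).resolve_right h.delta_ne, h3, h4⟩
  obtain ⟨e3, e4⟩ := h.same_coeff A hAv hkx hy (by rw [h.form_kk, hxy1, mul_zero, neg_zero])
    hind' hAkx hAy
  have hx0 : x ≠ 0 := by
    intro h0
    have := hind 1 0 0 0 (by rw [h0]; simp)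
    exact one_ne_zero this.1
  have hAA : A *ᵥ (A *ᵥ x) = δ • x := by
    rw [Matrix.mulVec_mulVec, hA, Matrix.smul_mulVec, Matrix.one_mulVec]
  rw [hAx, Matrix.mulVec_add, Matrix.mulVec_smul, Matrix.mulVec_smul, hAx, hAkx, h.kk] at hAA
  subst e3 e4 e1 e2
  obtain ⟨h1, h2⟩ := h.kappa_indep hx0 (a := a * a + δ * b * b - δ) (b := 2 * a * b) (by
    linear_combination (norm := module) hAA)
  have hab : a * b = 0 := by
    have : 2 * (a * b) = 0 := by linear_combination h2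
    exact (mul_eq_zero.mp this).resolve_left h.two
  rcases mul_eq_zero.mp hab with ha | hb
  · subst ha
    have hb2 : δ * (b * b - 1) = 0 := by linear_combination h1
    have hb3 : (b - 1) * (b + 1) = 0 := by
      have := (mul_eq_zero.mp hb2).resolve_left h.delta_ne
      linear_combination this
    rcases mul_eq_zero.mp hb3 with hb | hb
    · have hb1 : b = 1 := by linear_combination hb
      left
      rw [hAx, hAy, hb1]
      simp
    · have hb1 : b = -1 := by linear_combination hb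
      right
      rw [hAx, hAy, hb1]
      simp
  · subst hb
    exfalso
    exact h.nsq a (by linear_combination h1)

theorem SkewK.eq_of_base [Finite F] (h : SkewK m κ δ) (hm : 7 ≤ m)
    (A : Matrix (Fin m ⊕ Fin m) (Fin m ⊕ Fin m) F)
    (hA : A * A = δ • (1 : Matrix (Fin m ⊕ Fin m) (Fin m ⊕ Fin m) F))
    (hAv : ∀ v, kq m κ v = 0 → ∃ a b : F, A *ᵥ v = a • v + b • κ *ᵥ v)
    {v₀ : Fin m ⊕ Fin m → F} (hv₀ : v₀ ≠ 0) (hq₀ : kq m κ v₀ = 0) (hA₀ : A *ᵥ v₀ = κ *ᵥ v₀) :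
    A = κ := by
  have hneg : ∀ {y : Fin m ⊕ Fin m → F}, y ≠ 0 → A *ᵥ y = κ *ᵥ y → A *ᵥ y = -(κ *ᵥ y) → False := by
    intro y hy0 h1 h2
    rw [h1] at h2
    have h3 : (2 : F) • κ *ᵥ y = 0 := by
      rw [two_smul]
      nth_rewrite 1 [h2]
      exact neg_add_cancel _
    exact h.kappa_ne_zero hy0 ((smul_eq_zero.mp h3).resolve_left h.two)
  have hiso : ∀ v, kq m κ v = 0 → A *ᵥ v = κ *ᵥ v := by
    intro v hqv
    by_cases hv0 : v = 0
    · rw [hv0, Matrix.mulVec_zero, Matrix.mulVec_zero]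
    obtain ⟨w, hw0, hqw, ⟨hw1, hw2⟩, ⟨hw3, hw4⟩, hwU⟩ := h.iso_partner hm v₀ v
    have hind1 := h.kindep (kspan κ ![v₀, v]) (fun z hz => h.kspan_stable _ hz)
      (by simpa using mem_kspan κ ![v₀, v] 0) hv₀ hwU
    have hind2 := h.kindep (kspan κ ![v₀, v]) (fun z hz => h.kspan_stable _ hz)
      (by simpa using mem_kspan κ ![v₀, v] 1) hv0 hwU
    have e1 : sympForm m F v₀ w = 0 := by rw [sympForm_swap, hw1, neg_zero]
    have e2 : sympForm m F v₀ (κ *ᵥ w) = 0 := by rw [h.form_right, h.b_symm, ← h.form_right, hw2]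
    have e3 : sympForm m F v w = 0 := by rw [sympForm_swap, hw3, neg_zero]
    have e4 : sympForm m F v (κ *ᵥ w) = 0 := by rw [h.form_right, h.b_symm, ← h.form_right, hw4]
    have hAw : A *ᵥ w = κ *ᵥ w := by
      rcases h.pm_on_pair A hA hAv hq₀ hqw e1 e2 hind1 with ⟨_, h2⟩ | ⟨h1, _⟩
      · exact h2
      · exact absurd (hneg hv₀ hA₀ h1) id
    rcases h.pm_on_pair A hA hAv hqv hqw e3 e4 hind2 with ⟨h1, _⟩ | ⟨_, h2⟩
    · exact h1
    · exact absurd (hneg hw0 hAw h2) id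
  apply mat_ext_mulVec
  intro x
  by_cases hx0 : x = 0
  · rw [hx0, Matrix.mulVec_zero, Matrix.mulVec_zero]
  obtain ⟨x₁, hq1, hq2, -⟩ := h.iso_decomp hm hx0
  have e : x = x₁ + (x - x₁) := by abel
  rw [e, Matrix.mulVec_add, Matrix.mulVec_add, hiso _ hq1, hiso _ hq2]

/-- A square root of `δ` mapping every isotropic vector into its `F[κ]`-line is `± κ`. -/
theorem SkewK.eq_pm [Finite F] (h : SkewK m κ δ) (hm : 7 ≤ m)
    (A : Matrix (Fin m ⊕ Fin m) (Fin m ⊕ Fin m) F)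
    (hA : A * A = δ • (1 : Matrix (Fin m ⊕ Fin m) (Fin m ⊕ Fin m) F))
    (hAv : ∀ v, kq m κ v = 0 → ∃ a b : F, A *ᵥ v = a • v + b • κ *ᵥ v) :
    A = κ ∨ A = -κ := by
  obtain ⟨v₀, hv₀, hq₀, -, -, hv₀U⟩ := h.iso_partner hm 0 0
  obtain ⟨w, hw0, hqw, ⟨hw1, hw2⟩, -, hwU⟩ := h.iso_partner hm v₀ v₀
  have hind1 := h.kindep (kspan κ ![v₀, v₀]) (fun z hz => h.kspan_stable _ hz)
    (by simpa using mem_kspan κ ![v₀, v₀] 0) hv₀ hwU
  have e1 : sympForm m F v₀ w = 0 := by rw [sympForm_swap, hw1, neg_zero]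
  have e2 : sympForm m F v₀ (κ *ᵥ w) = 0 := by rw [h.form_right, h.b_symm, ← h.form_right, hw2]
  rcases h.pm_on_pair A hA hAv hq₀ hqw e1 e2 hind1 with ⟨h1, _⟩ | ⟨h1, _⟩
  · left
    exact h.eq_of_base hm A hA hAv hv₀ hq₀ h1
  · right
    have h2 : -A = κ := by
      apply h.eq_of_base hm (-A) (by rw [neg_mul_neg, hA]) ?_ hv₀ hq₀ (by rw [Matrix.neg_mulVec, h1, neg_neg])
      intro v hv
      obtain ⟨a, b, hab⟩ := hAv v hv
      exact ⟨-a, -b, by rw [Matrix.neg_mulVec, hab]; module⟩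
    rw [← h2, neg_neg]

end

end Cfsg.Agent.Lib.helper95
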