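import Mathlib
import Cfsg.Prelude.Def_GeometricClasses
import Cfsg.Agent.Lib.helper95.SpUnit3

/-!
From an element `T(u, bδ) T(u', -b)` of an overgroup of the unitary group (with `u'` outside the
`F[κ]`-line of `u`) to a symplectic transvection.
-/

set_option autoImplicit false

namespace Cfsg.Agent.Lib.helper95

open Matrix Cfsg Cfsg.Geo Cfsg.Agent.Lib.helper17 Module

section
variable {F : Type*} [Field F] {m : ℕ}
variable {κ : Matrix (Fin m ⊕ Fin m) (Fin m ⊕ Fin m) F} {δ : F}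

theorem spZ_mulVec (u u' v : Fin m ⊕ Fin m → F) (a b : F) (huu' : sympForm m F u u' = 0)
    (huv : sympForm m F u v = 0) (hu'v : sympForm m F u' v = 0) (z : Fin m ⊕ Fin m → F) :
    (((spT m u (-a) * spT m u' b) * (spT m u a * spT m v (-b)) : GL (Fin m ⊕ Fin m) F) :
      Matrix (Fin m ⊕ Fin m) (Fin m ⊕ Fin m) F) *ᵥ z =
      z + (b * sympForm m F z u') • u' - (b * sympForm m F z v) • v := by
  have huu'2 : sympForm m F u' u = 0 := by rw [sympForm_swap, huu', neg_zero]
  have hvu : sympForm m F v u = 0 := by rw [sympForm_swap, huv, neg_zero]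
  have hvu' : sympForm m F v u' = 0 := by rw [sympForm_swap, hu'v, neg_zero]
  rw [Units.val_mul, Units.val_mul, Units.val_mul, ← Matrix.mulVec_mulVec, ← Matrix.mulVec_mulVec,
    ← Matrix.mulVec_mulVec, spT_mulVec, spT_mulVec, spT_mulVec, spT_mulVec]
  simp only [sympForm_add_left, sympForm_smul_left, sympForm_self, huu', huu'2, huv, hvu, hu'v,
    hvu', mul_zero, add_zero, zero_add]
  module

/-- The key production of a symplectic transvection. -/
theorem SkewK.transv_of_pair (h : SkewK m κ δ) (M : Subgroup (GL (Fin m ⊕ Fin m) F))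
    (hN : ∀ v c, kq m κ v = 0 → sU κ δ v c ∈ M)
    (u u' p w : Fin m ⊕ Fin m → F) (huu : sympForm m F u u' = 0)
    (hy : ∀ b : F, spT m u (b * δ) * spT m u' (-b) ∈ M)
    (hp : kq m κ p = 0) (hw : kq m κ w = 0)
    (hpu : sympForm m F p u = 0 ∧ sympForm m F p (κ *ᵥ u) = 0)
    (hpu' : sympForm m F p u' = 0 ∧ sympForm m F p (κ *ᵥ u') = 0)
    (hwp : sympForm m F w p = 0 ∧ sympForm m F w (κ *ᵥ p) = 0)
    (hwu : sympForm m F w u = 0 ∧ sympForm m F w (κ *ᵥ u) = 0)
    (hne : sympForm m F u' w ≠ 0 ∨ sympForm m F u' (κ *ᵥ w) ≠ 0) (c : F) : spT m p c ∈ M := by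
  obtain ⟨A, hA⟩ : ∃ A : F, A = sympForm m F u' w := ⟨_, rfl⟩
  obtain ⟨B, hB⟩ : ∃ B : F, B = sympForm m F u' (κ *ᵥ w) := ⟨_, rfl⟩
  rw [← hA, ← hB] at hne
  obtain ⟨D, hD⟩ : ∃ D : F, D = δ * (δ * A * A - B * B) := ⟨_, rfl⟩
  have hD0 : D ≠ 0 := by
    rw [hD]
    apply mul_ne_zero h.delta_ne
    have := h.norm_ne (a := B) (b := A) hne.symm
    intro h0
    exact this (by linear_combination -h0)
  -- pairing facts
  have f1 : sympForm m F u w = 0 := by rw [sympForm_swap, hwu.1, neg_zero]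
  have f2 : sympForm m F u (κ *ᵥ w) = 0 := by rw [h.form_right, h.b_symm, ← h.form_right, hwu.2]
  have f3 : sympForm m F u p = 0 := by rw [sympForm_swap, hpu.1, neg_zero]
  have f4 : sympForm m F u (κ *ᵥ p) = 0 := by rw [h.form_right, h.b_symm, ← h.form_right, hpu.2]
  have f5 : sympForm m F u' p = 0 := by rw [sympForm_swap, hpu'.1, neg_zero]
  have f6 : sympForm m F u' (κ *ᵥ p) = 0 := by rw [h.form_right, h.b_symm, ← h.form_right, hpu'.2]
  have f7 : sympForm m F w (κ *ᵥ w) = 0 := by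
    rw [h.form_right]; unfold kq at hw; rw [hw, neg_zero]
  have f8 : sympForm m F (κ *ᵥ w) w = 0 := hw
  have f9 : sympForm m F (κ *ᵥ w) p = 0 := by rw [h.skew, hwp.2, neg_zero]
  have f10 : sympForm m F (κ *ᵥ w) (κ *ᵥ p) = 0 := by rw [h.form_kk, hwp.1, mul_zero, neg_zero]
  have key : ∀ τ b : F, spT m u (b * δ) * spT m (u' + (τ * D) • p) (-b) ∈ M := by
    intro τ b
    obtain ⟨wτ, hwτ⟩ : ∃ wτ : Fin m ⊕ Fin m → F, wτ = w + ((τ * δ * A) • p + (τ * B) • κ *ᵥ p) :=
      ⟨_, rfl⟩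
    have hqτ : kq m κ wτ = 0 := by
      rw [hwτ, h.kq_add, hw, h.kq_comb, hp, sympForm_add_right, sympForm_smul_right,
        sympForm_smul_right, f9, f10]
      ring
    have hnM : sU κ δ wτ 1 * sU κ δ w (-1) ∈ M := M.mul_mem (hN _ _ hqτ) (hN _ _ hw)
    have hnSp : sU κ δ wτ 1 * sU κ δ w (-1) ∈ spGL m F :=
      mul_mem (sU_mem_sp κ δ _ _) (sU_mem_sp κ δ _ _)
    have hkw : κ *ᵥ wτ = κ *ᵥ w + ((τ * δ * A) • κ *ᵥ p + (τ * B) • δ • p) := by
      rw [hwτ]
      simp only [Matrix.mulVec_add, Matrix.mulVec_smul, h.kk]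
    have hnu : ((sU κ δ wτ 1 * sU κ δ w (-1) : GL (Fin m ⊕ Fin m) F) :
        Matrix (Fin m ⊕ Fin m) (Fin m ⊕ Fin m) F) *ᵥ u = u := by
      rw [Units.val_mul, ← Matrix.mulVec_mulVec, sU_mulVec κ δ hw, sU_mulVec κ δ hqτ, hkw, hwτ]
      simp only [sympForm_add_left, sympForm_add_right, sympForm_sub_left, sympForm_smul_left,
        sympForm_smul_right, sympForm_self, f1, f2, f3, f4, f7, f8, f9, f10, hwp.1, hwp.2,
        mul_zero, zero_mul, add_zero, sub_zero, zero_smul, zero_add]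
    have hnu' : ((sU κ δ wτ 1 * sU κ δ w (-1) : GL (Fin m ⊕ Fin m) F) :
        Matrix (Fin m ⊕ Fin m) (Fin m ⊕ Fin m) F) *ᵥ u' = u' + (τ * D) • p := by
      rw [Units.val_mul, ← Matrix.mulVec_mulVec, sU_mulVec κ δ hw, sU_mulVec κ δ hqτ, hkw, hwτ]
      simp only [sympForm_add_left, sympForm_add_right, sympForm_sub_left, sympForm_smul_left,
        sympForm_smul_right, sympForm_self, f5, f6, f7, f8, f9, f10, hwp.1, hwp.2, ← hA, ← hB,
        mul_zero, zero_mul, add_zero, sub_zero, zero_smul, zero_add]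
      rw [hD]
      module
    have h1 := M.mul_mem (M.mul_mem hnM (hy b)) (M.inv_mem hnM)
    have h2 : sU κ δ wτ 1 * sU κ δ w (-1) * (spT m u (b * δ) * spT m u' (-b)) *
        (sU κ δ wτ 1 * sU κ δ w (-1))⁻¹ =
        (sU κ δ wτ 1 * sU κ δ w (-1) * spT m u (b * δ) * (sU κ δ wτ 1 * sU κ δ w (-1))⁻¹) *
        (sU κ δ wτ 1 * sU κ δ w (-1) * spT m u' (-b) * (sU κ δ wτ 1 * sU κ δ w (-1))⁻¹) := by
      group
    rw [h2, spT_conj m _ hnSp, spT_conj m _ hnSp, hnu, hnu'] at h1
    exact h1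
  -- the two combinations
  have g1 : sympForm m F u (u' + (1 * D) • p) = 0 := by
    rw [sympForm_add_right, sympForm_smul_right, huu, f3]; ring
  have g2 : sympForm m F u' (u' + (1 * D) • p) = 0 := by
    rw [sympForm_add_right, sympForm_smul_right, sympForm_self, f5]; ring
  have g3 : sympForm m F u (u' + (2 * D) • p) = 0 := by
    rw [sympForm_add_right, sympForm_smul_right, huu, f3]; ring
  have g4 : sympForm m F u' (u' + (2 * D) • p) = 0 := by
    rw [sympForm_add_right, sympForm_smul_right, sympForm_self, f5]; ring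
  have hpp' : sympForm m F p u' = 0 := hpu'.1
  have main : ∀ b : F, spT m p (2 * b * D * D) ∈ M := by
    intro b
    have h1 := M.mul_mem (hy (-(2 * b))) (key 1 (2 * b))
    have h2 := M.mul_mem (hy b) (key 2 (-b))
    rw [neg_mul, neg_neg] at h1 h2
    have h3 := M.mul_mem h1 h2
    have e : (spT m u (-(2 * b * δ)) * spT m u' (2 * b) *
        (spT m u (2 * b * δ) * spT m (u' + (1 * D) • p) (-(2 * b)))) *
        (spT m u (b * δ) * spT m u' (-b) * (spT m u (-(b * δ)) * spT m (u' + (2 * D) • p) b)) =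
        spT m p (2 * b * D * D) := by
      apply gl_ext_mulVec
      intro z
      have z2 := spZ_mulVec u u' (u' + (2 * D) • p) (-(b * δ)) (-b) huu g3 g4 z
      rw [neg_neg, neg_neg] at z2
      rw [Units.val_mul, ← Matrix.mulVec_mulVec, z2,
        spZ_mulVec u u' (u' + (1 * D) • p) (2 * b * δ) (2 * b) huu g1 g2, spT_mulVec]
      simp only [sympForm_add_left, sympForm_add_right, sympForm_sub_left, sympForm_smul_left,
        sympForm_smul_right, sympForm_self, f5, hpp', mul_zero, zero_mul, add_zero, sub_zero,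
        zero_add]
      module
    rw [e] at h3
    exact h3
  have := main (c / (2 * D * D))
  have e : 2 * (c / (2 * D * D)) * D * D = c := by
    have h2 := h.two
    field_simp
  rwa [e] at this

end

end Cfsg.Agent.Lib.helper95
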