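import Mathlib
import Cfsg.Prelude.Def_GeometricClasses
import Cfsg.Agent.Lib.helper95.SpUnit4

/-!
Maximality in `Sp_2m(q)`, `q` odd, of the normaliser of a quadratic field `F[κ]` with `κ`
skew-adjoint (the unitary group `GU_m(q).2`).
-/

set_option autoImplicit false

namespace Cfsg.Agent.Lib.helper95

open Matrix Cfsg Cfsg.Geo Cfsg.Agent.Lib.helper17 Module

section
variable {F : Type*} [Field F] {m : ℕ}
variable {κ : Matrix (Fin m ⊕ Fin m) (Fin m ⊕ Fin m) F} {δ : F}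

theorem spT_zero_left' (c : F) : spT m (0 : Fin m ⊕ Fin m → F) c = 1 := by
  apply gl_ext_mulVec
  intro x
  rw [spT_mulVec, smul_zero, add_zero, Units.val_one, Matrix.one_mulVec]

theorem SkewK.kindep_pair (h : SkewK m κ δ) {x y : Fin m ⊕ Fin m → F} (hx : x ≠ 0)
    (hy : ∀ a b : F, y ≠ a • x + b • κ *ᵥ x) (a b c d : F)
    (hrel : a • x + b • κ *ᵥ x + c • y + d • κ *ᵥ y = 0) : a = 0 ∧ b = 0 ∧ c = 0 ∧ d = 0 := by
  refine h.kindep (Submodule.span F {x, κ *ᵥ x}) ?_ (Submodule.subset_span (by simp)) hx ?_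
    a b c d hrel
  · intro z hz
    obtain ⟨s, t, rfl⟩ := Submodule.mem_span_pair.mp hz
    rw [Matrix.mulVec_add, Matrix.mulVec_smul, Matrix.mulVec_smul, h.kk]
    refine Submodule.mem_span_pair.mpr ⟨t * δ, s, ?_⟩
    module
  · intro hmem
    obtain ⟨s, t, hst⟩ := Submodule.mem_span_pair.mp hmem
    exact hy s t hst.symm

/-- A proper overgroup of the unitary group contains a symplectic transvection with isotropic
centre. -/
theorem SkewK.exists_transv [Finite F] (h : SkewK m κ δ) (hm : 7 ≤ m)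
    (M : Subgroup (GL (Fin m ⊕ Fin m) F)) (hMsp : M ≤ spGL m F)
    (hN : ∀ v c, kq m κ v = 0 → sU κ δ v c ∈ M) (g : GL (Fin m ⊕ Fin m) F) (hgM : g ∈ M)
    (hg : ¬ (((g⁻¹ : GL (Fin m ⊕ Fin m) F) : Matrix (Fin m ⊕ Fin m) (Fin m ⊕ Fin m) F) * κ *
        (g : Matrix (Fin m ⊕ Fin m) (Fin m ⊕ Fin m) F) = κ ∨
      ((g⁻¹ : GL (Fin m ⊕ Fin m) F) : Matrix (Fin m ⊕ Fin m) (Fin m ⊕ Fin m) F) * κ *
        (g : Matrix (Fin m ⊕ Fin m) (Fin m ⊕ Fin m) F) = -κ)) :
    ∃ p, p ≠ 0 ∧ kq m κ p = 0 ∧ ∀ c, spT m p c ∈ M := by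
  have hgSp := hMsp hgM
  by_contra hcon
  push Not at hcon
  apply hg
  apply h.eq_pm hm
  · calc ((g⁻¹ : GL (Fin m ⊕ Fin m) F) : Matrix (Fin m ⊕ Fin m) (Fin m ⊕ Fin m) F) * κ *
          (g : Matrix (Fin m ⊕ Fin m) (Fin m ⊕ Fin m) F) *
          (((g⁻¹ : GL (Fin m ⊕ Fin m) F) : Matrix (Fin m ⊕ Fin m) (Fin m ⊕ Fin m) F) * κ *
          (g : Matrix (Fin m ⊕ Fin m) (Fin m ⊕ Fin m) F))
        = ((g⁻¹ : GL (Fin m ⊕ Fin m) F) : Matrix (Fin m ⊕ Fin m) (Fin m ⊕ Fin m) F) * (κ *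
          ((g : Matrix (Fin m ⊕ Fin m) (Fin m ⊕ Fin m) F) *
          ((g⁻¹ : GL (Fin m ⊕ Fin m) F) : Matrix (Fin m ⊕ Fin m) (Fin m ⊕ Fin m) F)) * κ) *
          (g : Matrix (Fin m ⊕ Fin m) (Fin m ⊕ Fin m) F) := by simp only [mul_assoc]
      _ = δ • (1 : Matrix (Fin m ⊕ Fin m) (Fin m ⊕ Fin m) F) := by
        rw [Units.mul_inv, mul_one, h.sq, Matrix.mul_smul, mul_one, Matrix.smul_mul, Units.inv_mul]
  · intro v hv
    by_cases hv0 : v = 0
    · exact ⟨0, 0, by rw [hv0]; simp⟩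
    by_contra hno
    push Not at hno
    obtain ⟨u, hu⟩ : ∃ u : Fin m ⊕ Fin m → F,
        u = (g : Matrix (Fin m ⊕ Fin m) (Fin m ⊕ Fin m) F) *ᵥ v := ⟨_, rfl⟩
    obtain ⟨u', hu'⟩ : ∃ u' : Fin m ⊕ Fin m → F,
        u' = (g : Matrix (Fin m ⊕ Fin m) (Fin m ⊕ Fin m) F) *ᵥ (κ *ᵥ v) := ⟨_, rfl⟩
    have hu'n : u' ∉ Submodule.span F {u, κ *ᵥ u} := by
      intro hmem
      obtain ⟨a, b, hab⟩ := Submodule.mem_span_pair.mp hmem
      have h1 : κ *ᵥ v = a • v + b •
          (((g⁻¹ : GL (Fin m ⊕ Fin m) F) : Matrix (Fin m ⊕ Fin m) (Fin m ⊕ Fin m) F) * κ *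
          (g : Matrix (Fin m ⊕ Fin m) (Fin m ⊕ Fin m) F)) *ᵥ v := by
        have h2 := congrArg (fun y =>
          ((g⁻¹ : GL (Fin m ⊕ Fin m) F) : Matrix (Fin m ⊕ Fin m) (Fin m ⊕ Fin m) F) *ᵥ y) hab
        simp only [hu, hu', Matrix.mulVec_add, Matrix.mulVec_smul, gl_inv_mulVec_mulVec] at h2
        rw [← h2, ← Matrix.mulVec_mulVec, ← Matrix.mulVec_mulVec]
      by_cases hb : b = 0
      · rw [hb, zero_smul, add_zero] at h1
        have := h.kappa_indep hv0 (a := a) (b := -1) (by rw [h1]; module)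
        exact one_ne_zero (neg_eq_zero.mp this.2)
      · apply hno (-a / b) (1 / b)
        have h3 : b • (((g⁻¹ : GL (Fin m ⊕ Fin m) F) : Matrix (Fin m ⊕ Fin m) (Fin m ⊕ Fin m) F) * κ *
            (g : Matrix (Fin m ⊕ Fin m) (Fin m ⊕ Fin m) F)) *ᵥ v = κ *ᵥ v - a • v := by
          rw [h1]; module
        calc (((g⁻¹ : GL (Fin m ⊕ Fin m) F) : Matrix (Fin m ⊕ Fin m) (Fin m ⊕ Fin m) F) * κ *
            (g : Matrix (Fin m ⊕ Fin m) (Fin m ⊕ Fin m) F)) *ᵥ v
            = b⁻¹ • (b • (((g⁻¹ : GL (Fin m ⊕ Fin m) F) :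
              Matrix (Fin m ⊕ Fin m) (Fin m ⊕ Fin m) F) * κ *
              (g : Matrix (Fin m ⊕ Fin m) (Fin m ⊕ Fin m) F)) *ᵥ v) := by
              rw [smul_smul, inv_mul_cancel₀ hb, one_smul]
          _ = (-a / b) • v + (1 / b) • κ *ᵥ v := by
              rw [h3, smul_sub, smul_smul]
              have e1 : b⁻¹ * a = a / b := by field_simp
              have e2 : (1 / b : F) = b⁻¹ := by field_simp
              rw [e1, e2, neg_div, neg_smul]
              abel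
    have huu : sympForm m F u u' = 0 := by
      rw [hu, hu', (mem_spGL_iff m g).mp hgSp, h.form_right]
      unfold kq at hv
      rw [hv, neg_zero]
    have hy : ∀ b : F, spT m u (b * δ) * spT m u' (-b) ∈ M := by
      intro b
      have h1 := M.mul_mem (M.mul_mem hgM (hN v b hv)) (M.inv_mem hgM)
      unfold sU at h1
      have h2 : g * (spT m v (b * δ) * spT m (κ *ᵥ v) (-b)) * g⁻¹ =
          (g * spT m v (b * δ) * g⁻¹) * (g * spT m (κ *ᵥ v) (-b) * g⁻¹) := by group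
      rw [h2, spT_conj m g hgSp, spT_conj m g hgSp, ← hu, ← hu'] at h1
      exact h1
    obtain ⟨z, hz, hzu'⟩ := exists_perp_ne m _ u' hu'n
    have hz1 : sympForm m F u z = 0 := hz u (Submodule.subset_span (by simp))
    have hz2 : sympForm m F (κ *ᵥ u) z = 0 := hz _ (Submodule.subset_span (by simp))
    obtain ⟨z', ⟨hz'1, hz'2⟩, ⟨hz'3, hz'4⟩, ⟨hz'5, hz'6⟩, hqz'⟩ := h.adjust hm z u u' (-kq m κ z)
    have hqw : kq m κ (z + z') = 0 := by
      have e0 : sympForm m F (κ *ᵥ z) z' = 0 := by rw [sympForm_swap, hz'2, neg_zero]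
      rw [h.kq_add, hqz', e0]
      ring
    have hwu : sympForm m F (z + z') u = 0 ∧ sympForm m F (z + z') (κ *ᵥ u) = 0 := by
      constructor
      · rw [sympForm_add_left, hz'3, sympForm_swap, hz1]; ring
      · rw [sympForm_add_left, hz'4, sympForm_swap, hz2]; ring
    have hne : sympForm m F u' (z + z') ≠ 0 ∨ sympForm m F u' (κ *ᵥ (z + z')) ≠ 0 := by
      left
      rw [sympForm_add_right, sympForm_swap m z u', sympForm_swap m z' u', hz'5, neg_zero, add_zero]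
      exact neg_ne_zero.mpr hzu'
    have hdim := finrank_orth_kspan κ ![u, u', z + z']
    obtain ⟨p, hpX, hp0, hqp⟩ := h.iso_exists
      (LinearMap.BilinForm.orthogonal (sympBilin m) (kspan κ ![u, u', z + z'])) (by omega)
    rw [h.mem_orth_kspan_iff] at hpX
    have hpu : sympForm m F p u = 0 ∧ sympForm m F p (κ *ᵥ u) = 0 := by simpa using hpX 0
    have hpu' : sympForm m F p u' = 0 ∧ sympForm m F p (κ *ᵥ u') = 0 := by simpa using hpX 1
    have hpw : sympForm m F p (z + z') = 0 ∧ sympForm m F p (κ *ᵥ (z + z')) = 0 := by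
      simpa using hpX 2
    have hwp : sympForm m F (z + z') p = 0 ∧ sympForm m F (z + z') (κ *ᵥ p) = 0 := by
      constructor
      · rw [sympForm_swap, hpw.1, neg_zero]
      · rw [h.form_right, h.b_symm, ← h.form_right, hpw.2]
    obtain ⟨c, hc⟩ := hcon p hp0 hqp
    exact absurd (h.transv_of_pair M hN u u' p (z + z') huu hy hqp hqw hpu hpu' hwp hwu hne c) hc

/-- From one transvection with isotropic centre to all symplectic transvections. -/
theorem SkewK.all_transv [Finite F] (h : SkewK m κ δ) (hm : 7 ≤ m)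
    (M : Subgroup (GL (Fin m ⊕ Fin m) F)) (hMsp : M ≤ spGL m F)
    (hN : ∀ v c, kq m κ v = 0 → sU κ δ v c ∈ M) {p : Fin m ⊕ Fin m → F} (hp0 : p ≠ 0)
    (hqp : kq m κ p = 0) (hT : ∀ c, spT m p c ∈ M) (x : Fin m ⊕ Fin m → F) (c : F) :
    spT m x c ∈ M := by
  have hconj : ∀ n ∈ M, ∀ x : Fin m ⊕ Fin m → F, (∀ c, spT m x c ∈ M) →
      ∀ c, spT m ((n : Matrix (Fin m ⊕ Fin m) (Fin m ⊕ Fin m) F) *ᵥ x) c ∈ M := by
    intro n hn x hx c
    rw [← spT_conj m n (hMsp hn)]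
    exact M.mul_mem (M.mul_mem hn (hx c)) (M.inv_mem hn)
  have hreach : ∀ x x' : Fin m ⊕ Fin m → F, (∀ c, spT m x c ∈ M) → kq m κ x = 0 → kq m κ x' = 0 →
      sympForm m F (κ *ᵥ x) x' = 0 → sympForm m F x x' ≠ 0 → ∀ c, spT m x' c ∈ M := by
    intro x x' hx hqx hqx' hb hne
    have hqv : kq m κ (x' - x) = 0 := by
      rw [h.kq_sub, hqx, hqx', h.b_symm, hb]
      ring
    have e1 : 1 / (δ * sympForm m F x x') * δ * sympForm m F x (x' - x) = 1 := by
      rw [sympForm_sub_right, sympForm_self, sub_zero]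
      have := h.delta_ne
      field_simp
    have e2 : sympForm m F x (κ *ᵥ (x' - x)) = 0 := by
      rw [Matrix.mulVec_sub, sympForm_sub_right, h.form_right, hb, h.form_right]
      unfold kq at hqx
      rw [hqx]
      ring
    have e3 : ((sU κ δ (x' - x) (1 / (δ * sympForm m F x x')) : GL (Fin m ⊕ Fin m) F) :
        Matrix (Fin m ⊕ Fin m) (Fin m ⊕ Fin m) F) *ᵥ x = x' := by
      rw [sU_mulVec κ δ hqv, e1, e2]
      module
    have := hconj _ (hN _ (1 / (δ * sympForm m F x x')) hqv) x hx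
    rwa [e3] at this
  have hstep2 : ∀ x y : Fin m ⊕ Fin m → F, (∀ c, spT m x c ∈ M) → kq m κ x = 0 → kq m κ y = 0 →
      (∀ a b c d : F, a • x + b • κ *ᵥ x + c • y + d • κ *ᵥ y = 0 →
        a = 0 ∧ b = 0 ∧ c = 0 ∧ d = 0) → ∀ c, spT m y c ∈ M := by
    intro x y hx hqx hqy hind
    have hx1 : x ∉ Submodule.span F {κ *ᵥ x, y, κ *ᵥ y} := by
      intro hmem
      obtain ⟨a, b, c, habc⟩ := Submodule.mem_span_triple.mp hmem
      have := hind 1 (-a) (-b) (-c) (by linear_combination (norm := module) -habc)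
      exact one_ne_zero this.1
    have hy1 : y ∉ Submodule.span F {x, κ *ᵥ x, κ *ᵥ y} := by
      intro hmem
      obtain ⟨a, b, c, habc⟩ := Submodule.mem_span_triple.mp hmem
      have := hind (-a) (-b) 1 (-c) (by linear_combination (norm := module) -habc)
      exact one_ne_zero this.2.2.1
    obtain ⟨z₁, hz₁, hz₁x⟩ := exists_perp_ne m _ x hx1
    obtain ⟨z₂, hz₂, hz₂y⟩ := exists_perp_ne m _ y hy1
    have a1 : sympForm m F z₁ (κ *ᵥ x) = 0 := by
      rw [sympForm_swap, hz₁ _ (Submodule.subset_span (by simp)), neg_zero]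
    have a2 : sympForm m F z₁ y = 0 := by
      rw [sympForm_swap, hz₁ _ (Submodule.subset_span (by simp)), neg_zero]
    have a3 : sympForm m F z₁ (κ *ᵥ y) = 0 := by
      rw [sympForm_swap, hz₁ _ (Submodule.subset_span (by simp)), neg_zero]
    have b1 : sympForm m F z₂ x = 0 := by
      rw [sympForm_swap, hz₂ _ (Submodule.subset_span (by simp)), neg_zero]
    have b2 : sympForm m F z₂ (κ *ᵥ x) = 0 := by
      rw [sympForm_swap, hz₂ _ (Submodule.subset_span (by simp)), neg_zero]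
    have b3 : sympForm m F z₂ (κ *ᵥ y) = 0 := by
      rw [sympForm_swap, hz₂ _ (Submodule.subset_span (by simp)), neg_zero]
    obtain ⟨x₀, hx₀⟩ : ∃ x₀ : Fin m ⊕ Fin m → F,
        x₀ = (1 / sympForm m F z₁ x) • z₁ + (1 / sympForm m F z₂ y) • z₂ := ⟨_, rfl⟩
    have c1 : sympForm m F x₀ x = 1 := by
      rw [hx₀, sympForm_add_left, sympForm_smul_left, sympForm_smul_left, b1]
      field_simp
      ring
    have c2 : sympForm m F x₀ (κ *ᵥ x) = 0 := by
      rw [hx₀, sympForm_add_left, sympForm_smul_left, sympForm_smul_left, a1, b2]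
      ring
    have c3 : sympForm m F x₀ y = 1 := by
      rw [hx₀, sympForm_add_left, sympForm_smul_left, sympForm_smul_left, a2]
      field_simp
      ring
    have c4 : sympForm m F x₀ (κ *ᵥ y) = 0 := by
      rw [hx₀, sympForm_add_left, sympForm_smul_left, sympForm_smul_left, a3, b3]
      ring
    obtain ⟨z, ⟨hz1, hz2⟩, ⟨hz3, hz4⟩, ⟨hz5, hz6⟩, hqz⟩ := h.adjust hm x₀ x y (-kq m κ x₀)
    have hq' : kq m κ (x₀ + z) = 0 := by
      have e0 : sympForm m F (κ *ᵥ x₀) z = 0 := by rw [sympForm_swap, hz2, neg_zero]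
      rw [h.kq_add, hqz, e0]
      ring
    have d1 : sympForm m F (κ *ᵥ x) (x₀ + z) = 0 := by
      rw [sympForm_swap, sympForm_add_left, c2, hz4]; ring
    have d2 : sympForm m F x (x₀ + z) ≠ 0 := by
      rw [sympForm_swap, sympForm_add_left, c1, hz3, add_zero]
      exact neg_ne_zero.mpr one_ne_zero
    have hx' := hreach x (x₀ + z) hx hqx hq' d1 d2
    have d3 : sympForm m F (κ *ᵥ (x₀ + z)) y = 0 := by
      rw [h.b_symm, sympForm_swap, sympForm_add_left, c4, hz6]; ring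
    have d4 : sympForm m F (x₀ + z) y ≠ 0 := by
      rw [sympForm_add_left, c3, hz5, add_zero]
      exact one_ne_zero
    exact hreach (x₀ + z) y hx' hq' hqy d3 d4
  have hiso : ∀ y : Fin m ⊕ Fin m → F, kq m κ y = 0 → ∀ c, spT m y c ∈ M := by
    intro y hqy
    by_cases hy0 : y = 0
    · intro c
      rw [hy0, spT_zero_left']
      exact M.one_mem
    by_cases hyp : ∃ a b : F, y = a • p + b • κ *ᵥ p
    · obtain ⟨y₁, hy₁0, hqy₁, -, -, hy₁U⟩ := h.iso_partner hm p p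
      have hy₁p : ∀ a b : F, y₁ ≠ a • p + b • κ *ᵥ p := by
        intro a b hab
        apply hy₁U
        rw [hab]
        exact Submodule.add_mem _
          (Submodule.smul_mem _ _ (by simpa using mem_kspan κ ![p, p] 0))
          (Submodule.smul_mem _ _ (by simpa using kappa_mem_kspan κ ![p, p] 0))
      have hS₁ := hstep2 p y₁ hT hqp hqy₁ (h.kindep_pair hp0 hy₁p)
      have hU : ∀ z ∈ Submodule.span F {p, κ *ᵥ p}, κ *ᵥ z ∈ Submodule.span F {p, κ *ᵥ p} := by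
        intro z hz
        obtain ⟨s, t, rfl⟩ := Submodule.mem_span_pair.mp hz
        rw [Matrix.mulVec_add, Matrix.mulVec_smul, Matrix.mulVec_smul, h.kk]
        refine Submodule.mem_span_pair.mpr ⟨t * δ, s, ?_⟩
        module
      have hyU : y ∈ Submodule.span F {p, κ *ᵥ p} := by
        obtain ⟨a, b, hab⟩ := hyp
        exact Submodule.mem_span_pair.mpr ⟨a, b, hab.symm⟩
      have hy₁U' : y₁ ∉ Submodule.span F {p, κ *ᵥ p} := by
        intro hmem
        obtain ⟨s, t, hst⟩ := Submodule.mem_span_pair.mp hmem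
        exact hy₁p s t hst.symm
      have hind := h.kindep (Submodule.span F {p, κ *ᵥ p}) hU hyU hy0 hy₁U'
      apply hstep2 y₁ y hS₁ hqy₁ hqy
      intro a b c d hrel
      obtain ⟨h1, h2, h3, h4⟩ := hind c d a b (by rw [← hrel]; abel)
      exact ⟨h3, h4, h1, h2⟩
    · push Not at hyp
      exact hstep2 p y hT hqp hqy (h.kindep_pair hp0 hyp)
  by_cases hx0 : x = 0
  · rw [hx0, spT_zero_left']
    exact M.one_mem
  obtain ⟨x₁, hq1, hq2, hne⟩ := h.iso_decomp hm hx0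
  have hS1 := hiso x₁ hq1
  have hS2 := hiso (x - x₁) hq2
  have hne' : sympForm m F x₁ (x - x₁) ≠ 0 := by
    rw [sympForm_sub_right, sympForm_self, sub_zero]
    exact hne
  have e : ((spT m (x - x₁) (1 / sympForm m F x₁ (x - x₁)) : GL (Fin m ⊕ Fin m) F) :
      Matrix (Fin m ⊕ Fin m) (Fin m ⊕ Fin m) F) *ᵥ x₁ = x := by
    rw [spT_mulVec, one_div, inv_mul_cancel₀ hne', one_smul]
    abel
  have := hconj _ (hS2 (1 / sympForm m F x₁ (x - x₁))) x₁ hS1 c
  rwa [e] at this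

/-- An overgroup of the unitary group containing an element not normalising `F[κ]` is the whole
symplectic group. -/
theorem SkewK.core [Finite F] (h : SkewK m κ δ) (hm : 7 ≤ m)
    (M : Subgroup (GL (Fin m ⊕ Fin m) F)) (hMsp : M ≤ spGL m F)
    (hN : ∀ v c, kq m κ v = 0 → sU κ δ v c ∈ M) (g : GL (Fin m ⊕ Fin m) F) (hgM : g ∈ M)
    (hg : ¬ (((g⁻¹ : GL (Fin m ⊕ Fin m) F) : Matrix (Fin m ⊕ Fin m) (Fin m ⊕ Fin m) F) * κ *
        (g : Matrix (Fin m ⊕ Fin m) (Fin m ⊕ Fin m) F) = κ ∨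
      ((g⁻¹ : GL (Fin m ⊕ Fin m) F) : Matrix (Fin m ⊕ Fin m) (Fin m ⊕ Fin m) F) * κ *
        (g : Matrix (Fin m ⊕ Fin m) (Fin m ⊕ Fin m) F) = -κ)) :
    M = spGL m F := by
  obtain ⟨p, hp0, hqp, hT⟩ := h.exists_transv hm M hMsp hN g hgM hg
  exact le_antisymm hMsp (spGL_le_of_transv m M (fun v c => h.all_transv hm M hMsp hN hp0 hqp hT v c))

end

end Cfsg.Agent.Lib.helper95
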