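import Mathlib
import Cfsg.Prelude.Def_GeometricClasses
import Cfsg.Agent.Lib.helper95.SpUnit5

/-!
The normaliser in `Sp_2m(q)` (`q` odd, `m ≥ 7`) of a quadratic field subalgebra closed under adjoints
but not self-adjoint is maximal.
-/

set_option autoImplicit false

namespace Cfsg.Agent.Lib.helper95

open Matrix Cfsg Cfsg.Geo Cfsg.Agent.Lib.helper17 Module

section
variable {F : Type*} [Field F] {m : ℕ}

theorem mem_subalgNormalizer_of_conj {ι : Type} [Fintype ι] [DecidableEq ι]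
    (K : Subalgebra F (Matrix ι ι F)) (g : GL ι F)
    (h1 : ∀ k ∈ K, (g : Matrix ι ι F) * k * ((g⁻¹ : GL ι F) : Matrix ι ι F) ∈ K)
    (h2 : ∀ k ∈ K, ((g⁻¹ : GL ι F) : Matrix ι ι F) * k * (g : Matrix ι ι F) ∈ K) :
    g ∈ subalgebraNormalizer K := by
  intro k
  refine ⟨h1 k, fun hk => ?_⟩
  have h3 := h2 _ hk
  have e : ((g⁻¹ : GL ι F) : Matrix ι ι F) *
      ((g : Matrix ι ι F) * k * ((g⁻¹ : GL ι F) : Matrix ι ι F)) * (g : Matrix ι ι F) = k := by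
    calc ((g⁻¹ : GL ι F) : Matrix ι ι F) *
        ((g : Matrix ι ι F) * k * ((g⁻¹ : GL ι F) : Matrix ι ι F)) * (g : Matrix ι ι F)
        = (((g⁻¹ : GL ι F) : Matrix ι ι F) * (g : Matrix ι ι F)) * k *
          (((g⁻¹ : GL ι F) : Matrix ι ι F) * (g : Matrix ι ι F)) := by simp only [mul_assoc]
      _ = k := by rw [Units.inv_mul, one_mul, mul_one]
  rwa [e] at h3

/-- Extraction of a skew-adjoint generator. -/
theorem exists_skewK (m : ℕ) (K : Subalgebra F (Matrix (Fin m ⊕ Fin m) (Fin m ⊕ Fin m) F))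
    (hK : IsFieldSubalgebra 2 K) (hac : IsAdjointClosedFor (sympForm m F) K)
    (hnsa : ¬ IsSelfAdjointFor (sympForm m F) K) (h2 : (2 : F) ≠ 0) :
    ∃ (κ : Matrix (Fin m ⊕ Fin m) (Fin m ⊕ Fin m) F) (δ : F), SkewK m κ δ ∧ κ ∈ K ∧
      ∀ k ∈ K, ∃ a b : F, k = a • (1 : Matrix (Fin m ⊕ Fin m) (Fin m ⊕ Fin m) F) + b • κ := by
  unfold IsSelfAdjointFor at hnsa
  push Not at hnsa
  obtain ⟨k₀, hk₀K, u₀, v₀, hne⟩ := hnsa
  obtain ⟨k₀', hk₀'K, hadj⟩ := hac k₀ hk₀K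
  have hadj' : ∀ u v : Fin m ⊕ Fin m → F,
      sympForm m F (k₀' *ᵥ u) v = sympForm m F u (k₀ *ᵥ v) := by
    intro u v
    rw [sympForm_swap, ← hadj v u, sympForm_swap]
    ring
  obtain ⟨κ, hκ⟩ : ∃ κ : Matrix (Fin m ⊕ Fin m) (Fin m ⊕ Fin m) F, κ = k₀ - k₀' := ⟨_, rfl⟩
  have hκK : κ ∈ K := by rw [hκ]; exact K.sub_mem hk₀K hk₀'K
  have hskew : ∀ u v : Fin m ⊕ Fin m → F,
      sympForm m F (κ *ᵥ u) v = - sympForm m F u (κ *ᵥ v) := by
    intro u v
    rw [hκ, Matrix.sub_mulVec, Matrix.sub_mulVec, sympForm_sub_left, sympForm_sub_right, hadj,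
      hadj']
    ring
  have hκx : ∃ x v : Fin m ⊕ Fin m → F, sympForm m F (κ *ᵥ x) v ≠ 0 := by
    refine ⟨u₀, v₀, ?_⟩
    rw [hκ, Matrix.sub_mulVec, sympForm_sub_left, hadj']
    exact sub_ne_zero.mpr hne
  obtain ⟨x₀, y₀, hxy₀⟩ := hκx
  have hκns : ∀ c : F, κ ≠ c • (1 : Matrix (Fin m ⊕ Fin m) (Fin m ⊕ Fin m) F) := by
    intro c hc
    have h1 := hskew x₀ y₀
    rw [hc, Matrix.smul_mulVec, Matrix.one_mulVec, Matrix.smul_mulVec, Matrix.one_mulVec,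
      sympForm_smul_left, sympForm_smul_right] at h1
    have h3 : 2 * (c * sympForm m F x₀ y₀) = 0 := by linear_combination h1
    have h4 := (mul_eq_zero.mp h3).resolve_left h2
    apply hxy₀
    rw [hc, Matrix.smul_mulVec, Matrix.one_mulVec, sympForm_smul_left]
    exact h4
  have h1ne : (1 : Matrix (Fin m ⊕ Fin m) (Fin m ⊕ Fin m) F) ≠ 0 := by
    intro h0
    apply hκns 0
    rw [zero_smul]
    calc κ = κ * 1 := (mul_one κ).symm
      _ = 0 := by rw [h0, mul_zero]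
  have hspan : ∀ k ∈ K, ∃ a b : F,
      k = a • (1 : Matrix (Fin m ⊕ Fin m) (Fin m ⊕ Fin m) F) + b • κ := by
    have hli : LinearIndependent F ![(1 : Matrix (Fin m ⊕ Fin m) (Fin m ⊕ Fin m) F), κ] := by
      rw [LinearIndependent.pair_iff]
      intro s t hst
      have ht : t = 0 := by
        by_contra ht
        apply hκns (-s / t)
        have h3 : t • κ = -(s • (1 : Matrix (Fin m ⊕ Fin m) (Fin m ⊕ Fin m) F)) :=
          eq_neg_of_add_eq_zero_right hst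
        calc κ = t⁻¹ • (t • κ) := by rw [smul_smul, inv_mul_cancel₀ ht, one_smul]
          _ = (-s / t) • (1 : Matrix (Fin m ⊕ Fin m) (Fin m ⊕ Fin m) F) := by
            rw [h3, smul_neg, smul_smul, ← neg_smul]
            congr 1
            field_simp
      rw [ht, zero_smul, add_zero] at hst
      exact ⟨(smul_eq_zero.mp hst).resolve_right h1ne, ht⟩
    have hfin : finrank F ↥(Submodule.span F
        (Set.range ![(1 : Matrix (Fin m ⊕ Fin m) (Fin m ⊕ Fin m) F), κ])) = 2 := by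
      rw [finrank_span_eq_card hli]
      simp
    have hle : Submodule.span F (Set.range ![(1 : Matrix (Fin m ⊕ Fin m) (Fin m ⊕ Fin m) F), κ]) ≤
        Subalgebra.toSubmodule K := by
      rw [Submodule.span_le]
      rintro x ⟨i, rfl⟩
      fin_cases i
      · exact K.one_mem
      · exact hκK
    have heq := Submodule.eq_of_le_of_finrank_eq hle
      (by rw [hfin, Subalgebra.finrank_toSubmodule, hK.finrank_eq])
    intro k hk
    have hk' : k ∈ Submodule.span F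
        (Set.range ![(1 : Matrix (Fin m ⊕ Fin m) (Fin m ⊕ Fin m) F), κ]) := by
      rw [heq]
      exact hk
    obtain ⟨c, hc⟩ := (Submodule.mem_span_range_iff_exists_fun F).mp hk'
    rw [Fin.sum_univ_two] at hc
    exact ⟨c 0, c 1, hc.symm⟩
  obtain ⟨a, b, hab⟩ := hspan (κ * κ) (K.mul_mem hκK hκK)
  have hb : b = 0 := by
    have h1 : ∀ u v : Fin m ⊕ Fin m → F,
        sympForm m F ((κ * κ) *ᵥ u) v = sympForm m F u ((κ * κ) *ᵥ v) := by
      intro u v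
      rw [← Matrix.mulVec_mulVec, ← Matrix.mulVec_mulVec, hskew, hskew]
      ring
    have h3 := h1 x₀ y₀
    rw [hab, Matrix.add_mulVec, Matrix.add_mulVec, Matrix.smul_mulVec, Matrix.smul_mulVec,
      Matrix.smul_mulVec, Matrix.smul_mulVec, Matrix.one_mulVec, Matrix.one_mulVec,
      sympForm_add_left, sympForm_add_right, sympForm_smul_left, sympForm_smul_left,
      sympForm_smul_right, sympForm_smul_right, ← neg_eq_iff_eq_neg.mpr (hskew x₀ y₀)] at h3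
    have h4 : 2 * (b * sympForm m F (κ *ᵥ x₀) y₀) = 0 := by linear_combination h3
    exact (mul_eq_zero.mp ((mul_eq_zero.mp h4).resolve_left h2)).resolve_right hxy₀
  rw [hb, zero_smul, add_zero] at hab
  refine ⟨κ, a, ⟨hab, hskew, ?_, h2⟩, hκK, hspan⟩
  intro c hc
  have hc1 : κ - c • (1 : Matrix (Fin m ⊕ Fin m) (Fin m ⊕ Fin m) F) ∈ K :=
    K.sub_mem hκK (K.smul_mem K.one_mem c)
  have hc2 : κ - c • (1 : Matrix (Fin m ⊕ Fin m) (Fin m ⊕ Fin m) F) ≠ 0 :=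
    fun h0 => hκns c (sub_eq_zero.mp h0)
  obtain ⟨y, hyK, hy⟩ := hK.inv _ hc1 hc2
  have hprod : (κ - c • (1 : Matrix (Fin m ⊕ Fin m) (Fin m ⊕ Fin m) F)) *
      (κ + c • (1 : Matrix (Fin m ⊕ Fin m) (Fin m ⊕ Fin m) F)) = 0 := by
    rw [sub_mul, mul_add, mul_add, hab, Matrix.mul_smul, Matrix.smul_mul, Matrix.smul_mul,
      Matrix.mul_smul, mul_one, one_mul, one_mul, smul_smul, hc]
    abel
  have hyc := hK.comm _ hc1 y hyK
  have h5 : κ + c • (1 : Matrix (Fin m ⊕ Fin m) (Fin m ⊕ Fin m) F) = 0 := by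
    calc κ + c • (1 : Matrix (Fin m ⊕ Fin m) (Fin m ⊕ Fin m) F)
        = (y * (κ - c • (1 : Matrix (Fin m ⊕ Fin m) (Fin m ⊕ Fin m) F))) *
          (κ + c • (1 : Matrix (Fin m ⊕ Fin m) (Fin m ⊕ Fin m) F)) := by
          rw [← hyc, hy, one_mul]
      _ = 0 := by rw [mul_assoc, hprod, mul_zero]
  apply hκns (-c)
  rw [neg_smul]
  exact eq_neg_of_add_eq_zero_left h5

/-- The normaliser in `Sp_2m(q)`, `q` odd, of a quadratic field subalgebra closed under adjoints but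
not self-adjoint is a maximal subgroup. -/
theorem sp_unitary_normalizer_maximal [Finite F] (m : ℕ) (hm : 7 ≤ m) (h2 : (2 : F) ≠ 0)
    (K : Subalgebra F (Matrix (Fin m ⊕ Fin m) (Fin m ⊕ Fin m) F)) (hK : IsFieldSubalgebra 2 K)
    (hac : IsAdjointClosedFor (sympForm m F) K) (hnsa : ¬ IsSelfAdjointFor (sympForm m F) K) :
    IsMaximalIn (spGL m F) (subalgebraNormalizer K ⊓ spGL m F) := by
  obtain ⟨κ, δ, h, hκK, hspan⟩ := exists_skewK m K hK hac hnsa h2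
  have hcomm_mem : ∀ g : GL (Fin m ⊕ Fin m) F,
      (g : Matrix (Fin m ⊕ Fin m) (Fin m ⊕ Fin m) F) * κ =
        κ * (g : Matrix (Fin m ⊕ Fin m) (Fin m ⊕ Fin m) F) → g ∈ subalgebraNormalizer K := by
    intro g hg
    have hg' : ((g⁻¹ : GL (Fin m ⊕ Fin m) F) : Matrix (Fin m ⊕ Fin m) (Fin m ⊕ Fin m) F) * κ =
        κ * ((g⁻¹ : GL (Fin m ⊕ Fin m) F) : Matrix (Fin m ⊕ Fin m) (Fin m ⊕ Fin m) F) := by
      calc ((g⁻¹ : GL (Fin m ⊕ Fin m) F) : Matrix (Fin m ⊕ Fin m) (Fin m ⊕ Fin m) F) * κ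
          = ((g⁻¹ : GL (Fin m ⊕ Fin m) F) : Matrix (Fin m ⊕ Fin m) (Fin m ⊕ Fin m) F) * (κ *
            (g : Matrix (Fin m ⊕ Fin m) (Fin m ⊕ Fin m) F)) *
            ((g⁻¹ : GL (Fin m ⊕ Fin m) F) : Matrix (Fin m ⊕ Fin m) (Fin m ⊕ Fin m) F) := by
            rw [mul_assoc, mul_assoc, Units.mul_inv, mul_one]
        _ = κ * ((g⁻¹ : GL (Fin m ⊕ Fin m) F) : Matrix (Fin m ⊕ Fin m) (Fin m ⊕ Fin m) F) := by
            rw [← hg, ← mul_assoc, Units.inv_mul, one_mul]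
    apply mem_subalgNormalizer_of_conj
    · intro k hk
      obtain ⟨a, b, rfl⟩ := hspan k hk
      have e : (g : Matrix (Fin m ⊕ Fin m) (Fin m ⊕ Fin m) F) *
          (a • (1 : Matrix (Fin m ⊕ Fin m) (Fin m ⊕ Fin m) F) + b • κ) *
          ((g⁻¹ : GL (Fin m ⊕ Fin m) F) : Matrix (Fin m ⊕ Fin m) (Fin m ⊕ Fin m) F) =
          a • (1 : Matrix (Fin m ⊕ Fin m) (Fin m ⊕ Fin m) F) + b • κ := by
        rw [mul_add, Matrix.mul_smul, Matrix.mul_smul, mul_one, hg, add_mul, Matrix.smul_mul,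
          Matrix.smul_mul, Units.mul_inv, mul_assoc, Units.mul_inv, mul_one]
      rw [e]
      exact hk
    · intro k hk
      obtain ⟨a, b, rfl⟩ := hspan k hk
      have e : ((g⁻¹ : GL (Fin m ⊕ Fin m) F) : Matrix (Fin m ⊕ Fin m) (Fin m ⊕ Fin m) F) *
          (a • (1 : Matrix (Fin m ⊕ Fin m) (Fin m ⊕ Fin m) F) + b • κ) *
          (g : Matrix (Fin m ⊕ Fin m) (Fin m ⊕ Fin m) F) =
          a • (1 : Matrix (Fin m ⊕ Fin m) (Fin m ⊕ Fin m) F) + b • κ := by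
        rw [mul_add, Matrix.mul_smul, Matrix.mul_smul, mul_one, hg', add_mul, Matrix.smul_mul,
          Matrix.smul_mul, Units.inv_mul, mul_assoc, Units.inv_mul, mul_one]
      rw [e]
      exact hk
  have hpm_mem : ∀ g : GL (Fin m ⊕ Fin m) F,
      (((g⁻¹ : GL (Fin m ⊕ Fin m) F) : Matrix (Fin m ⊕ Fin m) (Fin m ⊕ Fin m) F) * κ *
        (g : Matrix (Fin m ⊕ Fin m) (Fin m ⊕ Fin m) F) = κ ∨
      ((g⁻¹ : GL (Fin m ⊕ Fin m) F) : Matrix (Fin m ⊕ Fin m) (Fin m ⊕ Fin m) F) * κ *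
        (g : Matrix (Fin m ⊕ Fin m) (Fin m ⊕ Fin m) F) = -κ) → g ∈ subalgebraNormalizer K := by
    intro g hg
    have key : ∃ ε : F, ((g⁻¹ : GL (Fin m ⊕ Fin m) F) : Matrix (Fin m ⊕ Fin m) (Fin m ⊕ Fin m) F) *
        κ * (g : Matrix (Fin m ⊕ Fin m) (Fin m ⊕ Fin m) F) = ε • κ ∧
        (g : Matrix (Fin m ⊕ Fin m) (Fin m ⊕ Fin m) F) * κ *
        ((g⁻¹ : GL (Fin m ⊕ Fin m) F) : Matrix (Fin m ⊕ Fin m) (Fin m ⊕ Fin m) F) = ε • κ := by
      have conj : ∀ ε : F, ε * ε = 1 →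
          ((g⁻¹ : GL (Fin m ⊕ Fin m) F) : Matrix (Fin m ⊕ Fin m) (Fin m ⊕ Fin m) F) *
          κ * (g : Matrix (Fin m ⊕ Fin m) (Fin m ⊕ Fin m) F) = ε • κ →
          (g : Matrix (Fin m ⊕ Fin m) (Fin m ⊕ Fin m) F) * κ *
          ((g⁻¹ : GL (Fin m ⊕ Fin m) F) : Matrix (Fin m ⊕ Fin m) (Fin m ⊕ Fin m) F) = ε • κ := by
        intro ε hε hconj
        have h3 : κ = (g : Matrix (Fin m ⊕ Fin m) (Fin m ⊕ Fin m) F) * (ε • κ) *
            ((g⁻¹ : GL (Fin m ⊕ Fin m) F) : Matrix (Fin m ⊕ Fin m) (Fin m ⊕ Fin m) F) := by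
          rw [← hconj]
          calc κ = ((g : Matrix (Fin m ⊕ Fin m) (Fin m ⊕ Fin m) F) *
              ((g⁻¹ : GL (Fin m ⊕ Fin m) F) : Matrix (Fin m ⊕ Fin m) (Fin m ⊕ Fin m) F)) * κ *
              ((g : Matrix (Fin m ⊕ Fin m) (Fin m ⊕ Fin m) F) *
              ((g⁻¹ : GL (Fin m ⊕ Fin m) F) : Matrix (Fin m ⊕ Fin m) (Fin m ⊕ Fin m) F)) := by
                rw [Units.mul_inv, one_mul, mul_one]
            _ = _ := by simp only [mul_assoc]
        rw [Matrix.mul_smul, Matrix.smul_mul] at h3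
        calc (g : Matrix (Fin m ⊕ Fin m) (Fin m ⊕ Fin m) F) * κ *
            ((g⁻¹ : GL (Fin m ⊕ Fin m) F) : Matrix (Fin m ⊕ Fin m) (Fin m ⊕ Fin m) F)
            = (ε * ε) • ((g : Matrix (Fin m ⊕ Fin m) (Fin m ⊕ Fin m) F) * κ *
              ((g⁻¹ : GL (Fin m ⊕ Fin m) F) : Matrix (Fin m ⊕ Fin m) (Fin m ⊕ Fin m) F)) := by
              rw [hε, one_smul]
          _ = ε • κ := by rw [mul_smul, ← h3]
      rcases hg with hg | hg
      · exact ⟨1, by rw [hg, one_smul], conj 1 (by ring) (by rw [hg, one_smul])⟩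
      · exact ⟨-1, by rw [hg, neg_smul, one_smul],
          conj (-1) (by ring) (by rw [hg, neg_smul, one_smul])⟩
    obtain ⟨ε, hε1, hε2⟩ := key
    apply mem_subalgNormalizer_of_conj
    · intro k hk
      obtain ⟨a, b, rfl⟩ := hspan k hk
      have e : (g : Matrix (Fin m ⊕ Fin m) (Fin m ⊕ Fin m) F) *
          (a • (1 : Matrix (Fin m ⊕ Fin m) (Fin m ⊕ Fin m) F) + b • κ) *
          ((g⁻¹ : GL (Fin m ⊕ Fin m) F) : Matrix (Fin m ⊕ Fin m) (Fin m ⊕ Fin m) F) =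
          a • (1 : Matrix (Fin m ⊕ Fin m) (Fin m ⊕ Fin m) F) + (b * ε) • κ := by
        rw [mul_add, add_mul, Matrix.mul_smul, Matrix.mul_smul, Matrix.smul_mul, Matrix.smul_mul,
          mul_one, Units.mul_inv, hε2, smul_smul]
      rw [e]
      exact K.add_mem (K.smul_mem K.one_mem a) (K.smul_mem hκK _)
    · intro k hk
      obtain ⟨a, b, rfl⟩ := hspan k hk
      have e : ((g⁻¹ : GL (Fin m ⊕ Fin m) F) : Matrix (Fin m ⊕ Fin m) (Fin m ⊕ Fin m) F) *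
          (a • (1 : Matrix (Fin m ⊕ Fin m) (Fin m ⊕ Fin m) F) + b • κ) *
          (g : Matrix (Fin m ⊕ Fin m) (Fin m ⊕ Fin m) F) =
          a • (1 : Matrix (Fin m ⊕ Fin m) (Fin m ⊕ Fin m) F) + (b * ε) • κ := by
        rw [mul_add, add_mul, Matrix.mul_smul, Matrix.mul_smul, Matrix.smul_mul, Matrix.smul_mul,
          mul_one, Units.inv_mul, hε1, smul_smul]
      rw [e]
      exact K.add_mem (K.smul_mem K.one_mem a) (K.smul_mem hκK _)
  constructor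
  · refine lt_of_le_of_ne inf_le_right ?_
    intro heq
    obtain ⟨w, hw0, hqw, -, -, -⟩ := h.iso_partner hm 0 0
    have hT : spT m w 1 ∈ subalgebraNormalizer K ⊓ spGL m F := by
      rw [heq]; exact spT_mem m w 1
    have hT' : ∀ k : Matrix (Fin m ⊕ Fin m) (Fin m ⊕ Fin m) F, k ∈ K ↔
        ((spT m w 1 : GL (Fin m ⊕ Fin m) F) : Matrix (Fin m ⊕ Fin m) (Fin m ⊕ Fin m) F) * k *
        (((spT m w 1)⁻¹ : GL (Fin m ⊕ Fin m) F) : Matrix (Fin m ⊕ Fin m) (Fin m ⊕ Fin m) F) ∈ K :=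
      hT.1
    obtain ⟨a, b, hab⟩ := hspan _ ((hT' κ).mp hκK)
    have h3 : ((spT m w 1 : GL (Fin m ⊕ Fin m) F) : Matrix (Fin m ⊕ Fin m) (Fin m ⊕ Fin m) F) * κ =
        (a • (1 : Matrix (Fin m ⊕ Fin m) (Fin m ⊕ Fin m) F) + b • κ) *
        ((spT m w 1 : GL (Fin m ⊕ Fin m) F) : Matrix (Fin m ⊕ Fin m) (Fin m ⊕ Fin m) F) := by
      rw [← hab, mul_assoc, Units.inv_mul, mul_one]
    have h4 : ∀ x : Fin m ⊕ Fin m → F,
        κ *ᵥ x + sympForm m F (κ *ᵥ x) w • w =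
          a • x + b • κ *ᵥ x + sympForm m F x w • (a • w + b • κ *ᵥ w) := by
      intro x
      have h5 := congrArg (fun A => A *ᵥ x) h3
      simp only [← Matrix.mulVec_mulVec, spT_mulVec, one_mul, Matrix.add_mulVec, Matrix.smul_mulVec,
        Matrix.one_mulVec, Matrix.mulVec_add, Matrix.mulVec_smul] at h5
      exact h5
    have h6 := h4 w
    unfold kq at hqw
    rw [hqw, sympForm_self, zero_smul, zero_smul, add_zero, add_zero] at h6
    obtain ⟨ha, hb⟩ := h.kappa_indep hw0 (a := a) (b := b - 1) (by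
      linear_combination (norm := module) -h6)
    have hb1 : b = 1 := by linear_combination hb
    obtain ⟨x, hx⟩ := exists_sympForm_ne_zero m w hw0
    have h7 := h4 x
    rw [ha, hb1, zero_smul, zero_add, one_smul, zero_smul, zero_add, one_smul] at h7
    obtain ⟨h8, h9⟩ := h.kappa_indep hw0 (a := sympForm m F (κ *ᵥ x) w)
      (b := -sympForm m F x w) (by linear_combination (norm := module) h7)
    apply hx
    rw [sympForm_swap]
    linear_combination h9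
  · intro M hNM hMsp
    by_cases hMN : M ≤ subalgebraNormalizer K ⊓ spGL m F
    · left
      exact le_antisymm hMN hNM
    · right
      obtain ⟨g, hgM, hgN⟩ := SetLike.not_le_iff_exists.mp hMN
      have hgK : g ∉ subalgebraNormalizer K := fun hg => hgN ⟨hg, hMsp hgM⟩
      apply h.core hm M hMsp ?_ g hgM (fun hg => hgK (hpm_mem g hg))
      intro v c hv
      exact hNM ⟨hcomm_mem _ (h.sU_comm hv c), sU_mem_sp κ δ v c⟩

end

end Cfsg.Agent.Lib.helper95
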