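import Mathlib
import Cfsg.Prelude.Def_GeometricClasses
import Cfsg.Agent.Lib.helper17.UEichler
import Cfsg.Agent.Lib.helper95.SpMax

/-!
Maximality tools for subgroups of `GU n F q ⊓ specialLinear` (the special unitary group as a subgroup of
GL): Eichler elements and unitary transvections as elements of GL, the bridge from "SU is generated by
unitary transvections" (taken as a hypothesis `hgen`), and maximality of the stabiliser of a totally
isotropic subspace.
-/

set_option autoImplicit false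

namespace Cfsg.Agent.Lib.helper95

open Matrix Cfsg Cfsg.Geo Cfsg.Agent.Lib.helper17

section
variable {F : Type*} [Field F]

open Classical in
/-- The GL element with matrix `eichlerU n q v y β` when that matrix has determinant one (`1` otherwise):
`x ↦ x + h(x,v) y − h(x,y) v + β h(x,v) v`. For `y = 0` this is the unitary transvection. -/
noncomputable def uE (n q : ℕ) (v y : Fin n → F) (β : F) : GL (Fin n) F :=
  if h : (eichlerU n q v y β).det = 1 then
    Matrix.GeneralLinearGroup.mkOfDetNeZero (eichlerU n q v y β) (by rw [h]; exact one_ne_zero)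
  else 1

theorem mem_GU_iff (n q : ℕ) (g : GL (Fin n) F) :
    g ∈ GU n F q ↔ ∀ u v, hermForm n F q ((g : Matrix (Fin n) (Fin n) F) *ᵥ u)
      ((g : Matrix (Fin n) (Fin n) F) *ᵥ v) = hermForm n F q u v := Iff.rfl

end

section
variable {F : Type*} [Field F] [Fintype F] {q : ℕ} (hF : Fintype.card F = q ^ 2)
include hF

theorem hermForm_zero_right' (n : ℕ) (u : Fin n → F) : hermForm n F q u 0 = 0 := by
  have hq2 := two_le_of_card_eq_sq hF
  unfold hermForm
  simp [zero_pow (by omega : q ≠ 0)]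

theorem hermForm_swap_zero (n : ℕ) (u w : Fin n → F) (h : hermForm n F q u w = 0) :
    hermForm n F q w u = 0 := by
  have hq2 := two_le_of_card_eq_sq hF
  rw [← hermForm_conj hF, h, zero_pow (by omega)]

theorem hermForm_swap_ne (n : ℕ) (u w : Fin n → F) (h : hermForm n F q u w ≠ 0) :
    hermForm n F q w u ≠ 0 :=
  fun h0 => h (hermForm_swap_zero hF n w u h0)

theorem uE_val (n : ℕ) (v y : Fin n → F) (β : F) (hvv : hermForm n F q v v = 0)
    (hyv : hermForm n F q y v = 0) :
    ((uE n q v y β : GL (Fin n) F) : Matrix (Fin n) (Fin n) F) = eichlerU n q v y β := by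
  unfold uE
  rw [dif_pos (eichlerU_det n q v y β hvv hyv (hermForm_swap_zero hF n y v hyv))]
  rfl

theorem uE_mulVec (n : ℕ) (v y : Fin n → F) (β : F) (hvv : hermForm n F q v v = 0)
    (hyv : hermForm n F q y v = 0) (x : Fin n → F) :
    ((uE n q v y β : GL (Fin n) F) : Matrix (Fin n) (Fin n) F) *ᵥ x =
      x + hermForm n F q x v • y - hermForm n F q x y • v + (β * hermForm n F q x v) • v := by
  rw [uE_val hF n v y β hvv hyv]
  exact eichlerU_mulVec n q v y β x

theorem uE_mem (n : ℕ) (v y : Fin n → F) (β : F) (hvv : hermForm n F q v v = 0)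
    (hyv : hermForm n F q y v = 0) (hβ : β + β ^ q + hermForm n F q y y = 0) :
    uE n q v y β ∈ GU n F q ⊓ specialLinear (Fin n) F := by
  refine Subgroup.mem_inf.mpr ⟨?_, ?_⟩
  · rw [mem_GU_iff]
    intro x x'
    rw [uE_val hF n v y β hvv hyv]
    exact eichlerU_preserves hF n v y β hvv hyv hβ x x'
  · rw [mem_specialLinear_iff, uE_val hF n v y β hvv hyv]
    exact eichlerU_det n q v y β hvv hyv (hermForm_swap_zero hF n y v hyv)

theorem uT_mulVec (n : ℕ) (v : Fin n → F) (c : F) (hvv : hermForm n F q v v = 0) (x : Fin n → F) :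
    ((uE n q v 0 c : GL (Fin n) F) : Matrix (Fin n) (Fin n) F) *ᵥ x =
      x + (c * hermForm n F q x v) • v := by
  rw [uE_mulVec hF n v 0 c hvv (hermForm_zero_left n q v), hermForm_zero_right' hF, smul_zero,
    zero_smul, add_zero, sub_zero]

theorem uT_mem (n : ℕ) (v : Fin n → F) (c : F) (hvv : hermForm n F q v v = 0) (hc : c + c ^ q = 0) :
    uE n q v 0 c ∈ GU n F q ⊓ specialLinear (Fin n) F :=
  uE_mem hF n v 0 c hvv (hermForm_zero_left n q v) (by rw [hermForm_zero_left, add_zero]; exact hc)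

theorem hermForm_inv_left (n : ℕ) (g : GL (Fin n) F) (hg : g ∈ GU n F q) (x w : Fin n → F) :
    hermForm n F q (((g⁻¹ : GL (Fin n) F) : Matrix (Fin n) (Fin n) F) *ᵥ x) w =
      hermForm n F q x ((g : Matrix (Fin n) (Fin n) F) *ᵥ w) := by
  have h := (mem_GU_iff n q g).mp hg (((g⁻¹ : GL (Fin n) F) : Matrix (Fin n) (Fin n) F) *ᵥ x) w
  rw [gl_mulVec_inv_mulVec] at h
  exact h.symm

theorem uT_conj (n : ℕ) (g : GL (Fin n) F) (hg : g ∈ GU n F q) (v : Fin n → F) (c : F)
    (hvv : hermForm n F q v v = 0) :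
    g * uE n q v 0 c * g⁻¹ = uE n q ((g : Matrix (Fin n) (Fin n) F) *ᵥ v) 0 c := by
  have hgv : hermForm n F q ((g : Matrix (Fin n) (Fin n) F) *ᵥ v)
      ((g : Matrix (Fin n) (Fin n) F) *ᵥ v) = 0 := by
    rw [(mem_GU_iff n q g).mp hg, hvv]
  apply gl_ext_mulVec
  intro x
  rw [Units.val_mul, Units.val_mul, ← Matrix.mulVec_mulVec, ← Matrix.mulVec_mulVec,
    uT_mulVec hF n v c hvv, uT_mulVec hF n _ c hgv, Matrix.mulVec_add, Matrix.mulVec_smul,
    gl_mulVec_inv_mulVec, hermForm_inv_left hF n g hg]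

theorem uT_smul (n : ℕ) (a : F) (v : Fin n → F) (c : F) (hvv : hermForm n F q v v = 0) :
    uE n q (a • v) 0 c = uE n q v 0 (a * a ^ q * c) := by
  have hav : hermForm n F q (a • v) (a • v) = 0 := by
    rw [hermForm_smul_left, hermForm_smul_right, hvv, mul_zero, mul_zero]
  apply gl_ext_mulVec
  intro x
  rw [uT_mulVec hF n _ c hav, uT_mulVec hF n v _ hvv, hermForm_smul_right, smul_smul]
  congr 2
  ring

/-- There is a non-zero element of trace zero. -/
theorem exists_trace_zero_ne : ∃ c : F, c ≠ 0 ∧ c + c ^ q = 0 := by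
  obtain ⟨a, ha⟩ := exists_pow_q_ne hF
  refine ⟨a ^ q - a, sub_ne_zero.mpr ha, ?_⟩
  rw [sub_pow_q hF, pow_q_pow_q hF]
  ring

/-- A vector outside `W` is not orthogonal to the whole of `W^⊥`. -/
theorem herm_exists_perp_ne (n : ℕ) (W : Submodule F (Fin n → F)) (u : Fin n → F) (hu : u ∉ W) :
    ∃ z, (∀ w ∈ W, hermForm n F q w z = 0) ∧ hermForm n F q u z ≠ 0 := by
  classical
  obtain ⟨φ, hφu, hφW⟩ := exists_dual_eq_one_of_notMem W u hu
  have key : ∀ x, hermForm n F q x (fun i => (φ (fun j => if i = j then 1 else 0)) ^ q) = φ x := by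
    intro x
    unfold hermForm
    simp only [pow_q_pow_q hF]
    rw [LinearMap.pi_apply_eq_sum_univ φ x]
    simp only [smul_eq_mul]
  refine ⟨fun i => (φ (fun j => if i = j then 1 else 0)) ^ q, fun w hw => ?_, ?_⟩
  · rw [key, hφW w hw]
  · rw [key, hφu]
    exact one_ne_zero

/-- Adjusting a vector `z₀` by a multiple of an isotropic `u` with `h(u, z₀) ≠ 0` to make it isotropic. -/
theorem exists_isotropic_adjust (n : ℕ) (u z₀ : Fin n → F) (huu : hermForm n F q u u = 0)
    (hz₀u : hermForm n F q u z₀ ≠ 0) :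
    ∃ t : F, hermForm n F q (z₀ + t • u) (z₀ + t • u) = 0 := by
  obtain ⟨s, hs⟩ := exists_trace_eq hF (-(hermForm n F q z₀ z₀)) (by
    rw [neg_pow_q hF, hermForm_conj hF])
  refine ⟨s / hermForm n F q u z₀, ?_⟩
  simp only [hermForm_add_left, hermForm_add_right hF, hermForm_smul_left, hermForm_smul_right, huu,
    mul_zero, add_zero]
  rw [div_mul_cancel₀ _ hz₀u, div_pow, hermForm_conj hF,
    div_mul_cancel₀ _ (hermForm_swap_ne hF n u z₀ hz₀u)]
  linear_combination hs

/-- The special unitary group (inside GL) is contained in any subgroup containing all unitary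
transvections, given that `SU` is generated by the unitary transvections. -/
theorem suGL_le_of_transv (n : ℕ)
    (hgen : Subgroup.closure {A : ↥(Cfsg.SU n F q) | ∃ (v : Fin n → F) (c : F),
      Cfsg.hermForm n F q v v = 0 ∧
      ((A : Matrix.SpecialLinearGroup (Fin n) F) : Matrix (Fin n) (Fin n) F) =
        Cfsg.unitaryTransvection n q v c} = ⊤)
    (M : Subgroup (GL (Fin n) F))
    (hT : ∀ v c, hermForm n F q v v = 0 → c + c ^ q = 0 → uE n q v 0 c ∈ M) :
    GU n F q ⊓ specialLinear (Fin n) F ≤ M := by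
  have hq2 := two_le_of_card_eq_sq hF
  intro g hg
  have hdet : (g : Matrix (Fin n) (Fin n) F).det = 1 := (mem_specialLinear_iff g).mp hg.2
  have key : ∀ A ∈ Subgroup.closure {A : ↥(Cfsg.SU n F q) | ∃ (v : Fin n → F) (c : F),
      Cfsg.hermForm n F q v v = 0 ∧
      ((A : Matrix.SpecialLinearGroup (Fin n) F) : Matrix (Fin n) (Fin n) F) =
        Cfsg.unitaryTransvection n q v c},
      ∀ g : GL (Fin n) F, (g : Matrix (Fin n) (Fin n) F) =
        ((A : Matrix.SpecialLinearGroup (Fin n) F) : Matrix (Fin n) (Fin n) F) → g ∈ M := by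
    intro A hA
    refine Subgroup.closure_induction (p := fun (A : ↥(Cfsg.SU n F q)) _ =>
      ∀ g : GL (Fin n) F, (g : Matrix (Fin n) (Fin n) F) =
        ((A : Matrix.SpecialLinearGroup (Fin n) F) : Matrix (Fin n) (Fin n) F) → g ∈ M) ?_ ?_ ?_ ?_ hA
    · rintro A ⟨v, c, hvv, hAv⟩ g hg
      by_cases hc : c + c ^ q = 0
      · have : g = uE n q v 0 c := Units.ext (by
          rw [hg, hAv, uE_val hF n v 0 c hvv (hermForm_zero_left n q v), eichlerU_zero hF])
        rw [this]; exact hT v c hvv hc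
      · have hpres : ∀ x y, hermForm n F q (unitaryTransvection n q v c *ᵥ x)
            (unitaryTransvection n q v c *ᵥ y) = hermForm n F q x y := by
          intro x y
          rw [← hAv]
          exact A.2 x y
        have hrad : ∀ x, hermForm n F q x v = 0 := by
          intro x
          have h1 := hpres x x
          rw [hermForm_unitaryTransvection hF n v hvv c x x] at h1
          have h2 : (c ^ q + c) * (hermForm n F q x v * hermForm n F q v x) = 0 := by
            linear_combination h1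
          rcases mul_eq_zero.mp h2 with h3 | h3
          · exact absurd (by rw [add_comm]; exact h3) hc
          · rcases mul_eq_zero.mp h3 with h4 | h4
            · exact h4
            · exact hermForm_swap_zero hF n v x h4
        have : g = 1 := by
          apply gl_ext_mulVec
          intro x
          rw [hg, hAv, unitaryTransvection_mulVec, hrad x, mul_zero, zero_smul, add_zero,
            Units.val_one, Matrix.one_mulVec]
        rw [this]; exact M.one_mem
    · intro g hg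
      have : g = 1 := Units.ext (by rw [hg]; rfl)
      rw [this]; exact M.one_mem
    · intro A B _ _ ihA ihB g hg
      have hdA : ((A : Matrix.SpecialLinearGroup (Fin n) F) : Matrix (Fin n) (Fin n) F).det ≠ 0 := by
        rw [(A : Matrix.SpecialLinearGroup (Fin n) F).2]; exact one_ne_zero
      have hdB : ((B : Matrix.SpecialLinearGroup (Fin n) F) : Matrix (Fin n) (Fin n) F).det ≠ 0 := by
        rw [(B : Matrix.SpecialLinearGroup (Fin n) F).2]; exact one_ne_zero
      have : g = Matrix.GeneralLinearGroup.mkOfDetNeZero _ hdA *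
          Matrix.GeneralLinearGroup.mkOfDetNeZero _ hdB := Units.ext (by rw [hg]; rfl)
      rw [this]; exact M.mul_mem (ihA _ rfl) (ihB _ rfl)
    · intro A _ ihA g hg
      have hdA : ((A : Matrix.SpecialLinearGroup (Fin n) F) : Matrix (Fin n) (Fin n) F).det ≠ 0 := by
        rw [(A : Matrix.SpecialLinearGroup (Fin n) F).2]; exact one_ne_zero
      have : g = (Matrix.GeneralLinearGroup.mkOfDetNeZero _ hdA)⁻¹ := by
        apply eq_inv_of_mul_eq_one_left
        apply Units.ext
        rw [Units.val_mul, hg]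
        have h1 : A⁻¹ * A = 1 := inv_mul_cancel A
        have h2 := congrArg (fun B : ↥(Cfsg.SU n F q) =>
          ((B : Matrix.SpecialLinearGroup (Fin n) F) : Matrix (Fin n) (Fin n) F)) h1
        exact h2
      rw [this]; exact M.inv_mem (ihA _ rfl)
  exact key ⟨⟨(g : Matrix (Fin n) (Fin n) F), hdet⟩, fun u v => (mem_GU_iff n q g).mp hg.1 u v⟩
    (by rw [hgen]; trivial) g rfl

/-- If `M ≤ SU` contains the stabiliser of the totally isotropic `W` and an element not stabilising
`W`, then `M` contains every unitary transvection. -/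
theorem su_parabolic_transv_all (n : ℕ) (W : Submodule F (Fin n → F))
    (hW : ∀ u ∈ W, ∀ v ∈ W, hermForm n F q u v = 0)
    (M : Subgroup (GL (Fin n) F))
    (hPM : subspaceStabilizer W ⊓ (GU n F q ⊓ specialLinear (Fin n) F) ≤ M)
    (hMG : M ≤ GU n F q ⊓ specialLinear (Fin n) F)
    (h : GL (Fin n) F) (hhM : h ∈ M) (hhW : h ∉ subspaceStabilizer W)
    (v : Fin n → F) (c : F) (hvv : hermForm n F q v v = 0) (hc : c + c ^ q = 0) :
    uE n q v 0 c ∈ M := by
  have hq2 := two_le_of_card_eq_sq hF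
  have ha : ∀ u, hermForm n F q u u = 0 → (∀ w ∈ W, hermForm n F q w u = 0) →
      ∀ c, c + c ^ q = 0 → uE n q u 0 c ∈ M := by
    intro u huu hu c hc
    apply hPM
    refine ⟨mem_subspaceStabilizer_of_forall W _ ?_, uT_mem hF n u c huu hc⟩
    intro x hx
    rw [uT_mulVec hF n u c huu, hu x hx, mul_zero, zero_smul, add_zero]
    exact hx
  have hb : ∀ g ∈ M, ∀ v, hermForm n F q v v = 0 → (∀ c, c + c ^ q = 0 → uE n q v 0 c ∈ M) →
      ∀ c, c + c ^ q = 0 → uE n q ((g : Matrix (Fin n) (Fin n) F) *ᵥ v) 0 c ∈ M := by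
    intro g hg v hvv hv c hc
    rw [← uT_conj hF n g (hMG hg).1 v c hvv]
    exact M.mul_mem (M.mul_mem hg (hv c hc)) (M.inv_mem hg)
  have hcs : ∀ (a : F) v, hermForm n F q v v = 0 → (∀ c, c + c ^ q = 0 → uE n q v 0 c ∈ M) →
      ∀ c, c + c ^ q = 0 → uE n q (a • v) 0 c ∈ M := by
    intro a v hvv hv c hc
    rw [uT_smul hF n a v c hvv]
    apply hv
    rw [mul_pow, mul_pow, pow_q_pow_q hF]
    linear_combination (a * a ^ q) * hc
  have he : ∀ v₀, hermForm n F q v₀ v₀ = 0 → (∀ c, c + c ^ q = 0 → uE n q v₀ 0 c ∈ M) →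
      ∀ w ∈ W, hermForm n F q v₀ w = 1 → ∀ x, hermForm n F q x x = 0 → hermForm n F q x w = 1 →
      ∀ c, c + c ^ q = 0 → uE n q x 0 c ∈ M := by
    intro v₀ hv₀v₀ hv₀ w hwW hv₀w x hxx hxw
    have hww : hermForm n F q w w = 0 := hW w hwW w hwW
    have hyw : hermForm n F q (x - v₀) w = 0 := by rw [hermForm_sub_left, hxw, hv₀w, sub_self]
    have hβ : hermForm n F q v₀ (x - v₀) + hermForm n F q v₀ (x - v₀) ^ q +
        hermForm n F q (x - v₀) (x - v₀) = 0 := by
      rw [hermForm_conj hF]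
      simp only [hermForm_sub_left, hermForm_sub_right hF, hxx, hv₀v₀]
      ring
    have hE : uE n q w (x - v₀) (hermForm n F q v₀ (x - v₀)) ∈ M := by
      apply hPM
      refine ⟨mem_subspaceStabilizer_of_forall W _ ?_, uE_mem hF n w _ _ hww hyw hβ⟩
      intro u hu
      rw [uE_mulVec hF n w _ _ hww hyw, hW u hu w hwW, zero_smul, add_zero, mul_zero, zero_smul,
        add_zero]
      exact W.sub_mem hu (W.smul_mem _ hwW)
    have h1 := hb _ hE v₀ hv₀v₀ hv₀
    have e : ((uE n q w (x - v₀) (hermForm n F q v₀ (x - v₀)) : GL (Fin n) F) :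
        Matrix (Fin n) (Fin n) F) *ᵥ v₀ = x := by
      rw [uE_mulVec hF n w _ _ hww hyw, hv₀w, one_smul, mul_one]
      abel
    rw [e] at h1
    exact h1
  have hf : ∀ v₀, hermForm n F q v₀ v₀ = 0 → (∀ c, c + c ^ q = 0 → uE n q v₀ 0 c ∈ M) →
      ∀ w ∈ W, hermForm n F q v₀ w ≠ 0 → ∀ x, hermForm n F q x x = 0 → hermForm n F q x w ≠ 0 →
      ∀ c, c + c ^ q = 0 → uE n q x 0 c ∈ M := by
    intro v₀ hv₀v₀ hv₀ w hwW hv₀w x hxx hxw
    have hxx' : hermForm n F q ((hermForm n F q x w)⁻¹ • x) ((hermForm n F q x w)⁻¹ • x) = 0 := by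
      rw [hermForm_smul_left, hermForm_smul_right, hxx, mul_zero, mul_zero]
    have h1 := he ((hermForm n F q v₀ w)⁻¹ • v₀) (by
      rw [hermForm_smul_left, hermForm_smul_right, hv₀v₀, mul_zero, mul_zero])
      (hcs _ v₀ hv₀v₀ hv₀) w hwW (by rw [hermForm_smul_left, inv_mul_cancel₀ hv₀w])
      ((hermForm n F q x w)⁻¹ • x) hxx' (by rw [hermForm_smul_left, inv_mul_cancel₀ hxw])
    have h2 := hcs (hermForm n F q x w) _ hxx' h1
    rw [smul_smul, mul_inv_cancel₀ hxw, one_smul] at h2
    exact h2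
  have hv₀ : ∀ g ∈ M, ∀ u, u ∉ W → (g : Matrix (Fin n) (Fin n) F) *ᵥ u ∈ W →
      ∃ v₀ w, hermForm n F q v₀ v₀ = 0 ∧ (∀ c, c + c ^ q = 0 → uE n q v₀ 0 c ∈ M) ∧ w ∈ W ∧
        hermForm n F q v₀ w ≠ 0 := by
    intro g hg u hu hgu
    have hgGU := (mem_GU_iff n q g).mp (hMG hg).1
    have huu : hermForm n F q u u = 0 := by rw [← hgGU, hW _ hgu _ hgu]
    obtain ⟨z, hzz, hzW, hzu⟩ : ∃ z, hermForm n F q z z = 0 ∧
        (∀ w ∈ W, hermForm n F q w z = 0) ∧ hermForm n F q z u ≠ 0 := by
      by_cases huW : ∀ w ∈ W, hermForm n F q w u = 0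
      · obtain ⟨z₀, hz₀W, hz₀u⟩ := herm_exists_perp_ne hF n W u hu
        obtain ⟨t, ht⟩ := exists_isotropic_adjust hF n u z₀ huu hz₀u
        refine ⟨z₀ + t • u, ht, ?_, ?_⟩
        · intro w hw
          rw [hermForm_add_right hF, hermForm_smul_right, hz₀W w hw, huW w hw, mul_zero, add_zero]
        · rw [hermForm_add_left, hermForm_smul_left, huu, mul_zero, add_zero]
          exact hermForm_swap_ne hF n u z₀ hz₀u
      · push Not at huW
        obtain ⟨w₁, hw₁W, hw₁u⟩ := huW
        exact ⟨w₁, hW w₁ hw₁W w₁ hw₁W, fun w hw => hW w hw w₁ hw₁W, hw₁u⟩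
    refine ⟨(g : Matrix (Fin n) (Fin n) F) *ᵥ z, (g : Matrix (Fin n) (Fin n) F) *ᵥ u, ?_,
      hb g hg z hzz (ha z hzz hzW), hgu, ?_⟩
    · rw [hgGU, hzz]
    · rw [hgGU]; exact hzu
  have hex : ∃ v₀ w, hermForm n F q v₀ v₀ = 0 ∧ (∀ c, c + c ^ q = 0 → uE n q v₀ 0 c ∈ M) ∧ w ∈ W ∧
      hermForm n F q v₀ w ≠ 0 := by
    rw [mem_subspaceStabilizer_iff, not_forall] at hhW
    obtain ⟨u, hu⟩ := hhW
    by_cases hu1 : u ∈ W
    · have hu2 : (h : Matrix (Fin n) (Fin n) F) *ᵥ u ∉ W :=
        fun h2 => hu ⟨fun _ => h2, fun _ => hu1⟩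
      refine hv₀ h⁻¹ (M.inv_mem hhM) _ hu2 ?_
      rw [gl_inv_mulVec_mulVec]
      exact hu1
    · have hu2 : (h : Matrix (Fin n) (Fin n) F) *ᵥ u ∈ W := by
        by_contra h2
        exact hu ⟨fun h3 => absurd h3 hu1, fun h3 => absurd h3 h2⟩
      exact hv₀ h hhM u hu1 hu2
  obtain ⟨v₀, w, hv₀v₀, hv₀S, hwW, hv₀w⟩ := hex
  by_cases hx : ∀ w' ∈ W, hermForm n F q w' v = 0
  · exact ha v hvv hx c hc
  · push Not at hx
    obtain ⟨w', hw'W, hw'⟩ := hx
    have hvw' : hermForm n F q v w' ≠ 0 := hermForm_swap_ne hF n w' v hw'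
    by_cases h1 : hermForm n F q v₀ w' = 0
    · by_cases h2 : hermForm n F q v w = 0
      · exact hf v₀ hv₀v₀ hv₀S (w' + w) (W.add_mem hw'W hwW) (by
          rw [hermForm_add_right hF, h1, zero_add]; exact hv₀w) v hvv (by
          rw [hermForm_add_right hF, h2, add_zero]; exact hvw') c hc
      · exact hf v₀ hv₀v₀ hv₀S w hwW hv₀w v hvv h2 c hc
    · exact hf v₀ hv₀v₀ hv₀S w' hw'W h1 v hvv hvw' c hc

/-- The stabiliser in the special unitary group (inside GL) of a non-zero totally isotropic subspace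
is a maximal subgroup, given that `SU` is generated by the unitary transvections. -/
theorem su_parabolic_maximal (n : ℕ)
    (hgen : Subgroup.closure {A : ↥(Cfsg.SU n F q) | ∃ (v : Fin n → F) (c : F),
      Cfsg.hermForm n F q v v = 0 ∧
      ((A : Matrix.SpecialLinearGroup (Fin n) F) : Matrix (Fin n) (Fin n) F) =
        Cfsg.unitaryTransvection n q v c} = ⊤)
    (W : Submodule F (Fin n → F)) (hW0 : W ≠ ⊥)
    (hW : IsTotallySingularFor (hermForm n F q) W) :
    IsMaximalIn (GU n F q ⊓ specialLinear (Fin n) F)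
      (subspaceStabilizer W ⊓ (GU n F q ⊓ specialLinear (Fin n) F)) := by
  refine ⟨?_, ?_⟩
  · refine lt_of_le_of_ne inf_le_right ?_
    intro heq
    obtain ⟨w, hwW, hw0⟩ := (Submodule.ne_bot_iff W).mp hW0
    have hww : hermForm n F q w w = 0 := hW w hwW w hwW
    obtain ⟨z₀, -, hz₀⟩ := herm_exists_perp_ne hF n ⊥ w (by simpa using hw0)
    obtain ⟨t, ht⟩ := exists_isotropic_adjust hF n w z₀ hww hz₀
    have hwv : hermForm n F q w (z₀ + t • w) ≠ 0 := by
      rw [hermForm_add_right hF, hermForm_smul_right, hww, mul_zero, add_zero]; exact hz₀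
    obtain ⟨c, hc0, hc⟩ := exists_trace_zero_ne hF
    have hgP : uE n q (z₀ + t • w) 0 c ∈
        subspaceStabilizer W ⊓ (GU n F q ⊓ specialLinear (Fin n) F) := by
      rw [heq]; exact uT_mem hF n _ c ht hc
    have h1 := ((mem_subspaceStabilizer_iff W _).mp hgP.1 w).mp hwW
    rw [uT_mulVec hF n _ c ht] at h1
    have h2 : (c * hermForm n F q w (z₀ + t • w)) • (z₀ + t • w) ∈ W := by
      simpa using W.sub_mem h1 hwW
    have h3 : z₀ + t • w ∈ W := by
      have := W.smul_mem (c * hermForm n F q w (z₀ + t • w))⁻¹ h2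
      rwa [smul_smul, inv_mul_cancel₀ (mul_ne_zero hc0 hwv), one_smul] at this
    exact hwv (hW w hwW _ h3)
  · intro M hPM hMG
    by_cases hM : M ≤ subspaceStabilizer W
    · left; exact le_antisymm (le_inf hM hMG) hPM
    · right
      obtain ⟨h, hhM, hhW⟩ := SetLike.not_le_iff_exists.mp hM
      exact le_antisymm hMG (suGL_le_of_transv hF n hgen M (fun v c hvv hc =>
        su_parabolic_transv_all hF n W hW M hPM hMG h hhM hhW v c hvv hc))

end

end Cfsg.Agent.Lib.helper95
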