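import Mathlib
import Cfsg.Prelude.Def_GeometricClasses
import Cfsg.Agent.Lib.helper95.SpMax

/-!
General transvections `x ↦ x + φ(x) u` (`φ(u) = 0`) as elements of GL, and generation of the special
linear subgroup by them: a subgroup containing all of them contains `specialLinear`.
-/

set_option autoImplicit false

namespace Cfsg.Agent.Lib.helper95

open Matrix Cfsg Cfsg.Geo

section
variable {ι : Type} [Fintype ι] [DecidableEq ι] {F : Type*} [Field F]

theorem det_one_add_vecMulVec_eq_one (u φ : ι → F) (h : φ ⬝ᵥ u = 0) :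
    (1 + Matrix.vecMulVec u φ).det = 1 := by
  rw [Matrix.vecMulVec_eq (ι := Unit), Matrix.det_one_add_replicateCol_mul_replicateRow, h,
    add_zero]

open Classical in
/-- The transvection `x ↦ x + φ(x) u` (for `φ(u) = 0`) as an element of GL; `1` when `φ(u) ≠ 0`. -/
noncomputable def slT (u φ : ι → F) : GL ι F :=
  if h : φ ⬝ᵥ u = 0 then
    Matrix.GeneralLinearGroup.mkOfDetNeZero (1 + Matrix.vecMulVec u φ)
      (by rw [det_one_add_vecMulVec_eq_one u φ h]; exact one_ne_zero)
  else 1

theorem slT_val (u φ : ι → F) (h : φ ⬝ᵥ u = 0) :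
    ((slT u φ : GL ι F) : Matrix ι ι F) = 1 + Matrix.vecMulVec u φ := by
  unfold slT
  rw [dif_pos h]
  rfl

theorem slT_mulVec (u φ : ι → F) (h : φ ⬝ᵥ u = 0) (x : ι → F) :
    ((slT u φ : GL ι F) : Matrix ι ι F) *ᵥ x = x + (φ ⬝ᵥ x) • u := by
  rw [slT_val u φ h, Matrix.add_mulVec, Matrix.one_mulVec, Matrix.vecMulVec_mulVec,
    op_smul_eq_smul]

theorem slT_mem (u φ : ι → F) : slT u φ ∈ specialLinear ι F := by
  by_cases h : φ ⬝ᵥ u = 0
  · rw [mem_specialLinear_iff, slT_val u φ h, det_one_add_vecMulVec_eq_one u φ h]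
  · unfold slT
    rw [dif_neg h]
    exact Subgroup.one_mem _

theorem slT_zero_left (φ : ι → F) : slT (0 : ι → F) φ = 1 := by
  apply gl_ext_mulVec
  intro x
  rw [slT_mulVec 0 φ (by simp), smul_zero, add_zero, Units.val_one, Matrix.one_mulVec]

/-- The elementary transvection `x ↦ x + a x_j e_i`. -/
noncomputable def elemT (i j : ι) (a : F) : GL ι F := slT (a • Pi.single i 1) (Pi.single j 1)

theorem elemT_dot (i j : ι) (hij : i ≠ j) (a : F) :
    (Pi.single j 1 : ι → F) ⬝ᵥ (a • Pi.single i 1) = 0 := by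
  simp [hij.symm]

theorem elemT_mulVec (i j : ι) (hij : i ≠ j) (a : F) (x : ι → F) (k : ι) :
    (((elemT i j a : GL ι F) : Matrix ι ι F) *ᵥ x) k = x k + if k = i then a * x j else 0 := by
  unfold elemT
  rw [slT_mulVec _ _ (elemT_dot i j hij a)]
  simp [Pi.single_apply, mul_comm]

theorem diag2_eq_prod (i j : ι) (hij : i ≠ j) (c : F) (hc : c ≠ 0) (g : GL ι F)
    (hg : (g : Matrix ι ι F) =
      Matrix.diagonal (fun k => if k = i then c else if k = j then c⁻¹ else 1)) :
    g = elemT i j c * elemT j i (-c⁻¹) * elemT i j c * elemT i j (-1) * elemT j i 1 *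
      elemT i j (-1) := by
  apply gl_ext_mulVec
  intro x
  funext k
  rw [hg, Matrix.mulVec_diagonal]
  simp only [Units.val_mul, ← Matrix.mulVec_mulVec]
  simp only [elemT_mulVec i j hij, elemT_mulVec j i hij.symm]
  by_cases hki : k = i
  · subst hki
    simp [hij, hij.symm]
    field_simp
    ring
  · by_cases hkj : k = j
    · subst hkj
      simp [hij, hij.symm]
      field_simp
      ring
    · simp [hki, hkj]

/-- A subgroup of GL containing all transvections contains the special linear subgroup. -/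
theorem specialLinear_le_of_transv [Nontrivial ι] (M : Subgroup (GL ι F))
    (hT : ∀ u φ : ι → F, φ ⬝ᵥ u = 0 → slT u φ ∈ M) : specialLinear ι F ≤ M := by
  intro g hg
  have hdet : (g : Matrix ι ι F).det = 1 := (mem_specialLinear_iff g).mp hg
  have hE : ∀ (i j : ι), i ≠ j → ∀ a : F, elemT i j a ∈ M := fun i j hij a =>
    hT _ _ (elemT_dot i j hij a)
  have key : ∀ A : Matrix.SpecialLinearGroup ι F, ∀ g : GL ι F,
      (g : Matrix ι ι F) = A.1 → g ∈ M := by
    intro A
    refine Matrix.SpecialLinearGroup.diagonal_transvection_induction'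
      (fun A => ∀ g : GL ι F, (g : Matrix ι ι F) = A.1 → g ∈ M) A ?_ ?_ ?_
    · intro i j hij c hc g hg
      rw [diag2_eq_prod i j hij c hc g (by rw [hg]; rfl)]
      exact M.mul_mem (M.mul_mem (M.mul_mem (M.mul_mem (M.mul_mem (hE i j hij _)
        (hE j i hij.symm _)) (hE i j hij _)) (hE i j hij _)) (hE j i hij.symm _)) (hE i j hij _)
    · intro i j hij a g hg
      have e : g = elemT i j a := by
        apply gl_ext_mulVec
        intro x
        funext k
        rw [hg, Matrix.SpecialLinearGroup.transvection_coe, elemT_mulVec i j hij,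
          Matrix.add_mulVec, Matrix.one_mulVec, Matrix.single_mulVec]
        simp [Function.update_apply]
      rw [e]
      exact hE i j hij a
    · intro A B hA hB g hg
      have hAd : A.1.det ≠ 0 := by rw [A.2]; exact one_ne_zero
      have hBd : B.1.det ≠ 0 := by rw [B.2]; exact one_ne_zero
      have e : g = Matrix.GeneralLinearGroup.mkOfDetNeZero A.1 hAd *
          Matrix.GeneralLinearGroup.mkOfDetNeZero B.1 hBd := by
        apply Units.ext
        rw [hg]
        rfl
      rw [e]
      exact M.mul_mem (hA _ rfl) (hB _ rfl)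
  exact key ⟨_, hdet⟩ g rfl

end

end Cfsg.Agent.Lib.helper95
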