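import Mathlib
import Cfsg.Prelude.Def_GeometricClasses
import Cfsg.Agent.Lib.helper95.SpMax
import Cfsg.Agent.Lib.helper95.SLTransv

/-!
The similarity group of a non-degenerate symplectic form is a maximal subgroup of the special linear
group: an overgroup containing a non-similarity contains a transvection `x ↦ x + f(x, w) u` with
`w ∉ ⟨u⟩`, then all transvections with centre `u`, then (moving the centre by symplectic
transvections) all transvections.
-/

set_option autoImplicit false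

namespace Cfsg.Agent.Lib.helper95

open Matrix Cfsg Cfsg.Geo

section
variable {ι : Type} [Fintype ι] [DecidableEq ι] {F : Type*} [Field F]

/-- The covector of the functional `x ↦ f x w`. -/
def covec (f : (ι → F) → (ι → F) → F) (w : ι → F) : ι → F := fun j => f (Pi.single j 1) w

theorem covec_dot (f : (ι → F) → (ι → F) → F) (hf : IsBilinearForm f) (w x : ι → F) :
    covec f w ⬝ᵥ x = f x w := by
  let L : (ι → F) →ₗ[F] F :=
    { toFun := fun x => f x w
      map_add' := fun a b => hf.add_left a b w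
      map_smul' := fun c a => by rw [hf.smul_left, RingHom.id_apply, smul_eq_mul] }
  have h := LinearMap.pi_apply_eq_sum_univ L x
  have e : ∀ i : ι, (fun j => if i = j then (1 : F) else 0) = Pi.single i 1 := by
    intro i; funext j; simp [Pi.single_apply, eq_comm]
  simp only [e] at h
  have h' : f x w = ∑ i, x i • f (Pi.single i 1) w := h
  rw [h']
  exact Finset.sum_congr rfl (fun j _ => by rw [smul_eq_mul, mul_comm]; rfl)

omit [Fintype ι] [DecidableEq ι] in
theorem form_zero_right (f : (ι → F) → (ι → F) → F) (hf : IsBilinearForm f) (x : ι → F) :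
    f x 0 = 0 := by
  have h := hf.smul_right 0 x 0
  rw [zero_smul, zero_mul] at h
  exact h

omit [Fintype ι] [DecidableEq ι] in
theorem form_neg_right (f : (ι → F) → (ι → F) → F) (hf : IsBilinearForm f) (x y : ι → F) :
    f x (-y) = - f x y := by
  have h := hf.smul_right (-1) x y
  rw [neg_one_smul, neg_one_mul] at h
  exact h

omit [Fintype ι] [DecidableEq ι] in
theorem form_sub_right (f : (ι → F) → (ι → F) → F) (hf : IsBilinearForm f) (x y z : ι → F) :
    f x (y - z) = f x y - f x z := by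
  rw [sub_eq_add_neg, hf.add_right, form_neg_right f hf, ← sub_eq_add_neg]

omit [Fintype ι] [DecidableEq ι] in
theorem form_sub_left (f : (ι → F) → (ι → F) → F) (hf : IsBilinearForm f) (x y z : ι → F) :
    f (x - y) z = f x z - f y z := by
  have h := hf.smul_left (-1) y z
  rw [neg_one_smul, neg_one_mul] at h
  rw [sub_eq_add_neg, hf.add_left, h, ← sub_eq_add_neg]

/-- Every covector is the covector of some `f(·, w)`, for a non-degenerate bilinear `f`. -/
theorem exists_covec (f : (ι → F) → (ι → F) → F) (hf : IsBilinearForm f)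
    (hnd : IsNondegenerateForm f) (φ : ι → F) : ∃ w, covec f w = φ := by
  let Ψ : (ι → F) →ₗ[F] (ι → F) :=
    { toFun := fun w => covec f w
      map_add' := fun a b => by funext j; exact hf.add_right _ a b
      map_smul' := fun c a => by
        funext j
        show f _ (c • a) = c • f _ a
        rw [hf.smul_right, smul_eq_mul] }
  have hinj : Function.Injective Ψ := by
    rw [← LinearMap.ker_eq_bot, LinearMap.ker_eq_bot']
    intro w hw
    by_contra hw0
    obtain ⟨x, hx⟩ := (hnd w hw0).1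
    apply hx
    rw [← covec_dot f hf w x]
    have h0 : covec f w = 0 := hw
    rw [h0, zero_dotProduct]
  exact LinearMap.surjective_of_injective hinj φ

/-- If `M` contains the similarities of determinant one of the symplectic form `f` and an element that
is not a similarity, then `M` contains every transvection. -/
theorem sp_sim_transv_all [Nonempty ι] (f : (ι → F) → (ι → F) → F) (hf : IsSymplecticForm f)
    (M : Subgroup (GL ι F))
    (hPM : similarityGroup f ⊓ specialLinear ι F ≤ M)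
    (h : GL ι F) (hhM : h ∈ M) (hhf : h ∉ similarityGroup f)
    (u φ : ι → F) (huφ : φ ⬝ᵥ u = 0) : slT u φ ∈ M := by
  have hb := hf.bilinear
  have hnd := hf.nondegenerate
  have hz_r : ∀ x, f x 0 = 0 := form_zero_right f hb
  have hneg_r : ∀ x y, f x (-y) = - f x y := form_neg_right f hb
  have hsub_r : ∀ x y z, f x (y - z) = f x y - f x z := form_sub_right f hb
  have hsub_l : ∀ x y z, f (x - y) z = f x z - f y z := form_sub_left f hb
  have hTmv : ∀ u w, f u w = 0 → ∀ x,
      ((slT u (covec f w) : GL ι F) : Matrix ι ι F) *ᵥ x = x + f x w • u := by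
    intro u w huw x
    rw [slT_mulVec u (covec f w) (by rw [covec_dot f hb]; exact huw), covec_dot f hb]
  have hform : ∀ (v : ι → F) (c : F) (x y : ι → F),
      f (x + (c * f x v) • v) (y + (c * f y v) • v) = f x y := by
    intro v c x y
    simp only [hb.add_left, hb.add_right, hb.smul_left, hb.smul_right, hf.alternating]
    rw [hf.skew v y]
    ring
  have hisomv : ∀ (v : ι → F) (c : F) (x : ι → F),
      ((slT (c • v) (covec f v) : GL ι F) : Matrix ι ι F) *ᵥ x = x + (c * f x v) • v := by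
    intro v c x
    rw [hTmv _ _ (by rw [hb.smul_left, hf.alternating, mul_zero]), smul_smul, mul_comm]
  have hiso : ∀ (v : ι → F) (c : F), slT (c • v) (covec f v) ∈ M := by
    intro v c
    apply hPM
    refine ⟨⟨1, fun x y => ?_⟩, slT_mem _ _⟩
    rw [hisomv, hisomv, hform, Units.val_one, one_mul]
  have hmulT : ∀ u w w', f u w = 0 → f u w' = 0 →
      slT u (covec f w) * slT u (covec f w') = slT u (covec f (w + w')) := by
    intro u w w' h1 h2
    apply gl_ext_mulVec
    intro x
    rw [Units.val_mul, ← Matrix.mulVec_mulVec, hTmv u w' h2, hTmv u w h1,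
      hTmv u (w + w') (by rw [hb.add_right, h1, h2, add_zero]), hb.add_left, hb.smul_left, h1,
      mul_zero, add_zero, hb.add_right, add_smul]
    abel
  have hT0 : ∀ u, slT u (covec f 0) = 1 := by
    intro u
    apply gl_ext_mulVec
    intro x
    rw [hTmv u 0 (hz_r u), hz_r, zero_smul, add_zero, Units.val_one, Matrix.one_mulVec]
  have hinvT : ∀ u w, f u w = 0 → slT u (covec f w) ∈ M → slT u (covec f (-w)) ∈ M := by
    intro u w huw hmem
    have h1 : slT u (covec f w) * slT u (covec f (-w)) = 1 := by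
      rw [hmulT u w (-w) huw (by rw [hneg_r, huw, neg_zero]), add_neg_cancel, hT0]
    have h2 : slT u (covec f (-w)) = (slT u (covec f w))⁻¹ := eq_inv_of_mul_eq_one_right h1
    rw [h2]
    exact M.inv_mem hmem
  have hconj : ∀ (u w v : ι → F) (c : F), f u w = 0 → slT u (covec f w) ∈ M →
      slT (u + (c * f u v) • v) (covec f (w + (c * f w v) • v)) ∈ M ∧
        f (u + (c * f u v) • v) (w + (c * f w v) • v) = 0 := by
    intro u w v c huw hmem
    have h0 : f (u + (c * f u v) • v) (w + (c * f w v) • v) = 0 := by rw [hform, huw]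
    refine ⟨?_, h0⟩
    have e : slT (u + (c * f u v) • v) (covec f (w + (c * f w v) • v)) =
        slT (c • v) (covec f v) * slT u (covec f w) * (slT (c • v) (covec f v))⁻¹ := by
      rw [eq_mul_inv_iff_mul_eq]
      apply gl_ext_mulVec
      intro x
      rw [Units.val_mul, Units.val_mul, ← Matrix.mulVec_mulVec, ← Matrix.mulVec_mulVec,
        hisomv v c x, hTmv _ _ h0, hTmv u w huw, hisomv v c, hform, hb.add_left, hb.smul_left]
      module
    rw [e]
    exact M.mul_mem (M.mul_mem (hiso v c) hmem) (M.inv_mem (hiso v c))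
  have hzex : ∀ a b : ι → F, a ≠ 0 → b ≠ 0 → ∃ z, f a z ≠ 0 ∧ f z b ≠ 0 := by
    intro a b ha hb0
    obtain ⟨a', ha'⟩ := (hnd a ha).2
    obtain ⟨b', hb'⟩ := (hnd b hb0).1
    by_cases h2 : f a' b = 0
    · by_cases h3 : f a b' = 0
      · refine ⟨a' + b', ?_, ?_⟩
        · rw [hb.add_right, h3, add_zero]; exact ha'
        · rw [hb.add_left, h2, zero_add]; exact hb'
      · exact ⟨b', h3, hb'⟩
    · exact ⟨a', ha', h2⟩
  have hinj : ∀ x : ι → F, (h : Matrix ι ι F) *ᵥ x = 0 → x = 0 := by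
    intro x hx
    have h1 := gl_inv_mulVec_mulVec h x
    rw [hx, Matrix.mulVec_zero] at h1
    exact h1.symm
  have hstep0 : ∃ v, v ≠ 0 ∧ ∀ μ : F,
      ¬ ∀ y, f ((h : Matrix ι ι F) *ᵥ y) ((h : Matrix ι ι F) *ᵥ v) = μ * f y v := by
    by_contra hcon
    push Not at hcon
    apply hhf
    choose! μ hμ using hcon
    have hconst : ∀ v₁ v₂, v₁ ≠ 0 → v₂ ≠ 0 → f v₁ v₂ ≠ 0 → μ v₁ = μ v₂ := by
      intro v₁ v₂ h1 h2 h12
      have e1 := hμ v₂ h2 v₁
      have e2 := hμ v₁ h1 v₂
      rw [hf.skew ((h : Matrix ι ι F) *ᵥ v₂) ((h : Matrix ι ι F) *ᵥ v₁), hf.skew v₂ v₁, e1] at e2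
      have h3 : (μ v₁ - μ v₂) * f v₁ v₂ = 0 := by linear_combination e2
      rcases mul_eq_zero.mp h3 with h4 | h4
      · exact sub_eq_zero.mp h4
      · exact absurd h4 h12
    obtain ⟨i₀⟩ := ‹Nonempty ι›
    obtain ⟨vs, hvs⟩ : ∃ vs : ι → F, vs ≠ 0 := ⟨Pi.single i₀ 1, fun h0 => by
      have h1 := congrFun h0 i₀
      simp at h1⟩
    have hall : ∀ v, v ≠ 0 → μ v = μ vs := by
      intro v hv
      by_cases h1 : f vs v = 0
      · obtain ⟨z, hz1, hz2⟩ := hzex vs v hvs hv
        have hz0 : z ≠ 0 := by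
          intro h0
          rw [h0] at hz1
          exact hz1 (hz_r vs)
        rw [← hconst z v hz0 hv hz2, hconst vs z hvs hz0 hz1]
      · exact (hconst vs v hvs hv h1).symm
    have hμ0 : μ vs ≠ 0 := by
      intro h0
      have hhv : (h : Matrix ι ι F) *ᵥ vs ≠ 0 := fun h1 => hvs (hinj vs h1)
      obtain ⟨x, hx⟩ := (hnd _ hhv).1
      apply hx
      have h2 := hμ vs hvs (((h⁻¹ : GL ι F) : Matrix ι ι F) *ᵥ x)
      rw [gl_mulVec_inv_mulVec, h0, zero_mul] at h2
      exact h2
    refine ⟨Units.mk0 (μ vs) hμ0, fun x y => ?_⟩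
    rw [Units.val_mk0]
    by_cases hy : y = 0
    · rw [hy, Matrix.mulVec_zero, hz_r, hz_r, mul_zero]
    · rw [hμ y hy x, hall y hy]
  obtain ⟨v, hv0, hv⟩ := hstep0
  obtain ⟨u₀, hu₀⟩ : ∃ u₀, u₀ = (h : Matrix ι ι F) *ᵥ v := ⟨_, rfl⟩
  obtain ⟨w₀, hw₀⟩ := exists_covec f hb hnd (covec f v ᵥ* ((h⁻¹ : GL ι F) : Matrix ι ι F))
  have hw₀f : ∀ x, f x w₀ = f (((h⁻¹ : GL ι F) : Matrix ι ι F) *ᵥ x) v := by
    intro x
    rw [← covec_dot f hb w₀ x, hw₀, ← Matrix.dotProduct_mulVec, covec_dot f hb]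
  have hu₀0 : u₀ ≠ 0 := by rw [hu₀]; exact fun h1 => hv0 (hinj v h1)
  have hu₀w₀ : f u₀ w₀ = 0 := by
    rw [hw₀f, hu₀, gl_inv_mulVec_mulVec, hf.alternating]
  have hT₀ : slT u₀ (covec f w₀) ∈ M := by
    have e : slT u₀ (covec f w₀) = h * slT ((1 : F) • v) (covec f v) * h⁻¹ := by
      rw [eq_mul_inv_iff_mul_eq]
      apply gl_ext_mulVec
      intro x
      rw [Units.val_mul, Units.val_mul, ← Matrix.mulVec_mulVec, ← Matrix.mulVec_mulVec,
        hTmv u₀ w₀ hu₀w₀, hisomv, hw₀f, gl_inv_mulVec_mulVec, Matrix.mulVec_add,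
        Matrix.mulVec_smul, one_mul, hu₀]
    rw [e]
    exact M.mul_mem (M.mul_mem hhM (hiso v 1)) (M.inv_mem hhM)
  have hw₀span : ∀ μ : F, w₀ ≠ μ • u₀ := by
    intro μ hμ
    have h1 : ∀ y, f y v = μ * f ((h : Matrix ι ι F) *ᵥ y) ((h : Matrix ι ι F) *ᵥ v) := by
      intro y
      have h2 := hw₀f ((h : Matrix ι ι F) *ᵥ y)
      rw [gl_inv_mulVec_mulVec, hμ, hb.smul_right, hu₀] at h2
      exact h2.symm
    by_cases hμ0 : μ = 0
    · obtain ⟨y, hy⟩ := (hnd v hv0).1
      apply hy
      rw [h1 y, hμ0, zero_mul]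
    · apply hv μ⁻¹
      intro y
      rw [h1 y, ← mul_assoc, inv_mul_cancel₀ hμ0, one_mul]
  have hC₀ : ∀ w, f u₀ w = 0 → slT u₀ (covec f w) ∈ M := by
    obtain ⟨a, ha⟩ : ∃ a, f u₀ a = 1 := by
      obtain ⟨a', ha'⟩ := (hnd u₀ hu₀0).2
      exact ⟨(f u₀ a')⁻¹ • a', by rw [hb.smul_right, inv_mul_cancel₀ ha']⟩
    obtain ⟨v₁, hv₁u, hv₁w⟩ : ∃ v₁, f u₀ v₁ = 0 ∧ f w₀ v₁ ≠ 0 := by
      by_contra hcon
      push Not at hcon
      apply hw₀span (f w₀ a)
      by_contra hne
      have hne' : w₀ - f w₀ a • u₀ ≠ 0 := fun h0 => hne (sub_eq_zero.mp h0)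
      obtain ⟨x, hx⟩ := (hnd _ hne').2
      apply hx
      have h1 := hcon (x - f u₀ x • a) (by rw [hsub_r, hb.smul_right, ha, mul_one, sub_self])
      rw [hsub_r, hb.smul_right] at h1
      rw [hsub_l, hb.smul_left, sub_eq_zero.mp h1]
      ring
    have hA₁ : ∀ v', f u₀ v' = 0 → f w₀ v' ≠ 0 → slT u₀ (covec f v') ∈ M := by
      intro v' h1 h2
      obtain ⟨hmem, h0⟩ := hconj u₀ w₀ v' (f w₀ v')⁻¹ hu₀w₀ hT₀
      rw [h1, mul_zero, zero_smul, add_zero, inv_mul_cancel₀ h2, one_smul] at hmem h0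
      have h3 := M.mul_mem hmem (hinvT u₀ w₀ hu₀w₀ hT₀)
      rw [hmulT u₀ (w₀ + v') (-w₀) h0 (by rw [hneg_r, hu₀w₀, neg_zero])] at h3
      have e : w₀ + v' + -w₀ = v' := by abel
      rw [e] at h3
      exact h3
    intro w hw
    by_cases h1 : f w₀ w = 0
    · have h2 := hA₁ (w + v₁) (by rw [hb.add_right, hw, hv₁u, add_zero])
        (by rw [hb.add_right, h1, zero_add]; exact hv₁w)
      have h3 := hA₁ (-v₁) (by rw [hneg_r, hv₁u, neg_zero])
        (by rw [hneg_r]; exact neg_ne_zero.mpr hv₁w)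
      have h4 := M.mul_mem h2 h3
      rw [hmulT u₀ (w + v₁) (-v₁) (by rw [hb.add_right, hw, hv₁u, add_zero])
        (by rw [hneg_r, hv₁u, neg_zero])] at h4
      have e : w + v₁ + -v₁ = w := by abel
      rw [e] at h4
      exact h4
    · exact hA₁ w hw h1
  have hB1 : ∀ u', (∀ w, f u' w = 0 → slT u' (covec f w) ∈ M) → ∀ (v' : ι → F) (c : F),
      ∀ w, f (u' + (c * f u' v') • v') w = 0 →
        slT (u' + (c * f u' v') • v') (covec f w) ∈ M := by
    intro u' hu' v' c w hw
    obtain ⟨w'', hw''⟩ : ∃ w'', w'' = w - (c * f w v') • v' := ⟨_, rfl⟩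
    have e1 : w'' + (c * f w'' v') • v' = w := by
      rw [hw'', hsub_l, hb.smul_left, hf.alternating, mul_zero, sub_zero]
      abel
    have h1 : f u' w'' = 0 := by
      rw [← hform v' c u' w'', e1]; exact hw
    have h2 := (hconj u' w'' v' c h1 (hu' w'' h1)).1
    rw [e1] at h2
    exact h2
  have hB2 : ∀ u', (∀ w, f u' w = 0 → slT u' (covec f w) ∈ M) → ∀ u'', f u' u'' ≠ 0 →
      ∀ w, f u'' w = 0 → slT u'' (covec f w) ∈ M := by
    intro u' hu' u'' hne w hw
    have e : u' + ((f u' u'')⁻¹ * f u' (u'' - u')) • (u'' - u') = u'' := by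
      rw [hsub_r, hf.alternating, sub_zero, inv_mul_cancel₀ hne, one_smul]
      abel
    have h1 := hB1 u' hu' (u'' - u') (f u' u'')⁻¹ w (by rw [e]; exact hw)
    rw [e] at h1
    exact h1
  have hall : ∀ u', u' ≠ 0 → ∀ w, f u' w = 0 → slT u' (covec f w) ∈ M := by
    intro u' hu'
    by_cases h1 : f u₀ u' = 0
    · obtain ⟨z, hz1, hz2⟩ := hzex u₀ u' hu₀0 hu'
      exact hB2 z (hB2 u₀ hC₀ z hz1) u' hz2
    · exact hB2 u₀ hC₀ u' h1
  by_cases hu0 : u = 0
  · rw [hu0, slT_zero_left]; exact M.one_mem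
  · obtain ⟨w, hw⟩ := exists_covec f hb hnd φ
    rw [← hw]
    exact hall u hu0 w (by rw [← covec_dot f hb w u, hw]; exact huφ)

end

section
variable {F : Type*} [Field F]

/-- The similarities of determinant one of a non-degenerate symplectic form are a maximal subgroup of
the special linear group (dimension at least three). -/
theorem sp_sim_maximal {n : ℕ} (hn : 3 ≤ n) (f : (Fin n → F) → (Fin n → F) → F)
    (hf : IsSymplecticForm f) :
    IsMaximalIn (specialLinear (Fin n) F) (similarityGroup f ⊓ specialLinear (Fin n) F) := by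
  have hb := hf.bilinear
  have hnd := hf.nondegenerate
  have : Nontrivial (Fin n) := Fin.nontrivial_iff_two_le.mpr (by omega)
  refine ⟨?_, ?_⟩
  · refine lt_of_le_of_ne inf_le_right ?_
    intro heq
    obtain ⟨i₀, i₁, i₂, h01, h02, h12⟩ : ∃ i₀ i₁ i₂ : Fin n, i₀ ≠ i₁ ∧ i₀ ≠ i₂ ∧ i₁ ≠ i₂ :=
      ⟨⟨0, by omega⟩, ⟨1, by omega⟩, ⟨2, by omega⟩, by simp [Fin.ext_iff], by simp [Fin.ext_iff],
        by simp [Fin.ext_iff]⟩
    obtain ⟨u, hu⟩ : ∃ u : Fin n → F, u = Pi.single i₀ 1 := ⟨_, rfl⟩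
    have hu0 : u ≠ 0 := by
      rw [hu]
      intro h0
      have h1 := congrFun h0 i₀
      simp at h1
    obtain ⟨φ, hφu, hφ⟩ : ∃ φ : Fin n → F, φ ⬝ᵥ u = 0 ∧ ∀ κ : F, φ ≠ κ • covec f u := by
      by_cases h1 : ∃ κ : F, (Pi.single i₁ 1 : Fin n → F) = κ • covec f u
      · obtain ⟨κ, hκ⟩ := h1
        refine ⟨Pi.single i₂ 1, by rw [hu]; simp [h02], ?_⟩
        intro κ' hκ'
        have e1 := congrFun hκ i₁
        have e2 := congrFun hκ' i₁
        have e3 := congrFun hκ' i₂
        rw [Pi.single_eq_same, Pi.smul_apply, smul_eq_mul] at e1 e3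
        rw [Pi.single_eq_of_ne h12, Pi.smul_apply, smul_eq_mul] at e2
        have h3 : covec f u i₁ ≠ 0 := by
          intro h0
          rw [h0, mul_zero] at e1
          exact one_ne_zero e1
        rcases mul_eq_zero.mp e2.symm with h4 | h4
        · rw [h4, zero_mul] at e3
          exact one_ne_zero e3
        · exact h3 h4
      · push Not at h1
        exact ⟨Pi.single i₁ 1, by rw [hu]; simp [h01], h1⟩
    have hg : slT u φ ∈ similarityGroup f := by
      have hmem : slT u φ ∈ similarityGroup f ⊓ specialLinear (Fin n) F := by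
        rw [heq]; exact slT_mem _ _
      exact hmem.1
    obtain ⟨c, hc⟩ := hg
    have hform : ∀ x y, f x y + (φ ⬝ᵥ y) * f x u + (φ ⬝ᵥ x) * f u y = (c : F) * f x y := by
      intro x y
      have h0 := hc x y
      rw [slT_mulVec u φ hφu, slT_mulVec u φ hφu] at h0
      simp only [hb.add_left, hb.add_right, hb.smul_left, hb.smul_right, hf.alternating] at h0
      rw [← h0]
      ring
    obtain ⟨a, ha⟩ := (hnd u hu0).2
    have hc1 : (c : F) = 1 := by
      have h0 := hform u a
      rw [hφu, zero_mul, add_zero, hf.alternating, mul_zero, add_zero] at h0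
      have h2 : ((c : F) - 1) * f u a = 0 := by linear_combination -h0
      rcases mul_eq_zero.mp h2 with h3 | h3
      · exact sub_eq_zero.mp h3
      · exact absurd h3 ha
    apply hφ ((φ ⬝ᵥ a) / f a u)
    funext j
    have h0 := hform (Pi.single j 1) a
    rw [hc1, one_mul] at h0
    have hau : f a u ≠ 0 := by rw [hf.skew]; exact neg_ne_zero.mpr ha
    have h5 : φ ⬝ᵥ Pi.single j 1 = φ j := by simp
    rw [h5, hf.skew u a] at h0
    show φ j = (φ ⬝ᵥ a) / f a u * f (Pi.single j 1) u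
    field_simp
    linear_combination -h0
  · intro M hPM hMG
    by_cases hM : M ≤ similarityGroup f
    · left; exact le_antisymm (le_inf hM hMG) hPM
    · right
      obtain ⟨h, hhM, hhf⟩ := SetLike.not_le_iff_exists.mp hM
      exact le_antisymm hMG (specialLinear_le_of_transv M (fun u φ huφ =>
        sp_sim_transv_all f hf M hPM h hhM hhf u φ huφ))

end

end Cfsg.Agent.Lib.helper95
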