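import Mathlib
import Cfsg.Prelude.Def_GeometricClasses
import Cfsg.Agent.Lib.helper95.SpMax
import Cfsg.Agent.Lib.helper95.SLTransv
import Cfsg.Agent.Lib.helper95.SpSimSL

/-!
A toolkit for an abstract non-degenerate unitary form `f` with respect to an involution `σ` of a finite
field: trace and norm are onto the fixed field, existence of non-isotropic vectors orthogonal to a few
given vectors, spanning by isotropic vectors, hyperbolic partners, scaling isometries.
-/

set_option autoImplicit false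

namespace Cfsg.Agent.Lib.helper95

open Matrix Cfsg Cfsg.Geo

section
variable {F : Type*} [Field F] (σ : F ≃+* F)

theorem sig_exists_moved (hne : σ ≠ RingEquiv.refl F) : ∃ b : F, σ b ≠ b := by
  by_contra hcon
  push Not at hcon
  exact hne (RingEquiv.ext hcon)

/-- An element of trace zero: `a + σ a = 0`, `a ≠ 0`. -/
theorem sig_exists_tr0 (hne : σ ≠ RingEquiv.refl F) (hinv : ∀ a, σ (σ a) = a) :
    ∃ a : F, a ≠ 0 ∧ a + σ a = 0 := by
  obtain ⟨b, hb⟩ := sig_exists_moved σ hne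
  refine ⟨b - σ b, sub_ne_zero.mpr (Ne.symm hb), ?_⟩
  rw [map_sub, hinv]
  ring

/-- An element of non-zero trace. -/
theorem sig_exists_tr_ne (hne : σ ≠ RingEquiv.refl F) : ∃ θ : F, θ + σ θ ≠ 0 := by
  by_cases h2 : (2 : F) = 0
  · obtain ⟨b, hb⟩ := sig_exists_moved σ hne
    refine ⟨b, ?_⟩
    intro h0
    apply hb
    have h1 : σ b = -b := by linear_combination h0
    rw [h1]
    linear_combination (-b) * h2
  · refine ⟨1, ?_⟩
    rw [map_one]
    intro h0
    apply h2
    linear_combination h0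

/-- The trace `s ↦ s + σ s` is onto the fixed field. -/
theorem sig_tr_surj (hne : σ ≠ RingEquiv.refl F) (hinv : ∀ a, σ (σ a) = a) (b : F) (hb : σ b = b) :
    ∃ s : F, s + σ s = b := by
  obtain ⟨θ, hθ⟩ := sig_exists_tr_ne σ hne
  refine ⟨b * θ / (θ + σ θ), ?_⟩
  have hτ : σ (θ + σ θ) = θ + σ θ := by rw [map_add, hinv, add_comm]
  rw [map_div₀, map_mul, hb, hτ]
  field_simp

/-- The norm `l ↦ l * σ l` is onto the fixed field (finite fields). -/
theorem sig_norm_surj [Fintype F] (hne : σ ≠ RingEquiv.refl F) (hinv : ∀ a, σ (σ a) = a) (b : F)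
    (hb : σ b = b) : ∃ l : F, l * σ l = b := by
  classical
  by_cases hb0 : b = 0
  · exact ⟨0, by rw [hb0, zero_mul]⟩
  let s : Fˣ →* Fˣ := Units.map (σ : F →* F)
  have hs : ∀ l : Fˣ, ((s l : Fˣ) : F) = σ (l : F) := fun l => rfl
  let N : Fˣ →* Fˣ :=
    { toFun := fun l => l * s l
      map_one' := by simp
      map_mul' := fun x y => by rw [map_mul]; exact mul_mul_mul_comm _ _ _ _ }
  let D : Fˣ →* Fˣ :=
    { toFun := fun m => m * (s m)⁻¹
      map_one' := by simp
      map_mul' := fun x y => by rw [map_mul, mul_inv]; exact mul_mul_mul_comm _ _ _ _ }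
  have hN : ∀ l : Fˣ, ((N l : Fˣ) : F) = (l : F) * σ (l : F) := fun l => rfl
  have hD : ∀ m : Fˣ, ((D m : Fˣ) : F) = (m : F) * (σ (m : F))⁻¹ := fun m => by
    show ((m * (s m)⁻¹ : Fˣ) : F) = _
    rw [Units.val_mul, Units.val_inv_eq_inv_val, hs]
  have hmemN : ∀ l : Fˣ, l ∈ N.ker ↔ (l : F) * σ (l : F) = 1 := by
    intro l
    rw [MonoidHom.mem_ker]
    constructor
    · intro h; have h1 := congrArg Units.val h; rw [hN] at h1; exact h1
    · intro h; apply Units.ext; rw [hN]; exact h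
  have hmemD : ∀ m : Fˣ, m ∈ D.ker ↔ σ (m : F) = (m : F) := by
    intro m
    have hm0 : σ (m : F) ≠ 0 := (map_ne_zero σ).mpr m.ne_zero
    rw [MonoidHom.mem_ker]
    constructor
    · intro h
      have h1 := congrArg Units.val h
      rw [hD, Units.val_one] at h1
      field_simp at h1
      exact h1.symm
    · intro h
      apply Units.ext
      rw [hD, h, Units.val_one, mul_inv_cancel₀ m.ne_zero]
  have hDN : D.range = N.ker := by
    apply le_antisymm
    · rintro _ ⟨m, rfl⟩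
      rw [hmemN, hD, map_mul, map_inv₀, hinv]
      have hm0 : σ (m : F) ≠ 0 := (map_ne_zero σ).mpr m.ne_zero
      field_simp
    · intro l hl
      rw [hmemN] at hl
      have hl0 : (l : F) ≠ 0 := l.ne_zero
      by_cases h1 : 1 + (l : F) = 0
      · obtain ⟨a, ha0, ha⟩ := sig_exists_tr0 σ hne hinv
        refine ⟨Units.mk0 a ha0, ?_⟩
        apply Units.ext
        rw [hD, Units.val_mk0]
        have h2 : σ a = -a := by linear_combination ha
        rw [h2]
        field_simp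
        linear_combination -h1
      · refine ⟨Units.mk0 (1 + (l : F)) h1, ?_⟩
        apply Units.ext
        rw [hD, Units.val_mk0, map_add, map_one]
        have h2 : σ (l : F) = (l : F)⁻¹ := eq_inv_of_mul_eq_one_right hl
        rw [h2]
        have h3 : 1 + (l : F)⁻¹ ≠ 0 := by
          intro h0
          apply h1
          field_simp at h0
          linear_combination h0
        have h4 : (l : F) + 1 ≠ 0 := by rw [add_comm]; exact h1
        field_simp
        ring
  have hND : N.range ≤ D.ker := by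
    rintro _ ⟨l, rfl⟩
    rw [hmemD, hN, map_mul, hinv, mul_comm]
  have hcardN : Nat.card Fˣ = Nat.card N.range * Nat.card N.ker := by
    rw [Subgroup.card_eq_card_quotient_mul_card_subgroup N.ker,
      Nat.card_congr (QuotientGroup.quotientKerEquivRange N).toEquiv]
  have hcardD : Nat.card Fˣ = Nat.card D.range * Nat.card D.ker := by
    rw [Subgroup.card_eq_card_quotient_mul_card_subgroup D.ker,
      Nat.card_congr (QuotientGroup.quotientKerEquivRange D).toEquiv]
  have hpos : 0 < Nat.card N.ker := Nat.card_pos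
  have hcard : Nat.card D.ker ≤ Nat.card N.range := by
    rw [hDN, hcardN, mul_comm] at hcardD
    exact le_of_eq (Nat.eq_of_mul_eq_mul_left hpos hcardD).symm
  have heq : N.range = D.ker := Subgroup.eq_of_le_of_card_ge hND hcard
  have hbmem : Units.mk0 b hb0 ∈ N.range := by
    rw [heq, hmemD, Units.val_mk0]
    exact hb
  obtain ⟨l, hl⟩ := hbmem
  refine ⟨(l : F), ?_⟩
  have h1 := congrArg Units.val hl
  rw [hN, Units.val_mk0] at h1
  exact h1

/-- An element of norm one other than `1`. -/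
theorem sig_exists_norm_one_ne (hne : σ ≠ RingEquiv.refl F) (hinv : ∀ a, σ (σ a) = a) :
    ∃ θ : F, θ * σ θ = 1 ∧ θ ≠ 1 := by
  obtain ⟨b, hb⟩ := sig_exists_moved σ hne
  have hb0 : b ≠ 0 := by
    intro h0
    apply hb
    rw [h0, map_zero]
  have hsb0 : σ b ≠ 0 := (map_ne_zero σ).mpr hb0
  refine ⟨b / σ b, ?_, ?_⟩
  · rw [map_div₀, hinv]
    field_simp
  · intro h1
    apply hb
    field_simp at h1
    exact h1.symm

end

section
variable {ι : Type} [Fintype ι] [DecidableEq ι] {F : Type*} [Field F] {σ : F ≃+* F}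
  {f : (ι → F) → (ι → F) → F}

theorem covec_dot_left (f : (ι → F) → (ι → F) → F)
    (hadd : ∀ x y v, f (x + y) v = f x v + f y v)
    (hsmul : ∀ (c : F) (x v : ι → F), f (c • x) v = c * f x v) (w x : ι → F) :
    covec f w ⬝ᵥ x = f x w := by
  let L : (ι → F) →ₗ[F] F :=
    { toFun := fun x => f x w
      map_add' := fun a b => hadd a b w
      map_smul' := fun c a => by rw [hsmul, RingHom.id_apply, smul_eq_mul] }
  have h := LinearMap.pi_apply_eq_sum_univ L x
  have e : ∀ i : ι, (fun j => if i = j then (1 : F) else 0) = Pi.single i 1 := by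
    intro i; funext j; simp [Pi.single_apply, eq_comm]
  simp only [e] at h
  have h' : f x w = ∑ i, x i • f (Pi.single i 1) w := h
  rw [h']
  exact Finset.sum_congr rfl (fun j _ => by rw [smul_eq_mul, mul_comm]; rfl)

omit [Fintype ι] [DecidableEq ι] in
theorem uf_add_right (hf : IsUnitaryForm σ f) (x y z : ι → F) : f x (y + z) = f x y + f x z := by
  rw [hf.herm x (y + z), hf.add_left, map_add, ← hf.herm, ← hf.herm]

omit [Fintype ι] [DecidableEq ι] in
theorem uf_smul_right (hf : IsUnitaryForm σ f) (c : F) (x y : ι → F) :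
    f x (c • y) = σ c * f x y := by
  rw [hf.herm x (c • y), hf.smul_left, map_mul, ← hf.herm]

omit [Fintype ι] [DecidableEq ι] in
theorem uf_zero_left (hf : IsUnitaryForm σ f) (y : ι → F) : f 0 y = 0 := by
  have h := hf.smul_left 0 0 y
  rw [zero_smul, zero_mul] at h
  exact h

omit [Fintype ι] [DecidableEq ι] in
theorem uf_zero_right (hf : IsUnitaryForm σ f) (x : ι → F) : f x 0 = 0 := by
  rw [hf.herm, uf_zero_left hf, map_zero]

omit [Fintype ι] [DecidableEq ι] in
theorem uf_neg_left (hf : IsUnitaryForm σ f) (x y : ι → F) : f (-x) y = - f x y := by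
  have h := hf.smul_left (-1) x y
  rw [neg_one_smul, neg_one_mul] at h
  exact h

omit [Fintype ι] [DecidableEq ι] in
theorem uf_neg_right (hf : IsUnitaryForm σ f) (x y : ι → F) : f x (-y) = - f x y := by
  rw [hf.herm, uf_neg_left hf, map_neg, ← hf.herm]

omit [Fintype ι] [DecidableEq ι] in
theorem uf_sub_left (hf : IsUnitaryForm σ f) (x y z : ι → F) : f (x - y) z = f x z - f y z := by
  rw [sub_eq_add_neg, hf.add_left, uf_neg_left hf, ← sub_eq_add_neg]

omit [Fintype ι] [DecidableEq ι] in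
theorem uf_sub_right (hf : IsUnitaryForm σ f) (x y z : ι → F) : f x (y - z) = f x y - f x z := by
  rw [sub_eq_add_neg, uf_add_right hf, uf_neg_right hf, ← sub_eq_add_neg]

omit [Fintype ι] [DecidableEq ι] in
theorem uf_self (hf : IsUnitaryForm σ f) (v : ι → F) : σ (f v v) = f v v := (hf.herm v v).symm

omit [Fintype ι] [DecidableEq ι] in
theorem uf_eq_zero_symm (hf : IsUnitaryForm σ f) {x y : ι → F} (h : f x y = 0) : f y x = 0 := by
  rw [hf.herm, h, map_zero]

omit [Fintype ι] [DecidableEq ι] in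
theorem uf_ne_zero_symm (hf : IsUnitaryForm σ f) {x y : ι → F} (h : f x y ≠ 0) : f y x ≠ 0 :=
  fun h0 => h (uf_eq_zero_symm hf h0)

theorem uf_covec_dot (hf : IsUnitaryForm σ f) (w x : ι → F) : covec f w ⬝ᵥ x = f x w :=
  covec_dot_left f hf.add_left hf.smul_left w x

theorem uf_covec_injective (hf : IsUnitaryForm σ f) :
    Function.Injective (fun w : ι → F => covec f w) := by
  intro w w' hww
  by_contra hne
  have hne' : w - w' ≠ 0 := sub_ne_zero.mpr hne
  obtain ⟨x, hx⟩ := (hf.nondegenerate _ hne').1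
  apply hx
  rw [uf_sub_right hf, ← uf_covec_dot hf w x, ← uf_covec_dot hf w' x]
  have h0 : covec f w = covec f w' := hww
  rw [h0, sub_self]

/-- Every covector is the covector of some `f(·, w)`. -/
theorem uf_exists_covec [Fintype F] (hf : IsUnitaryForm σ f) (φ : ι → F) : ∃ w, covec f w = φ :=
  (Finite.injective_iff_surjective.mp (uf_covec_injective hf)) φ

omit [Fintype ι] [DecidableEq ι] in
/-- If everything orthogonal to `w` is orthogonal to `s`, then `s` is a multiple of `w`. -/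
theorem uf_mem_span_of_perp (hf : IsUnitaryForm σ f) (w s : ι → F)
    (h : ∀ y, f y w = 0 → f y s = 0) : ∃ c : F, s = c • w := by
  by_cases hw : w = 0
  · refine ⟨0, ?_⟩
    rw [zero_smul]
    by_contra hs
    obtain ⟨x, hx⟩ := (hf.nondegenerate s hs).1
    exact hx (h x (by rw [hw, uf_zero_right hf]))
  · obtain ⟨a', ha'⟩ := (hf.nondegenerate w hw).1
    obtain ⟨a, ha⟩ : ∃ a, f a w = 1 :=
      ⟨(f a' w)⁻¹ • a', by rw [hf.smul_left, inv_mul_cancel₀ ha']⟩
    refine ⟨σ (f a s), ?_⟩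
    by_contra hne
    have hne' : s - σ (f a s) • w ≠ 0 := sub_ne_zero.mpr hne
    obtain ⟨x, hx⟩ := (hf.nondegenerate _ hne').1
    apply hx
    have h1 := h (x - f x w • a) (by rw [uf_sub_left hf, hf.smul_left, ha, mul_one, sub_self])
    rw [uf_sub_left hf, hf.smul_left] at h1
    rw [uf_sub_right hf, uf_smul_right hf, hf.involutive, sub_eq_zero.mp h1]
    ring

/-- A non-isotropic vector orthogonal to `k` given vectors, when `2k < dim`. -/
theorem uf_exists_nonisotropic_perp [Fintype F] (hf : IsUnitaryForm σ f) {k : ℕ}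
    (a : Fin k → ι → F) (hk : 2 * k < Fintype.card ι) :
    ∃ y, f y y ≠ 0 ∧ ∀ i, f y (a i) = 0 := by
  classical
  by_contra hcon
  push Not at hcon
  let S : Submodule F (ι → F) :=
    { carrier := {y | ∀ i, f y (a i) = 0}
      add_mem' := fun {x y} hx hy i => by rw [hf.add_left, hx i, hy i, add_zero]
      zero_mem' := fun i => uf_zero_left hf _
      smul_mem' := fun c x hx i => by rw [hf.smul_left, hx i, mul_zero] }
  have hSmem : ∀ y, y ∈ S ↔ ∀ i, f y (a i) = 0 := fun y => Iff.rfl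
  have hS0 : ∀ y ∈ S, f y y = 0 := by
    intro y hy
    by_contra h0
    obtain ⟨i, hi⟩ := hcon y h0
    exact hi (hy i)
  obtain ⟨θ, hθ⟩ := sig_exists_tr_ne σ hf.ne_refl
  have hpol : ∀ x ∈ S, ∀ y ∈ S, f x y = 0 := by
    intro x hx y hy
    by_contra hd
    have h1 := hS0 ((θ / f x y) • x + y) (S.add_mem (S.smul_mem _ hx) hy)
    simp only [hf.add_left, uf_add_right hf, hf.smul_left, uf_smul_right hf, hS0 x hx, hS0 y hy,
      mul_zero, zero_add, add_zero] at h1
    rw [hf.herm y x, div_mul_cancel₀ _ hd, ← map_mul, div_mul_cancel₀ _ hd] at h1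
    exact hθ h1
  let B : LinearMap.BilinForm F (ι → F) :=
    LinearMap.mk₂ F (fun x y : ι → F => x ⬝ᵥ y) (fun x y z => add_dotProduct x y z)
      (fun c x y => smul_dotProduct c x y) (fun x y z => dotProduct_add x y z)
      (fun c x y => dotProduct_smul c x y)
  have hB : ∀ x y : ι → F, B x y = x ⬝ᵥ y := fun x y => rfl
  have hBnd : B.Nondegenerate := by
    constructor
    · intro x hx
      funext i
      have h1 := hx (Pi.single i 1)
      rw [hB, dotProduct_single, mul_one] at h1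
      exact h1
    · intro y hy
      funext i
      have h1 := hy (Pi.single i 1)
      rw [hB, single_dotProduct, one_mul] at h1
      exact h1
  have h1 := LinearMap.BilinForm.finrank_orthogonal hBnd
    (Submodule.span F (Set.range (fun i => covec f (a i))))
  have h2 := LinearMap.BilinForm.finrank_orthogonal hBnd S
  have h3 : Module.finrank F (Submodule.span F (Set.range (fun i => covec f (a i)))) ≤ k := by
    have h0 := finrank_range_le_card (R := F) (fun i => covec f (a i))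
    simpa [Set.finrank] using h0
  have h4 : Module.finrank F (LinearMap.BilinForm.orthogonal B
      (Submodule.span F (Set.range (fun i => covec f (a i))))) ≤ Module.finrank F S := by
    apply Submodule.finrank_mono
    intro y hy
    rw [hSmem]
    intro i
    have h0 := hy (covec f (a i)) (Submodule.subset_span ⟨i, rfl⟩)
    have h0' : covec f (a i) ⬝ᵥ y = 0 := h0
    rw [uf_covec_dot hf] at h0'
    exact h0'
  have h5 : Module.finrank F (ι → F) = Fintype.card ι := Module.finrank_fintype_fun_eq_card F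
  have h6 : Module.finrank F S ≤ Module.finrank F (LinearMap.BilinForm.orthogonal B S) := by
    have hinj : Function.Injective (fun s : S =>
        (⟨covec f (s : ι → F), by
          intro x hx
          show x ⬝ᵥ covec f (s : ι → F) = 0
          rw [dotProduct_comm, uf_covec_dot hf]
          exact hpol x hx s s.2⟩ : LinearMap.BilinForm.orthogonal B S)) := by
      intro s s' hss
      apply Subtype.ext
      exact uf_covec_injective hf (congrArg Subtype.val hss)
    have hc := Nat.card_le_card_of_injective _ hinj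
    rw [Module.natCard_eq_pow_finrank (K := F) (V := S),
      Module.natCard_eq_pow_finrank (K := F) (V := LinearMap.BilinForm.orthogonal B S)] at hc
    have hF : 1 < Nat.card F := by
      rw [Nat.card_eq_fintype_card]; exact Fintype.one_lt_card
    exact (Nat.pow_le_pow_iff_right hF).mp hc
  have h7 := Submodule.finrank_le S
  have h8 := Submodule.finrank_le (Submodule.span F (Set.range (fun i => covec f (a i))))
  omega

end

section
variable {F : Type*} [Field F] (σ : F ≃+* F)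

/-- Every element is a sum of three products `(σ l - l * σ l) * a` with `a` of trace zero. -/
theorem sig_span_e (hne : σ ≠ RingEquiv.refl F) (hinv : ∀ a, σ (σ a) = a) (c : F) :
    ∃ l₁ l₂ l₃ a₁ a₂ a₃ : F, a₁ + σ a₁ = 0 ∧ a₂ + σ a₂ = 0 ∧ a₃ + σ a₃ = 0 ∧
      c = (σ l₁ - l₁ * σ l₁) * a₁ + (σ l₂ - l₂ * σ l₂) * a₂ + (σ l₃ - l₃ * σ l₃) * a₃ := by
  obtain ⟨a₀, ha₀, ha₀t⟩ := sig_exists_tr0 σ hne hinv
  obtain ⟨l₁, hl₁⟩ := sig_exists_moved σ hne
  obtain ⟨l₀, hl₀⟩ : ∃ l₀ : F, (σ l₀ - l₀ * σ l₀) + (l₀ - σ l₀ * l₀) ≠ 0 := by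
    by_cases h2 : (2 : F) = 0
    · obtain ⟨θ, hθ⟩ := sig_exists_tr_ne σ hne
      refine ⟨θ, ?_⟩
      intro h0
      apply hθ
      linear_combination h0 + (θ * σ θ) * h2
    · refine ⟨-1, ?_⟩
      rw [map_neg, map_one]
      intro h0
      apply h2
      have h4 : (2 : F) * 2 = 0 := by linear_combination -h0
      rcases mul_eq_zero.mp h4 with h | h <;> exact h
  obtain ⟨y, hy⟩ : ∃ y : F, y = c / a₀ := ⟨_, rfl⟩
  obtain ⟨e₁, he₁⟩ : ∃ e₁ : F, e₁ = σ l₁ - l₁ * σ l₁ := ⟨_, rfl⟩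
  obtain ⟨d₀, hd₀⟩ : ∃ d₀ : F, d₀ = (σ l₀ - l₀ * σ l₀) + (l₀ - σ l₀ * l₀) := ⟨_, rfl⟩
  have hd₀0 : d₀ ≠ 0 := by rw [hd₀]; exact hl₀
  have hσe₁ : σ e₁ = l₁ - σ l₁ * l₁ := by rw [he₁, map_sub, map_mul, hinv]
  have hediff : e₁ - σ e₁ ≠ 0 := by
    rw [hσe₁, he₁]
    intro h0
    apply hl₁
    linear_combination h0
  have hσd₀ : σ d₀ = d₀ := by
    rw [hd₀]
    simp only [map_add, map_sub, map_mul, hinv]
    ring
  obtain ⟨b₁, hb₁⟩ : ∃ b₁ : F, b₁ = (y - σ y) / (e₁ - σ e₁) := ⟨_, rfl⟩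
  have hb₁e : b₁ * (e₁ - σ e₁) = y - σ y := by
    rw [hb₁, div_mul_cancel₀ _ hediff]
  have hσb₁ : σ b₁ = b₁ := by
    have h1 : σ b₁ * (e₁ - σ e₁) = y - σ y := by
      have h2 := congrArg σ hb₁e
      rw [map_mul, map_sub, map_sub, hinv, hinv] at h2
      linear_combination -h2
    have h3 : (σ b₁ - b₁) * (e₁ - σ e₁) = 0 := by linear_combination h1 - hb₁e
    rcases mul_eq_zero.mp h3 with h | h
    · exact sub_eq_zero.mp h
    · exact absurd h hediff
  obtain ⟨b₂, hb₂⟩ : ∃ b₂ : F, b₂ = (y - b₁ * e₁) / d₀ := ⟨_, rfl⟩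
  have hb₂d : b₂ * d₀ = y - b₁ * e₁ := by
    rw [hb₂, div_mul_cancel₀ _ hd₀0]
  have hσb₂ : σ b₂ = b₂ := by
    have h1 : σ b₂ * d₀ = σ y - b₁ * σ e₁ := by
      have h2 := congrArg σ hb₂d
      rw [map_mul, map_sub, map_mul, hσd₀, hσb₁] at h2
      exact h2
    have h3 : (σ b₂ - b₂) * d₀ = 0 := by linear_combination h1 - hb₂d + hb₁e
    rcases mul_eq_zero.mp h3 with h | h
    · exact sub_eq_zero.mp h
    · exact absurd h hd₀0
  have hya : y * a₀ = c := by rw [hy, div_mul_cancel₀ _ ha₀]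
  refine ⟨l₁, l₀, σ l₀, b₁ * a₀, b₂ * a₀, b₂ * a₀, ?_, ?_, ?_, ?_⟩
  · rw [map_mul, hσb₁]; linear_combination b₁ * ha₀t
  · rw [map_mul, hσb₂]; linear_combination b₂ * ha₀t
  · rw [map_mul, hσb₂]; linear_combination b₂ * ha₀t
  · rw [hinv, ← he₁]
    have h5 : b₂ * ((σ l₀ - l₀ * σ l₀) + (l₀ - σ l₀ * l₀)) = y - b₁ * e₁ := by
      rw [← hd₀]; exact hb₂d
    linear_combination -hya - a₀ * h5

end

section
variable {ι : Type} [Fintype ι] [DecidableEq ι] {F : Type*} [Field F] {σ : F ≃+* F}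
  {f : (ι → F) → (ι → F) → F}

omit [Fintype ι] [DecidableEq ι] in
/-- A hyperbolic partner of a non-zero isotropic vector. -/
theorem uf_exists_hyp_partner (hf : IsUnitaryForm σ f) (z : ι → F) (hz0 : z ≠ 0)
    (hz : f z z = 0) : ∃ z', f z z' = 1 ∧ f z' z' = 0 := by
  obtain ⟨r', hr'⟩ := (hf.nondegenerate z hz0).2
  obtain ⟨r, hr⟩ : ∃ r, f z r = 1 :=
    ⟨σ (f z r')⁻¹ • r', by rw [uf_smul_right hf, hf.involutive, inv_mul_cancel₀ hr']⟩
  obtain ⟨t, ht⟩ := sig_tr_surj σ hf.ne_refl hf.involutive (-(f r r)) (by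
    rw [map_neg, uf_self hf])
  have hrz : f r z = 1 := by rw [hf.herm, hr, map_one]
  refine ⟨r + t • z, ?_, ?_⟩
  · rw [uf_add_right hf, uf_smul_right hf, hz, mul_zero, add_zero, hr]
  · simp only [hf.add_left, uf_add_right hf, hf.smul_left, uf_smul_right hf, hz, hr, hrz, mul_zero,
      mul_one, add_zero]
    linear_combination ht

/-- The isotropic vectors orthogonal to `w` span the orthogonal complement of `w`. -/
theorem uf_isotropic_span_perp [Fintype F] (hf : IsUnitaryForm σ f)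
    (hcard : 4 < Fintype.card ι) (w : ι → F) (S : Submodule F (ι → F))
    (hS : ∀ y, f y y = 0 → f y w = 0 → y ∈ S) : ∀ y, f y w = 0 → y ∈ S := by
  intro y hyw
  by_cases hyy : f y y = 0
  · exact hS y hyy hyw
  obtain ⟨y₂, hy₂, hy₂a⟩ := uf_exists_nonisotropic_perp hf (k := 2) ![w, y] (by omega)
  have hy₂w : f y₂ w = 0 := hy₂a 0
  have hy₂y : f y₂ y = 0 := hy₂a 1
  have hyy₂ : f y y₂ = 0 := uf_eq_zero_symm hf hy₂y
  obtain ⟨l, hl⟩ := sig_norm_surj σ hf.ne_refl hf.involutive (-(f y₂ y₂) / f y y) (by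
    rw [map_div₀, map_neg, uf_self hf, uf_self hf])
  obtain ⟨θ, hθ, hθ1⟩ := sig_exists_norm_one_ne σ hf.ne_refl hf.involutive
  have hl0 : l ≠ 0 := by
    intro h0
    rw [h0, zero_mul] at hl
    exact (div_ne_zero (neg_ne_zero.mpr hy₂) hyy) hl.symm
  have hv : ∀ c : F, c * σ c = -(f y₂ y₂) / f y y → f (c • y + y₂) (c • y + y₂) = 0 := by
    intro c hc
    simp only [hf.add_left, uf_add_right hf, hf.smul_left, uf_smul_right hf, hyy₂, hy₂y, mul_zero,
      add_zero, zero_add]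
    have e : c * (σ c * f y y) = (c * σ c) * f y y := by ring
    rw [e, hc, div_mul_cancel₀ _ hyy]
    ring
  have hvw : ∀ c : F, f (c • y + y₂) w = 0 := by
    intro c
    rw [hf.add_left, hf.smul_left, hyw, hy₂w, mul_zero, add_zero]
  have h1 := hS _ (hv l hl) (hvw l)
  have h2 := hS _ (hv (l * θ) (by
    rw [map_mul, ← hl]
    linear_combination (l * σ l) * hθ)) (hvw (l * θ))
  have h3 := S.sub_mem h1 h2
  have e : l • y + y₂ - ((l * θ) • y + y₂) = (l * (1 - θ)) • y := by module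
  rw [e] at h3
  have hne : l * (1 - θ) ≠ 0 := mul_ne_zero hl0 (sub_ne_zero.mpr (Ne.symm hθ1))
  have h4 := S.smul_mem (l * (1 - θ))⁻¹ h3
  rw [smul_smul, inv_mul_cancel₀ hne, one_smul] at h4
  exact h4

/-- A non-zero isotropic vector. -/
theorem uf_exists_isotropic_ne_zero [Fintype F] (hf : IsUnitaryForm σ f)
    (hcard : 2 < Fintype.card ι) : ∃ v : ι → F, v ≠ 0 ∧ f v v = 0 := by
  obtain ⟨y₁, hy₁, -⟩ := uf_exists_nonisotropic_perp hf (k := 0) (fun i => Fin.elim0 i) (by omega)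
  obtain ⟨y₂, hy₂, hy₂a⟩ := uf_exists_nonisotropic_perp hf (k := 1) (fun _ => y₁) (by omega)
  have h21 : f y₂ y₁ = 0 := hy₂a 0
  have h12 : f y₁ y₂ = 0 := uf_eq_zero_symm hf h21
  obtain ⟨l, hl⟩ := sig_norm_surj σ hf.ne_refl hf.involutive (-(f y₂ y₂) / f y₁ y₁) (by
    rw [map_div₀, map_neg, uf_self hf, uf_self hf])
  refine ⟨l • y₁ + y₂, ?_, ?_⟩
  · intro h0
    have h1 : f (l • y₁ + y₂) y₂ = 0 := by rw [h0, uf_zero_left hf]
    rw [hf.add_left, hf.smul_left, h12, mul_zero, zero_add] at h1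
    exact hy₂ h1
  · simp only [hf.add_left, uf_add_right hf, hf.smul_left, uf_smul_right hf, h12, h21, mul_zero,
      add_zero, zero_add]
    have e : l * (σ l * f y₁ y₁) = (l * σ l) * f y₁ y₁ := by ring
    rw [e, hl, div_mul_cancel₀ _ hy₁]
    ring

/-- A subspace closed under "isotropic neighbours orthogonal to `w`" that contains a vector outside
`⟨w⟩` contains the orthogonal complement of `w`. -/
theorem uf_star [Fintype F] (hf : IsUnitaryForm σ f) (hcard : 4 < Fintype.card ι) (w : ι → F)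
    (S : Submodule F (ι → F))
    (hstar : ∀ s ∈ S, ∀ y, f y y = 0 → f y w = 0 → f s y ≠ 0 → y ∈ S)
    (s₀ : ι → F) (hs₀ : s₀ ∈ S) (hs₀w : ∀ c : F, s₀ ≠ c • w) :
    ∀ y, f y w = 0 → y ∈ S := by
  obtain ⟨y₁, hy₁, hy₁w, hy₁s⟩ : ∃ y₁, f y₁ y₁ = 0 ∧ f y₁ w = 0 ∧ f s₀ y₁ ≠ 0 := by
    by_contra hcon
    push Not at hcon
    let S' : Submodule F (ι → F) :=
      { carrier := {y | f y s₀ = 0}
        add_mem' := fun {x y} hx hy => by
          have hx' : f x s₀ = 0 := hx
          have hy' : f y s₀ = 0 := hy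
          show f (x + y) s₀ = 0
          rw [hf.add_left, hx', hy', add_zero]
        zero_mem' := uf_zero_left hf _
        smul_mem' := fun c x hx => by
          have hx' : f x s₀ = 0 := hx
          show f (c • x) s₀ = 0
          rw [hf.smul_left, hx', mul_zero] }
    have h1 : ∀ y, f y w = 0 → y ∈ S' :=
      uf_isotropic_span_perp hf hcard w S' (fun y hyy hyw =>
        uf_eq_zero_symm hf (hcon y hyy hyw))
    obtain ⟨c, hc⟩ := uf_mem_span_of_perp hf w s₀ (fun y hy => h1 y hy)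
    exact hs₀w c hc
  have hy₁S : y₁ ∈ S := hstar s₀ hs₀ y₁ hy₁ hy₁w hy₁s
  apply uf_isotropic_span_perp hf hcard w S
  intro y₂ hy₂ hy₂w
  by_cases h1 : f s₀ y₂ = 0
  · by_cases h2 : f y₁ y₂ = 0
    · have h3 : y₁ + y₂ ∈ S := by
        apply hstar s₀ hs₀ (y₁ + y₂)
        · simp only [hf.add_left, uf_add_right hf, hy₁, hy₂, h2, uf_eq_zero_symm hf h2, add_zero]
        · rw [hf.add_left, hy₁w, hy₂w, add_zero]
        · rw [uf_add_right hf, h1, add_zero]; exact hy₁s
      have h4 := S.sub_mem h3 hy₁S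
      rw [add_sub_cancel_left] at h4
      exact h4
    · exact hstar y₁ hy₁S y₂ hy₂ hy₂w h2
  · exact hstar s₀ hs₀ y₂ hy₂ hy₂w h1

theorem det_one_add_vecMulVec_gen (u φ : ι → F) :
    (1 + Matrix.vecMulVec u φ).det = 1 + φ ⬝ᵥ u := by
  rw [Matrix.vecMulVec_eq (ι := Unit), Matrix.det_one_add_replicateCol_mul_replicateRow]

open Classical in
/-- The map `x ↦ x + φ(x) u` as an element of GL when `1 + φ(u) ≠ 0`; `1` otherwise. -/
noncomputable def psr (u φ : ι → F) : GL ι F :=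
  if h : 1 + φ ⬝ᵥ u ≠ 0 then
    Matrix.GeneralLinearGroup.mkOfDetNeZero (1 + Matrix.vecMulVec u φ)
      (by rw [det_one_add_vecMulVec_gen]; exact h)
  else 1

theorem psr_val (u φ : ι → F) (h : 1 + φ ⬝ᵥ u ≠ 0) :
    ((psr u φ : GL ι F) : Matrix ι ι F) = 1 + Matrix.vecMulVec u φ := by
  unfold psr
  rw [dif_pos h]
  rfl

theorem psr_mulVec (u φ : ι → F) (h : 1 + φ ⬝ᵥ u ≠ 0) (x : ι → F) :
    ((psr u φ : GL ι F) : Matrix ι ι F) *ᵥ x = x + (φ ⬝ᵥ x) • u := by
  rw [psr_val u φ h, Matrix.add_mulVec, Matrix.one_mulVec, Matrix.vecMulVec_mulVec,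
    op_smul_eq_smul]

theorem psr_det (u φ : ι → F) (h : 1 + φ ⬝ᵥ u ≠ 0) :
    ((psr u φ : GL ι F) : Matrix ι ι F).det = 1 + φ ⬝ᵥ u := by
  rw [psr_val u φ h, det_one_add_vecMulVec_gen]

omit [Fintype ι] [DecidableEq ι] in
/-- The form identity behind the scaling isometry `z ↦ l z`, `z' ↦ (σ l)⁻¹ z'`,
`y₁ ↦ (σ l / l) y₁`. -/
theorem uf_scaling_form (hf : IsUnitaryForm σ f) (z z' y₁ : ι → F) (hz : f z z = 0)
    (hz' : f z' z' = 0) (hzz' : f z z' = 1) (hy₁ : f y₁ y₁ ≠ 0) (hy₁z : f y₁ z = 0)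
    (hy₁z' : f y₁ z' = 0) (l : F) (hl : l ≠ 0) (x y : ι → F) :
    f (x + ((l - 1) * f x z') • z + (((σ l)⁻¹ - 1) * f x z) • z' +
        ((σ l / l - 1) / f y₁ y₁ * f x y₁) • y₁)
      (y + ((l - 1) * f y z') • z + (((σ l)⁻¹ - 1) * f y z) • z' +
        ((σ l / l - 1) / f y₁ y₁ * f y y₁) • y₁) = f x y := by
  have hz'z : f z' z = 1 := by rw [hf.herm, hzz', map_one]
  have hzy₁ : f z y₁ = 0 := uf_eq_zero_symm hf hy₁z
  have hz'y₁ : f z' y₁ = 0 := uf_eq_zero_symm hf hy₁z'
  have hsl : σ l ≠ 0 := (map_ne_zero σ).mpr hl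
  have e1 : f z y = σ (f y z) := hf.herm z y
  have e2 : f z' y = σ (f y z') := hf.herm z' y
  have e3 : f y₁ y = σ (f y y₁) := hf.herm y₁ y
  simp only [hf.add_left, uf_add_right hf, hf.smul_left, uf_smul_right hf, hz, hz', hzz', hz'z,
    hy₁z, hy₁z', hzy₁, hz'y₁, e1, e2, e3, mul_zero, mul_one, add_zero, map_mul, map_sub,
    map_one, map_inv₀, map_div₀, hf.involutive, uf_self hf]
  field_simp
  ring

/-- The scaling isometry of determinant one attached to a hyperbolic pair `z, z'`, an orthogonal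
non-isotropic vector `y₁` and a non-zero scalar `l`. -/
theorem uf_exists_scaling (hf : IsUnitaryForm σ f) (z z' y₁ : ι → F) (hz : f z z = 0)
    (hz' : f z' z' = 0) (hzz' : f z z' = 1) (hy₁ : f y₁ y₁ ≠ 0) (hy₁z : f y₁ z = 0)
    (hy₁z' : f y₁ z' = 0) (l : F) (hl : l ≠ 0) :
    ∃ g : GL ι F, g ∈ similarityGroup f ⊓ specialLinear ι F ∧
      (∀ x y, f ((g : Matrix ι ι F) *ᵥ x) ((g : Matrix ι ι F) *ᵥ y) = f x y) ∧
      ∀ x, (g : Matrix ι ι F) *ᵥ x = x + ((l - 1) * f x z') • z +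
        (((σ l)⁻¹ - 1) * f x z) • z' + ((σ l / l - 1) / f y₁ y₁ * f x y₁) • y₁ := by
  have hz'z : f z' z = 1 := by rw [hf.herm, hzz', map_one]
  have hzy₁ : f z y₁ = 0 := uf_eq_zero_symm hf hy₁z
  have hz'y₁ : f z' y₁ = 0 := uf_eq_zero_symm hf hy₁z'
  have hsl : σ l ≠ 0 := (map_ne_zero σ).mpr hl
  have d1 : 1 + covec f z' ⬝ᵥ ((l - 1) • z) = l := by
    rw [uf_covec_dot hf, hf.smul_left, hzz']; ring
  have d2 : 1 + covec f z ⬝ᵥ (((σ l)⁻¹ - 1) • z') = (σ l)⁻¹ := by
    rw [uf_covec_dot hf, hf.smul_left, hz'z]; ring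
  have d3 : 1 + covec f y₁ ⬝ᵥ (((σ l / l - 1) / f y₁ y₁) • y₁) = σ l / l := by
    rw [uf_covec_dot hf, hf.smul_left, div_mul_cancel₀ _ hy₁]; ring
  have n1 : 1 + covec f z' ⬝ᵥ ((l - 1) • z) ≠ 0 := by rw [d1]; exact hl
  have n2 : 1 + covec f z ⬝ᵥ (((σ l)⁻¹ - 1) • z') ≠ 0 := by rw [d2]; exact inv_ne_zero hsl
  have n3 : 1 + covec f y₁ ⬝ᵥ (((σ l / l - 1) / f y₁ y₁) • y₁) ≠ 0 := by
    rw [d3]; exact div_ne_zero hsl hl
  have hact : ∀ x, ((psr ((l - 1) • z) (covec f z') * psr (((σ l)⁻¹ - 1) • z') (covec f z) *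
      psr (((σ l / l - 1) / f y₁ y₁) • y₁) (covec f y₁) : GL ι F) : Matrix ι ι F) *ᵥ x =
      x + ((l - 1) * f x z') • z + (((σ l)⁻¹ - 1) * f x z) • z' +
        ((σ l / l - 1) / f y₁ y₁ * f x y₁) • y₁ := by
    intro x
    rw [Units.val_mul, Units.val_mul, ← Matrix.mulVec_mulVec, ← Matrix.mulVec_mulVec,
      psr_mulVec _ _ n3, psr_mulVec _ _ n2, psr_mulVec _ _ n1]
    simp only [uf_covec_dot hf, hf.add_left, hf.smul_left, hy₁z, hy₁z', hz', mul_zero, add_zero,
      smul_smul]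
    rw [mul_comm (f x y₁), mul_comm (f x z), mul_comm (f x z')]
    abel
  refine ⟨_, ⟨⟨1, fun x y => ?_⟩, (mem_specialLinear_iff _).mpr ?_⟩, fun x y => ?_, hact⟩
  · rw [hact, hact, uf_scaling_form hf z z' y₁ hz hz' hzz' hy₁ hy₁z hy₁z' l hl, Units.val_one,
      one_mul]
  · rw [Units.val_mul, Units.val_mul, Matrix.det_mul, Matrix.det_mul,
      psr_det _ _ n1, psr_det _ _ n2, psr_det _ _ n3, d1, d2, d3]
    field_simp
  · rw [hact, hact, uf_scaling_form hf z z' y₁ hz hz' hzz' hy₁ hy₁z hy₁z' l hl]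

end

end Cfsg.Agent.Lib.helper95
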