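import Mathlib
import Cfsg.Prelude.Def_GeometricClasses
import Cfsg.Agent.Lib.helper95.SpMax
import Cfsg.Agent.Lib.helper95.SLTransv
import Cfsg.Agent.Lib.helper95.SpSimSL
import Cfsg.Agent.Lib.helper95.UForm

/-!
The similarity group of a non-degenerate unitary form meets the special linear group in a maximal
subgroup of the special linear group (dimension at least seven): an overgroup containing a
non-similarity contains a transvection `x ↦ x + f(x, w) z` with isotropic centre `z` and `w ∉ ⟨z⟩`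
for an `F₀`-line of `w`, then (using scaling isometries) for an `F`-line, then for all `w ⊥ z`, and
finally all transvections.
-/

set_option autoImplicit false

namespace Cfsg.Agent.Lib.helper95

open Matrix Cfsg Cfsg.Geo

section
variable {ι : Type} [Fintype ι] [DecidableEq ι] {F : Type*} [Field F] {σ : F ≃+* F}
  {f : (ι → F) → (ι → F) → F}

omit [Fintype ι] [DecidableEq ι] in
/-- The subspace of vectors orthogonal to `s`. -/
def ufPerp (hf : IsUnitaryForm σ f) (s : ι → F) : Submodule F (ι → F) where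
  carrier := {y | f y s = 0}
  add_mem' := fun {x y} hx hy => by
    have hx' : f x s = 0 := hx
    have hy' : f y s = 0 := hy
    show f (x + y) s = 0
    rw [hf.add_left, hx', hy', add_zero]
  zero_mem' := uf_zero_left hf _
  smul_mem' := fun c x hx => by
    have hx' : f x s = 0 := hx
    show f (c • x) s = 0
    rw [hf.smul_left, hx', mul_zero]

omit [Fintype ι] [DecidableEq ι] in
theorem mem_ufPerp (hf : IsUnitaryForm σ f) (s y : ι → F) : y ∈ ufPerp hf s ↔ f y s = 0 :=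
  Iff.rfl

theorem usT_mulVec (hf : IsUnitaryForm σ f) (u w : ι → F) (huw : f u w = 0) (x : ι → F) :
    ((slT u (covec f w) : GL ι F) : Matrix ι ι F) *ᵥ x = x + f x w • u := by
  rw [slT_mulVec u (covec f w) (by rw [uf_covec_dot hf]; exact huw), uf_covec_dot hf]

theorem usT_mul_right (hf : IsUnitaryForm σ f) (u w w' : ι → F) (h1 : f u w = 0)
    (h2 : f u w' = 0) :
    slT u (covec f w) * slT u (covec f w') = slT u (covec f (w + w')) := by
  apply gl_ext_mulVec
  intro x
  rw [Units.val_mul, ← Matrix.mulVec_mulVec, usT_mulVec hf u w' h2, usT_mulVec hf u w h1,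
    usT_mulVec hf u (w + w') (by rw [uf_add_right hf, h1, h2, add_zero]), hf.add_left,
    hf.smul_left, h1, mul_zero, add_zero, uf_add_right hf, add_smul]
  abel

theorem usT_mul_left (hf : IsUnitaryForm σ f) (u u' w : ι → F) (h1 : f u w = 0)
    (h2 : f u' w = 0) :
    slT u (covec f w) * slT u' (covec f w) = slT (u + u') (covec f w) := by
  apply gl_ext_mulVec
  intro x
  rw [Units.val_mul, ← Matrix.mulVec_mulVec, usT_mulVec hf u' w h2, usT_mulVec hf u w h1,
    usT_mulVec hf (u + u') w (by rw [hf.add_left, h1, h2, add_zero]), hf.add_left,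
    hf.smul_left, h2, mul_zero, add_zero, smul_add]
  abel

theorem usT_zero_right (hf : IsUnitaryForm σ f) (u : ι → F) : slT u (covec f 0) = 1 := by
  apply gl_ext_mulVec
  intro x
  rw [usT_mulVec hf u 0 (uf_zero_right hf u), uf_zero_right hf, zero_smul, add_zero,
    Units.val_one, Matrix.one_mulVec]

theorem usT_smul (hf : IsUnitaryForm σ f) (c : F) (u w : ι → F) (h : f u w = 0) :
    slT (c • u) (covec f w) = slT u (covec f (σ c • w)) := by
  apply gl_ext_mulVec
  intro x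
  rw [usT_mulVec hf (c • u) w (by rw [hf.smul_left, h, mul_zero]),
    usT_mulVec hf u (σ c • w) (by rw [uf_smul_right hf, h, mul_zero]), uf_smul_right hf,
    hf.involutive, smul_smul, mul_comm]

theorem usT_conj (hf : IsUnitaryForm σ f) (g : GL ι F)
    (hg : ∀ x y, f ((g : Matrix ι ι F) *ᵥ x) ((g : Matrix ι ι F) *ᵥ y) = f x y) (u w : ι → F)
    (h : f u w = 0) :
    g * slT u (covec f w) * g⁻¹ =
      slT ((g : Matrix ι ι F) *ᵥ u) (covec f ((g : Matrix ι ι F) *ᵥ w)) := by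
  symm
  rw [eq_mul_inv_iff_mul_eq]
  apply gl_ext_mulVec
  intro x
  rw [Units.val_mul, Units.val_mul, ← Matrix.mulVec_mulVec, ← Matrix.mulVec_mulVec,
    usT_mulVec hf _ _ (by rw [hg]; exact h), usT_mulVec hf u w h, hg, Matrix.mulVec_add,
    Matrix.mulVec_smul]

theorem utv_mulVec (hf : IsUnitaryForm σ f) (v : ι → F) (hv : f v v = 0) (a : F) (x : ι → F) :
    ((slT (a • v) (covec f v) : GL ι F) : Matrix ι ι F) *ᵥ x = x + (a * f x v) • v := by
  rw [usT_mulVec hf _ _ (by rw [hf.smul_left, hv, mul_zero]), smul_smul, mul_comm]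

omit [Fintype ι] [DecidableEq ι] in
theorem utv_form (hf : IsUnitaryForm σ f) (v : ι → F) (hv : f v v = 0) (a : F)
    (ha : a + σ a = 0) (x y : ι → F) :
    f (x + (a * f x v) • v) (y + (a * f y v) • v) = f x y := by
  simp only [hf.add_left, uf_add_right hf, hf.smul_left, uf_smul_right hf, hv, mul_zero, add_zero,
    map_mul]
  rw [hf.herm v y]
  linear_combination (f x v * σ (f y v)) * ha

/-- The unitary transvections lie in the similarity group and have determinant one. -/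
theorem utv_mem (hf : IsUnitaryForm σ f) (v : ι → F) (hv : f v v = 0) (a : F)
    (ha : a + σ a = 0) :
    slT (a • v) (covec f v) ∈ similarityGroup f ⊓ specialLinear ι F := by
  refine ⟨⟨1, fun x y => ?_⟩, slT_mem _ _⟩
  rw [utv_mulVec hf v hv, utv_mulVec hf v hv, utv_form hf v hv a ha, Units.val_one, one_mul]

theorem slT_conj (g : GL ι F) (u φ : ι → F) (h : φ ⬝ᵥ ((g : Matrix ι ι F) *ᵥ u) = 0) :
    slT ((g : Matrix ι ι F) *ᵥ u) φ = g * slT u (φ ᵥ* (g : Matrix ι ι F)) * g⁻¹ := by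
  have h' : (φ ᵥ* (g : Matrix ι ι F)) ⬝ᵥ u = 0 := by
    rw [← Matrix.dotProduct_mulVec]; exact h
  rw [eq_mul_inv_iff_mul_eq]
  apply gl_ext_mulVec
  intro x
  rw [Units.val_mul, Units.val_mul, ← Matrix.mulVec_mulVec, ← Matrix.mulVec_mulVec,
    slT_mulVec _ _ h, slT_mulVec _ _ h', Matrix.mulVec_add, Matrix.mulVec_smul,
    Matrix.dotProduct_mulVec]

theorem slT_smul_left (c : F) (u φ : ι → F) (h : φ ⬝ᵥ u = 0) :
    slT (c • u) φ = slT u (c • φ) := by
  apply gl_ext_mulVec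
  intro x
  rw [slT_mulVec _ _ (by rw [dotProduct_smul, h, smul_zero]),
    slT_mulVec _ _ (by rw [smul_dotProduct, h, smul_zero]), smul_dotProduct, smul_smul,
    smul_eq_mul, mul_comm]

/-- A non-similarity fails to be "conformal" at some non-zero isotropic vector. -/
theorem u_step0 [Fintype F] (hf : IsUnitaryForm σ f) (hcard : 4 < Fintype.card ι) (h : GL ι F)
    (hhf : h ∉ similarityGroup f) :
    ∃ v, v ≠ 0 ∧ f v v = 0 ∧ ∀ μ : F,
      ¬ ∀ y, f ((h : Matrix ι ι F) *ᵥ y) ((h : Matrix ι ι F) *ᵥ v) = μ * f y v := by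
  by_contra hcon
  push Not at hcon
  apply hhf
  choose! μ hμ using hcon
  obtain ⟨a₀, ha₀, ha₀t⟩ := sig_exists_tr0 σ hf.ne_refl hf.involutive
  have hconst : ∀ v₁ v₂, f v₁ v₁ = 0 → f v₂ v₂ = 0 → f v₁ v₂ ≠ 0 → μ v₁ = μ v₂ := by
    intro v₁ v₂ h1 h2 h12
    have h21 : f v₂ v₁ ≠ 0 := uf_ne_zero_symm hf h12
    have hv₁0 : v₁ ≠ 0 := by
      intro h0; rw [h0] at h12; exact h12 (uf_zero_left hf _)
    have hv₂0 : v₂ ≠ 0 := by
      intro h0; rw [h0] at h12; exact h12 (uf_zero_right hf _)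
    obtain ⟨c, hc⟩ : ∃ c : F, c = a₀ / f v₂ v₁ := ⟨_, rfl⟩
    have hc0 : c ≠ 0 := by rw [hc]; exact div_ne_zero ha₀ h21
    have hcf : c * f v₂ v₁ = a₀ := by rw [hc, div_mul_cancel₀ _ h21]
    have hv₃ : f (v₁ + c • v₂) (v₁ + c • v₂) = 0 := by
      simp only [hf.add_left, uf_add_right hf, hf.smul_left, uf_smul_right hf, h1, h2, mul_zero,
        add_zero, zero_add]
      rw [hf.herm v₁ v₂, ← map_mul, hcf]
      linear_combination ha₀t
    have hv₃0 : v₁ + c • v₂ ≠ 0 := by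
      intro h0
      have h3 : f (v₁ + c • v₂) v₁ = 0 := by rw [h0, uf_zero_left hf]
      rw [hf.add_left, hf.smul_left, h1, zero_add] at h3
      exact (mul_ne_zero hc0 h21) h3
    have e1 := hμ v₁ hv₁0 h1
    have e2 := hμ v₂ hv₂0 h2
    have e3 := hμ (v₁ + c • v₂) hv₃0 hv₃
    have e4 : ∀ y, (μ v₁ - μ (v₁ + c • v₂)) * f y v₁ +
        σ c * (μ v₂ - μ (v₁ + c • v₂)) * f y v₂ = 0 := by
      intro y
      have h5 := e3 y
      rw [Matrix.mulVec_add, Matrix.mulVec_smul, uf_add_right hf, uf_smul_right hf, e1 y, e2 y,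
        uf_add_right hf, uf_smul_right hf] at h5
      linear_combination h5
    have e5 := e4 v₁
    have e6 := e4 v₂
    rw [h1, mul_zero, zero_add] at e5
    rw [h2, mul_zero, add_zero] at e6
    have hσc : σ c ≠ 0 := (map_ne_zero σ).mpr hc0
    have h7 : μ v₂ = μ (v₁ + c • v₂) := by
      rcases mul_eq_zero.mp e5 with h | h
      · rcases mul_eq_zero.mp h with h' | h'
        · exact absurd h' hσc
        · exact sub_eq_zero.mp h'
      · exact absurd h h12
    have h8 : μ v₁ = μ (v₁ + c • v₂) := by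
      rcases mul_eq_zero.mp e6 with h | h
      · exact sub_eq_zero.mp h
      · exact absurd h h21
    rw [h7, h8]
  obtain ⟨vs, hvs0, hvs⟩ := uf_exists_isotropic_ne_zero hf (by omega)
  have hall : ∀ v, v ≠ 0 → f v v = 0 → μ v = μ vs := by
    intro v hv0 hv
    by_cases h1 : f vs v = 0
    · obtain ⟨y₀, hy₀1, hy₀2⟩ : ∃ y₀, f y₀ vs ≠ 0 ∧ f y₀ v ≠ 0 := by
        obtain ⟨a', ha'⟩ := (hf.nondegenerate vs hvs0).1
        obtain ⟨b', hb'⟩ := (hf.nondegenerate v hv0).1
        by_cases h2 : f a' v = 0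
        · by_cases h3 : f b' vs = 0
          · refine ⟨a' + b', ?_, ?_⟩
            · rw [hf.add_left, h3, add_zero]; exact ha'
            · rw [hf.add_left, h2, zero_add]; exact hb'
          · exact ⟨b', h3, hb'⟩
        · exact ⟨a', ha', h2⟩
      have hvsy : f vs y₀ ≠ 0 := uf_ne_zero_symm hf hy₀1
      obtain ⟨s, hs⟩ := sig_tr_surj σ hf.ne_refl hf.involutive (-(f y₀ y₀)) (by
        rw [map_neg, uf_self hf])
      obtain ⟨t, ht⟩ : ∃ t : F, t = s / f vs y₀ := ⟨_, rfl⟩
      have htf : t * f vs y₀ = s := by rw [ht, div_mul_cancel₀ _ hvsy]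
      have hz : f (y₀ + t • vs) (y₀ + t • vs) = 0 := by
        simp only [hf.add_left, uf_add_right hf, hf.smul_left, uf_smul_right hf, hvs, mul_zero,
          add_zero]
        rw [hf.herm y₀ vs, ← map_mul, htf]
        linear_combination hs
      have hz1 : f vs (y₀ + t • vs) ≠ 0 := by
        rw [uf_add_right hf, uf_smul_right hf, hvs, mul_zero, add_zero]; exact hvsy
      have hz2 : f (y₀ + t • vs) v ≠ 0 := by
        rw [hf.add_left, hf.smul_left, h1, mul_zero, add_zero]; exact hy₀2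
      rw [← hconst _ v hz hv hz2, hconst vs _ hvs hz hz1]
    · exact (hconst vs v hvs hv h1).symm
  have hinj : ∀ x : ι → F, (h : Matrix ι ι F) *ᵥ x = 0 → x = 0 := by
    intro x hx
    have h1 := gl_inv_mulVec_mulVec h x
    rw [hx, Matrix.mulVec_zero] at h1
    exact h1.symm
  have hμ0 : μ vs ≠ 0 := by
    intro h0
    have hhv : (h : Matrix ι ι F) *ᵥ vs ≠ 0 := fun h1 => hvs0 (hinj vs h1)
    obtain ⟨x, hx⟩ := (hf.nondegenerate _ hhv).1
    apply hx
    have h2 := hμ vs hvs0 hvs (((h⁻¹ : GL ι F) : Matrix ι ι F) *ᵥ x)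
    rw [gl_mulVec_inv_mulVec, h0, zero_mul] at h2
    exact h2
  refine ⟨Units.mk0 (μ vs) hμ0, fun x y => ?_⟩
  rw [Units.val_mk0]
  let S : Submodule F (ι → F) :=
    { carrier := {w | f ((h : Matrix ι ι F) *ᵥ x) ((h : Matrix ι ι F) *ᵥ w) = μ vs * f x w}
      add_mem' := fun {a b} ha hb => by
        have ha' : f ((h : Matrix ι ι F) *ᵥ x) ((h : Matrix ι ι F) *ᵥ a) = μ vs * f x a := ha
        have hb' : f ((h : Matrix ι ι F) *ᵥ x) ((h : Matrix ι ι F) *ᵥ b) = μ vs * f x b := hb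
        show f ((h : Matrix ι ι F) *ᵥ x) ((h : Matrix ι ι F) *ᵥ (a + b)) = μ vs * f x (a + b)
        rw [Matrix.mulVec_add, uf_add_right hf, ha', hb', uf_add_right hf, mul_add]
      zero_mem' := by
        show f ((h : Matrix ι ι F) *ᵥ x) ((h : Matrix ι ι F) *ᵥ 0) = μ vs * f x 0
        rw [Matrix.mulVec_zero, uf_zero_right hf, uf_zero_right hf, mul_zero]
      smul_mem' := fun c a ha => by
        have ha' : f ((h : Matrix ι ι F) *ᵥ x) ((h : Matrix ι ι F) *ᵥ a) = μ vs * f x a := ha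
        show f ((h : Matrix ι ι F) *ᵥ x) ((h : Matrix ι ι F) *ᵥ (c • a)) = μ vs * f x (c • a)
        rw [Matrix.mulVec_smul, uf_smul_right hf, ha', uf_smul_right hf]
        ring }
  have hS : ∀ w, f w 0 = 0 → w ∈ S := by
    apply uf_isotropic_span_perp hf hcard 0 S
    intro w hw _
    by_cases hw0 : w = 0
    · rw [hw0]; exact S.zero_mem
    · show f ((h : Matrix ι ι F) *ᵥ x) ((h : Matrix ι ι F) *ᵥ w) = μ vs * f x w
      rw [hμ w hw0 hw x, hall w hw0 hw]
  exact hS y (uf_zero_right hf y)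

/-- If `M` contains the similarities of determinant one of the unitary form `f` and an element that
is not a similarity, then `M` contains every transvection. -/
theorem u_sim_transv_all [Fintype F] (hf : IsUnitaryForm σ f) (hcard : 6 < Fintype.card ι)
    (M : Subgroup (GL ι F)) (hPM : similarityGroup f ⊓ specialLinear ι F ≤ M)
    (h : GL ι F) (hhM : h ∈ M) (hhf : h ∉ similarityGroup f)
    (u φ : ι → F) (huφ : φ ⬝ᵥ u = 0) : slT u φ ∈ M := by
  obtain ⟨a₀, ha₀, ha₀t⟩ := sig_exists_tr0 σ hf.ne_refl hf.involutive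
  have hinj : ∀ x : ι → F, (h : Matrix ι ι F) *ᵥ x = 0 → x = 0 := by
    intro x hx
    have h1 := gl_inv_mulVec_mulVec h x
    rw [hx, Matrix.mulVec_zero] at h1
    exact h1.symm
  obtain ⟨v, hv0, hvv, hv⟩ := u_step0 hf (by omega) h hhf
  -- Step 1: a transvection `T(u₀, w₀)` in `M` with `w₀ ∉ ⟨u₀⟩`
  obtain ⟨u₀, hu₀⟩ : ∃ u₀, u₀ = a₀ • ((h : Matrix ι ι F) *ᵥ v) := ⟨_, rfl⟩
  obtain ⟨w₀, hw₀⟩ := uf_exists_covec hf (covec f v ᵥ* ((h⁻¹ : GL ι F) : Matrix ι ι F))
  have hw₀f : ∀ x, f x w₀ = f (((h⁻¹ : GL ι F) : Matrix ι ι F) *ᵥ x) v := by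
    intro x
    rw [← uf_covec_dot hf w₀ x, hw₀, ← Matrix.dotProduct_mulVec, uf_covec_dot hf]
  have hhv0 : (h : Matrix ι ι F) *ᵥ v ≠ 0 := fun h1 => hv0 (hinj v h1)
  have hu₀0 : u₀ ≠ 0 := by rw [hu₀]; exact smul_ne_zero ha₀ hhv0
  have hu₀w₀ : f u₀ w₀ = 0 := by
    rw [hw₀f, hu₀, Matrix.mulVec_smul, gl_inv_mulVec_mulVec, hf.smul_left, hvv, mul_zero]
  have hT₀ : slT u₀ (covec f w₀) ∈ M := by
    have e : slT u₀ (covec f w₀) = h * slT (a₀ • v) (covec f v) * h⁻¹ := by
      rw [eq_mul_inv_iff_mul_eq]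
      apply gl_ext_mulVec
      intro x
      rw [Units.val_mul, Units.val_mul, ← Matrix.mulVec_mulVec, ← Matrix.mulVec_mulVec,
        usT_mulVec hf u₀ w₀ hu₀w₀, utv_mulVec hf v hvv, hw₀f, gl_inv_mulVec_mulVec,
        Matrix.mulVec_add, Matrix.mulVec_smul, hu₀, smul_smul, mul_comm (f x v) a₀]
    rw [e]
    exact M.mul_mem (M.mul_mem hhM (hPM (utv_mem hf v hvv a₀ ha₀t))) (M.inv_mem hhM)
  have hw₀span : ∀ μ : F, w₀ ≠ μ • ((h : Matrix ι ι F) *ᵥ v) := by
    intro μ hμ
    have h1 : ∀ y, f y v = σ μ * f ((h : Matrix ι ι F) *ᵥ y) ((h : Matrix ι ι F) *ᵥ v) := by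
      intro y
      have h2 := hw₀f ((h : Matrix ι ι F) *ᵥ y)
      rw [gl_inv_mulVec_mulVec, hμ, uf_smul_right hf] at h2
      exact h2.symm
    by_cases hμ0 : μ = 0
    · obtain ⟨y, hy⟩ := (hf.nondegenerate v hv0).1
      apply hy
      rw [h1 y, hμ0, map_zero, zero_mul]
    · apply hv (σ μ)⁻¹
      intro y
      rw [h1 y, ← mul_assoc, inv_mul_cancel₀ ((map_ne_zero σ).mpr hμ0), one_mul]
  have hw₀u₀ : ∀ μ : F, w₀ ≠ μ • u₀ := by
    intro μ hμ
    apply hw₀span (μ * a₀)
    rw [hμ, hu₀, smul_smul]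
  -- Step 2: an isotropic centre `z`
  obtain ⟨z, hzz, hzw₀, hzu₀⟩ : ∃ z, f z z = 0 ∧ f z w₀ = 0 ∧ f z u₀ ≠ 0 := by
    by_contra hcon
    push Not at hcon
    have h1 : ∀ y, f y w₀ = 0 → y ∈ ufPerp hf u₀ :=
      uf_isotropic_span_perp hf (by omega) w₀ (ufPerp hf u₀) (fun y hyy hyw => hcon y hyy hyw)
    obtain ⟨c, hc⟩ := uf_mem_span_of_perp hf w₀ u₀ (fun y hy => h1 y hy)
    have hc0 : c ≠ 0 := by
      intro h0
      rw [h0, zero_smul] at hc
      exact hu₀0 hc
    apply hw₀u₀ c⁻¹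
    rw [hc, smul_smul, inv_mul_cancel₀ hc0, one_smul]
  have hz0 : z ≠ 0 := by
    intro h0
    rw [h0] at hzu₀
    exact hzu₀ (uf_zero_left hf _)
  have hw₀z : f w₀ z = 0 := uf_eq_zero_symm hf hzw₀
  obtain ⟨w₁, hw₁⟩ : ∃ w₁, w₁ = f z u₀ • w₀ := ⟨_, rfl⟩
  have hzw₁ : f z w₁ = 0 := by rw [hw₁, uf_smul_right hf, hzw₀, mul_zero]
  have hw₁z : f w₁ z = 0 := uf_eq_zero_symm hf hzw₁
  have hw₁span : ∀ c : F, w₁ ≠ c • z := by
    intro c hc
    have h1 : w₀ = (c / f z u₀) • z := by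
      rw [div_eq_inv_mul, ← smul_smul, ← hc, hw₁, smul_smul, inv_mul_cancel₀ hzu₀, one_smul]
    have h2 := hu₀w₀
    rw [h1, uf_smul_right hf] at h2
    have hu₀z : f u₀ z ≠ 0 := uf_ne_zero_symm hf hzu₀
    rcases mul_eq_zero.mp h2 with h3 | h3
    · have h4 : c / f z u₀ = 0 := by
        have h5 := congrArg σ h3
        rw [hf.involutive, map_zero] at h5
        exact h5
      apply hw₀u₀ 0
      rw [h1, h4, zero_smul, zero_smul]
    · exact hu₀z h3
  have hTinv : slT (-u₀) (covec f w₀) ∈ M := by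
    have h1 : slT u₀ (covec f w₀) * slT (-u₀) (covec f w₀) = 1 := by
      rw [usT_mul_left hf u₀ (-u₀) w₀ hu₀w₀ (by rw [uf_neg_left hf, hu₀w₀, neg_zero]),
        add_neg_cancel, slT_zero_left]
    have h2 : slT (-u₀) (covec f w₀) = (slT u₀ (covec f w₀))⁻¹ := eq_inv_of_mul_eq_one_right h1
    rw [h2]
    exact M.inv_mem hT₀
  have hA : ∀ a : F, a + σ a = 0 → slT z (covec f (a • w₁)) ∈ M := by
    intro a ha
    have hna : (-a) + σ (-a) = 0 := by rw [map_neg]; linear_combination -ha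
    have ht := hPM (utv_mem hf z hzz (-a) hna)
    have hiso : ∀ x y, f (((slT ((-a) • z) (covec f z) : GL ι F) : Matrix ι ι F) *ᵥ x)
        (((slT ((-a) • z) (covec f z) : GL ι F) : Matrix ι ι F) *ᵥ y) = f x y := by
      intro x y
      rw [utv_mulVec hf z hzz, utv_mulVec hf z hzz, utv_form hf z hzz (-a) hna]
    have h1 := M.mul_mem (M.mul_mem ht hT₀) (M.inv_mem ht)
    rw [usT_conj hf _ hiso u₀ w₀ hu₀w₀, utv_mulVec hf z hzz, utv_mulVec hf z hzz, hw₀z, mul_zero,
      zero_smul, add_zero] at h1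
    have h2 := M.mul_mem h1 hTinv
    rw [usT_mul_left hf _ (-u₀) w₀
      (by rw [hf.add_left, hf.smul_left, hu₀w₀, hzw₀, mul_zero, add_zero])
      (by rw [uf_neg_left hf, hu₀w₀, neg_zero])] at h2
    have e : u₀ + (-a * f u₀ z) • z + -u₀ = (-a * f u₀ z) • z := by abel
    rw [e, usT_smul hf _ z w₀ hzw₀] at h2
    have e2 : σ (-a * f u₀ z) • w₀ = a • w₁ := by
      rw [hw₁, smul_smul, map_mul, map_neg, ← hf.herm z u₀]
      have hσa : σ a = -a := by linear_combination ha
      rw [hσa, neg_neg]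
    rw [e2] at h2
    exact h2
  -- Step 3: all multiples of a vector `x₀ ⊥ z`, `x₀ ∉ ⟨z⟩`
  obtain ⟨z', hzz', hz'z'⟩ := uf_exists_hyp_partner hf z hz0 hzz
  obtain ⟨α, hα⟩ : ∃ α : F, α = f w₁ z' := ⟨_, rfl⟩
  obtain ⟨x₀, hx₀⟩ : ∃ x₀, x₀ = w₁ - α • z := ⟨_, rfl⟩
  have hx₀z : f x₀ z = 0 := by
    rw [hx₀, uf_sub_left hf, hf.smul_left, hzz, hw₁z, mul_zero, sub_zero]
  have hzx₀ : f z x₀ = 0 := uf_eq_zero_symm hf hx₀z
  have hx₀span : ∀ c : F, x₀ ≠ c • z := by
    intro c hc
    apply hw₁span (c + α)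
    rw [add_smul, ← hc, hx₀]
    abel
  obtain ⟨y₁, hy₁, hy₁a⟩ := uf_exists_nonisotropic_perp hf (k := 3) ![z, z', x₀] (by omega)
  have hy₁z : f y₁ z = 0 := hy₁a 0
  have hy₁z' : f y₁ z' = 0 := hy₁a 1
  have hy₁x₀ : f y₁ x₀ = 0 := hy₁a 2
  have hx₀y₁ : f x₀ y₁ = 0 := uf_eq_zero_symm hf hy₁x₀
  have hzy₁ : f z y₁ = 0 := uf_eq_zero_symm hf hy₁z
  have hw₁eq : w₁ = x₀ + α • z := by rw [hx₀]; abel
  have hw₁y₁ : f w₁ y₁ = 0 := by
    rw [hw₁eq, hf.add_left, hf.smul_left, hx₀y₁, hzy₁, mul_zero, add_zero]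
  have hB : ∀ (l a : F), a + σ a = 0 →
      slT z (covec f (((σ l - l * σ l) * a) • x₀)) ∈ M := by
    intro l a ha
    by_cases hl : l = 0
    · rw [hl, map_zero, mul_zero, sub_zero, zero_mul, zero_smul, usT_zero_right hf]
      exact M.one_mem
    obtain ⟨g, hgP, hgiso, hgact⟩ :=
      uf_exists_scaling hf z z' y₁ hzz hz'z' hzz' hy₁ hy₁z hy₁z' l hl
    have hgM := hPM hgP
    have h1 := M.mul_mem (M.mul_mem hgM (hA a ha)) (M.inv_mem hgM)
    have hzaw : f z (a • w₁) = 0 := by rw [uf_smul_right hf, hzw₁, mul_zero]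
    rw [usT_conj hf g hgiso z (a • w₁) hzaw] at h1
    have egz : (g : Matrix ι ι F) *ᵥ z = l • z := by
      rw [hgact, hzz', hzz, hzy₁, mul_one, mul_zero, mul_zero, zero_smul, zero_smul, add_zero,
        add_zero, sub_smul, one_smul]
      abel
    have egw : (g : Matrix ι ι F) *ᵥ (a • w₁) = a • (w₁ + ((l - 1) * α) • z) := by
      rw [Matrix.mulVec_smul, hgact, hw₁z, ← hα, hw₁y₁, mul_zero, mul_zero, zero_smul, zero_smul,
        add_zero, add_zero]
    rw [egz, egw] at h1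
    have hz1 : f z (a • (w₁ + ((l - 1) * α) • z)) = 0 := by
      rw [uf_smul_right hf, uf_add_right hf, uf_smul_right hf, hzw₁, hzz, mul_zero, add_zero,
        mul_zero]
    rw [usT_smul hf l z _ hz1] at h1
    have hla : (-(l * σ l * a)) + σ (-(l * σ l * a)) = 0 := by
      rw [map_neg, map_mul, map_mul, hf.involutive]
      linear_combination (-(l * σ l)) * ha
    have h2 := hA (-(l * σ l * a)) hla
    have h3 := M.mul_mem h1 h2
    rw [usT_mul_right hf z _ _ (by rw [uf_smul_right hf, hz1, mul_zero])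
      (by rw [uf_smul_right hf, hzw₁, mul_zero])] at h3
    have e : σ l • a • (w₁ + ((l - 1) * α) • z) + (-(l * σ l * a)) • w₁ =
        ((σ l - l * σ l) * a) • x₀ := by
      rw [hw₁eq]
      module
    rw [e] at h3
    exact h3
  have hC : ∀ c : F, slT z (covec f (c • x₀)) ∈ M := by
    intro c
    obtain ⟨l₁, l₂, l₃, a₁, a₂, a₃, h1, h2, h3, hc⟩ := sig_span_e σ hf.ne_refl hf.involutive c
    have hzc : ∀ c' : F, f z (c' • x₀) = 0 := fun c' => by
      rw [uf_smul_right hf, hzx₀, mul_zero]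
    have h4 := M.mul_mem (M.mul_mem (hB l₁ a₁ h1) (hB l₂ a₂ h2)) (hB l₃ a₃ h3)
    rw [usT_mul_right hf z _ _ (hzc _) (hzc _), ← add_smul,
      usT_mul_right hf z _ _ (hzc _) (hzc _), ← add_smul, ← hc] at h4
    exact h4
  -- Step 4: all transvections with centre `z`
  let K : Submodule F (ι → F) :=
    { carrier := {w | f w z = 0 ∧ ∀ c : F, slT z (covec f (c • w)) ∈ M}
      add_mem' := fun {a b} ha hb => by
        refine ⟨by rw [hf.add_left, ha.1, hb.1, add_zero], fun c => ?_⟩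
        have h1 := M.mul_mem (ha.2 c) (hb.2 c)
        rw [usT_mul_right hf z _ _
          (by rw [uf_smul_right hf, uf_eq_zero_symm hf ha.1, mul_zero])
          (by rw [uf_smul_right hf, uf_eq_zero_symm hf hb.1, mul_zero]), ← smul_add] at h1
        exact h1
      zero_mem' := ⟨uf_zero_left hf _, fun c => by
        rw [smul_zero, usT_zero_right hf]; exact M.one_mem⟩
      smul_mem' := fun d a ha => ⟨by rw [hf.smul_left, ha.1, mul_zero], fun c => by
        rw [smul_smul]; exact ha.2 (c * d)⟩ }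
  have hKmem : ∀ w, w ∈ K ↔ (f w z = 0 ∧ ∀ c : F, slT z (covec f (c • w)) ∈ M) :=
    fun w => Iff.rfl
  have hKstar : ∀ s ∈ K, ∀ y, f y y = 0 → f y z = 0 → f s y ≠ 0 → y ∈ K := by
    intro s hs y hyy hyz hsy
    rw [hKmem] at hs ⊢
    refine ⟨hyz, fun c' => ?_⟩
    obtain ⟨c, hc⟩ : ∃ c : F, c = c' / (a₀ * f s y) := ⟨_, rfl⟩
    have hzy : f z y = 0 := uf_eq_zero_symm hf hyz
    have hzs : f z s = 0 := uf_eq_zero_symm hf hs.1
    have ht := hPM (utv_mem hf y hyy a₀ ha₀t)
    have hiso : ∀ x x', f (((slT (a₀ • y) (covec f y) : GL ι F) : Matrix ι ι F) *ᵥ x)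
        (((slT (a₀ • y) (covec f y) : GL ι F) : Matrix ι ι F) *ᵥ x') = f x x' := by
      intro x x'
      rw [utv_mulVec hf y hyy, utv_mulVec hf y hyy, utv_form hf y hyy a₀ ha₀t]
    have hzcs : f z (c • s) = 0 := by rw [uf_smul_right hf, hzs, mul_zero]
    have h1 := M.mul_mem (M.mul_mem ht (hs.2 c)) (M.inv_mem ht)
    rw [usT_conj hf _ hiso z (c • s) hzcs, utv_mulVec hf y hyy, utv_mulVec hf y hyy, hzy, mul_zero,
      zero_smul, add_zero] at h1
    have h2 := M.mul_mem h1 (hs.2 (-c))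
    rw [usT_mul_right hf z _ _
      (by rw [uf_add_right hf, hzcs, uf_smul_right hf, hzy, mul_zero, add_zero])
      (by rw [uf_smul_right hf, hzs, mul_zero])] at h2
    have e : c • s + (a₀ * f (c • s) y) • y + (-c) • s = c' • y := by
      rw [hf.smul_left, hc]
      have e' : a₀ * (c' / (a₀ * f s y) * f s y) = c' := by field_simp
      rw [e']
      module
    rw [e] at h2
    exact h2
  have hx₀K : x₀ ∈ K := (hKmem x₀).mpr ⟨hx₀z, hC⟩
  have hKall := uf_star hf (by omega) z K hKstar x₀ hx₀K hx₀span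
  have hD : ∀ w, f z w = 0 → slT z (covec f w) ∈ M := by
    intro w hw
    have h1 := ((hKmem w).mp (hKall w (uf_eq_zero_symm hf hw))).2 1
    rw [one_smul] at h1
    exact h1
  -- Step 5: all transvections
  have hCsmul : ∀ (c : F) (u' : ι → F), (∀ φ' : ι → F, φ' ⬝ᵥ u' = 0 → slT u' φ' ∈ M) →
      ∀ φ' : ι → F, φ' ⬝ᵥ (c • u') = 0 → slT (c • u') φ' ∈ M := by
    intro c u' hu' φ' hφ'
    by_cases hc : c = 0
    · rw [hc, zero_smul, slT_zero_left]; exact M.one_mem
    · have h1 : φ' ⬝ᵥ u' = 0 := by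
        rw [dotProduct_smul, smul_eq_mul] at hφ'
        rcases mul_eq_zero.mp hφ' with h | h
        · exact absurd h hc
        · exact h
      rw [slT_smul_left c u' φ' h1]
      exact hu' _ (by rw [smul_dotProduct, h1, smul_zero])
  have hCinv : ∀ (g : GL ι F), g ∈ M → ∀ u' : ι → F,
      (∀ φ' : ι → F, φ' ⬝ᵥ u' = 0 → slT u' φ' ∈ M) →
      ∀ φ' : ι → F, φ' ⬝ᵥ ((g : Matrix ι ι F) *ᵥ u') = 0 →
        slT ((g : Matrix ι ι F) *ᵥ u') φ' ∈ M := by
    intro g hg u' hu' φ' hφ'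
    rw [slT_conj g u' φ' hφ']
    exact M.mul_mem (M.mul_mem hg (hu' _ (by rw [← Matrix.dotProduct_mulVec]; exact hφ')))
      (M.inv_mem hg)
  let C : Submodule F (ι → F) :=
    { carrier := {u' | ∀ φ' : ι → F, φ' ⬝ᵥ u' = 0 → slT u' φ' ∈ M}
      add_mem' := fun {a b} ha hb => by
        show ∀ φ' : ι → F, φ' ⬝ᵥ (a + b) = 0 → slT (a + b) φ' ∈ M
        by_cases hspan : ∃ c : F, a = c • b
        · obtain ⟨c, hc⟩ := hspan
          have e : a + b = (c + 1) • b := by rw [hc, add_smul, one_smul]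
          rw [e]
          exact hCsmul (c + 1) b hb
        · have h1 : ∃ w', f w' b = 0 ∧ f w' a ≠ 0 := by
            by_contra hcon
            push Not at hcon
            exact hspan (uf_mem_span_of_perp hf b a hcon)
          obtain ⟨w', hw'b, hw'a⟩ := h1
          have haw' : f a w' ≠ 0 := uf_ne_zero_symm hf hw'a
          have hbw' : f b w' = 0 := uf_eq_zero_symm hf hw'b
          obtain ⟨w'', hw''⟩ : ∃ w'', w'' = σ (f a w')⁻¹ • w' := ⟨_, rfl⟩
          have haw'' : f a w'' = 1 := by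
            rw [hw'', uf_smul_right hf, hf.involutive, inv_mul_cancel₀ haw']
          have hbw'' : f b w'' = 0 := by rw [hw'', uf_smul_right hf, hbw', mul_zero]
          have hg : slT b (covec f w'') ∈ M := hb _ (by rw [uf_covec_dot hf]; exact hbw'')
          have e : a + b = ((slT b (covec f w'') : GL ι F) : Matrix ι ι F) *ᵥ a := by
            rw [usT_mulVec hf b w'' hbw'', haw'', one_smul]
          rw [e]
          exact hCinv _ hg a ha
      zero_mem' := fun φ' _ => by rw [slT_zero_left]; exact M.one_mem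
      smul_mem' := fun c a ha => hCsmul c a ha }
  have hCmem : ∀ u', u' ∈ C ↔ ∀ φ' : ι → F, φ' ⬝ᵥ u' = 0 → slT u' φ' ∈ M := fun u' => Iff.rfl
  have hzC : z ∈ C := by
    rw [hCmem]
    intro φ' hφ'
    obtain ⟨w, hw⟩ := uf_exists_covec hf φ'
    rw [← hw]
    exact hD w (by rw [← uf_covec_dot hf w z, hw]; exact hφ')
  have hCstar : ∀ s ∈ C, ∀ y, f y y = 0 → f y 0 = 0 → f s y ≠ 0 → y ∈ C := by
    intro s hs y hyy _ hsy
    have ht := hPM (utv_mem hf y hyy a₀ ha₀t)
    have h1 : ((slT (a₀ • y) (covec f y) : GL ι F) : Matrix ι ι F) *ᵥ s ∈ C := by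
      rw [hCmem]
      exact hCinv _ ht s ((hCmem s).mp hs)
    rw [utv_mulVec hf y hyy] at h1
    have h2 := C.sub_mem h1 hs
    rw [add_sub_cancel_left] at h2
    have h3 := C.smul_mem (a₀ * f s y)⁻¹ h2
    rw [smul_smul, inv_mul_cancel₀ (mul_ne_zero ha₀ hsy), one_smul] at h3
    exact h3
  have hCall := uf_star hf (by omega) 0 C hCstar z hzC (fun c hc => hz0 (by rw [hc, smul_zero]))
  exact (hCmem u).mp (hCall u (uf_zero_right hf u)) φ huφ

end

section
variable {F : Type*} [Field F] [Fintype F]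

/-- The similarities of determinant one of a non-degenerate unitary form are a maximal subgroup of
the special linear group (dimension at least seven). -/
theorem u_sim_maximal {n : ℕ} (hn : 7 ≤ n) (σ : F ≃+* F) (f : (Fin n → F) → (Fin n → F) → F)
    (hf : IsUnitaryForm σ f) :
    IsMaximalIn (specialLinear (Fin n) F) (similarityGroup f ⊓ specialLinear (Fin n) F) := by
  have : Nontrivial (Fin n) := Fin.nontrivial_iff_two_le.mpr (by omega)
  have hcard : Fintype.card (Fin n) = n := Fintype.card_fin n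
  refine ⟨?_, ?_⟩
  · refine lt_of_le_of_ne inf_le_right ?_
    intro heq
    obtain ⟨u, hu0⟩ : ∃ u : Fin n → F, u ≠ 0 := ⟨Pi.single ⟨0, by omega⟩ 1, fun h0 => by
      have h1 := congrFun h0 ⟨0, by omega⟩
      simp at h1⟩
    obtain ⟨w, hww, hwa⟩ := uf_exists_nonisotropic_perp hf (k := 1) (fun _ => u)
      (by rw [hcard]; omega)
    have hwu : f w u = 0 := hwa 0
    have huw : f u w = 0 := uf_eq_zero_symm hf hwu
    have hg : slT u (covec f w) ∈ similarityGroup f := by
      have hmem : slT u (covec f w) ∈ similarityGroup f ⊓ specialLinear (Fin n) F := by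
        rw [heq]; exact slT_mem _ _
      exact hmem.1
    obtain ⟨c, hc⟩ := hg
    have hform : ∀ x y, f (x + f x w • u) (y + f y w • u) = (c : F) * f x y := by
      intro x y
      have h0 := hc x y
      rw [usT_mulVec hf u w huw, usT_mulVec hf u w huw] at h0
      exact h0
    obtain ⟨a, ha⟩ := (hf.nondegenerate u hu0).2
    have huu : f u u = 0 := by
      have h0 := hform u w
      rw [huw, zero_smul, add_zero, uf_add_right hf, uf_smul_right hf, huw, zero_add,
        mul_zero] at h0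
      rcases mul_eq_zero.mp h0 with h | h
      · exact absurd ((map_eq_zero σ).mp h) hww
      · exact h
    have hc1 : (c : F) = 1 := by
      have h0 := hform u a
      rw [huw, zero_smul, add_zero, uf_add_right hf, uf_smul_right hf, huu, mul_zero,
        add_zero] at h0
      have h2 : ((c : F) - 1) * f u a = 0 := by linear_combination -h0
      rcases mul_eq_zero.mp h2 with h3 | h3
      · exact sub_eq_zero.mp h3
      · exact absurd h3 ha
    have h0 := hform w a
    rw [hc1, one_mul] at h0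
    simp only [hf.add_left, uf_add_right hf, hf.smul_left, uf_smul_right hf, hwu, huu, mul_zero,
      add_zero] at h0
    have h2 : f w w * f u a = 0 := by linear_combination h0
    rcases mul_eq_zero.mp h2 with h3 | h3
    · exact hww h3
    · exact ha h3
  · intro M hPM hMG
    by_cases hM : M ≤ similarityGroup f
    · left; exact le_antisymm (le_inf hM hMG) hPM
    · right
      obtain ⟨h, hhM, hhf⟩ := SetLike.not_le_iff_exists.mp hM
      exact le_antisymm hMG (specialLinear_le_of_transv M (fun u φ huφ =>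
        u_sim_transv_all hf (by rw [hcard]; omega) M hPM h hhM hhf u φ huφ))

end

end Cfsg.Agent.Lib.helper95
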