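import Mathlib
import Cfsg.Prelude.Def_GeometricClasses
import Cfsg.Agent.Lib.helper95.USimSL

/-!
Subfield groups in the special linear group: the group of elements of `SL_n(F)` that are, up to a
scalar, matrices over a subfield `F₀` of prime index is a maximal subgroup of `SL_n(F)`.

The proof: an overgroup `M` defines the subalgebra of parameters `c` whose elementary transvections
lie in `M`; if it is everything, `M` is the special linear group.  Otherwise every element of `M`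
that maps some rational vector into a rational hyperplane is rational up to a scalar, and a Sylow
argument inside the group generated by two transvections produces such an element.
-/

set_option autoImplicit false

namespace Cfsg.Agent.Lib.helper95

open Matrix Cfsg Cfsg.Geo

section
variable {ι : Type} [Fintype ι] [DecidableEq ι] {F : Type*} [Field F]

theorem slT_zero_right (u : ι → F) : slT u (0 : ι → F) = 1 := by
  apply gl_ext_mulVec
  intro x
  rw [slT_mulVec u 0 (by simp), zero_dotProduct, zero_smul, add_zero, Units.val_one,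
    Matrix.one_mulVec]

theorem slT_mul_right (u φ φ' : ι → F) (h : φ ⬝ᵥ u = 0) (h' : φ' ⬝ᵥ u = 0) :
    slT u φ * slT u φ' = slT u (φ + φ') := by
  have h'' : (φ + φ') ⬝ᵥ u = 0 := by rw [add_dotProduct, h, h', add_zero]
  apply gl_ext_mulVec
  intro x
  rw [Units.val_mul, ← Matrix.mulVec_mulVec]
  simp only [slT_mulVec u φ h, slT_mulVec u φ' h', slT_mulVec u (φ + φ') h'']
  simp only [dotProduct_add, dotProduct_smul, add_dotProduct, h, smul_eq_mul, mul_zero, add_zero]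
  module

theorem slT_inv (u φ : ι → F) (h : φ ⬝ᵥ u = 0) : (slT u φ)⁻¹ = slT u (-φ) := by
  have h' : (-φ) ⬝ᵥ u = 0 := by rw [neg_dotProduct, h, neg_zero]
  apply inv_eq_of_mul_eq_one_right
  rw [slT_mul_right u φ (-φ) h h', add_neg_cancel, slT_zero_right]

theorem slT_comm (a β u φ : ι → F) (h1 : β ⬝ᵥ a = 0) (h2 : φ ⬝ᵥ u = 0) (h3 : β ⬝ᵥ u = 0) :
    slT a β * slT u φ * (slT a β)⁻¹ * (slT u φ)⁻¹ = slT u (-(φ ⬝ᵥ a) • β) := by
  have h4 : (-(φ ⬝ᵥ a) • β) ⬝ᵥ u = 0 := by rw [smul_dotProduct, h3, smul_zero]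
  rw [mul_inv_eq_iff_eq_mul, mul_inv_eq_iff_eq_mul]
  apply gl_ext_mulVec
  intro x
  simp only [Units.val_mul, ← Matrix.mulVec_mulVec]
  simp only [slT_mulVec u φ h2, slT_mulVec a β h1, slT_mulVec _ _ h4]
  simp only [dotProduct_add, dotProduct_smul, smul_dotProduct, h1, h3, smul_eq_mul, mul_zero,
    add_zero]
  module

theorem slT_vecMul (u φ : ι → F) (h : φ ⬝ᵥ u = 0) (ψ : ι → F) :
    ψ ᵥ* ((slT u φ : GL ι F) : Matrix ι ι F) = ψ + (ψ ⬝ᵥ u) • φ := by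
  rw [slT_val u φ h, Matrix.vecMul_add, Matrix.vecMul_one, Matrix.vecMul_vecMulVec]

theorem slT_pow (u φ : ι → F) (h : φ ⬝ᵥ u = 0) (m : ℕ) :
    (slT u φ) ^ m = slT u ((m : F) • φ) := by
  induction m with
  | zero => rw [pow_zero, Nat.cast_zero, zero_smul, slT_zero_right]
  | succ k ih =>
    rw [pow_succ, ih, slT_mul_right u _ φ (by rw [smul_dotProduct, h, smul_zero]) h,
      Nat.cast_succ, add_smul, one_smul]

/-- Two transvections in general position: some element of the group they generate maps the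
centre of the first to the centre of the second. -/
theorem transv_conj_exists [Finite F] (M : Subgroup (GL ι F)) (a β u ψ : ι → F)
    (hβa : β ⬝ᵥ a = 0) (hψu : ψ ⬝ᵥ u = 0) (hb : β ⬝ᵥ u ≠ 0) (hc : ψ ⬝ᵥ a ≠ 0)
    (ht : slT a β ∈ M) (hk : slT u ψ ∈ M) :
    ∃ w ∈ M, ∃ ν : F, ν ≠ 0 ∧ (w : Matrix ι ι F) *ᵥ a = ν • u ∧
      ∀ x, β ⬝ᵥ x = 0 → ψ ⬝ᵥ x = 0 → (w : Matrix ι ι F) *ᵥ x = x := by
  classical
  have ha0 : a ≠ 0 := fun h => hc (by rw [h, dotProduct_zero])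
  have hu0 : u ≠ 0 := fun h => hb (by rw [h, dotProduct_zero])
  have : Nonempty ι := by
    by_contra hne
    rw [not_nonempty_iff] at hne
    exact ha0 (Subsingleton.elim _ _)
  let D : Subgroup (GL ι F) :=
    { carrier := {g | g ∈ M ∧
        (∀ x, β ⬝ᵥ x = 0 → ψ ⬝ᵥ x = 0 → (g : Matrix ι ι F) *ᵥ x = x) ∧
        ∀ x, ∃ c₁ c₂ : F, (g : Matrix ι ι F) *ᵥ x = x + c₁ • a + c₂ • u}
      mul_mem' := by
        rintro g g' ⟨hg1, hg2, hg3⟩ ⟨hg1', hg2', hg3'⟩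
        refine ⟨M.mul_mem hg1 hg1', fun x hx1 hx2 => ?_, fun x => ?_⟩
        · rw [Units.val_mul, ← Matrix.mulVec_mulVec, hg2' x hx1 hx2, hg2 x hx1 hx2]
        · obtain ⟨c₁, c₂, hx⟩ := hg3' x
          obtain ⟨d₁, d₂, hgx⟩ := hg3 x
          obtain ⟨e₁, e₂, hga⟩ := hg3 a
          obtain ⟨f₁, f₂, hgu⟩ := hg3 u
          refine ⟨d₁ + c₁ * (1 + e₁) + c₂ * f₁, d₂ + c₁ * e₂ + c₂ * (1 + f₂), ?_⟩
          rw [Units.val_mul, ← Matrix.mulVec_mulVec, hx, Matrix.mulVec_add, Matrix.mulVec_add,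
            Matrix.mulVec_smul, Matrix.mulVec_smul, hgx, hga, hgu]
          module
      one_mem' := ⟨M.one_mem, fun x _ _ => by rw [Units.val_one, Matrix.one_mulVec],
        fun x => ⟨0, 0, by rw [Units.val_one, Matrix.one_mulVec, zero_smul, zero_smul, add_zero,
          add_zero]⟩⟩
      inv_mem' := by
        rintro g ⟨hg1, hg2, hg3⟩
        refine ⟨M.inv_mem hg1, fun x hx1 hx2 => ?_, fun x => ?_⟩
        · have h1 := gl_inv_mulVec_mulVec g x
          rw [hg2 x hx1 hx2] at h1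
          exact h1
        · obtain ⟨c₁, c₂, hx⟩ := hg3 (((g⁻¹ : GL ι F) : Matrix ι ι F) *ᵥ x)
          rw [gl_mulVec_inv_mulVec] at hx
          refine ⟨-c₁, -c₂, ?_⟩
          rw [neg_smul, neg_smul]
          nth_rewrite 2 [hx]
          abel }
  have hDmem : ∀ g : GL ι F, g ∈ D ↔ (g ∈ M ∧
      (∀ x, β ⬝ᵥ x = 0 → ψ ⬝ᵥ x = 0 → (g : Matrix ι ι F) *ᵥ x = x) ∧
      ∀ x, ∃ c₁ c₂ : F, (g : Matrix ι ι F) *ᵥ x = x + c₁ • a + c₂ • u) := fun g => Iff.rfl
  have htD : slT a β ∈ D := by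
    rw [hDmem]
    refine ⟨ht, fun x hx1 _ => ?_, fun x => ⟨β ⬝ᵥ x, 0, ?_⟩⟩
    · rw [slT_mulVec a β hβa, hx1, zero_smul, add_zero]
    · rw [slT_mulVec a β hβa, zero_smul, add_zero]
  have hkD : slT u ψ ∈ D := by
    rw [hDmem]
    refine ⟨hk, fun x _ hx2 => ?_, fun x => ⟨0, ψ ⬝ᵥ x, ?_⟩⟩
    · rw [slT_mulVec u ψ hψu, hx2, zero_smul, add_zero]
    · rw [slT_mulVec u ψ hψu, zero_smul, add_zero]
  obtain ⟨p, hp⟩ := CharP.exists F
  have := hp
  have hpp : p.Prime := CharP.char_is_prime F p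
  have : Fact p.Prime := ⟨hpp⟩
  obtain ⟨t', ht'⟩ : ∃ t' : D, (t' : GL ι F) = slT a β := ⟨⟨_, htD⟩, rfl⟩
  obtain ⟨k', hk'⟩ : ∃ k' : D, (k' : GL ι F) = slT u ψ := ⟨⟨_, hkD⟩, rfl⟩
  have htp : t' ^ p = 1 := by
    apply Subtype.ext
    rw [Subgroup.coe_pow, ht', slT_pow a β hβa, CharP.cast_eq_zero F p, zero_smul, slT_zero_right]
    rfl
  have hkp : k' ^ p = 1 := by
    apply Subtype.ext
    rw [Subgroup.coe_pow, hk', slT_pow u ψ hψu, CharP.cast_eq_zero F p, zero_smul, slT_zero_right]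
    rfl
  have hpg : ∀ z : D, z ^ p = 1 → IsPGroup p (Subgroup.zpowers z) := by
    intro z hz
    rintro ⟨x, hx⟩
    obtain ⟨m, rfl⟩ := Subgroup.mem_zpowers_iff.mp hx
    refine ⟨1, Subtype.ext ?_⟩
    rw [pow_one, Subgroup.coe_pow, Subgroup.coe_one, ← zpow_natCast, ← _root_.zpow_mul, mul_comm,
      _root_.zpow_mul, zpow_natCast, hz, _root_.one_zpow]
  obtain ⟨Q, hQ⟩ := (hpg k' hkp).exists_le_sylow
  obtain ⟨Q', hQ'⟩ := (hpg t' htp).exists_le_sylow
  obtain ⟨g, hg⟩ := MulAction.exists_smul_eq D Q' Q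
  have hx' : g * t' * g⁻¹ ∈ (Q : Subgroup D) := by
    rw [← hg, Sylow.coe_subgroup_smul]
    exact ⟨t', hQ' (Subgroup.mem_zpowers t'), rfl⟩
  have hk'Q : k' ∈ (Q : Subgroup D) := hQ (Subgroup.mem_zpowers k')
  obtain ⟨i, hi⟩ := Q.isPGroup' ⟨g * t' * g⁻¹ * k', Q.mul_mem hx' hk'Q⟩
  have hi' : ((g : GL ι F) * slT a β * (g : GL ι F)⁻¹ * slT u ψ) ^ (p ^ i) = 1 := by
    have h1 := congrArg (fun z : (Q : Subgroup D) => ((z : D) : GL ι F)) hi
    simpa [ht', hk'] using h1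
  obtain ⟨hgM, hgP1, hgP2⟩ := (hDmem (g : GL ι F)).mp g.2
  obtain ⟨-, -, hgiP2⟩ := (hDmem ((g : GL ι F)⁻¹)).mp (D.inv_mem g.2)
  obtain ⟨u₁, hu₁⟩ : ∃ u₁, u₁ = ((g : GL ι F) : Matrix ι ι F) *ᵥ a := ⟨_, rfl⟩
  obtain ⟨φ₁, hφ₁⟩ : ∃ φ₁, φ₁ = β ᵥ* (((g : GL ι F)⁻¹ : GL ι F) : Matrix ι ι F) := ⟨_, rfl⟩
  have hφ₁g : φ₁ ᵥ* ((g : GL ι F) : Matrix ι ι F) = β := by
    rw [hφ₁, Matrix.vecMul_vecMul, ← Units.val_mul, inv_mul_cancel, Units.val_one,
      Matrix.vecMul_one]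
  have h1 : φ₁ ⬝ᵥ u₁ = 0 := by rw [hu₁, Matrix.dotProduct_mulVec, hφ₁g, hβa]
  have hconj : (g : GL ι F) * slT a β * (g : GL ι F)⁻¹ = slT u₁ φ₁ := by
    rw [hu₁, slT_conj (g : GL ι F) a φ₁ (by rw [← hu₁]; exact h1), hφ₁g]
  rw [hconj] at hi'
  have hX : ((slT u₁ φ₁ * slT u ψ : GL ι F) : Matrix ι ι F) - 1 =
      vecMulVec u₁ φ₁ + vecMulVec u ψ + vecMulVec u₁ ((φ₁ ⬝ᵥ u) • ψ) := by
    rw [Units.val_mul, slT_val u₁ φ₁ h1, slT_val u ψ hψu, Matrix.add_mul, Matrix.mul_add,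
      Matrix.mul_add, Matrix.one_mul, Matrix.one_mul, Matrix.mul_one,
      Matrix.vecMulVec_mul_vecMulVec]
    abel
  have hnil : IsNilpotent (((slT u₁ φ₁ * slT u ψ : GL ι F) : Matrix ι ι F) - 1) := by
    refine ⟨p ^ i, ?_⟩
    rw [sub_pow_char_pow_of_commute p i (Commute.one_right _), one_pow, ← Units.val_pow_eq_pow_val,
      hi', Units.val_one, sub_self]
  have htr := (Matrix.isNilpotent_trace_of_isNilpotent hnil).eq_zero
  rw [hX, Matrix.trace_add, Matrix.trace_add, Matrix.trace_vecMulVec, Matrix.trace_vecMulVec,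
    Matrix.trace_vecMulVec, dotProduct_comm u₁ φ₁, h1, dotProduct_comm u ψ, hψu, zero_add,
    zero_add, dotProduct_smul, smul_eq_mul, dotProduct_comm u₁ ψ] at htr
  obtain ⟨c₁, c₂, hga⟩ := hgP2 a
  obtain ⟨d₁, d₂, hgiu⟩ := hgiP2 u
  have e1 : ψ ⬝ᵥ u₁ = (1 + c₁) * (ψ ⬝ᵥ a) := by
    rw [hu₁, hga, dotProduct_add, dotProduct_add, dotProduct_smul, dotProduct_smul, hψu,
      smul_zero, add_zero, smul_eq_mul]
    ring
  have e2 : φ₁ ⬝ᵥ u = (1 + d₂) * (β ⬝ᵥ u) := by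
    rw [hφ₁, ← Matrix.dotProduct_mulVec, hgiu, dotProduct_add, dotProduct_add, dotProduct_smul,
      dotProduct_smul, hβa, smul_zero, add_zero, smul_eq_mul]
    ring
  rw [e1, e2] at htr
  have hcases : 1 + c₁ = 0 ∨ 1 + d₂ = 0 := by
    rcases mul_eq_zero.mp htr with h | h
    · rcases mul_eq_zero.mp h with h | h
      · right; exact h
      · exact absurd h hb
    · rcases mul_eq_zero.mp h with h | h
      · left; exact h
      · exact absurd h hc
  refine ⟨(g : GL ι F), hgM, ?_⟩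
  rcases hcases with h | h
  · refine ⟨c₂, ?_, ?_, hgP1⟩
    · intro hc2
      have h2 : ((g : GL ι F) : Matrix ι ι F) *ᵥ a = 0 := by
        rw [hga, hc2, zero_smul, add_zero]
        have : a + c₁ • a = (1 + c₁) • a := by module
        rw [this, h, zero_smul]
      have h3 := gl_inv_mulVec_mulVec (g : GL ι F) a
      rw [h2, Matrix.mulVec_zero] at h3
      exact ha0 h3.symm
    · rw [hga]
      have : a + c₁ • a = (1 + c₁) • a := by module
      rw [this, h, zero_smul, zero_add]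
  · have h2 : (((g : GL ι F)⁻¹ : GL ι F) : Matrix ι ι F) *ᵥ u = d₁ • a := by
      rw [hgiu]
      have : u + d₁ • a + d₂ • u = (1 + d₂) • u + d₁ • a := by module
      rw [this, h, zero_smul, zero_add]
    have h3 := gl_mulVec_inv_mulVec (g : GL ι F) u
    rw [h2, Matrix.mulVec_smul] at h3
    have hd1 : d₁ ≠ 0 := by
      intro hd
      rw [hd, zero_smul] at h3
      exact hu0 h3.symm
    refine ⟨d₁⁻¹, inv_ne_zero hd1, ?_, hgP1⟩
    rw [← h3, smul_smul, inv_mul_cancel₀ hd1, one_smul]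

/-! ### Rational vectors -/

/-- A vector all of whose coordinates lie in the subfield. -/
def ratV (F₀ : Subfield F) (v : ι → F) : Prop := ∀ i, v i ∈ F₀

variable {F₀ : Subfield F}

theorem ratV_add {v w : ι → F} (hv : ratV F₀ v) (hw : ratV F₀ w) : ratV F₀ (v + w) :=
  fun i => F₀.add_mem (hv i) (hw i)

theorem ratV_sub {v w : ι → F} (hv : ratV F₀ v) (hw : ratV F₀ w) : ratV F₀ (v - w) :=
  fun i => F₀.sub_mem (hv i) (hw i)

theorem ratV_smul {c : F} (hc : c ∈ F₀) {v : ι → F} (hv : ratV F₀ v) : ratV F₀ (c • v) :=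
  fun i => F₀.mul_mem hc (hv i)

theorem ratV_single (i : ι) {c : F} (hc : c ∈ F₀) : ratV F₀ (Pi.single i c) := by
  intro k
  by_cases h : k = i
  · subst h
    rw [Pi.single_eq_same]
    exact hc
  · rw [Pi.single_eq_of_ne h]
    exact F₀.zero_mem

theorem ratV_of_smul {c : F} (hc : c ∈ F₀) (hc0 : c ≠ 0) {v : ι → F} (h : ratV F₀ (c • v)) :
    ratV F₀ v := by
  intro i
  have h1 := F₀.mul_mem (F₀.inv_mem hc) (h i)
  rwa [Pi.smul_apply, smul_eq_mul, inv_mul_cancel_left₀ hc0] at h1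

theorem ratV_of_dot (a ψ : ι → F) (ha : ratV F₀ a) (j : ι) (haj : a j ≠ 0) (h : ψ ⬝ᵥ a = 0)
    (hψ : ∀ l, l ≠ j → ψ l ∈ F₀) : ratV F₀ ψ := by
  intro l
  by_cases hl : l = j
  · subst hl
    have h0 : ∑ k, ψ k * a k = 0 := h
    have h1 := Finset.add_sum_erase Finset.univ (fun k => ψ k * a k) (Finset.mem_univ l)
    have h2 : ψ l * a l = -∑ k ∈ Finset.univ.erase l, ψ k * a k := by
      linear_combination h1 + h0
    have h3 : ψ l * a l ∈ F₀ := by
      rw [h2]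
      exact F₀.neg_mem (F₀.sum_mem fun k hk =>
        F₀.mul_mem (hψ k (Finset.ne_of_mem_erase hk)) (ha k))
    have h4 := F₀.mul_mem h3 (F₀.inv_mem (ha l))
    rwa [mul_inv_cancel_right₀ haj] at h4
  · exact hψ l hl

theorem sf_exists_ne_two (h : 2 < Fintype.card ι) (i j : ι) : ∃ k, k ≠ i ∧ k ≠ j := by
  by_contra hne
  push Not at hne
  have h1 : Fintype.card ι ≤ 2 := by
    have hsub : (Finset.univ : Finset ι) ⊆ {i, j} := fun k _ => by
      by_cases hk : k = i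
      · simp [hk]
      · simp [hne k hk]
    calc Fintype.card ι = (Finset.univ : Finset ι).card := rfl
      _ ≤ ({i, j} : Finset ι).card := Finset.card_le_card hsub
      _ ≤ 2 := Finset.card_le_two
  omega

theorem exists_rat_perp (hcard : 2 < Fintype.card ι) (a : ι → F) (ha : ratV F₀ a) (l : ι) :
    ∃ β' : ι → F, ratV F₀ β' ∧ β' ≠ 0 ∧ β' ⬝ᵥ a = 0 ∧ β' l = 0 := by
  obtain ⟨j, hjl, -⟩ := sf_exists_ne_two hcard l l
  obtain ⟨k, hkl, hkj⟩ := sf_exists_ne_two hcard l j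
  by_cases haj : a j = 0
  · refine ⟨Pi.single j 1, ratV_single j F₀.one_mem, ?_, by simp [haj],
      by simp [Pi.single_apply, hjl.symm]⟩
    intro h
    have h1 := congrFun h j
    simp at h1
  · refine ⟨a k • Pi.single j 1 - a j • Pi.single k 1,
      ratV_sub (ratV_smul (ha k) (ratV_single j F₀.one_mem))
        (ratV_smul (ha j) (ratV_single k F₀.one_mem)), ?_, ?_, ?_⟩
    · intro h
      have h1 := congrFun h k
      simp [Pi.single_apply, hkj] at h1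
      exact haj h1
    · simp [sub_dotProduct, smul_dotProduct]
      ring
    · simp [Pi.single_apply, hjl.symm, hkl.symm]

/-! ### Overgroups whose elementary parameters all lie in the subfield -/

/-- The data: `M` contains the rational transvections, and every elementary transvection in `M`
has its parameter in the subfield. -/
structure SubfData (F₀ : Subfield F) (M : Subgroup (GL ι F)) : Prop where
  rat : ∀ a β : ι → F, ratV F₀ a → ratV F₀ β → β ⬝ᵥ a = 0 → slT a β ∈ M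
  elem : ∀ i j : ι, i ≠ j → ∀ c : F, slT (Pi.single i 1) (c • Pi.single j 1) ∈ M → c ∈ F₀
  card : 2 < Fintype.card ι

variable {M : Subgroup (GL ι F)}

theorem sf_A0 (hD : SubfData F₀ M) (i : ι) (φ : ι → F) (hφ : φ i = 0)
    (hT : slT (Pi.single i 1) φ ∈ M) : ratV F₀ φ := by
  intro l
  by_cases hl : l = i
  · rw [hl, hφ]
    exact F₀.zero_mem
  · obtain ⟨k, hki, hkl⟩ := sf_exists_ne_two hD.card i l
    have h1 : (Pi.single k (1 : F) : ι → F) ⬝ᵥ (Pi.single l 1) = 0 := by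
      simp [Pi.single_apply, hkl, hkl.symm]
    have h2 : φ ⬝ᵥ (Pi.single i 1) = 0 := by simp [hφ]
    have h3 : (Pi.single k (1 : F) : ι → F) ⬝ᵥ (Pi.single i 1) = 0 := by
      simp [Pi.single_apply, hki, hki.symm]
    have hc := slT_comm (Pi.single l 1) (Pi.single k 1) (Pi.single i 1) φ h1 h2 h3
    have ht1 : slT (Pi.single l (1 : F)) (Pi.single k 1) ∈ M :=
      hD.rat _ _ (ratV_single l F₀.one_mem) (ratV_single k F₀.one_mem) h1
    have hmem : slT (Pi.single i (1 : F)) (-(φ ⬝ᵥ Pi.single l 1) • Pi.single k 1) ∈ M := by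
      rw [← hc]
      exact M.mul_mem (M.mul_mem (M.mul_mem ht1 hT) (M.inv_mem ht1)) (M.inv_mem hT)
    have h4 := hD.elem i k (Ne.symm hki) _ hmem
    have h5 : φ ⬝ᵥ Pi.single l (1 : F) = φ l := by simp
    rw [h5] at h4
    have h6 := F₀.neg_mem h4
    rwa [neg_neg] at h6

theorem sf_A0' (hD : SubfData F₀ M) (i : ι) (u : ι → F) (hu : u i = 0)
    (hT : slT u (Pi.single i 1) ∈ M) : ratV F₀ u := by
  intro l
  by_cases hl : l = i
  · rw [hl, hu]
    exact F₀.zero_mem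
  · obtain ⟨k, hki, hkl⟩ := sf_exists_ne_two hD.card i l
    have h1 : (Pi.single i (1 : F) : ι → F) ⬝ᵥ u = 0 := by simp [hu]
    have h2 : (Pi.single l (1 : F) : ι → F) ⬝ᵥ (Pi.single k 1) = 0 := by
      simp [Pi.single_apply, hkl, hkl.symm]
    have h3 : (Pi.single i (1 : F) : ι → F) ⬝ᵥ (Pi.single k 1) = 0 := by
      simp [Pi.single_apply, hki, hki.symm]
    have hc := slT_comm u (Pi.single i 1) (Pi.single k 1) (Pi.single l 1) h1 h2 h3
    have ht2 : slT (Pi.single k (1 : F)) (Pi.single l 1) ∈ M :=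
      hD.rat _ _ (ratV_single k F₀.one_mem) (ratV_single l F₀.one_mem) h2
    have hmem : slT (Pi.single k (1 : F)) (-(Pi.single l (1 : F) ⬝ᵥ u) • Pi.single i 1) ∈ M := by
      rw [← hc]
      exact M.mul_mem (M.mul_mem (M.mul_mem hT ht2) (M.inv_mem hT)) (M.inv_mem ht2)
    have h4 := hD.elem k i hki _ hmem
    have h5 : (Pi.single l (1 : F) : ι → F) ⬝ᵥ u = u l := by simp
    rw [h5] at h4
    have h6 := F₀.neg_mem h4
    rwa [neg_neg] at h6

theorem sf_A (hD : SubfData F₀ M) (a : ι → F) (ha : ratV F₀ a) (ha0 : a ≠ 0) (ψ : ι → F)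
    (hψa : ψ ⬝ᵥ a = 0) (hT : slT a ψ ∈ M) : ratV F₀ ψ := by
  obtain ⟨j, hj⟩ : ∃ j, a j ≠ 0 := by
    by_contra h
    push Not at h
    exact ha0 (funext h)
  obtain ⟨y, hy⟩ : ∃ y, y = a j := ⟨_, rfl⟩
  have hy0 : y ≠ 0 := by rw [hy]; exact hj
  have hyF : y ∈ F₀ := by rw [hy]; exact ha j
  obtain ⟨v, hv⟩ : ∃ v : ι → F, v = y⁻¹ • a - Pi.single j 1 := ⟨_, rfl⟩
  have hvj : v j = 0 := by
    rw [hv, Pi.sub_apply, Pi.smul_apply, Pi.single_eq_same, smul_eq_mul, ← hy,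
      inv_mul_cancel₀ hy0, sub_self]
  have hvr : ratV F₀ v := by
    rw [hv]
    exact ratV_sub (ratV_smul (F₀.inv_mem hyF) ha) (ratV_single j F₀.one_mem)
  have hdot : (Pi.single j (1 : F) : ι → F) ⬝ᵥ v = 0 := by simp [hvj]
  have hgM : slT v (Pi.single j 1) ∈ M := hD.rat _ _ hvr (ratV_single j F₀.one_mem) hdot
  obtain ⟨g, hg⟩ : ∃ g, g = slT v (Pi.single j (1 : F)) := ⟨_, rfl⟩
  rw [← hg] at hgM
  have hge : (g : Matrix ι ι F) *ᵥ (Pi.single j 1) = y⁻¹ • a := by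
    rw [hg, slT_mulVec _ _ hdot, hv]
    simp
  have ha' : a = y • ((g : Matrix ι ι F) *ᵥ (Pi.single j 1)) := by
    rw [hge, smul_smul, mul_inv_cancel₀ hy0, one_smul]
  have h1 : ψ ⬝ᵥ ((g : Matrix ι ι F) *ᵥ (Pi.single j 1)) = 0 := by
    rw [hge, dotProduct_smul, hψa, smul_zero]
  have h2 : (y • ψ) ⬝ᵥ ((g : Matrix ι ι F) *ᵥ (Pi.single j 1)) = 0 := by
    rw [smul_dotProduct, h1, smul_zero]
  have e1 : slT a ψ = g * slT (Pi.single j 1) ((y • ψ) ᵥ* (g : Matrix ι ι F)) * g⁻¹ := by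
    rw [← slT_conj g _ _ h2, ← slT_smul_left y _ ψ h1, ← ha']
  have hmem : slT (Pi.single j (1 : F)) ((y • ψ) ᵥ* (g : Matrix ι ι F)) ∈ M := by
    have e2 : slT (Pi.single j (1 : F)) ((y • ψ) ᵥ* (g : Matrix ι ι F)) = g⁻¹ * slT a ψ * g := by
      rw [e1]; group
    rw [e2]
    exact M.mul_mem (M.mul_mem (M.inv_mem hgM) hT) hgM
  have hφ : (y • ψ) ᵥ* (g : Matrix ι ι F) = y • ψ + ((y • ψ) ⬝ᵥ v) • Pi.single j 1 := by
    rw [hg, slT_vecMul _ _ hdot]
  have hφj : ((y • ψ) ᵥ* (g : Matrix ι ι F)) j = 0 := by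
    have h3 := h2
    rw [Matrix.dotProduct_mulVec] at h3
    simpa using h3
  have hrat := sf_A0 hD j _ hφj hmem
  refine ratV_of_dot a ψ ha j hj hψa ?_
  intro l hl
  have h3 := hrat l
  rw [hφ, Pi.add_apply, Pi.smul_apply, Pi.smul_apply, Pi.single_eq_of_ne hl, smul_zero, add_zero,
    smul_eq_mul] at h3
  have h4 := F₀.mul_mem (F₀.inv_mem hyF) h3
  rwa [inv_mul_cancel_left₀ hy0] at h4

theorem sf_A' (hD : SubfData F₀ M) (β : ι → F) (hβ : ratV F₀ β) (hβ0 : β ≠ 0) (u : ι → F)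
    (hβu : β ⬝ᵥ u = 0) (hT : slT u β ∈ M) : ratV F₀ u := by
  obtain ⟨j, hj⟩ : ∃ j, β j ≠ 0 := by
    by_contra h
    push Not at h
    exact hβ0 (funext h)
  obtain ⟨y, hy⟩ : ∃ y, y = β j := ⟨_, rfl⟩
  have hy0 : y ≠ 0 := by rw [hy]; exact hj
  have hyF : y ∈ F₀ := by rw [hy]; exact hβ j
  obtain ⟨φ₀, hφ₀⟩ : ∃ φ₀ : ι → F, φ₀ = y⁻¹ • β - Pi.single j 1 := ⟨_, rfl⟩
  have hφ₀j : φ₀ j = 0 := by
    rw [hφ₀, Pi.sub_apply, Pi.smul_apply, Pi.single_eq_same, smul_eq_mul, ← hy,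
      inv_mul_cancel₀ hy0, sub_self]
  have hφ₀r : ratV F₀ φ₀ := by
    rw [hφ₀]
    exact ratV_sub (ratV_smul (F₀.inv_mem hyF) hβ) (ratV_single j F₀.one_mem)
  have hdot : φ₀ ⬝ᵥ (Pi.single j (1 : F) : ι → F) = 0 := by simp [hφ₀j]
  have hgM : slT (Pi.single j 1) φ₀ ∈ M := hD.rat _ _ (ratV_single j F₀.one_mem) hφ₀r hdot
  obtain ⟨g, hg⟩ : ∃ g, g = slT (Pi.single j (1 : F)) φ₀ := ⟨_, rfl⟩
  rw [← hg] at hgM
  have hrow : (y • Pi.single j (1 : F)) ᵥ* (g : Matrix ι ι F) = β := by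
    have hdd : (y • Pi.single j (1 : F)) ⬝ᵥ (Pi.single j (1 : F) : ι → F) = y := by simp
    rw [hg, slT_vecMul _ _ hdot, hdd, hφ₀]
    funext l
    simp only [Pi.add_apply, Pi.smul_apply, Pi.sub_apply, smul_eq_mul]
    rw [mul_sub, mul_inv_cancel_left₀ hy0]
    ring
  have hgu : (g : Matrix ι ι F) *ᵥ u = u + (φ₀ ⬝ᵥ u) • Pi.single j 1 := by
    rw [hg, slT_mulVec _ _ hdot]
  have h1 : (y • Pi.single j (1 : F)) ⬝ᵥ ((g : Matrix ι ι F) *ᵥ u) = 0 := by
    rw [Matrix.dotProduct_mulVec, hrow, hβu]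
  have h1' : (Pi.single j (1 : F) : ι → F) ⬝ᵥ ((g : Matrix ι ι F) *ᵥ u) = 0 := by
    have h2 := h1
    rw [smul_dotProduct, smul_eq_mul] at h2
    exact (mul_eq_zero.mp h2).resolve_left hy0
  have e1 : slT ((g : Matrix ι ι F) *ᵥ u) (y • Pi.single j 1) = g * slT u β * g⁻¹ := by
    rw [slT_conj g u _ h1, hrow]
  have hmem : slT ((g : Matrix ι ι F) *ᵥ u) (y • Pi.single j 1) ∈ M := by
    rw [e1]
    exact M.mul_mem (M.mul_mem hgM hT) (M.inv_mem hgM)
  rw [← slT_smul_left y _ _ h1'] at hmem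
  have hj0 : (y • ((g : Matrix ι ι F) *ᵥ u)) j = 0 := by
    have h2 : ((g : Matrix ι ι F) *ᵥ u) j = 0 := by simpa using h1'
    rw [Pi.smul_apply, h2, smul_zero]
  have hrat := sf_A0' hD j _ hj0 hmem
  refine ratV_of_dot β u hβ j hj (by rw [dotProduct_comm]; exact hβu) ?_
  intro l hl
  have h3 := hrat l
  rw [Pi.smul_apply, hgu, Pi.add_apply, Pi.smul_apply, Pi.single_eq_of_ne hl, smul_zero, add_zero,
    smul_eq_mul] at h3
  have h4 := F₀.mul_mem (F₀.inv_mem hyF) h3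
  rwa [inv_mul_cancel_left₀ hy0] at h4

theorem sf_B (hD : SubfData F₀ M) (i : ι) (u ψ : ι → F) (hψu : ψ ⬝ᵥ u = 0) (hu0 : u ≠ 0)
    (hψ0 : ψ ≠ 0) (hui : u i = 0) (hT : slT u ψ ∈ M) :
    ∃ μ : F, μ ≠ 0 ∧ ratV F₀ (μ • u) ∧ ratV F₀ (μ⁻¹ • ψ) := by
  have hei : (Pi.single i (1 : F) : ι → F) ⬝ᵥ u = 0 := by simp [hui]
  by_cases hcase : ∃ l, l ≠ i ∧ ψ l ≠ 0
  · obtain ⟨l, hli, hψl⟩ := hcase
    have h1 : (Pi.single i (1 : F) : ι → F) ⬝ᵥ (Pi.single l 1) = 0 := by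
      simp [Pi.single_apply, hli, hli.symm]
    have ht1 : slT (Pi.single l (1 : F)) (Pi.single i 1) ∈ M :=
      hD.rat _ _ (ratV_single l F₀.one_mem) (ratV_single i F₀.one_mem) h1
    have hc := slT_comm (Pi.single l 1) (Pi.single i 1) u ψ h1 hψu hei
    have hmem : slT u (-(ψ ⬝ᵥ Pi.single l 1) • Pi.single i 1) ∈ M := by
      rw [← hc]
      exact M.mul_mem (M.mul_mem (M.mul_mem ht1 hT) (M.inv_mem ht1)) (M.inv_mem hT)
    have h5 : ψ ⬝ᵥ Pi.single l (1 : F) = ψ l := by simp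
    rw [h5] at hmem
    obtain ⟨c, hc'⟩ : ∃ c, c = -ψ l := ⟨_, rfl⟩
    rw [← hc'] at hmem
    have hc0 : c ≠ 0 := by rw [hc']; exact neg_ne_zero.mpr hψl
    rw [← slT_smul_left c u _ hei] at hmem
    have hcu : ratV F₀ (c • u) := sf_A0' hD i (c • u) (by rw [Pi.smul_apply, hui, smul_zero]) hmem
    refine ⟨c, hc0, hcu, ?_⟩
    have e : slT u ψ = slT (c • u) (c⁻¹ • ψ) := by
      rw [slT_smul_left c u (c⁻¹ • ψ) (by rw [smul_dotProduct, hψu, smul_zero]), smul_smul,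
        mul_inv_cancel₀ hc0, one_smul]
    rw [e] at hT
    exact sf_A hD (c • u) hcu (smul_ne_zero hc0 hu0) (c⁻¹ • ψ)
      (by rw [smul_dotProduct, dotProduct_smul, hψu, smul_zero, smul_zero]) hT
  · push Not at hcase
    obtain ⟨d, hd⟩ : ∃ d, d = ψ i := ⟨_, rfl⟩
    have hψeq : ψ = d • Pi.single i 1 := by
      funext l
      by_cases hl : l = i
      · subst hl
        simp [hd]
      · simp [hcase l hl, Pi.single_apply, hl]
    have hd0 : d ≠ 0 := fun h => hψ0 (by rw [hψeq, h, zero_smul])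
    rw [hψeq, ← slT_smul_left d u _ hei] at hT
    have hcu := sf_A0' hD i (d • u) (by rw [Pi.smul_apply, hui, smul_zero]) hT
    refine ⟨d, hd0, hcu, ?_⟩
    rw [hψeq, smul_smul, inv_mul_cancel₀ hd0, one_smul]
    exact ratV_single i F₀.one_mem

theorem sf_B' (hD : SubfData F₀ M) (a : ι → F) (ha : ratV F₀ a) (ha0 : a ≠ 0) (u ψ : ι → F)
    (hψu : ψ ⬝ᵥ u = 0) (hu0 : u ≠ 0) (hψ0 : ψ ≠ 0) (hψa : ψ ⬝ᵥ a = 0) (hT : slT u ψ ∈ M) :
    ∃ μ : F, μ ≠ 0 ∧ ratV F₀ (μ • u) ∧ ratV F₀ (μ⁻¹ • ψ) := by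
  obtain ⟨j, hj⟩ : ∃ j, a j ≠ 0 := by
    by_contra h
    push Not at h
    exact ha0 (funext h)
  by_cases hcase : ∃ l, a j * u l - a l * u j ≠ 0
  · obtain ⟨l, hl⟩ := hcase
    obtain ⟨β', hβ'⟩ : ∃ β' : ι → F, β' = a j • Pi.single l 1 - a l • Pi.single j 1 := ⟨_, rfl⟩
    have hβ'r : ratV F₀ β' := by
      rw [hβ']
      exact ratV_sub (ratV_smul (ha j) (ratV_single l F₀.one_mem))
        (ratV_smul (ha l) (ratV_single j F₀.one_mem))
    have hβ'a : β' ⬝ᵥ a = 0 := by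
      rw [hβ']
      simp [sub_dotProduct, smul_dotProduct]
      ring
    have hβ'u : β' ⬝ᵥ u = a j * u l - a l * u j := by
      rw [hβ']
      simp [sub_dotProduct, smul_dotProduct]
    have ht2 : slT a β' ∈ M := hD.rat a β' ha hβ'r hβ'a
    have hc := slT_comm u ψ a β' hψu hβ'a hψa
    have hmem : slT a (-(β' ⬝ᵥ u) • ψ) ∈ M := by
      rw [← hc]
      exact M.mul_mem (M.mul_mem (M.mul_mem hT ht2) (M.inv_mem hT)) (M.inv_mem ht2)
    obtain ⟨c, hc'⟩ : ∃ c, c = -(β' ⬝ᵥ u) := ⟨_, rfl⟩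
    rw [← hc'] at hmem
    have hc0 : c ≠ 0 := by rw [hc', hβ'u]; exact neg_ne_zero.mpr hl
    have hcψ : ratV F₀ (c • ψ) :=
      sf_A hD a ha ha0 (c • ψ) (by rw [smul_dotProduct, hψa, smul_zero]) hmem
    refine ⟨c⁻¹, inv_ne_zero hc0, ?_, by rwa [inv_inv]⟩
    have e : slT u ψ = slT (c⁻¹ • u) (c • ψ) := by
      rw [← slT_smul_left c (c⁻¹ • u) ψ (by rw [dotProduct_smul, hψu, smul_zero]), smul_smul,
        mul_inv_cancel₀ hc0, one_smul]
    rw [e] at hT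
    exact sf_A' hD (c • ψ) hcψ (smul_ne_zero hc0 hψ0) (c⁻¹ • u)
      (by rw [smul_dotProduct, dotProduct_smul, hψu, smul_zero, smul_zero]) hT
  · push Not at hcase
    obtain ⟨μ', hμ'⟩ : ∃ μ' : F, μ' = u j / a j := ⟨_, rfl⟩
    have hu : u = μ' • a := by
      funext l
      have h1 := hcase l
      rw [Pi.smul_apply, smul_eq_mul, hμ']
      field_simp
      linear_combination h1
    have hμ'0 : μ' ≠ 0 := fun h => hu0 (by rw [hu, h, zero_smul])
    rw [hu, slT_smul_left μ' a ψ hψa] at hT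
    have hψr := sf_A hD a ha ha0 (μ' • ψ) (by rw [smul_dotProduct, hψa, smul_zero]) hT
    refine ⟨μ'⁻¹, inv_ne_zero hμ'0, ?_, by rwa [inv_inv]⟩
    rw [hu, smul_smul, inv_mul_cancel₀ hμ'0, one_smul]
    exact ha

theorem sf_mulVec_single (A : Matrix ι ι F) (l k : ι) : (A *ᵥ Pi.single l 1) k = A k l := by
  simp

/-- An element of `M` mapping a rational vector into a coordinate hyperplane is rational up to a
scalar. -/
theorem sf_C (hD : SubfData F₀ M) (g : GL ι F) (hg : g ∈ M) (a : ι → F) (ha : ratV F₀ a)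
    (ha0 : a ≠ 0) (i : ι) (hi : ((g : Matrix ι ι F) *ᵥ a) i = 0) :
    ∃ ζ : F, ζ ≠ 0 ∧ ∀ k l, ζ * (g : Matrix ι ι F) k l ∈ F₀ := by
  obtain ⟨u, hu⟩ : ∃ u, u = (g : Matrix ι ι F) *ᵥ a := ⟨_, rfl⟩
  rw [← hu] at hi
  have hinj : ∀ x : ι → F, (g : Matrix ι ι F) *ᵥ x = 0 → x = 0 := by
    intro x hx
    have h1 := gl_inv_mulVec_mulVec g x
    rw [hx, Matrix.mulVec_zero] at h1
    exact h1.symm
  have hu0 : u ≠ 0 := fun h => ha0 (hinj a (by rw [← hu]; exact h))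
  have hginv : ∀ β' : ι → F, (β' ᵥ* ((g⁻¹ : GL ι F) : Matrix ι ι F)) ᵥ* (g : Matrix ι ι F) = β' := by
    intro β'
    rw [Matrix.vecMul_vecMul, ← Units.val_mul, inv_mul_cancel, Units.val_one, Matrix.vecMul_one]
  have hne : ∀ β' : ι → F, β' ≠ 0 → β' ᵥ* ((g⁻¹ : GL ι F) : Matrix ι ι F) ≠ 0 := by
    intro β' hβ' h
    apply hβ'
    rw [← hginv β', h, Matrix.zero_vecMul]
  have step1 : ∀ β' : ι → F, ratV F₀ β' → β' ≠ 0 → β' ⬝ᵥ a = 0 →
      ∃ μ : F, μ ≠ 0 ∧ ratV F₀ (μ • u) ∧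
        ratV F₀ (μ⁻¹ • (β' ᵥ* ((g⁻¹ : GL ι F) : Matrix ι ι F))) := by
    intro β' hβ'r hβ'0 hβ'a
    obtain ⟨ψ, hψ⟩ : ∃ ψ, ψ = β' ᵥ* ((g⁻¹ : GL ι F) : Matrix ι ι F) := ⟨_, rfl⟩
    have hψg : ψ ᵥ* (g : Matrix ι ι F) = β' := by rw [hψ]; exact hginv β'
    have hψu : ψ ⬝ᵥ u = 0 := by rw [hu, Matrix.dotProduct_mulVec, hψg, hβ'a]
    have hψ0 : ψ ≠ 0 := by rw [hψ]; exact hne β' hβ'0
    have hT : slT u ψ ∈ M := by
      rw [hu, slT_conj g a ψ (by rw [← hu]; exact hψu), hψg]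
      exact M.mul_mem (M.mul_mem hg (hD.rat a β' ha hβ'r hβ'a)) (M.inv_mem hg)
    rw [← hψ]
    exact sf_B hD i u ψ hψu hu0 hψ0 hi hT
  obtain ⟨β₀, hβ₀r, hβ₀0, hβ₀a, -⟩ := exists_rat_perp hD.card a ha i
  obtain ⟨μ₀, hμ₀0, hμ₀u, -⟩ := step1 β₀ hβ₀r hβ₀0 hβ₀a
  refine ⟨μ₀, hμ₀0, fun k l => ?_⟩
  obtain ⟨β', hβ'r, hβ'0, hβ'a, hβ'l⟩ := exists_rat_perp hD.card a ha l
  obtain ⟨μ, hμ0, hμu, hμψ⟩ := step1 β' hβ'r hβ'0 hβ'a
  obtain ⟨k₀, hk₀⟩ : ∃ k₀, u k₀ ≠ 0 := by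
    by_contra h
    push Not at h
    exact hu0 (funext h)
  have hratio : μ₀ * μ⁻¹ ∈ F₀ := by
    have h1 := hμ₀u k₀
    have h2 := hμu k₀
    have h3 := F₀.mul_mem h1 (F₀.inv_mem h2)
    have e : (μ₀ • u) k₀ * ((μ • u) k₀)⁻¹ = μ₀ * μ⁻¹ := by
      rw [Pi.smul_apply, Pi.smul_apply, smul_eq_mul, smul_eq_mul]
      field_simp
    rwa [e] at h3
  obtain ⟨ψ, hψ⟩ : ∃ ψ, ψ = β' ᵥ* ((g⁻¹ : GL ι F) : Matrix ι ι F) := ⟨_, rfl⟩
  rw [← hψ] at hμψ
  have hψg : ψ ᵥ* (g : Matrix ι ι F) = β' := by rw [hψ]; exact hginv β'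
  have hψ0 : ψ ≠ 0 := by rw [hψ]; exact hne β' hβ'0
  obtain ⟨β'', hβ''⟩ : ∃ β'', β'' = μ⁻¹ • ψ := ⟨_, rfl⟩
  rw [← hβ''] at hμψ
  have hψeq : ψ = μ • β'' := by rw [hβ'', smul_smul, mul_inv_cancel₀ hμ0, one_smul]
  have hβ''0 : β'' ≠ 0 := by
    intro h
    apply hψ0
    rw [hψeq, h, smul_zero]
  obtain ⟨a'', ha''r, ha''0, ha''β, -⟩ := exists_rat_perp hD.card β'' hμψ l
  have hψa'' : ψ ⬝ᵥ a'' = 0 := by
    rw [hψeq, smul_dotProduct, dotProduct_comm, ha''β, smul_zero]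
  obtain ⟨el, hel⟩ : ∃ el : ι → F, el = Pi.single l 1 := ⟨_, rfl⟩
  have helr : ratV F₀ el := by rw [hel]; exact ratV_single l F₀.one_mem
  have hβ'el : β' ⬝ᵥ el = 0 := by rw [hel]; simp [hβ'l]
  have hψgel : ψ ⬝ᵥ ((g : Matrix ι ι F) *ᵥ el) = 0 := by
    rw [Matrix.dotProduct_mulVec, hψg, hβ'el]
  have hT : slT ((g : Matrix ι ι F) *ᵥ el) ψ ∈ M := by
    rw [slT_conj g el ψ hψgel, hψg]
    exact M.mul_mem (M.mul_mem hg (hD.rat el β' helr hβ'r hβ'el)) (M.inv_mem hg)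
  have hel0 : el ≠ 0 := by
    intro h
    have h1 := congrFun h l
    rw [hel] at h1
    simp at h1
  have hgel0 : (g : Matrix ι ι F) *ᵥ el ≠ 0 := fun h => hel0 (hinj el h)
  obtain ⟨μ'', hμ''0, hμ''u, hμ''ψ⟩ :=
    sf_B' hD a'' ha''r ha''0 _ ψ hψgel hgel0 hψ0 hψa'' hT
  obtain ⟨k₁, hk₁⟩ : ∃ k₁, β'' k₁ ≠ 0 := by
    by_contra h
    push Not at h
    exact hβ''0 (funext h)
  have hr2 : μ * μ''⁻¹ ∈ F₀ := by
    have h1 := hμ''ψ k₁
    have h2 := hμψ k₁
    have h3 := F₀.mul_mem h1 (F₀.inv_mem h2)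
    have e : (μ''⁻¹ • ψ) k₁ * (β'' k₁)⁻¹ = μ * μ''⁻¹ := by
      rw [hψeq, Pi.smul_apply, Pi.smul_apply, smul_eq_mul, smul_eq_mul]
      field_simp
    rwa [e] at h3
  have h3 := hμ''u k
  rw [Pi.smul_apply, smul_eq_mul, hel, sf_mulVec_single] at h3
  have h4 := F₀.mul_mem (F₀.mul_mem hratio hr2) h3
  have e : μ₀ * μ⁻¹ * (μ * μ''⁻¹) * (μ'' * (g : Matrix ι ι F) k l) =
      μ₀ * (g : Matrix ι ι F) k l := by
    field_simp
  rwa [e] at h4

/-- The final contradiction: an element of `M` with no "rational zero" cannot exist. -/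
theorem sf_final [Finite F] (hD : SubfData F₀ M) (i0 i1 i2 i3 : ι) (h01 : i0 ≠ i1)
    (h02 : i0 ≠ i2) (h03 : i0 ≠ i3) (h12 : i1 ≠ i2) (h13 : i1 ≠ i3) (h23 : i2 ≠ i3)
    (h : GL ι F) (hh : h ∈ M)
    (F1 : ∀ a : ι → F, ratV F₀ a → a ≠ 0 → ∀ i, ((h : Matrix ι ι F) *ᵥ a) i ≠ 0)
    (F2 : ∀ a : ι → F, ratV F₀ a → a ≠ 0 →
      ∀ i, (((h⁻¹ : GL ι F) : Matrix ι ι F) *ᵥ a) i ≠ 0) : False := by
  obtain ⟨G, hG⟩ : ∃ G : Matrix ι ι F, G = ((h⁻¹ : GL ι F) : Matrix ι ι F) := ⟨_, rfl⟩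
  obtain ⟨H, hH⟩ : ∃ H : Matrix ι ι F, H = (h : Matrix ι ι F) := ⟨_, rfl⟩
  have hGH : G * H = 1 := by rw [hG, hH, ← Units.val_mul, inv_mul_cancel, Units.val_one]
  have hsingle0 : ∀ l : ι, (Pi.single l (1 : F) : ι → F) ≠ 0 := fun l hl => by
    have h1 := congrFun hl l
    simp at h1
  have hGne : ∀ k l, G k l ≠ 0 := fun k l => by
    have h1 := F2 (Pi.single l 1) (ratV_single l F₀.one_mem) (hsingle0 l) k
    rwa [← hG, sf_mulVec_single] at h1
  have hHne : ∀ k l, H k l ≠ 0 := fun k l => by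
    have h1 := F1 (Pi.single l 1) (ratV_single l F₀.one_mem) (hsingle0 l) k
    rwa [← hH, sf_mulVec_single] at h1
  have hG00 := hGne i0 i0
  obtain ⟨j, hj0, hj1, hminor⟩ :
      ∃ j, j ≠ i0 ∧ j ≠ i1 ∧ G i0 i0 * G i3 j - G i3 i0 * G i0 j ≠ 0 := by
    by_contra hall
    push Not at hall
    have hall' : ∀ j, j ≠ i1 → G i0 i0 * G i3 j - G i3 i0 * G i0 j = 0 := by
      intro j hj
      by_cases hj0 : j = i0
      · rw [hj0]; ring
      · exact hall j hj0 hj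
    have key : ∀ m, G i0 i0 * (1 : Matrix ι ι F) i3 m - G i3 i0 * (1 : Matrix ι ι F) i0 m =
        (G i0 i0 * G i3 i1 - G i3 i0 * G i0 i1) * H i1 m := by
      intro m
      rw [← hGH, Matrix.mul_apply, Matrix.mul_apply, Finset.mul_sum, Finset.mul_sum,
        ← Finset.sum_sub_distrib, Finset.sum_eq_single i1]
      · ring
      · intro j _ hj
        have h1 := hall' j hj
        linear_combination (H j m) * h1
      · intro hnot
        exact absurd (Finset.mem_univ i1) hnot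
    have k2 := key i2
    rw [Matrix.one_apply_ne h23.symm, Matrix.one_apply_ne h02, mul_zero, mul_zero, sub_zero] at k2
    have hx : G i0 i0 * G i3 i1 - G i3 i0 * G i0 i1 = 0 := by
      rcases mul_eq_zero.mp k2.symm with h' | h'
      · exact h'
      · exact absurd h' (hHne i1 i2)
    have k3 := key i3
    rw [Matrix.one_apply_eq, Matrix.one_apply_ne h03, mul_zero, mul_one, sub_zero, hx,
      zero_mul] at k3
    exact hG00 k3
  obtain ⟨y, hy⟩ : ∃ y : F, y = G i0 j / G i0 i0 := ⟨_, rfl⟩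
  obtain ⟨a, ha⟩ : ∃ a : ι → F, a = Pi.single i0 1 := ⟨_, rfl⟩
  obtain ⟨β, hβ⟩ : ∃ β : ι → F, β = Pi.single i1 1 := ⟨_, rfl⟩
  obtain ⟨ψ, hψ⟩ : ∃ ψ : ι → F, ψ = (Pi.single i0 1) ᵥ* G := ⟨_, rfl⟩
  have har : ratV F₀ a := by rw [ha]; exact ratV_single i0 F₀.one_mem
  have ha0 : a ≠ 0 := by rw [ha]; exact hsingle0 i0
  have hβr : ratV F₀ β := by rw [hβ]; exact ratV_single i1 F₀.one_mem
  have hψH : ψ ᵥ* H = Pi.single i0 1 := by
    rw [hψ, Matrix.vecMul_vecMul, hGH, Matrix.vecMul_one]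
  have hψdot : ∀ x : ι → F, ψ ⬝ᵥ x = (G *ᵥ x) i0 := by
    intro x
    rw [hψ, ← Matrix.dotProduct_mulVec]
    simp
  have hβdot : ∀ x : ι → F, β ⬝ᵥ x = x i1 := by
    intro x
    rw [hβ]
    simp
  have hβa : β ⬝ᵥ a = 0 := by
    rw [hβdot, ha, Pi.single_eq_of_ne h01.symm]
  have hc : ψ ⬝ᵥ a ≠ 0 := by
    rw [hψdot, ha, sf_mulVec_single]
    exact hG00
  have hta : slT a β ∈ M := hD.rat a β har hβr hβa
  have stepm : ∀ m, m ≠ i0 → m ≠ i3 → ∃ ζ ν : F, ζ ≠ 0 ∧ ζ * ν ∈ F₀ ∧ ν ≠ 0 ∧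
      (∀ k, k ≠ m → ζ * (G k j - y * G k i0) ∈ F₀) ∧
      ζ * (G m j - y * G m i0 + y * ν) ∈ F₀ := by
    intro m hm0 hm3
    obtain ⟨em, hem⟩ : ∃ em : ι → F, em = Pi.single m 1 := ⟨_, rfl⟩
    have hemr : ratV F₀ em := by rw [hem]; exact ratV_single m F₀.one_mem
    obtain ⟨u, hu⟩ : ∃ u, u = H *ᵥ em := ⟨_, rfl⟩
    have hGu : G *ᵥ u = em := by rw [hu, Matrix.mulVec_mulVec, hGH, Matrix.one_mulVec]
    have hψu : ψ ⬝ᵥ u = 0 := by
      rw [hψdot, hGu, hem, Pi.single_eq_of_ne hm0.symm]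
    have hb : β ⬝ᵥ u ≠ 0 := by
      rw [hβdot, hu, hem, sf_mulVec_single]
      exact hHne i1 m
    have hk : slT u ψ ∈ M := by
      have h1 : ψ ⬝ᵥ ((h : Matrix ι ι F) *ᵥ em) = 0 := by rw [← hH, ← hu]; exact hψu
      have h2 : (Pi.single i0 (1 : F) : ι → F) ⬝ᵥ em = 0 := by
        rw [hem]
        simp [Pi.single_apply, hm0, hm0.symm]
      rw [hu, hH, slT_conj h em ψ h1, ← hH, hψH]
      exact M.mul_mem (M.mul_mem hh (hD.rat em _ hemr (ratV_single i0 F₀.one_mem) h2))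
        (M.inv_mem hh)
    obtain ⟨w, hwM, ν, hν0, hwa, hwfix⟩ := transv_conj_exists M a β u ψ hβa hψu hb hc hta hk
    obtain ⟨g, hg⟩ : ∃ g : GL ι F, g = h⁻¹ * w := ⟨_, rfl⟩
    have hgM : g ∈ M := by rw [hg]; exact M.mul_mem (M.inv_mem hh) hwM
    have hgx : ∀ x, (g : Matrix ι ι F) *ᵥ x = G *ᵥ ((w : Matrix ι ι F) *ᵥ x) := by
      intro x
      rw [hg, Units.val_mul, ← Matrix.mulVec_mulVec, hG]
    have hga : (g : Matrix ι ι F) *ᵥ a = ν • em := by
      rw [hgx, hwa, Matrix.mulVec_smul, hGu]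
    have hga3 : ((g : Matrix ι ι F) *ᵥ a) i3 = 0 := by
      rw [hga, hem, Pi.smul_apply, Pi.single_eq_of_ne hm3.symm, smul_zero]
    obtain ⟨ζ, hζ0, hζ⟩ := sf_C hD g hgM a har ha0 i3 hga3
    have hcol0 : ∀ k, (g : Matrix ι ι F) k i0 = ν * em k := by
      intro k
      have h1 := congrFun hga k
      rwa [ha, sf_mulVec_single, Pi.smul_apply, smul_eq_mul] at h1
    obtain ⟨x, hx⟩ : ∃ x : ι → F, x = Pi.single j 1 - y • a := ⟨_, rfl⟩
    have hβx : β ⬝ᵥ x = 0 := by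
      rw [hβdot, hx, ha, Pi.sub_apply, Pi.smul_apply, Pi.single_eq_of_ne hj1.symm,
        Pi.single_eq_of_ne h01.symm, smul_zero, sub_zero]
    have hGx : ∀ k, (G *ᵥ x) k = G k j - y * G k i0 := by
      intro k
      rw [hx, Matrix.mulVec_sub, Matrix.mulVec_smul, Pi.sub_apply, Pi.smul_apply,
        sf_mulVec_single, ha, sf_mulVec_single, smul_eq_mul]
    have hψx : ψ ⬝ᵥ x = 0 := by
      rw [hψdot, hGx, hy, div_mul_cancel₀ _ hG00, sub_self]
    have hwx := hwfix x hβx hψx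
    have hgxx : (g : Matrix ι ι F) *ᵥ x = G *ᵥ x := by rw [hgx, hwx]
    have hcolj : ∀ k, (g : Matrix ι ι F) k j = G k j - y * G k i0 + y * (ν * em k) := by
      intro k
      have e1 : (Pi.single j (1 : F) : ι → F) = x + y • a := by rw [hx]; abel
      have h1 : (g : Matrix ι ι F) *ᵥ (Pi.single j 1) = G *ᵥ x + y • (ν • em) := by
        rw [e1, Matrix.mulVec_add, Matrix.mulVec_smul, hgxx, hga]
      have h2 := congrFun h1 k
      rw [sf_mulVec_single, Pi.add_apply, hGx, Pi.smul_apply, Pi.smul_apply, smul_eq_mul,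
        smul_eq_mul] at h2
      exact h2
    refine ⟨ζ, ν, hζ0, ?_, hν0, ?_, ?_⟩
    · have h1 := hζ m i0
      rw [hcol0, hem, Pi.single_eq_same, mul_one] at h1
      exact h1
    · intro k hk
      have h1 := hζ k j
      rw [hcolj, hem, Pi.single_eq_of_ne hk, mul_zero, mul_zero, add_zero] at h1
      exact h1
    · have h1 := hζ m j
      rw [hcolj, hem, Pi.single_eq_same, mul_one] at h1
      exact h1
  obtain ⟨ζ₁, ν₁, hζ₁0, hζν₁, hν₁0, hA1, hB1⟩ := stepm i1 h01.symm h13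
  obtain ⟨ζ₂, ν₂, hζ₂0, hζν₂, hν₂0, hA2, hB2⟩ := stepm i2 h02.symm h23
  have hD3 : G i3 j - y * G i3 i0 ≠ 0 := by
    intro h0
    apply hminor
    have e : G i0 i0 * G i3 j - G i3 i0 * G i0 j = G i0 i0 * (G i3 j - y * G i3 i0) := by
      rw [hy]
      field_simp
    rw [e, h0, mul_zero]
  have h1 := hA1 i3 h13.symm
  have h2 := hA2 i3 h23.symm
  have hratio : ζ₁ * ζ₂⁻¹ ∈ F₀ := by
    have h3 := F₀.mul_mem h1 (F₀.inv_mem h2)
    have e : ζ₁ * (G i3 j - y * G i3 i0) * (ζ₂ * (G i3 j - y * G i3 i0))⁻¹ = ζ₁ * ζ₂⁻¹ := by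
      field_simp
    rwa [e] at h3
  have h3 := hA2 i1 h12
  have h4 : ζ₁ * (G i1 j - y * G i1 i0) ∈ F₀ := by
    have h5 := F₀.mul_mem hratio h3
    have e : ζ₁ * ζ₂⁻¹ * (ζ₂ * (G i1 j - y * G i1 i0)) = ζ₁ * (G i1 j - y * G i1 i0) := by
      field_simp
    rwa [e] at h5
  have h5 : ζ₁ * (y * ν₁) ∈ F₀ := by
    have h6 := F₀.sub_mem hB1 h4
    have e : ζ₁ * (G i1 j - y * G i1 i0 + y * ν₁) - ζ₁ * (G i1 j - y * G i1 i0) =
        ζ₁ * (y * ν₁) := by ring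
    rwa [e] at h6
  have hyF : y ∈ F₀ := by
    have h6 := F₀.mul_mem h5 (F₀.inv_mem hζν₁)
    have e : ζ₁ * (y * ν₁) * (ζ₁ * ν₁)⁻¹ = y := by field_simp
    rwa [e] at h6
  have hxr : ratV F₀ (Pi.single j 1 - y • Pi.single i0 (1 : F) : ι → F) :=
    ratV_sub (ratV_single j F₀.one_mem) (ratV_smul hyF (ratV_single i0 F₀.one_mem))
  have hx0 : (Pi.single j 1 - y • Pi.single i0 (1 : F) : ι → F) ≠ 0 := by
    intro h0
    have h6 := congrFun h0 j
    rw [Pi.sub_apply, Pi.smul_apply, Pi.single_eq_same, Pi.single_eq_of_ne hj0, smul_zero,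
      sub_zero] at h6
    exact one_ne_zero h6
  apply F2 _ hxr hx0 i0
  rw [← hG, Matrix.mulVec_sub, Matrix.mulVec_smul, Pi.sub_apply, Pi.smul_apply, sf_mulVec_single,
    sf_mulVec_single, hy, smul_eq_mul, div_mul_cancel₀ _ hG00, sub_self]

/-! ### Elementary transvections -/

theorem sf_single_dot (i j : ι) (hij : i ≠ j) (c : F) :
    (c • Pi.single j (1 : F) : ι → F) ⬝ᵥ Pi.single i 1 = 0 := by
  simp [Pi.single_apply, hij, hij.symm]

theorem sf_elem_col (M : Subgroup (GL ι F))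
    (hS : ∀ i j : ι, i ≠ j → slT (Pi.single i (1 : F)) (Pi.single j 1) ∈ M)
    (i j k : ι) (hij : i ≠ j) (hik : i ≠ k) (hjk : j ≠ k) (c : F)
    (h : slT (Pi.single i 1) (c • Pi.single j 1) ∈ M) :
    slT (Pi.single i 1) (c • Pi.single k 1) ∈ M := by
  have h1 : (Pi.single k (1 : F) : ι → F) ⬝ᵥ Pi.single j 1 = 0 := by
    simp [Pi.single_apply, hjk, hjk.symm]
  have h2 := sf_single_dot i j hij c
  have h3 : (Pi.single k (1 : F) : ι → F) ⬝ᵥ Pi.single i 1 = 0 := by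
    simp [Pi.single_apply, hik, hik.symm]
  have hc := slT_comm (Pi.single j 1) (Pi.single k 1) (Pi.single i 1) (c • Pi.single j 1) h1 h2 h3
  have h4 : (c • Pi.single j (1 : F) : ι → F) ⬝ᵥ Pi.single j 1 = c := by simp
  rw [h4] at hc
  have hmem : slT (Pi.single i (1 : F)) (-c • Pi.single k 1) ∈ M := by
    rw [← hc]
    exact M.mul_mem (M.mul_mem (M.mul_mem (hS j k hjk) h) (M.inv_mem (hS j k hjk))) (M.inv_mem h)
  have h5 := M.inv_mem hmem
  rw [slT_inv _ _ (sf_single_dot i k hik (-c)), neg_smul, neg_neg] at h5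
  exact h5

theorem sf_elem_row (M : Subgroup (GL ι F))
    (hS : ∀ i j : ι, i ≠ j → slT (Pi.single i (1 : F)) (Pi.single j 1) ∈ M)
    (i j k : ι) (hij : i ≠ j) (hik : i ≠ k) (hjk : j ≠ k) (c : F)
    (h : slT (Pi.single i 1) (c • Pi.single j 1) ∈ M) :
    slT (Pi.single k 1) (c • Pi.single j 1) ∈ M := by
  have h1 := sf_single_dot i j hij c
  have h2 : (Pi.single i (1 : F) : ι → F) ⬝ᵥ Pi.single k 1 = 0 := by
    simp [Pi.single_apply, hik, hik.symm]
  have h3 := sf_single_dot k j hjk.symm c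
  have hc := slT_comm (Pi.single i 1) (c • Pi.single j 1) (Pi.single k 1) (Pi.single i 1) h1 h2 h3
  have h4 : (Pi.single i (1 : F) : ι → F) ⬝ᵥ Pi.single i 1 = 1 := by simp
  rw [h4] at hc
  have hmem : slT (Pi.single k (1 : F)) (-(1 : F) • (c • Pi.single j 1)) ∈ M := by
    rw [← hc]
    exact M.mul_mem (M.mul_mem (M.mul_mem h (hS k i hik.symm)) (M.inv_mem h))
      (M.inv_mem (hS k i hik.symm))
  have h5 := M.inv_mem hmem
  rw [neg_smul, one_smul, slT_inv _ _ (by rw [neg_dotProduct, h3, neg_zero]), neg_neg] at h5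
  exact h5

theorem sf_elem_all (M : Subgroup (GL ι F))
    (hS : ∀ i j : ι, i ≠ j → slT (Pi.single i (1 : F)) (Pi.single j 1) ∈ M)
    (hcard : 2 < Fintype.card ι) (c : F) (i j : ι) (hij : i ≠ j)
    (h : slT (Pi.single i 1) (c • Pi.single j 1) ∈ M) (k l : ι) (hkl : k ≠ l) :
    slT (Pi.single k 1) (c • Pi.single l 1) ∈ M := by
  have col : ∀ l', l' ≠ i → slT (Pi.single i 1) (c • Pi.single l' 1) ∈ M := by
    intro l' hl'
    by_cases hl'j : l' = j
    · rw [hl'j]; exact h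
    · exact sf_elem_col M hS i j l' hij (Ne.symm hl') (Ne.symm hl'j) c h
  by_cases hli : l = i
  · rw [hli]
    rw [hli] at hkl
    by_cases hkj : k = j
    · rw [hkj]
      obtain ⟨m, hmi, hmj⟩ := sf_exists_ne_two hcard i j
      have s1 := col m hmi
      have s2 := sf_elem_row M hS i m j hmi.symm hij hmj c s1
      exact sf_elem_col M hS j m i hmj.symm hij.symm hmi c s2
    · have s1 := sf_elem_row M hS i j k hij hkl.symm (Ne.symm hkj) c h
      exact sf_elem_col M hS k j i hkj hkl hij.symm c s1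
  · have s1 := col l hli
    by_cases hki : k = i
    · rw [hki]; exact s1
    · exact sf_elem_row M hS i l k (Ne.symm hli) (Ne.symm hki) hkl.symm c s1

theorem sf_elem_mul (M : Subgroup (GL ι F)) (i j k : ι) (hij : i ≠ j) (hik : i ≠ k)
    (hjk : j ≠ k) (c d : F) (hc : slT (Pi.single i 1) (c • Pi.single k 1) ∈ M)
    (hd : slT (Pi.single k 1) (d • Pi.single j 1) ∈ M) :
    slT (Pi.single i 1) ((c * d) • Pi.single j 1) ∈ M := by
  have h1 := sf_single_dot k j hjk.symm d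
  have h2 := sf_single_dot i k hik c
  have h3 := sf_single_dot i j hij d
  have hcm := slT_comm (Pi.single k 1) (d • Pi.single j 1) (Pi.single i 1) (c • Pi.single k 1)
    h1 h2 h3
  have h4 : (c • Pi.single k (1 : F) : ι → F) ⬝ᵥ Pi.single k 1 = c := by simp
  rw [h4] at hcm
  have hmem : slT (Pi.single i (1 : F)) (-c • d • Pi.single j 1) ∈ M := by
    rw [← hcm]
    exact M.mul_mem (M.mul_mem (M.mul_mem hd hc) (M.inv_mem hd)) (M.inv_mem hc)
  have h5 := M.inv_mem hmem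
  rw [slT_inv _ _ (by rw [smul_dotProduct, h3, smul_zero]), neg_smul, neg_neg, smul_smul] at h5
  exact h5

theorem slT_mul_left (u u' φ : ι → F) (h : φ ⬝ᵥ u = 0) (h' : φ ⬝ᵥ u' = 0) :
    slT u φ * slT u' φ = slT (u + u') φ := by
  have h'' : φ ⬝ᵥ (u + u') = 0 := by rw [dotProduct_add, h, h', add_zero]
  apply gl_ext_mulVec
  intro x
  rw [Units.val_mul, ← Matrix.mulVec_mulVec]
  simp only [slT_mulVec u φ h, slT_mulVec u' φ h', slT_mulVec (u + u') φ h'']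
  simp only [dotProduct_add, dotProduct_smul, h', smul_eq_mul, mul_zero, add_zero]
  module

/-- If all elementary transvections lie in `M` then so do all transvections. -/
theorem sf_all_transv (M : Subgroup (GL ι F))
    (hall : ∀ c : F, ∀ i j : ι, i ≠ j → slT (Pi.single i 1) (c • Pi.single j 1) ∈ M)
    (u φ : ι → F) (h : φ ⬝ᵥ u = 0) : slT u φ ∈ M := by
  have hA : ∀ i : ι, ∀ φ' : ι → F, φ' i = 0 → slT (Pi.single i 1) φ' ∈ M := by
    intro i φ' hφ'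
    let A : AddSubmonoid (ι → F) :=
      { carrier := {x | x i = 0 ∧ slT (Pi.single i 1) x ∈ M}
        add_mem' := fun {x y} hx hy => ⟨by rw [Pi.add_apply, hx.1, hy.1, add_zero], by
          rw [← slT_mul_right _ x y (by simp [hx.1]) (by simp [hy.1])]
          exact M.mul_mem hx.2 hy.2⟩
        zero_mem' := ⟨rfl, by rw [slT_zero_right]; exact M.one_mem⟩ }
    have hmem : φ' ∈ A := by
      have e : φ' = ∑ j, φ' j • (Pi.single j (1 : F) : ι → F) := by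
        funext k
        simp [Finset.sum_apply, Pi.single_apply]
      rw [e]
      refine A.sum_mem (fun j _ => ?_)
      by_cases hj : j = i
      · rw [hj, hφ', zero_smul]
        exact A.zero_mem
      · exact ⟨by simp [Pi.single_apply, hj, Ne.symm hj], hall (φ' j) i j (Ne.symm hj)⟩
    exact hmem.2
  have hB : ∀ j : ι, ∀ v : ι → F, v j = 0 → slT v (Pi.single j 1) ∈ M := by
    intro j v hv
    let B : AddSubmonoid (ι → F) :=
      { carrier := {x | x j = 0 ∧ slT x (Pi.single j 1) ∈ M}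
        add_mem' := fun {x y} hx hy => ⟨by rw [Pi.add_apply, hx.1, hy.1, add_zero], by
          rw [← slT_mul_left x y _ (by simp [hx.1]) (by simp [hy.1])]
          exact M.mul_mem hx.2 hy.2⟩
        zero_mem' := ⟨rfl, by rw [slT_zero_left]; exact M.one_mem⟩ }
    have hmem : v ∈ B := by
      have e : v = ∑ i, v i • (Pi.single i (1 : F) : ι → F) := by
        funext k
        simp [Finset.sum_apply, Pi.single_apply]
      rw [e]
      refine B.sum_mem (fun i _ => ?_)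
      by_cases hi : i = j
      · rw [hi, hv, zero_smul]
        exact B.zero_mem
      · refine ⟨by simp [Pi.single_apply, hi, Ne.symm hi], ?_⟩
        rw [slT_smul_left (v i) (Pi.single i 1) (Pi.single j 1)
          (by simp [Pi.single_apply, hi, Ne.symm hi])]
        exact hall (v i) i j hi
    exact hmem.2
  by_cases hu : u = 0
  · rw [hu, slT_zero_left]
    exact M.one_mem
  obtain ⟨j, hj⟩ : ∃ j, u j ≠ 0 := by
    by_contra h0
    push Not at h0
    exact hu (funext h0)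
  obtain ⟨y, hy⟩ : ∃ y, y = u j := ⟨_, rfl⟩
  have hy0 : y ≠ 0 := by rw [hy]; exact hj
  obtain ⟨v, hv⟩ : ∃ v : ι → F, v = y⁻¹ • u - Pi.single j 1 := ⟨_, rfl⟩
  have hvj : v j = 0 := by
    rw [hv, Pi.sub_apply, Pi.smul_apply, Pi.single_eq_same, smul_eq_mul, ← hy,
      inv_mul_cancel₀ hy0, sub_self]
  have hdot : (Pi.single j (1 : F) : ι → F) ⬝ᵥ v = 0 := by simp [hvj]
  have hgM := hB j v hvj
  obtain ⟨g, hg⟩ : ∃ g, g = slT v (Pi.single j (1 : F)) := ⟨_, rfl⟩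
  rw [← hg] at hgM
  have hge : (g : Matrix ι ι F) *ᵥ (Pi.single j 1) = y⁻¹ • u := by
    rw [hg, slT_mulVec _ _ hdot, hv]
    simp
  have hu' : u = y • ((g : Matrix ι ι F) *ᵥ (Pi.single j 1)) := by
    rw [hge, smul_smul, mul_inv_cancel₀ hy0, one_smul]
  have h1 : φ ⬝ᵥ ((g : Matrix ι ι F) *ᵥ (Pi.single j 1)) = 0 := by
    rw [hge, dotProduct_smul, h, smul_zero]
  have h2 : (y • φ) ⬝ᵥ ((g : Matrix ι ι F) *ᵥ (Pi.single j 1)) = 0 := by
    rw [smul_dotProduct, h1, smul_zero]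
  have e1 : slT u φ = g * slT (Pi.single j 1) ((y • φ) ᵥ* (g : Matrix ι ι F)) * g⁻¹ := by
    rw [← slT_conj g _ _ h2, ← slT_smul_left y _ φ h1, ← hu']
  have hφj : ((y • φ) ᵥ* (g : Matrix ι ι F)) j = 0 := by
    have h3 := h2
    rw [Matrix.dotProduct_mulVec] at h3
    simpa using h3
  rw [e1]
  exact M.mul_mem (M.mul_mem hgM (hA j _ hφj)) (M.inv_mem hgM)

/-! ### The subfield group -/

theorem sf_mem_range (F₀ : Subfield F) (g : GL ι F)
    (hg : ∀ k l, (g : Matrix ι ι F) k l ∈ F₀) :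
    g ∈ (Matrix.GeneralLinearGroup.map (F₀.subtype : F₀ →+* F)).range := by
  let A₀ : Matrix ι ι F₀ := fun k l => ⟨(g : Matrix ι ι F) k l, hg k l⟩
  have hA : (F₀.subtype : F₀ →+* F).mapMatrix A₀ = (g : Matrix ι ι F) := by
    ext k l
    rfl
  have hdet : A₀.det ≠ 0 := by
    intro h0
    have h1 : (F₀.subtype : F₀ →+* F) A₀.det = 0 := by rw [h0, map_zero]
    rw [RingHom.map_det, hA] at h1
    exact ((Matrix.isUnit_iff_isUnit_det _).mp g.isUnit).ne_zero h1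
  refine ⟨Matrix.GeneralLinearGroup.mkOfDetNeZero A₀ hdet, ?_⟩
  apply Units.ext
  exact hA

theorem sf_mem_X (F₀ : Subfield F) (g : GL ι F) (ζ : F) (hζ : ζ ≠ 0)
    (hg : ∀ k l, ζ * (g : Matrix ι ι F) k l ∈ F₀) :
    g ∈ (Matrix.GeneralLinearGroup.map (F₀.subtype : F₀ →+* F)).range ⊔ scalars ι F := by
  obtain ⟨z, hz, hzv⟩ : ∃ z : GL ι F, z ∈ scalars ι F ∧
      (z : Matrix ι ι F) = ζ • (1 : Matrix ι ι F) := by
    have h1 : (Units.map (Matrix.scalar ι : F →+* Matrix ι ι F).toMonoidHom (Units.mk0 ζ hζ)) ∈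
        scalars ι F := ⟨Units.mk0 ζ hζ, rfl⟩
    obtain ⟨c, hc⟩ := (mem_scalars_iff _).mp h1
    refine ⟨_, h1, ?_⟩
    simp [Matrix.smul_one_eq_diagonal]
  have hzg : z * g ∈ (Matrix.GeneralLinearGroup.map (F₀.subtype : F₀ →+* F)).range := by
    apply sf_mem_range
    intro k l
    rw [Units.val_mul, hzv, Matrix.smul_mul, Matrix.one_mul, Matrix.smul_apply, smul_eq_mul]
    exact hg k l
  have e : g = z⁻¹ * (z * g) := by group
  rw [e]
  exact Subgroup.mul_mem _ (Subgroup.mem_sup_right (inv_mem hz)) (Subgroup.mem_sup_left hzg)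

theorem sf_of_mem_X (F₀ : Subfield F) (g : GL ι F)
    (hg : g ∈ (Matrix.GeneralLinearGroup.map (F₀.subtype : F₀ →+* F)).range ⊔ scalars ι F) :
    ∃ ζ : F, ζ ≠ 0 ∧ ∀ k l, ζ * (g : Matrix ι ι F) k l ∈ F₀ := by
  have h1 : g ∈ ((((Matrix.GeneralLinearGroup.map (F₀.subtype : F₀ →+* F)).range ⊔
      scalars ι F : Subgroup (GL ι F)) : Set (GL ι F))) := hg
  rw [Subgroup.mul_normal] at h1
  obtain ⟨x, hx, s, hs, rfl⟩ := Set.mem_mul.mp h1
  obtain ⟨g₀, rfl⟩ := hx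
  obtain ⟨c, hc⟩ := (mem_scalars_iff s).mp hs
  refine ⟨(c : F)⁻¹, inv_ne_zero c.ne_zero, fun k l => ?_⟩
  rw [Units.val_mul, hc, Matrix.mul_smul, Matrix.mul_one, Matrix.smul_apply, smul_eq_mul,
    inv_mul_cancel_left₀ c.ne_zero]
  exact ((g₀ : Matrix ι ι F₀) k l).2

theorem isMaximalIn_map_mulEquiv {G : Type*} [Group G] (φ : G ≃* G) (K H : Subgroup G)
    (h : IsMaximalIn K H) : IsMaximalIn (K.map φ.toMonoidHom) (H.map φ.toMonoidHom) := by
  obtain ⟨hlt, hmax⟩ := h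
  have hinj : Function.Injective φ.toMonoidHom := φ.injective
  refine ⟨lt_of_le_of_ne (Subgroup.map_mono hlt.le) ?_, ?_⟩
  · intro heq
    exact hlt.ne (Subgroup.map_injective hinj heq)
  · intro M hHM hMK
    have h1 : H ≤ M.comap φ.toMonoidHom := (Subgroup.map_le_iff_le_comap).mp hHM
    have h2 : M.comap φ.toMonoidHom ≤ K := by
      intro x hx
      obtain ⟨y, hy, hyx⟩ := hMK hx
      have e : y = x := hinj hyx
      rw [← e]
      exact hy
    have hM : M = (M.comap φ.toMonoidHom).map φ.toMonoidHom :=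
      (Subgroup.map_comap_eq_self_of_surjective φ.surjective M).symm
    rcases hmax _ h1 h2 with h3 | h3
    · left; rw [hM, h3]
    · right; rw [hM, h3]

end

section
variable {F : Type*} [Field F] [Fintype F]

/-- The core case (trivial change of basis). -/
theorem subfield_sl_core {n : ℕ} (hn : 13 ≤ n) (F₀ : Subfield F) (r : ℕ) (hr : r.Prime)
    (hcard : Fintype.card F = Nat.card F₀ ^ r) :
    IsMaximalIn (specialLinear (Fin n) F)
      (((Matrix.GeneralLinearGroup.map (F₀.subtype : F₀ →+* F)).range ⊔ scalars (Fin n) F) ⊓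
        specialLinear (Fin n) F) := by
  classical
  obtain ⟨X, hX⟩ : ∃ X : Subgroup (GL (Fin n) F),
      X = (Matrix.GeneralLinearGroup.map (F₀.subtype : F₀ →+* F)).range ⊔ scalars (Fin n) F :=
    ⟨_, rfl⟩
  rw [← hX]
  have hcardι : 2 < Fintype.card (Fin n) := by rw [Fintype.card_fin]; omega
  have hfin : Module.finrank F₀ F = r := by
    have : Fintype F₀ := Fintype.ofFinite F₀
    have h1 := Module.card_eq_pow_finrank (K := F₀) (V := F)
    rw [hcard, Nat.card_eq_fintype_card] at h1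
    exact (Nat.pow_right_injective (Fintype.one_lt_card) h1).symm
  have hso : IsSimpleOrder (Subalgebra F₀ F) :=
    Subalgebra.isSimpleOrder_of_finrank_prime F₀ F (by rw [hfin]; exact hr)
  have hX2 : ∀ g : GL (Fin n) F, ∀ ζ : F, ζ ≠ 0 →
      (∀ k l, ζ * (g : Matrix (Fin n) (Fin n) F) k l ∈ F₀) → g ∈ X := by
    intro g ζ hζ hg
    rw [hX]
    exact sf_mem_X F₀ g ζ hζ hg
  have hX3 : ∀ g : GL (Fin n) F, g ∈ X →
      ∃ ζ : F, ζ ≠ 0 ∧ ∀ k l, ζ * (g : Matrix (Fin n) (Fin n) F) k l ∈ F₀ := by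
    intro g hg
    rw [hX] at hg
    exact sf_of_mem_X F₀ g hg
  have hratT : ∀ a β : Fin n → F, ratV F₀ a → ratV F₀ β → β ⬝ᵥ a = 0 →
      slT a β ∈ X ⊓ specialLinear (Fin n) F := by
    intro a β ha hβ h0
    refine ⟨hX2 _ 1 one_ne_zero (fun k l => ?_), slT_mem _ _⟩
    rw [one_mul, slT_val a β h0, Matrix.add_apply, Matrix.vecMulVec_apply]
    refine F₀.add_mem ?_ (F₀.mul_mem (ha k) (hβ l))
    by_cases hkl : k = l
    · rw [hkl, Matrix.one_apply_eq]; exact F₀.one_mem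
    · rw [Matrix.one_apply_ne hkl]; exact F₀.zero_mem
  obtain ⟨i0, i1, i2, i3, h01, h02, h03, h12, h13, h23⟩ : ∃ i0 i1 i2 i3 : Fin n,
      i0 ≠ i1 ∧ i0 ≠ i2 ∧ i0 ≠ i3 ∧ i1 ≠ i2 ∧ i1 ≠ i3 ∧ i2 ≠ i3 := by
    refine ⟨⟨0, by omega⟩, ⟨1, by omega⟩, ⟨2, by omega⟩, ⟨3, by omega⟩, ?_, ?_, ?_, ?_, ?_, ?_⟩ <;>
      simp [Fin.ext_iff]
  refine ⟨?_, ?_⟩
  · refine lt_of_le_of_ne inf_le_right ?_
    intro heq
    obtain ⟨c, -, hc⟩ := SetLike.exists_of_lt (bot_lt_top : (⊥ : Subalgebra F₀ F) < ⊤)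
    have hcF : c ∉ F₀ := by
      intro h
      apply hc
      exact (⊥ : Subalgebra F₀ F).algebraMap_mem ⟨c, h⟩
    have hdot := sf_single_dot i0 i1 h01 c
    have hg : slT (Pi.single i0 (1 : F)) (c • Pi.single i1 1) ∈ X := by
      have h1 : slT (Pi.single i0 (1 : F)) (c • Pi.single i1 1) ∈
          X ⊓ specialLinear (Fin n) F := by
        rw [heq]
        exact slT_mem _ _
      exact h1.1
    obtain ⟨ζ, hζ0, hζ⟩ := hX3 _ hg
    have h1 := hζ i0 i0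
    have h2 := hζ i0 i1
    rw [slT_val _ _ hdot, Matrix.add_apply, Matrix.vecMulVec_apply, Matrix.one_apply_eq,
      Pi.smul_apply, Pi.single_eq_same, Pi.single_eq_of_ne h01, smul_zero, mul_zero, add_zero,
      mul_one] at h1
    rw [slT_val _ _ hdot, Matrix.add_apply, Matrix.vecMulVec_apply, Matrix.one_apply_ne h01,
      Pi.smul_apply, Pi.single_eq_same, Pi.single_eq_same, smul_eq_mul, mul_one, one_mul,
      zero_add] at h2
    apply hcF
    have h3 := F₀.mul_mem (F₀.inv_mem h1) h2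
    rwa [inv_mul_cancel_left₀ hζ0] at h3
  · intro M hHM hMS
    by_cases hM : M ≤ X
    · left
      exact le_antisymm (le_inf hM hMS) hHM
    · right
      obtain ⟨h, hhM, hhX⟩ := SetLike.not_le_iff_exists.mp hM
      have hS : ∀ a β : Fin n → F, ratV F₀ a → ratV F₀ β → β ⬝ᵥ a = 0 → slT a β ∈ M :=
        fun a β ha hβ h0 => hHM (hratT a β ha hβ h0)
      have hSe : ∀ i j : Fin n, i ≠ j → slT (Pi.single i (1 : F)) (Pi.single j 1) ∈ M := by
        intro i j hij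
        refine hS _ _ (ratV_single i F₀.one_mem) (ratV_single j F₀.one_mem) ?_
        have h1 := sf_single_dot i j hij (1 : F)
        rwa [one_smul] at h1
      let R : Subalgebra F₀ F :=
        { carrier := {c | ∀ i j : Fin n, i ≠ j → slT (Pi.single i 1) (c • Pi.single j 1) ∈ M}
          mul_mem' := fun {c d} hc hd i j hij => by
            obtain ⟨k, hki, hkj⟩ := sf_exists_ne_two hcardι i j
            exact sf_elem_mul M i j k hij hki.symm hkj.symm c d (hc i k hki.symm) (hd k j hkj)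
          add_mem' := fun {c d} hc hd i j hij => by
            rw [add_smul, ← slT_mul_right _ _ _ (sf_single_dot i j hij c)
              (sf_single_dot i j hij d)]
            exact M.mul_mem (hc i j hij) (hd i j hij)
          one_mem' := fun i j hij => by
            rw [one_smul]
            exact hSe i j hij
          zero_mem' := fun i j hij => by
            rw [zero_smul, slT_zero_right]
            exact M.one_mem
          algebraMap_mem' := fun c i j hij =>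
            hS _ _ (ratV_single i F₀.one_mem) (ratV_smul c.2 (ratV_single j F₀.one_mem))
              (sf_single_dot i j hij _) }
      have hRmem : ∀ c : F, c ∈ R ↔
          ∀ i j : Fin n, i ≠ j → slT (Pi.single i 1) (c • Pi.single j 1) ∈ M := fun c => Iff.rfl
      rcases eq_bot_or_eq_top R with hR | hR
      · exfalso
        have hD : SubfData F₀ M := by
          refine ⟨hS, fun i j hij c hc => ?_, hcardι⟩
          have h1 : c ∈ R := by
            rw [hRmem]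
            intro k l hkl
            exact sf_elem_all M hSe hcardι c i j hij hc k l hkl
          rw [hR, Algebra.mem_bot] at h1
          obtain ⟨y, hy⟩ := h1
          rw [← hy]
          exact y.2
        have F1 : ∀ a : Fin n → F, ratV F₀ a → a ≠ 0 →
            ∀ i, ((h : Matrix (Fin n) (Fin n) F) *ᵥ a) i ≠ 0 := by
          intro a ha ha0 i hi
          obtain ⟨ζ, hζ0, hζ⟩ := sf_C hD h hhM a ha ha0 i hi
          exact hhX (hX2 h ζ hζ0 hζ)
        have F2 : ∀ a : Fin n → F, ratV F₀ a → a ≠ 0 →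
            ∀ i, (((h⁻¹ : GL (Fin n) F) : Matrix (Fin n) (Fin n) F) *ᵥ a) i ≠ 0 := by
          intro a ha ha0 i hi
          obtain ⟨ζ, hζ0, hζ⟩ := sf_C hD h⁻¹ (M.inv_mem hhM) a ha ha0 i hi
          exact hhX ((X.inv_mem_iff).mp (hX2 h⁻¹ ζ hζ0 hζ))
        exact sf_final hD i0 i1 i2 i3 h01 h02 h03 h12 h13 h23 h hhM F1 F2
      · have hall : ∀ c : F, ∀ i j : Fin n, i ≠ j →
            slT (Pi.single i 1) (c • Pi.single j 1) ∈ M := by
          intro c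
          have h1 : c ∈ R := by rw [hR]; exact Algebra.mem_top
          exact (hRmem c).mp h1
        have : Nontrivial (Fin n) := Fin.nontrivial_iff_two_le.mpr (by omega)
        exact le_antisymm hMS (specialLinear_le_of_transv M (sf_all_transv M hall))

/-- The subfield group of a subfield of prime index is a maximal subgroup of the special linear
group. -/
theorem subfield_sl_maximal {n : ℕ} (hn : 13 ≤ n) (F₀ : Subfield F) (r : ℕ) (hr : r.Prime)
    (hcard : Fintype.card F = Nat.card F₀ ^ r) (P : GL (Fin n) F) :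
    IsMaximalIn (specialLinear (Fin n) F)
      (subfieldSubgroup F₀ P ⊓ specialLinear (Fin n) F) := by
  have hcore := subfield_sl_core hn F₀ r hr hcard
  have h1 := isMaximalIn_map_mulEquiv (MulAut.conj P) _ _ hcore
  have hN : (specialLinear (Fin n) F).Normal := by
    unfold specialLinear
    infer_instance
  have hSL : (specialLinear (Fin n) F).map (MulAut.conj P).toMonoidHom =
      specialLinear (Fin n) F := by
    ext x
    constructor
    · rintro ⟨y, hy, rfl⟩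
      exact hN.conj_mem y hy P
    · intro hx
      refine ⟨P⁻¹ * x * P, ?_, ?_⟩
      · have h2 := hN.conj_mem x hx P⁻¹
        rwa [inv_inv] at h2
      · show P * (P⁻¹ * x * P) * P⁻¹ = x
        group
  rw [Subgroup.map_inf_eq _ _ _ (MulAut.conj P).injective, hSL] at h1
  exact h1

end

end Cfsg.Agent.Lib.helper95
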