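import Mathlib
import Cfsg.Prelude.Def_GeometricClasses
import Cfsg.Agent.Lib.helper95.Blocks

/-!
# Tensor decompositions: transport along `P` and `e`, pure tensors, contractions

Tools for the statements about `Cfsg.Geo.tensorProductSubgroup`.
-/

set_option autoImplicit false

namespace Cfsg.Agent.Lib.helper95

open Cfsg Cfsg.Geo Matrix Module
open scoped Kronecker

section Transport

variable {ι κ : Type} [Fintype ι] [DecidableEq ι] [Fintype κ] [DecidableEq κ] {F : Type*} [Field F]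

/-- Transport of invertible matrices along a bijection of index sets followed by conjugation by `P`. -/
def transportHom (e : ι ≃ κ) (P : GL ι F) : GL κ F →* GL ι F :=
  (MulAut.conj P).toMonoidHom.comp (glReindex e.symm).toMonoidHom

theorem transportHom_injective (e : ι ≃ κ) (P : GL ι F) : Function.Injective (transportHom e P) :=
  (MulAut.conj P).injective.comp (glReindex (F := F) e.symm).injective

theorem transportHom_val (e : ι ≃ κ) (P : GL ι F) (M : GL κ F) :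
    ((transportHom e P M : GL ι F) : Matrix ι ι F) =
      (P : Matrix ι ι F) * (M : Matrix κ κ F).submatrix e e * ((P⁻¹ : GL ι F) : Matrix ι ι F) := by
  show ((P * glReindex e.symm M * P⁻¹ : GL ι F) : Matrix ι ι F) = _
  rw [Units.val_mul, Units.val_mul]
  congr 2

theorem transportHom_mulVec (e : ι ≃ κ) (P : GL ι F) (M : GL κ F) (x : κ → F) :
    ((transportHom e P M : GL ι F) : Matrix ι ι F) *ᵥ ((P : Matrix ι ι F) *ᵥ (x ∘ e)) =
      (P : Matrix ι ι F) *ᵥ (((M : Matrix κ κ F) *ᵥ x) ∘ e) := by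
  rw [transportHom_val, Matrix.mulVec_mulVec, mul_assoc, ← Units.val_mul, inv_mul_cancel, Units.val_one,
    mul_one, ← Matrix.mulVec_mulVec]
  congr 1
  rw [Matrix.submatrix_mulVec_equiv]
  congr 2
  ext a
  simp

omit [Fintype κ] [DecidableEq κ] in
theorem exists_transport_vec (e : ι ≃ κ) (P : GL ι F) (v : ι → F) :
    ∃ x : κ → F, (P : Matrix ι ι F) *ᵥ (x ∘ e) = v := by
  refine ⟨(((P⁻¹ : GL ι F) : Matrix ι ι F) *ᵥ v) ∘ e.symm, ?_⟩
  have : ((((P⁻¹ : GL ι F) : Matrix ι ι F) *ᵥ v) ∘ e.symm) ∘ e = ((P⁻¹ : GL ι F) : Matrix ι ι F) *ᵥ v := by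
    ext a
    simp
  rw [this, Matrix.mulVec_mulVec, ← Units.val_mul, mul_inv_cancel, Units.val_one, Matrix.one_mulVec]

theorem det_transportHom (e : ι ≃ κ) (P : GL ι F) (M : GL κ F) :
    ((transportHom e P M : GL ι F) : Matrix ι ι F).det = (M : Matrix κ κ F).det := by
  rw [transportHom_val, Matrix.det_mul, Matrix.det_mul, Matrix.det_submatrix_equiv_self, mul_comm, ← mul_assoc,
    ← Matrix.det_mul, ← Units.val_mul, inv_mul_cancel, Units.val_one, Matrix.det_one, one_mul]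

theorem transportHom_mem_specialLinear_iff (e : ι ≃ κ) (P : GL ι F) (M : GL κ F) :
    transportHom e P M ∈ specialLinear ι F ↔ M ∈ specialLinear κ F := by
  rw [mem_specialLinear_iff, mem_specialLinear_iff, det_transportHom]

/-- A transported matrix preserves `f` iff the original one preserves the transported form. -/
theorem transportHom_preserves_iff (e : ι ≃ κ) (P : GL ι F) (f : (ι → F) → (ι → F) → F)
    (Φ : (κ → F) → (κ → F) → F) (c : F) (hc : c ≠ 0)
    (h : ∀ x y : κ → F, f ((P : Matrix ι ι F) *ᵥ (x ∘ e)) ((P : Matrix ι ι F) *ᵥ (y ∘ e)) = c * Φ x y)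
    (M : GL κ F) :
    (∀ u v, f (((transportHom e P M : GL ι F) : Matrix ι ι F) *ᵥ u)
        (((transportHom e P M : GL ι F) : Matrix ι ι F) *ᵥ v) = f u v) ↔
      (∀ x y, Φ ((M : Matrix κ κ F) *ᵥ x) ((M : Matrix κ κ F) *ᵥ y) = Φ x y) := by
  constructor
  · intro H x y
    have := H ((P : Matrix ι ι F) *ᵥ (x ∘ e)) ((P : Matrix ι ι F) *ᵥ (y ∘ e))
    rw [transportHom_mulVec, transportHom_mulVec, h, h] at this
    exact mul_left_cancel₀ hc this
  · intro H u v
    obtain ⟨x, rfl⟩ := exists_transport_vec e P u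
    obtain ⟨y, rfl⟩ := exists_transport_vec e P v
    rw [transportHom_mulVec, transportHom_mulVec, h, h, H]

/-- A transported matrix preserves the function `Q` iff the original one preserves the transported one. -/
theorem transportHom_preserves_fn_iff {α : Type*} (e : ι ≃ κ) (P : GL ι F) (Q : (ι → F) → α)
    (M : GL κ F) :
    (∀ u, Q (((transportHom e P M : GL ι F) : Matrix ι ι F) *ᵥ u) = Q u) ↔
      (∀ x : κ → F, Q ((P : Matrix ι ι F) *ᵥ ((((M : Matrix κ κ F) *ᵥ x)) ∘ e)) =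
        Q ((P : Matrix ι ι F) *ᵥ (x ∘ e))) := by
  constructor
  · intro H x
    rw [← transportHom_mulVec, H]
  · intro H u
    obtain ⟨x, rfl⟩ := exists_transport_vec e P u
    rw [transportHom_mulVec, H]

/-- Non-maximality transported from the index set `κ` to `ι`. -/
theorem transport_not_maximal (e : ι ≃ κ) (P : GL ι F) (T' G' K' : Subgroup (GL κ F))
    (G : Subgroup (GL ι F)) (hG : ∀ M, transportHom e P M ∈ G ↔ M ∈ G') (hle : T' ⊓ G' ≤ K')
    (g₀ : GL κ F) (hg₀G : g₀ ∈ G') (hg₀K : g₀ ∈ K') (hg₀T : g₀ ∉ T')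
    (τ₀ : GL κ F) (hτ₀G : τ₀ ∈ G') (hτ₀K : τ₀ ∉ K') :
    ∃ K : Subgroup (GL ι F), T'.map (transportHom e P) ⊓ G < K ∧ K < G := by
  refine not_maximal_of_subgroup _ _ (K'.map (transportHom e P)) ?_ (transportHom e P g₀)
    ((hG _).mpr hg₀G) (Subgroup.mem_map_of_mem _ hg₀K) ?_ (transportHom e P τ₀) ((hG _).mpr hτ₀G) ?_
  · rintro g ⟨⟨M, hM, rfl⟩, hgG⟩
    exact Subgroup.mem_map_of_mem _ (hle ⟨hM, (hG M).mp hgG⟩)
  · rw [Subgroup.mem_map_iff_mem (transportHom_injective e P)]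
    exact hg₀T
  · rw [Subgroup.mem_map_iff_mem (transportHom_injective e P)]
    exact hτ₀K

theorem tensorProductSubgroup_eq_map {n₁ n₂ : ℕ} (e : ι ≃ Fin n₁ × Fin n₂) (P : GL ι F) :
    tensorProductSubgroup n₁ n₂ e P = (kroneckerSubgroup n₁ n₂ F).map (transportHom e P) := by
  unfold tensorProductSubgroup transportHom
  rw [Subgroup.map_map]

end Transport

section Pure

variable {F : Type*} [Field F] {n₁ n₂ : ℕ}

/-- The pure tensor `x₁ ⊗ x₂` as a coordinate vector. -/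
def tp (x₁ : Fin n₁ → F) (x₂ : Fin n₂ → F) : Fin n₁ × Fin n₂ → F := fun a => x₁ a.1 * x₂ a.2

theorem tp_apply (x₁ : Fin n₁ → F) (x₂ : Fin n₂ → F) (a : Fin n₁ × Fin n₂) :
    tp x₁ x₂ a = x₁ a.1 * x₂ a.2 := rfl

theorem tp_add_left (x y : Fin n₁ → F) (z : Fin n₂ → F) : tp (x + y) z = tp x z + tp y z := by
  ext a
  simp [tp, add_mul]

theorem tp_add_right (z : Fin n₁ → F) (x y : Fin n₂ → F) : tp z (x + y) = tp z x + tp z y := by
  ext a
  simp [tp, mul_add]

theorem tp_smul_left (c : F) (x : Fin n₁ → F) (z : Fin n₂ → F) : tp (c • x) z = c • tp x z := by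
  ext a
  simp [tp, mul_assoc]

theorem tp_smul_right (c : F) (z : Fin n₁ → F) (x : Fin n₂ → F) : tp z (c • x) = c • tp z x := by
  ext a
  simp [tp, mul_left_comm]

theorem tp_zero_left (z : Fin n₂ → F) : tp (0 : Fin n₁ → F) z = 0 := by
  ext a
  simp [tp]

theorem tp_zero_right (z : Fin n₁ → F) : tp z (0 : Fin n₂ → F) = 0 := by
  ext a
  simp [tp]

theorem kronecker_mulVec_tp (A : Matrix (Fin n₁) (Fin n₁) F) (B : Matrix (Fin n₂) (Fin n₂) F)
    (x₁ : Fin n₁ → F) (x₂ : Fin n₂ → F) :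
    (A ⊗ₖ B) *ᵥ tp x₁ x₂ = tp (A *ᵥ x₁) (B *ᵥ x₂) := by
  ext ⟨i, r⟩
  simp only [Matrix.mulVec, dotProduct, tp, Fintype.sum_prod_type, Matrix.kronecker_apply,
    Finset.sum_mul_sum]
  apply Finset.sum_congr rfl
  intro j _
  apply Finset.sum_congr rfl
  intro s _
  ring

theorem formOfGram_tp (σ : F → F) (hσ : ∀ a b, σ (a * b) = σ a * σ b)
    (G₁ : Matrix (Fin n₁) (Fin n₁) F) (G₂ : Matrix (Fin n₂) (Fin n₂) F)
    (x₁ y₁ : Fin n₁ → F) (x₂ y₂ : Fin n₂ → F) :
    formOfGram σ (G₁ ⊗ₖ G₂) (tp x₁ x₂) (tp y₁ y₂) = formOfGram σ G₁ x₁ y₁ * formOfGram σ G₂ x₂ y₂ := by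
  simp only [formOfGram, tp, Fintype.sum_prod_type, Matrix.kronecker_apply, hσ, Finset.sum_mul_sum]
  apply Finset.sum_congr rfl
  intro i _
  apply Finset.sum_congr rfl
  intro r _
  apply Finset.sum_congr rfl
  intro j _
  apply Finset.sum_congr rfl
  intro s _
  ring

/-- Contraction of the left factor against a linear form. -/
def ctrL (g : (Fin n₁ → F) →ₗ[F] F) : (Fin n₁ × Fin n₂ → F) →ₗ[F] (Fin n₂ → F) where
  toFun x := fun r => g (fun i => x (i, r))
  map_add' x y := by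
    ext r
    exact map_add g (fun i => x (i, r)) (fun i => y (i, r))
  map_smul' c x := by
    ext r
    exact map_smul g c (fun i => x (i, r))

theorem ctrL_tp (g : (Fin n₁ → F) →ₗ[F] F) (x₁ : Fin n₁ → F) (x₂ : Fin n₂ → F) :
    ctrL g (tp x₁ x₂) = g x₁ • x₂ := by
  ext r
  have : (fun i => tp x₁ x₂ (i, r)) = x₂ r • x₁ := by
    ext i
    simp [tp, mul_comm]
  show g (fun i => tp x₁ x₂ (i, r)) = _
  rw [this, map_smul]
  simp [mul_comm]

/-- Contraction of the right factor against a linear form. -/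
def ctrR (g : (Fin n₂ → F) →ₗ[F] F) : (Fin n₁ × Fin n₂ → F) →ₗ[F] (Fin n₁ → F) where
  toFun x := fun i => g (fun r => x (i, r))
  map_add' x y := by
    ext i
    exact map_add g (fun r => x (i, r)) (fun r => y (i, r))
  map_smul' c x := by
    ext i
    exact map_smul g c (fun r => x (i, r))

theorem ctrR_tp (g : (Fin n₂ → F) →ₗ[F] F) (x₁ : Fin n₁ → F) (x₂ : Fin n₂ → F) :
    ctrR g (tp x₁ x₂) = g x₂ • x₁ := by
  ext i
  have : (fun r => tp x₁ x₂ (i, r)) = x₁ i • x₂ := by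
    ext r
    simp [tp]
  show g (fun r => tp x₁ x₂ (i, r)) = _
  rw [this, map_smul]
  simp [mul_comm]

end Pure

section PureMaps

variable {F : Type*} [Field F] {n₁ n₂ : ℕ}

/-- The linear map `u ↦ x₁ ⊗ u`. -/
def tpL (x₁ : Fin n₁ → F) : (Fin n₂ → F) →ₗ[F] (Fin n₁ × Fin n₂ → F) where
  toFun u := tp x₁ u
  map_add' := tp_add_right x₁
  map_smul' c u := tp_smul_right c x₁ u

theorem tpL_apply (x₁ : Fin n₁ → F) (u : Fin n₂ → F) : tpL x₁ u = tp x₁ u := rfl

/-- The linear map `u ↦ u ⊗ x₂`. -/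
def tpR (x₂ : Fin n₂ → F) : (Fin n₁ → F) →ₗ[F] (Fin n₁ × Fin n₂ → F) where
  toFun u := tp u x₂
  map_add' x y := tp_add_left x y x₂
  map_smul' c u := tp_smul_left c u x₂

theorem tpR_apply (x₂ : Fin n₂ → F) (u : Fin n₁ → F) : tpR x₂ u = tp u x₂ := rfl

/-- A Kronecker product `A ⊗ B` maps `x₁ ⊗ F^(n₂)` onto `y₁ ⊗ F^(n₂)` when `A x₁` is a non-zero multiple of `y₁`
and `B` is invertible. -/
theorem map_range_tpL (A : Matrix (Fin n₁) (Fin n₁) F) (B : GL (Fin n₂) F) {x₁ y₁ : Fin n₁ → F} {c : F}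
    (hc : c ≠ 0) (h : A *ᵥ x₁ = c • y₁) :
    (LinearMap.range (tpL (n₂ := n₂) x₁)).map
        (Matrix.toLin' (A ⊗ₖ (B : Matrix (Fin n₂) (Fin n₂) F))) =
      LinearMap.range (tpL (n₂ := n₂) y₁) := by
  apply le_antisymm
  · rintro _ ⟨_, ⟨u, rfl⟩, rfl⟩
    refine ⟨c • ((B : Matrix (Fin n₂) (Fin n₂) F) *ᵥ u), ?_⟩
    rw [Matrix.toLin'_apply, tpL_apply, tpL_apply, kronecker_mulVec_tp, h, tp_smul_left, tp_smul_right]
  · rintro _ ⟨u, rfl⟩
    refine ⟨tp x₁ (((B⁻¹ : GL (Fin n₂) F) : Matrix (Fin n₂) (Fin n₂) F) *ᵥ (c⁻¹ • u)), ⟨_, rfl⟩, ?_⟩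
    rw [Matrix.toLin'_apply, kronecker_mulVec_tp, h, Matrix.mulVec_mulVec, ← Units.val_mul,
      mul_inv_cancel, Units.val_one, Matrix.one_mulVec, tp_smul_left, tp_smul_right, smul_smul,
      mul_inv_cancel₀ hc, one_smul]
    rfl

/-- A Kronecker product `A ⊗ B` maps `F^(n₁) ⊗ x₂` onto `F^(n₁) ⊗ y₂` when `B x₂` is a non-zero multiple of `y₂`
and `A` is invertible. -/
theorem map_range_tpR (A : GL (Fin n₁) F) (B : Matrix (Fin n₂) (Fin n₂) F) {x₂ y₂ : Fin n₂ → F} {c : F}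
    (hc : c ≠ 0) (h : B *ᵥ x₂ = c • y₂) :
    (LinearMap.range (tpR (n₁ := n₁) x₂)).map
        (Matrix.toLin' ((A : Matrix (Fin n₁) (Fin n₁) F) ⊗ₖ B)) =
      LinearMap.range (tpR (n₁ := n₁) y₂) := by
  apply le_antisymm
  · rintro _ ⟨_, ⟨u, rfl⟩, rfl⟩
    refine ⟨c • ((A : Matrix (Fin n₁) (Fin n₁) F) *ᵥ u), ?_⟩
    rw [Matrix.toLin'_apply, tpR_apply, tpR_apply, kronecker_mulVec_tp, h, tp_smul_left, tp_smul_right]
  · rintro _ ⟨u, rfl⟩
    refine ⟨tp (((A⁻¹ : GL (Fin n₁) F) : Matrix (Fin n₁) (Fin n₁) F) *ᵥ (c⁻¹ • u)) x₂, ⟨_, rfl⟩, ?_⟩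
    rw [Matrix.toLin'_apply, kronecker_mulVec_tp, h, Matrix.mulVec_mulVec, ← Units.val_mul,
      mul_inv_cancel, Units.val_one, Matrix.one_mulVec, tp_smul_left, tp_smul_right, smul_smul,
      inv_mul_cancel₀ hc, one_smul]
    rfl

end PureMaps

section Misc

variable {ι : Type} [Fintype ι] [DecidableEq ι] {F : Type*} [Field F]

/-- An invertible matrix mapping a subspace into itself maps it onto itself. -/
theorem map_eq_of_mapsTo (W : Submodule F (ι → F)) (g : GL ι F)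
    (h : ∀ x ∈ W, (g : Matrix ι ι F) *ᵥ x ∈ W) : W.map (Matrix.toLin' (g : Matrix ι ι F)) = W := by
  have hinj : Function.Injective (Matrix.toLin' (g : Matrix ι ι F)) := by
    intro x y hxy
    rw [Matrix.toLin'_apply, Matrix.toLin'_apply] at hxy
    exact gl_mulVec_injective g hxy
  apply Submodule.eq_of_le_of_finrank_eq
  · rintro _ ⟨x, hx, rfl⟩
    rw [Matrix.toLin'_apply]
    exact h x hx
  · exact (Submodule.equivMapOfInjective _ hinj W).symm.finrank_eq

end Misc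

end Cfsg.Agent.Lib.helper95
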