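import Mathlib
import Cfsg.Prelude.Def_GeometricClasses
import Cfsg.Agent.Lib.helper95.Tensor
import Cfsg.Agent.Lib.helper95.OmegaTools
import Cfsg.Agent.Lib.helper95.Ortho3

/-!
# Transport of `Ω` along a change of basis, and orthogonal triples

`Cfsg.Geo.omegaGL` is compatible with the transport `transportHom e P`, the transported quadratic form being
`x ↦ Q (P (x ∘ e))`.
-/

set_option autoImplicit false

namespace Cfsg.Agent.Lib.helper95

open Cfsg Cfsg.Geo Matrix Module

section OmegaTransport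

variable {ι κ : Type} [Fintype ι] [DecidableEq ι] [Fintype κ] [DecidableEq κ] {F : Type*} [Field F]

omit [Fintype κ] [DecidableEq κ] in
theorem mem_isometryGroup_iff (Q : (ι → F) → F) (g : GL ι F) :
    g ∈ isometryGroup F Q ↔ ∀ u, Q ((g : Matrix ι ι F) *ᵥ u) = Q u :=
  ⟨fun h u => h u u, fun h u _ => h u⟩

omit [Fintype κ] [DecidableEq κ] in
theorem omegaGL_eq_commutator (Q : (ι → F) → F) :
    omegaGL Q = ⁅isometryGroup F Q, isometryGroup F Q⁆ := by
  unfold omegaGL Omega
  rw [commutator_def, Subgroup.map_commutator, ← MonoidHom.range_eq_map, Subgroup.range_subtype]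

theorem transportHom_surjective (e : ι ≃ κ) (P : GL ι F) : Function.Surjective (transportHom e P) :=
  (MulAut.conj P).surjective.comp (glReindex (F := F) e.symm).surjective

theorem transportHom_mem_isometryGroup_iff (e : ι ≃ κ) (P : GL ι F) (Q : (ι → F) → F) (M : GL κ F) :
    transportHom e P M ∈ isometryGroup F Q ↔
      M ∈ isometryGroup F (fun x : κ → F => Q ((P : Matrix ι ι F) *ᵥ (x ∘ e))) := by
  rw [mem_isometryGroup_iff, mem_isometryGroup_iff]
  exact transportHom_preserves_fn_iff e P Q M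

/-- `Ω` of the transported quadratic function corresponds to `Ω` under the transport. -/
theorem transportHom_mem_omegaGL_iff (e : ι ≃ κ) (P : GL ι F) (Q : (ι → F) → F) (M : GL κ F) :
    transportHom e P M ∈ omegaGL Q ↔
      M ∈ omegaGL (fun x : κ → F => Q ((P : Matrix ι ι F) *ᵥ (x ∘ e))) := by
  rw [omegaGL_eq_commutator, omegaGL_eq_commutator]
  have hI : isometryGroup F (fun x : κ → F => Q ((P : Matrix ι ι F) *ᵥ (x ∘ e))) =
      (isometryGroup F Q).comap (transportHom e P) := by
    ext M'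
    rw [Subgroup.mem_comap]
    exact (transportHom_mem_isometryGroup_iff e P Q M').symm
  have hmap : (isometryGroup F (fun x : κ → F => Q ((P : Matrix ι ι F) *ᵥ (x ∘ e)))).map
      (transportHom e P) = isometryGroup F Q := by
    rw [hI]
    exact Subgroup.map_comap_eq_self_of_surjective (transportHom_surjective e P) _
  rw [← hmap, ← Subgroup.map_commutator, Subgroup.mem_map_iff_mem (transportHom_injective e P)]

/-- The transported quadratic form `x ↦ Q (P (x ∘ e))`. -/
def qT (Qf : QuadraticForm F (ι → F)) (e : ι ≃ κ) (P : GL ι F) : QuadraticForm F (κ → F) :=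
  Qf.comp ((Matrix.mulVecLin (P : Matrix ι ι F)).comp (LinearMap.funLeft F F e))

omit [Fintype κ] [DecidableEq κ] in
theorem qT_apply (Qf : QuadraticForm F (ι → F)) (e : ι ≃ κ) (P : GL ι F) (x : κ → F) :
    qT Qf e P x = Qf ((P : Matrix ι ι F) *ᵥ (x ∘ e)) := rfl

omit [Fintype κ] [DecidableEq κ] in
theorem qT_coe (Qf : QuadraticForm F (ι → F)) (e : ι ≃ κ) (P : GL ι F) :
    ⇑(qT Qf e P) = fun x : κ → F => Qf ((P : Matrix ι ι F) *ᵥ (x ∘ e)) := rfl

omit [Fintype κ] [DecidableEq κ] in
theorem polar_qT (Qf : QuadraticForm F (ι → F)) (e : ι ≃ κ) (P : GL ι F) (x y : κ → F) :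
    QuadraticMap.polar (qT Qf e P) x y =
      QuadraticMap.polar Qf ((P : Matrix ι ι F) *ᵥ (x ∘ e)) ((P : Matrix ι ι F) *ᵥ (y ∘ e)) := by
  simp only [QuadraticMap.polar, qT_apply]
  rw [← Matrix.mulVec_add]
  rfl

end OmegaTransport

section Triple

variable {F : Type*} [Field F] {V : Type*} [AddCommGroup V] [Module F V] {f : V → V → F}

/-- Over the field with three elements, a non-degenerate symmetric bilinear form in dimension at least three
has two orthogonal vectors of the same non-zero norm and a non-zero vector orthogonal to both. -/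
theorem exists_orth_triple [Fintype F] (hq : Fintype.card F = 3) (hf : SymB f)
    (hnd : ∀ w : V, w ≠ 0 → ∃ x, f x w ≠ 0) [FiniteDimensional F V] (hdim : 3 ≤ Module.finrank F V) :
    ∃ u w y : V, f u u = f w w ∧ f u u ≠ 0 ∧ f u w = 0 ∧ y ≠ 0 ∧ f y u = 0 ∧ f y w = 0 := by
  have h2 : (2 : F) ≠ 0 := two_ne_zero_of_card_three hq
  have hinv : Invertible (2 : F) := invertibleOfNonzero h2
  have hsymm : LinearMap.IsSymm hf.toBilin :=
    LinearMap.BilinForm.isSymm_iff.mp ⟨fun x y => hf.symm x y⟩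
  obtain ⟨v, hv⟩ := LinearMap.BilinForm.exists_orthogonal_basis hsymm
  have horth : ∀ i j, i ≠ j → f (v i) (v j) = 0 := fun i j hij => hv hij
  have hnorm : ∀ i, f (v i) (v i) ≠ 0 := by
    intro i
    obtain ⟨x, hx⟩ := hnd (v i) (v.ne_zero i)
    intro h0
    apply hx
    rw [← v.sum_repr x, hf.sum_left]
    apply Finset.sum_eq_zero
    intro k _
    rw [hf.smul_left]
    by_cases hk : k = i
    · rw [hk, h0, mul_zero]
    · rw [horth k i hk, mul_zero]
  have hi : ∀ k : ℕ, k < 3 → k < Module.finrank F V := fun k hk => by omega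
  obtain ⟨a, ha⟩ : ∃ a : V, a = v ⟨0, hi 0 (by omega)⟩ := ⟨_, rfl⟩
  obtain ⟨b, hb⟩ : ∃ b : V, b = v ⟨1, hi 1 (by omega)⟩ := ⟨_, rfl⟩
  obtain ⟨d, hd⟩ : ∃ d : V, d = v ⟨2, hi 2 (by omega)⟩ := ⟨_, rfl⟩
  have hab : f a b = 0 := by rw [ha, hb]; exact horth _ _ (by simp [Fin.ext_iff])
  have had : f a d = 0 := by rw [ha, hd]; exact horth _ _ (by simp [Fin.ext_iff])
  have hbd : f b d = 0 := by rw [hb, hd]; exact horth _ _ (by simp [Fin.ext_iff])
  have haa : f a a ≠ 0 := by rw [ha]; exact hnorm _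
  have hbb : f b b ≠ 0 := by rw [hb]; exact hnorm _
  have hdd : f d d ≠ 0 := by rw [hd]; exact hnorm _
  have ha0 : a ≠ 0 := by rw [ha]; exact v.ne_zero _
  have hb0 : b ≠ 0 := by rw [hb]; exact v.ne_zero _
  have hd0 : d ≠ 0 := by rw [hd]; exact v.ne_zero _
  have hba : f b a = 0 := by rw [hf.symm, hab]
  have hda : f d a = 0 := by rw [hf.symm, had]
  have hdb : f d b = 0 := by rw [hf.symm, hbd]
  have neg_of_ne : ∀ s t : F, s ≠ 0 → t ≠ 0 → s ≠ t → t = -s := by
    intro s t hs ht hst
    rcases eq_one_or_neg_one_of_card_three hq hs with h | h <;>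
      rcases eq_one_or_neg_one_of_card_three hq ht with h' | h'
    · exact absurd (h.trans h'.symm) hst
    · rw [h, h']
    · rw [h, h', neg_neg]
    · exact absurd (h.trans h'.symm) hst
  by_cases h1 : f a a = f b b
  · exact ⟨a, b, d, h1, haa, hab, hd0, hda, hdb⟩
  · by_cases h2' : f a a = f d d
    · exact ⟨a, d, b, h2', haa, had, hb0, hba, hbd⟩
    · refine ⟨b, d, a, ?_, hbb, hbd, ha0, hab, had⟩
      rw [neg_of_ne _ _ haa hbb h1, neg_of_ne _ _ haa hdd h2']

end Triple

end Cfsg.Agent.Lib.helper95
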