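/-
S0406 piece C2: the number of coordinate vectors of norm 32 with respect to a frame.
-/
import Mathlib
import Cfsg.Agent.Lib.helper9.LcDefs
set_option autoImplicit false
open Matrix
namespace Cfsg.Agent.Lib.helper95
open Cfsg Cfsg.Agent.Lib.helper9

theorem lc_sqNorm_eq_dotInt (u : GolayPt → ℤ) : sqNorm u = dotInt u u := by
  unfold sqNorm dotInt
  exact Finset.sum_congr rfl (fun i _ => sq (u i))

theorem lc_frame_count (B : Matrix (Fin 24) (Fin 24) ℤ)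
    (hpos : ∀ x : Fin 24 → ℤ, x ≠ 0 → 0 < x ⬝ᵥ (B *ᵥ x))
    (h4 : {x : Fin 24 → ℤ | x ⬝ᵥ (B *ᵥ x) = 4}.ncard = 196560)
    (v : GolayPt → Fin 24 → ℤ)
    (hdot : ∀ x y : Fin 24 → ℤ, dotInt (lcMap B v x) (lcMap B v y) = 8 * (x ⬝ᵥ (B *ᵥ y))) :
    {u : GolayPt → ℤ | u ∈ lcLat B v ∧ sqNorm u = 32}.ncard = 196560 := by
  have hinj : Function.Injective (lcMap B v) := by
    rw [injective_iff_map_eq_zero]
    intro x hx
    by_contra hne
    have h1 := hpos x hne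
    have h2 := hdot x x
    rw [hx] at h2
    have h3 : dotInt (0 : GolayPt → ℤ) 0 = 0 := by simp [dotInt]
    rw [h3] at h2
    omega
  have hset : {u : GolayPt → ℤ | u ∈ lcLat B v ∧ sqNorm u = 32} =
      (lcMap B v) '' {x : Fin 24 → ℤ | x ⬝ᵥ (B *ᵥ x) = 4} := by
    ext u
    constructor
    · rintro ⟨⟨x, rfl⟩, hu⟩
      refine ⟨x, ?_, rfl⟩
      have h2 := hdot x x
      rw [lc_sqNorm_eq_dotInt] at hu
      show x ⬝ᵥ (B *ᵥ x) = 4
      omega
    · rintro ⟨x, hx, rfl⟩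
      refine ⟨⟨x, rfl⟩, ?_⟩
      have h2 := hdot x x
      have hx' : x ⬝ᵥ (B *ᵥ x) = 4 := hx
      show sqNorm (lcMap B v x) = 32
      rw [lc_sqNorm_eq_dotInt, h2, hx']
      norm_num
  rw [hset, Set.ncard_image_of_injective _ hinj, h4]

end Cfsg.Agent.Lib.helper95
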