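/-
S0406 piece K: the count of the vectors of norm 32 forces the code to have 759 octads and
4096 words, and the lattice to contain a vector with all coordinates odd.
-/
import Mathlib
import Cfsg.Agent.Lib.helper9.LcDefs
set_option autoImplicit false
open Matrix
namespace Cfsg.Agent.Lib.helper95
open Cfsg Cfsg.Agent.Lib.helper9

theorem lc_count_main (L : AddSubgroup (GolayPt → ℤ)) (hL : LcPre L)
    (hpar : ∀ u ∈ L, ∀ p q : GolayPt, (2 : ℤ) ∣ u p - u q)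
    (h1 : {u : GolayPt → ℤ | (∀ p, (4 : ℤ) ∣ u p) ∧ sqNorm u = 32}.ncard ≤ 1104)
    (h2 : {u : GolayPt → ℤ | u ∈ L ∧ sqNorm u = 32 ∧ (∀ p, (2 : ℤ) ∣ u p) ∧
        ¬ ∀ p, (4 : ℤ) ∣ u p}.ncard ≤
      128 * (wordsOfWeight (lcCode L : Set (GolayPt → ZMod 2)) 8).ncard)
    (h3 : {u : GolayPt → ℤ | u ∈ L ∧ sqNorm u = 32 ∧ ∀ p, ¬ (2 : ℤ) ∣ u p}.ncard ≤
      24 * Nat.card (lcCode L))
    (hA : (wordsOfWeight (lcCode L : Set (GolayPt → ZMod 2)) 8).ncard ≤ 759)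
    (hC : Nat.card (lcCode L) ≤ 4096) :
    (wordsOfWeight (lcCode L : Set (GolayPt → ZMod 2)) 8).ncard = 759 ∧
      Nat.card (lcCode L) = 4096 ∧ ∃ u ∈ L, ∀ p, ¬ (2 : ℤ) ∣ u p := by
  set S1 : Set (GolayPt → ℤ) := {u : GolayPt → ℤ | (∀ p, (4 : ℤ) ∣ u p) ∧ sqNorm u = 32}
    with hS1
  set S2 : Set (GolayPt → ℤ) := {u : GolayPt → ℤ | u ∈ L ∧ sqNorm u = 32 ∧
    (∀ p, (2 : ℤ) ∣ u p) ∧ ¬ ∀ p, (4 : ℤ) ∣ u p} with hS2
  set S3 : Set (GolayPt → ℤ) := {u : GolayPt → ℤ | u ∈ L ∧ sqNorm u = 32 ∧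
    ∀ p, ¬ (2 : ℤ) ∣ u p} with hS3
  have hfin : {u : GolayPt → ℤ | sqNorm u = 32}.Finite := lc_finite_sqNorm 32
  have hsub : {u : GolayPt → ℤ | u ∈ L ∧ sqNorm u = 32} ⊆ S1 ∪ S2 ∪ S3 := by
    rintro u ⟨huL, hu⟩
    by_cases he : ∀ p, (2 : ℤ) ∣ u p
    · by_cases h4 : ∀ p, (4 : ℤ) ∣ u p
      · left; left; exact ⟨h4, hu⟩
      · left; right; exact ⟨huL, hu, he, h4⟩
    · right
      refine ⟨huL, hu, ?_⟩
      push Not at he
      obtain ⟨q, hq⟩ := he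
      intro p hp
      apply hq
      have := hpar u huL p q
      omega
  have hfin1 : S1.Finite := hfin.subset (fun u hu => hu.2)
  have hfin2 : S2.Finite := hfin.subset (fun u hu => hu.2.1)
  have hfin3 : S3.Finite := hfin.subset (fun u hu => hu.2.1)
  have hle : {u : GolayPt → ℤ | u ∈ L ∧ sqNorm u = 32}.ncard ≤
      S1.ncard + S2.ncard + S3.ncard := by
    have e1 : {u : GolayPt → ℤ | u ∈ L ∧ sqNorm u = 32}.ncard ≤ (S1 ∪ S2 ∪ S3).ncard :=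
      Set.ncard_le_ncard hsub ((hfin1.union hfin2).union hfin3)
    have e2 : (S1 ∪ S2 ∪ S3).ncard ≤ (S1 ∪ S2).ncard + S3.ncard := Set.ncard_union_le _ _
    have e3 : (S1 ∪ S2).ncard ≤ S1.ncard + S2.ncard := Set.ncard_union_le _ _
    omega
  rw [hL.count] at hle
  have hodd : ∃ u ∈ L, ∀ p, ¬ (2 : ℤ) ∣ u p := by
    by_contra hno
    have hemp : S3 = ∅ := by
      ext u
      constructor
      · rintro ⟨huL, _, hu⟩
        exact hno ⟨u, huL, hu⟩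
      · intro h
        exact absurd h (Set.notMem_empty u)
    rw [hemp, Set.ncard_empty] at hle
    omega
  refine ⟨?_, ?_, hodd⟩ <;> omega

end Cfsg.Agent.Lib.helper95
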