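import Cfsg.Agent.Lib.helper77.APPPOW
import Cfsg.Agent.Lib.helper61.APGREEDY
import Cfsg.Agent.Lib.helper29.APINTV
import Cfsg.Agent.Lib.helper57.APB0
import Cfsg.Agent.Lib.helper77.APRED

/-!
# S2276: piece CATBIG (racing copy of helper95)
-/

set_option autoImplicit false

namespace Cfsg.Agent.Lib.helper95.AP

open Equiv

/-- [CATBIG] racing copy -/
theorem helper95_catbig (n : ℕ) (p : ℕ) (hp : p.Prime) (hp3 : 3 ≤ p) (U W : Perm (Fin n))
    (hW : W ≠ 1)
    (hW' : ∃ k : ℕ, orderOf W = p ^ k) (e : ℕ) (h5 : 5 ≤ p ^ e)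
    (hM : p ^ e ∈ U.cycleType) (hWM : ∀ c ∈ W.cycleType, c ≤ p ^ e) :
    ∃ g : Perm (Fin n), Perm.sign g = 1 ∧ Good p U (g * W * g⁻¹) := by
  have h2 : 2 ≤ p ^ e := by omega
  have hact : (finRotate (p ^ e)).cycleType = {p ^ e} := cycleType_finRotate_of_le h2
  have hasupp : (finRotate (p ^ e)).support.card = p ^ e := by
    rw [support_finRotate_of_le h2, Finset.card_univ, Fintype.card_fin]
  have ha : (finRotate (p ^ e)).cycleType ≤ U.cycleType := by
    rw [hact]; exact Multiset.singleton_le.2 hM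
  have ha' : p ^ e - (finRotate (p ^ e)).support.card ≤ n - U.support.card := by
    rw [hasupp]; omega
  have hUn : ∀ V : Perm (Fin n), V.cycleType.sum ≤ n := by
    intro V
    have := Perm.sum_cycleType_le V
    simpa using this
  by_cases hMW : p ^ e ∈ W.cycleType
  · obtain ⟨b, hbct, hgood⟩ := b0 p hp hp3 e h5
    have hbsupp : b.support.card = p ^ e := by
      rw [← Perm.sum_cycleType, hbct, Multiset.sum_singleton]
    have hb : b.cycleType ≤ W.cycleType := by
      rw [hbct]; exact Multiset.singleton_le.2 hMW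
    have hb' : p ^ e - b.support.card ≤ n - W.support.card := by
      rw [hbsupp]; omega
    exact red p hp U W (finRotate (p ^ e)) b ha ha' hb hb' hgood
  · have hμ0 : W.cycleType ≠ 0 := fun h => hW (Perm.cycleType_eq_zero.1 h)
    have hμ : ∀ c ∈ W.cycleType, ∃ j : ℕ, 1 ≤ j ∧ c = p ^ j ∧ c < p ^ e := by
      intro c hc
      obtain ⟨j, hj, hcj⟩ := ppow p hp W hW' c hc
      refine ⟨j, hj, hcj, lt_of_le_of_ne (hWM c hc) ?_⟩
      rintro rfl
      exact hMW hc
    have hn : p ^ e ≤ n := by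
      have h1 : p ^ e ≤ U.cycleType.sum := Multiset.single_le_sum (fun _ _ => Nat.zero_le _) _ hM
      exact h1.trans (hUn U)
    have hsum : W.cycleType.sum ≤ n := hUn W
    obtain ⟨L, hL0, hsort, hLle, hLsum, hLrem⟩ :=
      greedy p hp e n W.cycleType hμ0 hμ hn hsum
    have hpow : ∀ l ∈ L, ∃ j : ℕ, 1 ≤ j ∧ l = p ^ j ∧ l < p ^ e := by
      intro l hl
      exact hμ l (Multiset.mem_of_le hLle (Multiset.mem_coe.2 hl))
    obtain ⟨b, hbct, hgood⟩ := h29_intv p hp hp3 e L hL0 hsort hpow hLsum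
    have hbsupp : b.support.card = L.sum := by
      rw [← Perm.sum_cycleType, hbct, Multiset.sum_coe]
    have hb : b.cycleType ≤ W.cycleType := by
      rw [hbct]; exact hLle
    have hb' : p ^ e - b.support.card ≤ n - W.support.card := by
      rw [hbsupp, ← Perm.sum_cycleType W]; exact hLrem
    exact red p hp U W (finRotate (p ^ e)) b ha ha' hb hb' hgood

end Cfsg.Agent.Lib.helper95.AP
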