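import Cfsg.Agent.Lib.helper95.APCatbig
import Cfsg.Agent.Lib.helper31.APCAT3
import Cfsg.Agent.Lib.helper9.APSYM
import Cfsg.Agent.Lib.helper77.APPPOW

/-!
# S2276: the case split (CORE)
-/

set_option autoImplicit false

namespace Cfsg.Agent.Lib.helper95.AP

open Equiv

/-- asymmetric form: the longest cycle of `U` is at least as long as every cycle of `W` -/
theorem core_key (n : ℕ) (hn : 5 ≤ n) (p : ℕ) (hp : p.Prime) (hp3 : 3 ≤ p) (U W : Perm (Fin n))
    (hU : U ≠ 1) (hW : W ≠ 1) (hU' : ∃ k : ℕ, orderOf U = p ^ k)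
    (hW' : ∃ k : ℕ, orderOf W = p ^ k) (M : ℕ) (hM : M ∈ U.cycleType)
    (hUM : ∀ c ∈ U.cycleType, c ≤ M) (hWM : ∀ c ∈ W.cycleType, c ≤ M) :
    ∃ g : Perm (Fin n), Perm.sign g = 1 ∧ Good p U (g * W * g⁻¹) := by
  obtain ⟨e, he, rfl⟩ := ppow p hp U hU' M hM
  by_cases h5 : 5 ≤ p ^ e
  · exact helper95_catbig n p hp hp3 U W hW hW' e h5 hM hWM
  · have h5' : p ^ e < 5 := not_le.1 h5
    have hple : p ≤ p ^ e := Nat.le_self_pow (by omega) p
    have hp_eq : p = 3 := by
      have hp5 : p < 5 := lt_of_le_of_lt hple h5'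
      interval_cases p
      · rfl
      · exact absurd hp (by decide)
    subst hp_eq
    have he1 : e = 1 := by
      by_contra hne
      have h2 : 2 ≤ e := by omega
      have h9 : 3 ^ 2 ≤ 3 ^ e := Nat.pow_le_pow_right (by norm_num) h2
      omega
    subst he1
    have hall : ∀ (V : Perm (Fin n)), (∃ k : ℕ, orderOf V = 3 ^ k) →
        (∀ c ∈ V.cycleType, c ≤ 3 ^ 1) → ∀ c ∈ V.cycleType, c = 3 := by
      intro V hV hle c hc
      obtain ⟨j, hj, rfl⟩ := ppow 3 hp V hV c hc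
      have hle' := hle _ hc
      have hj1 : j = 1 := by
        by_contra hne
        have h2 : 2 ≤ j := by omega
        have h9 : 3 ^ 2 ≤ 3 ^ j := Nat.pow_le_pow_right (by norm_num) h2
        omega
      subst hj1
      norm_num
    exact cat3 n hn U W hU hW (hall U hU' hUM) (hall W hW' hWM)

/-- [CORE] uses CAT3, CATBIG, SYM, PPOW -/
theorem core (n : ℕ) (hn : 5 ≤ n) (p : ℕ) (hp : p.Prime) (hp3 : 3 ≤ p) (U W : Perm (Fin n))
    (hU : U ≠ 1) (hW : W ≠ 1) (hU' : ∃ k : ℕ, orderOf U = p ^ k)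
    (hW' : ∃ k : ℕ, orderOf W = p ^ k) :
    ∃ g : Perm (Fin n), Perm.sign g = 1 ∧ Good p U (g * W * g⁻¹) := by
  classical
  have hne : ∀ V : Perm (Fin n), V ≠ 1 → V.cycleType.toFinset.Nonempty := by
    intro V hV
    have h0 : V.cycleType ≠ 0 := fun h => hV (Perm.cycleType_eq_zero.1 h)
    obtain ⟨c, hc⟩ := Multiset.exists_mem_of_ne_zero h0
    exact ⟨c, Multiset.mem_toFinset.2 hc⟩
  have hUne := hne U hU
  have hWne := hne W hW
  have hMU : U.cycleType.toFinset.max' hUne ∈ U.cycleType :=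
    Multiset.mem_toFinset.1 (Finset.max'_mem _ _)
  have hMW : W.cycleType.toFinset.max' hWne ∈ W.cycleType :=
    Multiset.mem_toFinset.1 (Finset.max'_mem _ _)
  have hUle : ∀ c ∈ U.cycleType, c ≤ U.cycleType.toFinset.max' hUne :=
    fun c hc => Finset.le_max' _ c (Multiset.mem_toFinset.2 hc)
  have hWle : ∀ c ∈ W.cycleType, c ≤ W.cycleType.toFinset.max' hWne :=
    fun c hc => Finset.le_max' _ c (Multiset.mem_toFinset.2 hc)
  rcases le_total (W.cycleType.toFinset.max' hWne) (U.cycleType.toFinset.max' hUne) with h | h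
  · exact core_key n hn p hp hp3 U W hU hW hU' hW' _ hMU hUle (fun c hc => (hWle c hc).trans h)
  · exact sym p U W
      (core_key n hn p hp hp3 W U hW hU hW' hU' _ hMW hWle (fun c hc => (hUle c hc).trans h))

end Cfsg.Agent.Lib.helper95.AP
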