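import Cfsg.Agent.Lib.helper95.B2B
import Cfsg.Agent.Lib.helper34.B2A
import Cfsg.Agent.Lib.helper98.B2C1
import Cfsg.Agent.Lib.helper98.B2C2
import Cfsg.Agent.Lib.helper52.B2C3
import Cfsg.Agent.Lib.helper52.B2D
import Cfsg.Agent.Lib.helper32.B2E1
import Cfsg.Agent.Lib.helper64.B2FIN
import Cfsg.Agent.Lib.helper50.IsoReindex

/-!
# S1083: assembly of `B₂(F) ≅ PΩ₅(F)`
-/

set_option autoImplicit false

namespace Cfsg.Agent.Lib.helper95.B2

open Matrix Cfsg Cfsg.Lie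

variable {F : Type*} [Field F]

/-! ### generic helpers -/

theorem asm_mat_eq_one {n : Type*} [Fintype n] [DecidableEq n] (M : Matrix n n F)
    (h : ∀ c : n → F, M *ᵥ c = c) : M = 1 := by
  ext i j
  have h1 := congrFun (h (Pi.single j 1)) i
  rw [Matrix.mulVec_single_one] at h1
  have h2 : M i j = M.col j i := rfl
  rw [Matrix.one_apply, h2, h1, Pi.single_apply]

theorem asm_center_bot {A B : Type*} [Group A] [Group B] (ψ : A ≃* B)
    (h : Subgroup.center B = ⊥) : Subgroup.center A = ⊥ := by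
  rw [eq_bot_iff]
  intro x hx
  rw [Subgroup.mem_bot]
  have h1 : ψ x ∈ Subgroup.center B := by
    rw [Subgroup.mem_center_iff]
    intro b
    rw [Subgroup.mem_center_iff] at hx
    have := hx (ψ.symm b)
    have h2 := congrArg ψ this
    simpa using h2
  rw [h, Subgroup.mem_bot] at h1
  simpa using h1

/-! ### the invariants of `Gam` -/

/-- the three invariants carried by every element of `Gam F` -/
structure GamInv (p : GL (Fin 4) F × GL chevB2.Idx F × GL (Fin 5) F) : Prop where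
  ad : ∀ c : chevB2.Idx → F, (p.1 : Matrix (Fin 4) (Fin 4) F) * Lmap c
      = Lmap ((p.2.1 : Matrix chevB2.Idx chevB2.Idx F) *ᵥ c) * (p.1 : Matrix (Fin 4) (Fin 4) F)
  wedge : ∀ c : Fin 5 → F,
      (p.1 : Matrix (Fin 4) (Fin 4) F) * Wmap c * (p.1 : Matrix (Fin 4) (Fin 4) F)ᵀ
      = Wmap ((p.2.2 : Matrix (Fin 5) (Fin 5) F) *ᵥ c)
  symp : (p.1 : Matrix (Fin 4) (Fin 4) F)ᵀ * J4 * (p.1 : Matrix (Fin 4) (Fin 4) F) = J4

theorem gamInv_one : GamInv (1 : GL (Fin 4) F × GL chevB2.Idx F × GL (Fin 5) F) := by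
  refine ⟨fun c => ?_, fun c => ?_, ?_⟩ <;> simp

theorem gamInv_mul (p q : GL (Fin 4) F × GL chevB2.Idx F × GL (Fin 5) F)
    (hp : GamInv p) (hq : GamInv q) : GamInv (p * q) := by
  refine ⟨fun c => ?_, fun c => ?_, ?_⟩
  · simp only [Prod.fst_mul, Prod.snd_mul, Units.val_mul]
    rw [Matrix.mul_assoc, hq.ad, ← Matrix.mul_assoc, hp.ad, Matrix.mul_assoc, Matrix.mulVec_mulVec]
  · simp only [Prod.fst_mul, Prod.snd_mul, Units.val_mul, Matrix.transpose_mul]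
    rw [← Matrix.mulVec_mulVec, ← hp.wedge, ← hq.wedge]
    simp only [Matrix.mul_assoc]
  · simp only [Prod.fst_mul, Units.val_mul, Matrix.transpose_mul]
    calc (q.1 : Matrix (Fin 4) (Fin 4) F)ᵀ * (p.1 : Matrix (Fin 4) (Fin 4) F)ᵀ * J4 *
          ((p.1 : Matrix (Fin 4) (Fin 4) F) * (q.1 : Matrix (Fin 4) (Fin 4) F))
        = (q.1 : Matrix (Fin 4) (Fin 4) F)ᵀ * ((p.1 : Matrix (Fin 4) (Fin 4) F)ᵀ * J4 *
          (p.1 : Matrix (Fin 4) (Fin 4) F)) * (q.1 : Matrix (Fin 4) (Fin 4) F) := by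
          simp only [Matrix.mul_assoc]
      _ = J4 := by rw [hp.symp, hq.symp]

theorem gamInv_inv (p : GL (Fin 4) F × GL chevB2.Idx F × GL (Fin 5) F)
    (hp : GamInv p) : GamInv p⁻¹ := by
  have e1 : ((p.1⁻¹ : GL (Fin 4) F) : Matrix (Fin 4) (Fin 4) F) * (p.1 : Matrix (Fin 4) (Fin 4) F) = 1 := by
    rw [← Units.val_mul]; simp
  have e2 : (p.1 : Matrix (Fin 4) (Fin 4) F) * ((p.1⁻¹ : GL (Fin 4) F) : Matrix (Fin 4) (Fin 4) F) = 1 := by
    rw [← Units.val_mul]; simp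
  have e3 : (p.2.1 : Matrix chevB2.Idx chevB2.Idx F) *
      ((p.2.1⁻¹ : GL chevB2.Idx F) : Matrix chevB2.Idx chevB2.Idx F) = 1 := by
    rw [← Units.val_mul]; simp
  have e4 : (p.2.2 : Matrix (Fin 5) (Fin 5) F) *
      ((p.2.2⁻¹ : GL (Fin 5) F) : Matrix (Fin 5) (Fin 5) F) = 1 := by
    rw [← Units.val_mul]; simp
  refine ⟨fun c => ?_, fun c => ?_, ?_⟩
  · simp only [Prod.fst_inv, Prod.snd_inv]
    have h := hp.ad (((p.2.1⁻¹ : GL chevB2.Idx F) : Matrix chevB2.Idx chevB2.Idx F) *ᵥ c)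
    rw [Matrix.mulVec_mulVec, e3, Matrix.one_mulVec] at h
    calc ((p.1⁻¹ : GL (Fin 4) F) : Matrix (Fin 4) (Fin 4) F) * Lmap c
        = ((p.1⁻¹ : GL (Fin 4) F) : Matrix (Fin 4) (Fin 4) F) *
            (Lmap c * (p.1 : Matrix (Fin 4) (Fin 4) F)) *
            ((p.1⁻¹ : GL (Fin 4) F) : Matrix (Fin 4) (Fin 4) F) := by
          rw [Matrix.mul_assoc, Matrix.mul_assoc, e2, Matrix.mul_one]
      _ = _ := by
          rw [← h, ← Matrix.mul_assoc, e1, Matrix.one_mul]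
  · simp only [Prod.fst_inv, Prod.snd_inv]
    have h := hp.wedge (((p.2.2⁻¹ : GL (Fin 5) F) : Matrix (Fin 5) (Fin 5) F) *ᵥ c)
    rw [Matrix.mulVec_mulVec, e4, Matrix.one_mulVec] at h
    rw [← h]
    have e5 : (p.1 : Matrix (Fin 4) (Fin 4) F)ᵀ *
        (((p.1⁻¹ : GL (Fin 4) F) : Matrix (Fin 4) (Fin 4) F))ᵀ = 1 := by
      rw [← Matrix.transpose_mul, e1, Matrix.transpose_one]
    calc ((p.1⁻¹ : GL (Fin 4) F) : Matrix (Fin 4) (Fin 4) F) *
          ((p.1 : Matrix (Fin 4) (Fin 4) F) *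
            Wmap (((p.2.2⁻¹ : GL (Fin 5) F) : Matrix (Fin 5) (Fin 5) F) *ᵥ c) *
            (p.1 : Matrix (Fin 4) (Fin 4) F)ᵀ) *
          (((p.1⁻¹ : GL (Fin 4) F) : Matrix (Fin 4) (Fin 4) F))ᵀ
        = (((p.1⁻¹ : GL (Fin 4) F) : Matrix (Fin 4) (Fin 4) F) * (p.1 : Matrix (Fin 4) (Fin 4) F)) *
            Wmap (((p.2.2⁻¹ : GL (Fin 5) F) : Matrix (Fin 5) (Fin 5) F) *ᵥ c) *
            ((p.1 : Matrix (Fin 4) (Fin 4) F)ᵀ *
              (((p.1⁻¹ : GL (Fin 4) F) : Matrix (Fin 4) (Fin 4) F))ᵀ) := by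
          simp only [Matrix.mul_assoc]
      _ = _ := by rw [e1, e5, Matrix.one_mul, Matrix.mul_one]
  · simp only [Prod.fst_inv]
    have e5 : (p.1 : Matrix (Fin 4) (Fin 4) F)ᵀ *
        (((p.1⁻¹ : GL (Fin 4) F) : Matrix (Fin 4) (Fin 4) F))ᵀ = 1 := by
      rw [← Matrix.transpose_mul, e1, Matrix.transpose_one]
    have e6 : (((p.1⁻¹ : GL (Fin 4) F) : Matrix (Fin 4) (Fin 4) F))ᵀ *
        (p.1 : Matrix (Fin 4) (Fin 4) F)ᵀ = 1 := by
      rw [← Matrix.transpose_mul, e2, Matrix.transpose_one]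
    calc (((p.1⁻¹ : GL (Fin 4) F) : Matrix (Fin 4) (Fin 4) F))ᵀ * J4 *
          ((p.1⁻¹ : GL (Fin 4) F) : Matrix (Fin 4) (Fin 4) F)
        = (((p.1⁻¹ : GL (Fin 4) F) : Matrix (Fin 4) (Fin 4) F))ᵀ *
            ((p.1 : Matrix (Fin 4) (Fin 4) F)ᵀ * J4 * (p.1 : Matrix (Fin 4) (Fin 4) F)) *
            ((p.1⁻¹ : GL (Fin 4) F) : Matrix (Fin 4) (Fin 4) F) := by rw [hp.symp]
      _ = ((((p.1⁻¹ : GL (Fin 4) F) : Matrix (Fin 4) (Fin 4) F))ᵀ *
            (p.1 : Matrix (Fin 4) (Fin 4) F)ᵀ) * J4 * ((p.1 : Matrix (Fin 4) (Fin 4) F) *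
            ((p.1⁻¹ : GL (Fin 4) F) : Matrix (Fin 4) (Fin 4) F)) := by
          simp only [Matrix.mul_assoc]
      _ = J4 := by rw [e6, e2, Matrix.one_mul, Matrix.mul_one]

theorem gam_inv (p : GL (Fin 4) F × GL chevB2.Idx F × GL (Fin 5) F) (hp : p ∈ Gam F) :
    GamInv p := by
  unfold Gam at hp
  induction hp using Subgroup.closure_induction with
  | mem p hp =>
    obtain ⟨r, t, h1, h2, h3⟩ := hp
    refine ⟨fun c => ?_, fun c => ?_, ?_⟩
    · rw [h1, h2]; exact ad_rel r t c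
    · rw [h1, h3]; exact wedge_rel r t c
    · rw [h1]; exact X4_J r t
  | one => exact gamInv_one
  | mul p q _ _ hp hq => exact gamInv_mul p q hp hq
  | inv p _ hp => exact gamInv_inv p hp

/-- if the `GL₄`-component is a scalar, the `GL₅`-component is trivial -/
theorem gamInv_scalar (p : GL (Fin 4) F × GL chevB2.Idx F × GL (Fin 5) F) (hi : GamInv p)
    (a : F) (ha : (p.1 : Matrix (Fin 4) (Fin 4) F) = a • (1 : Matrix (Fin 4) (Fin 4) F)) :
    p.2.2 = 1 := by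
  have h2 : a * a = 1 := by
    have h := hi.symp
    rw [ha] at h
    have h' := congrFun (congrFun h 0) 2
    simpa [J4, Matrix.mul_apply, Fin.sum_univ_succ, Matrix.one_apply] using h'
  apply Units.ext
  rw [Units.val_one]
  apply asm_mat_eq_one
  intro c
  apply Wmap_inj
  rw [← hi.wedge c, ha]
  simp only [Matrix.transpose_smul, Matrix.transpose_one, Matrix.smul_mul, Matrix.mul_smul,
    Matrix.one_mul, Matrix.mul_one, smul_smul, h2, one_smul]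

/-- if the `GL₅`-component is trivial, the `GL₄`-component is `±1` -/
theorem gamInv_pm (p : GL (Fin 4) F × GL chevB2.Idx F × GL (Fin 5) F) (hi : GamInv p)
    (h : p.2.2 = 1) :
    (p.1 : Matrix (Fin 4) (Fin 4) F) = 1 ∨ (p.1 : Matrix (Fin 4) (Fin 4) F) = -1 := by
  apply fix_Wmap
  intro c
  have h1 := hi.wedge c
  rw [h] at h1
  simpa using h1

theorem gam_ker (p : GL (Fin 4) F × GL chevB2.Idx F × GL (Fin 5) F) (hp : p ∈ Gam F) :
    p.2.1 = 1 ↔ p.2.2 = 1 := by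
  have hi := gam_inv p hp
  constructor
  · intro h
    have h1 : ∀ c : chevB2.Idx → F, (p.1 : Matrix (Fin 4) (Fin 4) F) * Lmap c
        = Lmap c * (p.1 : Matrix (Fin 4) (Fin 4) F) := by
      intro c
      have h2 := hi.ad c
      rw [h] at h2
      simpa using h2
    obtain ⟨a, ha⟩ := comm_Lmap _ h1
    exact gamInv_scalar p hi a ha
  · intro h
    apply Units.ext
    rw [Units.val_one]
    apply asm_mat_eq_one
    intro c
    apply Lmap_inj
    have h2 := hi.ad c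
    rcases gamInv_pm p hi h with h1 | h1
    · rw [h1] at h2
      simpa using h2.symm
    · rw [h1] at h2
      simpa using h2.symm

/-! ### the generators as units -/

/-- `X4 r t` as a unit -/
def X4u (r : Fin 8) (t : F) : GL (Fin 4) F :=
  ⟨X4 r t, X4 r (-t), by rw [X4_add, add_neg_cancel, X4_zero],
    by rw [X4_add, neg_add_cancel, X4_zero]⟩

/-- `N5 r t` as a unit -/
def N5u (r : Fin 8) (t : F) : GL (Fin 5) F :=
  ⟨N5 r t, N5 r (-t), by rw [N5_add, add_neg_cancel, N5_zero],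
    by rw [N5_add, neg_add_cancel, N5_zero]⟩

theorem xMat_mul_neg (r : Fin 8) (t : F) :
    chevB2.xMat F r t * chevB2.xMat F r (-t) = 1 := by
  apply asm_mat_eq_one
  intro c
  apply Lmap_inj
  rw [← Matrix.mulVec_mulVec]
  have h1 := ad_rel r t (chevB2.xMat F r (-t) *ᵥ c)
  have h2 := ad_rel r (-t) c
  have e1 : X4 r t * X4 r (-t) = 1 := by rw [X4_add, add_neg_cancel, X4_zero]
  calc Lmap (chevB2.xMat F r t *ᵥ (chevB2.xMat F r (-t) *ᵥ c))
      = Lmap (chevB2.xMat F r t *ᵥ (chevB2.xMat F r (-t) *ᵥ c)) * (X4 r t * X4 r (-t)) := by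
        rw [e1, Matrix.mul_one]
    _ = X4 r t * (Lmap (chevB2.xMat F r (-t) *ᵥ c) * X4 r (-t)) := by
        rw [← Matrix.mul_assoc, ← h1, Matrix.mul_assoc]
    _ = Lmap c := by
        rw [← h2, ← Matrix.mul_assoc, e1, Matrix.one_mul]

/-- `chevB2.xMat F r t` as a unit -/
def xMatU (r : Fin 8) (t : F) : GL chevB2.Idx F :=
  ⟨chevB2.xMat F r t, chevB2.xMat F r (-t), xMat_mul_neg r t, by
    have := xMat_mul_neg r (-t) (F := F)
    rwa [neg_neg] at this⟩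

theorem gen_mem_Gam (r : Fin 8) (t : F) : (X4u r t, xMatU r t, N5u r t) ∈ Gam F :=
  Subgroup.subset_closure ⟨r, t, rfl, rfl, rfl⟩

/-! ### the two projections of `Gam` -/

theorem gam_map_B :
    (Gam F).map ((MonoidHom.fst (GL chevB2.Idx F) (GL (Fin 5) F)).comp
      (MonoidHom.snd (GL (Fin 4) F) (GL chevB2.Idx F × GL (Fin 5) F))) = chevB2.group F := by
  unfold Gam ChevalleyDatum.group
  rw [MonoidHom.map_closure]
  congr 1
  ext g
  constructor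
  · rintro ⟨p, ⟨r, t, _, h2, _⟩, rfl⟩
    exact ⟨r, t, h2⟩
  · rintro ⟨r, t, h⟩
    exact ⟨(X4u r t, g, N5u r t), ⟨r, t, rfl, h, rfl⟩, rfl⟩

theorem gam_map_E :
    (Gam F).map ((MonoidHom.snd (GL chevB2.Idx F) (GL (Fin 5) F)).comp
      (MonoidHom.snd (GL (Fin 4) F) (GL chevB2.Idx F × GL (Fin 5) F))) = E5 F := by
  unfold Gam E5
  rw [MonoidHom.map_closure]
  congr 1
  ext g
  constructor
  · rintro ⟨p, ⟨r, t, _, _, h3⟩, rfl⟩
    exact ⟨r, t, h3⟩
  · rintro ⟨r, t, h⟩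
    exact ⟨(X4u r t, xMatU r t, g), ⟨r, t, rfl, rfl, h⟩, rfl⟩

theorem chev_equiv_E5 : Nonempty (↥(chevB2.group F) ≃* ↥(E5 F)) := by
  obtain ⟨e⟩ := goursat (Gam F) gam_ker
  exact ⟨(MulEquiv.subgroupCongr gam_map_B.symm).trans (e.trans (MulEquiv.subgroupCongr gam_map_E))⟩

/-! ### `E5` is the commutator subgroup of `O5` -/

theorem E5_eq_comm (hF : ∃ a : F, a ≠ 0 ∧ a ≠ 1) :
    (commutator ↥(O5 F)).map (O5 F).subtype = E5 F := by
  obtain ⟨a, ha0, ha1⟩ := hF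
  apply le_antisymm
  · rintro _ ⟨x, hx, rfl⟩
    exact comm_le_E5 x hx
  · unfold E5
    rw [Subgroup.closure_le]
    rintro g ⟨r, t, h⟩
    have hg : g ∈ O5 F := E5_le_O5 (Subgroup.subset_closure ⟨r, t, h⟩)
    exact ⟨⟨g, hg⟩, N5_mem_comm a ha0 ha1 r t ⟨g, hg⟩ h, rfl⟩

/-! ### the centre of `E5` is trivial -/

theorem E5_center_aux (n : GL (Fin 5) F) (hn : n ∈ E5 F) (hc : ∀ m ∈ E5 F, m * n = n * m) :
    n = 1 := by
  rw [← gam_map_E] at hn
  obtain ⟨p, hp, rfl⟩ := hn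
  have hi := gam_inv p hp
  have hg0 : (p.1 : Matrix (Fin 4) (Fin 4) F) ≠ 0 := by
    intro h0
    have e2 : (p.1 : Matrix (Fin 4) (Fin 4) F) * ((p.1⁻¹ : GL (Fin 4) F) : Matrix (Fin 4) (Fin 4) F) = 1 := by
      rw [← Units.val_mul]; simp
    rw [h0, Matrix.zero_mul] at e2
    exact zero_ne_one e2
  have key : ∀ r : Fin 8, (p.1 : Matrix (Fin 4) (Fin 4) F) * X4 r 1
      = X4 r 1 * (p.1 : Matrix (Fin 4) (Fin 4) F) ∨
      (p.1 : Matrix (Fin 4) (Fin 4) F) * X4 r 1 = -(X4 r 1 * (p.1 : Matrix (Fin 4) (Fin 4) F)) := by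
    intro r
    have hq := gen_mem_Gam r (1 : F)
    have hk : p * (X4u r 1, xMatU r 1, N5u r 1) * p⁻¹ * (X4u r 1, xMatU r 1, N5u r 1)⁻¹ ∈ Gam F :=
      (Gam F).mul_mem ((Gam F).mul_mem ((Gam F).mul_mem hp hq) ((Gam F).inv_mem hp))
        ((Gam F).inv_mem hq)
    have hN : N5u r (1 : F) ∈ E5 F := Subgroup.subset_closure ⟨r, 1, rfl⟩
    have h3 : (p * (X4u r 1, xMatU r 1, N5u r 1) * p⁻¹ * (X4u r 1, xMatU r 1, N5u r 1)⁻¹).2.2 = 1 := by
      simp only [Prod.snd_mul, Prod.snd_inv]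
      have h5 := hc _ hN
      have e' : ((MonoidHom.snd (GL chevB2.Idx F) (GL (Fin 5) F)).comp
          (MonoidHom.snd (GL (Fin 4) F) (GL chevB2.Idx F × GL (Fin 5) F))) p = p.2.2 := rfl
      rw [e'] at h5
      rw [← h5]
      group
    have h4 := gamInv_pm _ (gam_inv _ hk) h3
    simp only [Prod.fst_mul, Prod.fst_inv] at h4
    have e : ((p.1 * X4u r 1 * p.1⁻¹ * (X4u r 1)⁻¹ : GL (Fin 4) F) : Matrix (Fin 4) (Fin 4) F) *
        (X4 r 1 * (p.1 : Matrix (Fin 4) (Fin 4) F)) = (p.1 : Matrix (Fin 4) (Fin 4) F) * X4 r 1 := by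
      have e0 : (p.1 * X4u r 1 * p.1⁻¹ * (X4u r 1)⁻¹ : GL (Fin 4) F) * (X4u r 1 * p.1) = p.1 * X4u r 1 := by
        group
      have h6 := congrArg (fun u : GL (Fin 4) F => (u : Matrix (Fin 4) (Fin 4) F)) e0
      have hx : ((X4u r 1 : GL (Fin 4) F) : Matrix (Fin 4) (Fin 4) F) = X4 r 1 := rfl
      simp only [Units.val_mul] at h6
      rw [hx] at h6
      exact h6
    rcases h4 with h4 | h4
    · left
      rw [← e, h4, Matrix.one_mul]
    · right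
      rw [← e, h4, Matrix.neg_mul, Matrix.one_mul]
  obtain ⟨a, ha⟩ := comm_X4 _ hg0 key
  exact gamInv_scalar p hi a ha

theorem E5_center : Subgroup.center ↥(E5 F) = ⊥ := by
  rw [eq_bot_iff]
  intro x hx
  rw [Subgroup.mem_bot]
  rw [Subgroup.mem_center_iff] at hx
  apply Subtype.ext
  apply E5_center_aux x.1 x.2
  intro m hm
  have := hx ⟨m, hm⟩
  exact congrArg Subtype.val this

/-! ### the final isomorphism -/

/-- the reindexing `Unit ⊕ (Fin 2 ⊕ Fin 2) ≃ Fin 5` -/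
def idx5 : Unit ⊕ (Fin 2 ⊕ Fin 2) ≃ Fin 5 where
  toFun x := match x with
    | Sum.inl _ => 0
    | Sum.inr (Sum.inl i) => ⟨i.val + 1, by omega⟩
    | Sum.inr (Sum.inr i) => ⟨i.val + 3, by omega⟩
  invFun k := if k.val = 0 then Sum.inl () else
    if h : k.val ≤ 2 then Sum.inr (Sum.inl ⟨k.val - 1, by omega⟩)
    else Sum.inr (Sum.inr ⟨k.val - 3, by omega⟩)
  left_inv x := by
    rcases x with _ | i | i
    · rfl
    · fin_cases i <;> rfl
    · fin_cases i <;> rfl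
  right_inv k := by
    fin_cases k <;> rfl

theorem quad_reindex :
    (fun v : Fin 5 → F => Cfsg.quadFormOdd 2 F (v ∘ idx5)) = Q5 := by
  funext v
  simp [Cfsg.quadFormOdd, Q5, Fin.sum_univ_two, idx5]
  ring

theorem comm_map_equiv {A B : Type*} [Group A] [Group B] (φ : A ≃* B) :
    (commutator A).map φ.toMonoidHom = commutator B := by
  rw [commutator_def, commutator_def, Subgroup.map_commutator]
  congr 1 <;> exact Subgroup.map_top_of_surjective _ φ.surjective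

theorem main (hF : ∃ a : F, a ≠ 0 ∧ a ≠ 1) :
    Nonempty (↥(chevB2.group F) ≃* Cfsg.POmega F (Cfsg.quadFormOdd 2 F)) := by
  obtain ⟨e0⟩ := chev_equiv_E5 (F := F)
  -- isometry group of quadFormOdd ≃ O5
  have φ0 := Cfsg.Agent.Lib.helper50.isometryGroupReindex (F := F) idx5 (Cfsg.quadFormOdd 2 F)
  rw [quad_reindex] at φ0
  have φ : ↥(Cfsg.isometryGroup F (Cfsg.quadFormOdd 2 F)) ≃* ↥(O5 F) := φ0
  -- Omega ≃ commutator O5 ≃ E5
  have ψ1 : ↥(Cfsg.Omega F (Cfsg.quadFormOdd 2 F)) ≃* ↥(commutator ↥(O5 F)) :=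
    (φ.subgroupMap (commutator _)).trans (MulEquiv.subgroupCongr (comm_map_equiv φ))
  have ψ2 : ↥(commutator ↥(O5 F)) ≃* ↥(E5 F) :=
    ((commutator ↥(O5 F)).equivMapOfInjective (O5 F).subtype (Subgroup.subtype_injective _)).trans
      (MulEquiv.subgroupCongr (E5_eq_comm hF))
  have ψ : ↥(Cfsg.Omega F (Cfsg.quadFormOdd 2 F)) ≃* ↥(E5 F) := ψ1.trans ψ2
  have hc : Subgroup.center ↥(Cfsg.Omega F (Cfsg.quadFormOdd 2 F)) = ⊥ :=
    asm_center_bot ψ E5_center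
  have χ : Cfsg.POmega F (Cfsg.quadFormOdd 2 F) ≃* ↥(Cfsg.Omega F (Cfsg.quadFormOdd 2 F)) :=
    (QuotientGroup.quotientMulEquivOfEq hc).trans QuotientGroup.quotientBot
  exact ⟨e0.trans (ψ.symm.trans χ.symm)⟩

end Cfsg.Agent.Lib.helper95.B2
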