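import Cfsg.Agent.Lib.helper95.B2Defs

/-!
# S1083, piece B: basic identities of the root elements `X4 r t`, `N5 r t`
-/

set_option autoImplicit false

namespace Cfsg.Agent.Lib.helper95.B2

open Matrix Cfsg Cfsg.Lie

variable {F : Type*} [Field F]

theorem X4_add (r : Fin 8) (s t : F) : X4 r s * X4 r t = X4 r (s + t) := by
  fin_cases r <;>
    (ext i j; fin_cases i <;> fin_cases j <;>
      simp [X4, Matrix.mul_apply, Fin.sum_univ_succ] <;> ring)

theorem X4_zero (r : Fin 8) : X4 r (0 : F) = 1 := by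
  fin_cases r <;>
    (ext i j; fin_cases i <;> fin_cases j <;> simp [X4, Matrix.one_apply])

theorem N5_add (r : Fin 8) (s t : F) : N5 r s * N5 r t = N5 r (s + t) := by
  fin_cases r <;>
    (ext i j; fin_cases i <;> fin_cases j <;>
      simp [N5, Matrix.mul_apply, Fin.sum_univ_succ] <;> ring)

theorem N5_zero (r : Fin 8) : N5 r (0 : F) = 1 := by
  fin_cases r <;>
    (ext i j; fin_cases i <;> fin_cases j <;> simp [N5, Matrix.one_apply])

theorem X4_J (r : Fin 8) (t : F) : (X4 r t)ᵀ * J4 * X4 r t = J4 := by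
  fin_cases r <;>
    (ext i j; fin_cases i <;> fin_cases j <;>
      simp [X4, J4, Matrix.mul_apply, Fin.sum_univ_succ, Matrix.transpose_apply])

theorem wedge_rel (r : Fin 8) (t : F) (c : Fin 5 → F) :
    X4 r t * Wmap c * (X4 r t)ᵀ = Wmap (N5 r t *ᵥ c) := by
  fin_cases r <;>
    (ext i j; fin_cases i <;> fin_cases j <;>
      simp [X4, N5, Wmap, Matrix.mul_apply, Fin.sum_univ_succ, Matrix.transpose_apply,
        Matrix.mulVec, dotProduct] <;> ring)

theorem N5_Q (r : Fin 8) (t : F) (v : Fin 5 → F) : Q5 (N5 r t *ᵥ v) = Q5 v := by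
  fin_cases r <;>
    (simp [N5, Q5, Matrix.mulVec, dotProduct, Fin.sum_univ_succ] <;> ring)

theorem E5_le_O5 : E5 F ≤ O5 F := by
  unfold E5
  rw [Subgroup.closure_le]
  rintro g ⟨r, t, h⟩
  rw [SetLike.mem_coe, mem_O5]
  intro v
  rw [h]
  exact N5_Q r t v

theorem B5_eq (u v : Fin 5 → F) : B5 u v = Q5 (u + v) - Q5 u - Q5 v := by
  simp only [B5, Q5, Pi.add_apply]
  ring

/-- isometries of `Q5` preserve the polar form -/
theorem O5_B5 (g : GL (Fin 5) F) (hg : g ∈ O5 F) (u v : Fin 5 → F) :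
    B5 ((g : Matrix (Fin 5) (Fin 5) F) *ᵥ u) ((g : Matrix (Fin 5) (Fin 5) F) *ᵥ v) = B5 u v := by
  rw [mem_O5] at hg
  rw [B5_eq, B5_eq, ← Matrix.mulVec_add, hg, hg, hg]

end Cfsg.Agent.Lib.helper95.B2
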