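import Mathlib
import Cfsg.Prelude.Def_ChevB2
import Cfsg.Prelude.Def_Classical

/-!
# S1083 (B₂(F) ≅ PΩ₅(F)): shared definitions

* `Lmap c` : the element of `sp₄(F)` (4×4 matrices) with coordinates `c` in the Chevalley basis of
  `Def_ChevB2` (`h_{p₁}, h_{p₂}, e_0, …, e_7`);
* `X4 r t = 1 + t e_r` : the root elements of `Sp₄(F)`; `Ad (X4 r t) = chevB2.xMat F r t` on `Lmap`;
* `Wmap c` : the alternating 4×4 matrix (element of `Λ²F⁴` orthogonal to the symplectic form) with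
  coordinates `c : Fin 5 → F`; its Pfaffian is `Q5 c = c₀² + c₁c₃ + c₂c₄`;
* `N5 r t` : the matrix of `A ↦ X4 r t * A * (X4 r t)ᵀ` on `Wmap`; an isometry of `Q5`;
* `Gam F` : the subgroup of `GL₄ × GL₁₀ × GL₅` generated by the triples `(X4 r t, xMat r t, N5 r t)`.
-/

set_option autoImplicit false

namespace Cfsg.Agent.Lib.helper95.B2

open Matrix Cfsg Cfsg.Lie

variable {F : Type*} [Field F]

/-- coordinate index of `h_{p_{i+1}}` -/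
abbrev hI (i : Fin 2) : chevB2.Idx := Sum.inl i
/-- coordinate index of `e_k` -/
abbrev eI (k : Fin 8) : chevB2.Idx := Sum.inr k

/-- The element of `sp₄(F)` with coordinates `c` in the Chevalley basis. -/
def Lmap (c : chevB2.Idx → F) : Matrix (Fin 4) (Fin 4) F :=
  !![c (hI 0), c (eI 5), c (eI 7), c (eI 6);
     c (eI 2), c (hI 1) - c (hI 0), c (eI 6), - c (eI 4);
     c (eI 0), c (eI 1), - c (hI 0), - c (eI 2);
     c (eI 1), - c (eI 3), - c (eI 5), c (hI 0) - c (hI 1)]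

/-- The root elements `1 + t e_r` of `Sp₄(F)` (`r` = root index of `Def_ChevB2`). -/
def X4 (r : Fin 8) (t : F) : Matrix (Fin 4) (Fin 4) F :=
  ![!![1,0,0,0; 0,1,0,0; t,0,1,0; 0,0,0,1],
    !![1,0,0,0; 0,1,0,0; 0,t,1,0; t,0,0,1],
    !![1,0,0,0; t,1,0,0; 0,0,1,-t; 0,0,0,1],
    !![1,0,0,0; 0,1,0,0; 0,0,1,0; 0,-t,0,1],
    !![1,0,0,0; 0,1,0,-t; 0,0,1,0; 0,0,0,1],
    !![1,t,0,0; 0,1,0,0; 0,0,1,0; 0,0,-t,1],
    !![1,0,0,t; 0,1,t,0; 0,0,1,0; 0,0,0,1],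
    !![1,0,t,0; 0,1,0,0; 0,0,1,0; 0,0,0,1]] r

/-- The alternating matrix with coordinates `c` (`c 0 ↔ x₀`, `c 1, c 2 ↔ x₁, x₂`, `c 3, c 4 ↔ y₁, y₂`). -/
def Wmap (c : Fin 5 → F) : Matrix (Fin 4) (Fin 4) F :=
  !![0, c 1, c 0, c 2;
     - c 1, 0, c 4, - c 0;
     - c 0, - c 4, 0, c 3;
     - c 2, c 0, - c 3, 0]

/-- The root elements of `Ω₅`: the matrix of `A ↦ X4 r t * A * (X4 r t)ᵀ` in the coordinates of `Wmap`. -/
def N5 (r : Fin 8) (t : F) : Matrix (Fin 5) (Fin 5) F :=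
  ![!![1,0,0,0,0; 0,1,0,0,0; 0,0,1,0,0; 0,0,t,1,0; 0,-t,0,0,1],
    !![1,t,0,0,0; 0,1,0,0,0; 0,0,1,0,0; -(2*t),-t^2,0,1,0; 0,0,0,0,1],
    !![1,0,-t,0,0; 0,1,0,0,0; 0,0,1,0,0; 0,0,0,1,0; 2*t,0,-t^2,0,1],
    !![1,0,0,0,0; 0,1,0,0,0; 0,-t,1,0,0; 0,0,0,1,t; 0,0,0,0,1],
    !![1,0,0,0,0; 0,1,-t,0,0; 0,0,1,0,0; 0,0,0,1,0; 0,0,0,t,1],
    !![1,0,0,0,t; 0,1,0,0,0; -(2*t),0,1,0,-t^2; 0,0,0,1,0; 0,0,0,0,1],
    !![1,0,0,-t,0; 2*t,1,0,-t^2,0; 0,0,1,0,0; 0,0,0,1,0; 0,0,0,0,1],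
    !![1,0,0,0,0; 0,1,0,0,-t; 0,0,1,t,0; 0,0,0,1,0; 0,0,0,0,1]] r

/-- The symplectic form preserved by the `X4 r t`. -/
def J4 : Matrix (Fin 4) (Fin 4) F :=
  !![0,0,1,0; 0,0,0,1; -1,0,0,0; 0,-1,0,0]

/-- The quadratic form `x₀² + x₁y₁ + x₂y₂` on `Fin 5 → F` (coordinates `x₀, x₁, x₂, y₁, y₂`). -/
def Q5 (v : Fin 5 → F) : F := v 0 ^ 2 + v 1 * v 3 + v 2 * v 4

/-- The polar form of `Q5`. -/
def B5 (u v : Fin 5 → F) : F := 2 * u 0 * v 0 + u 1 * v 3 + u 3 * v 1 + u 2 * v 4 + u 4 * v 2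

/-- The diagonal matrix `diag(ε, a, b, a⁻¹, b⁻¹)`. -/
def dg (ε a b : F) : Matrix (Fin 5) (Fin 5) F := Matrix.diagonal ![ε, a, b, a⁻¹, b⁻¹]

/-- The isometry group of `Q5`. -/
abbrev O5 (F : Type*) [Field F] : Subgroup (GL (Fin 5) F) := Cfsg.isometryGroup F (Q5 (F := F))

/-- The subgroup of `GL₅(F)` generated by the root elements `N5 r t`. -/
def E5 (F : Type*) [Field F] : Subgroup (GL (Fin 5) F) :=
  Subgroup.closure {g | ∃ (r : Fin 8) (t : F), (g : Matrix (Fin 5) (Fin 5) F) = N5 r t}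

/-- The "graph" subgroup of `GL₄ × GL₁₀ × GL₅`. -/
def Gam (F : Type*) [Field F] : Subgroup (GL (Fin 4) F × GL chevB2.Idx F × GL (Fin 5) F) :=
  Subgroup.closure {p | ∃ (r : Fin 8) (t : F),
    (p.1 : Matrix (Fin 4) (Fin 4) F) = X4 r t ∧
    (p.2.1 : Matrix chevB2.Idx chevB2.Idx F) = chevB2.xMat F r t ∧
    (p.2.2 : Matrix (Fin 5) (Fin 5) F) = N5 r t}

theorem mem_O5 (g : GL (Fin 5) F) :
    g ∈ O5 F ↔ ∀ v : Fin 5 → F, Q5 ((g : Matrix (Fin 5) (Fin 5) F) *ᵥ v) = Q5 v := by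
  constructor
  · intro h v
    exact h v v
  · intro h u v
    exact h u

end Cfsg.Agent.Lib.helper95.B2
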