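import Mathlib
import Cfsg.Prelude.Def_GeometricClasses
import Cfsg.Agent.Lib.helper95.Blocks

/-!
# Hermitian forms over the field with 4 elements

A form `f` that is linear in the first argument with `f v w = (f w v) ^ 2`; over the field with four elements
this is a Hermitian sesquilinear form.
-/

set_option autoImplicit false

namespace Cfsg.Agent.Lib.helper95

open Cfsg Cfsg.Geo Matrix Module

section Sesq

variable {F : Type*} [Field F] {V : Type*} [AddCommGroup V] [Module F V]

/-- A form linear in the first argument with `f v w = (f w v) ^ 2`. -/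
structure Sesq2 (f : V → V → F) : Prop where
  add_left : ∀ x y v, f (x + y) v = f x v + f y v
  smul_left : ∀ (c : F) (x v : V), f (c • x) v = c * f x v
  herm : ∀ v w, f v w = (f w v) ^ 2

namespace Sesq2

variable {f : V → V → F}

theorem zero_left (hf : Sesq2 f) (v : V) : f 0 v = 0 := by
  have := hf.smul_left 0 0 v
  simpa using this

theorem smul_right (hf : Sesq2 f) (c : F) (v x : V) : f v (c • x) = c ^ 2 * f v x := by
  rw [hf.herm v (c • x), hf.smul_left, mul_pow, ← hf.herm]

theorem zero_right (hf : Sesq2 f) (v : V) : f v 0 = 0 := by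
  have := hf.smul_right 0 v 0
  simpa using this

theorem add_right [Fintype F] (hf : Sesq2 f) (hF : Fintype.card F = 4) (v x y : V) :
    f v (x + y) = f v x + f v y := by
  have c2 := two_eq_zero_of_card_four hF
  rw [hf.herm v (x + y), hf.add_left, hf.herm v x, hf.herm v y]
  linear_combination (f x v * f y v) * c2

theorem self_eq (hf : Sesq2 f) (v : V) : f v v = 0 ∨ f v v = 1 := by
  have h := hf.herm v v
  have h2 : f v v * (f v v - 1) = 0 := by linear_combination -h
  rcases mul_eq_zero.mp h2 with h3 | h3
  · exact Or.inl h3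
  · exact Or.inr (sub_eq_zero.mp h3)

/-- The linear functional `x ↦ f x w`. -/
def toLin (hf : Sesq2 f) (w : V) : V →ₗ[F] F where
  toFun x := f x w
  map_add' x y := hf.add_left x y w
  map_smul' c x := by simpa using hf.smul_left c x w

theorem toLin_apply (hf : Sesq2 f) (w x : V) : hf.toLin w x = f x w := rfl

theorem sum_left (hf : Sesq2 f) {κ : Type*} (S : Finset κ) (x : κ → V) (w : V) :
    f (∑ i ∈ S, x i) w = ∑ i ∈ S, f (x i) w := by
  exact map_sum (hf.toLin w) x S

theorem sum_right [Fintype F] (hf : Sesq2 f) (hF : Fintype.card F = 4) {κ : Type*} (S : Finset κ)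
    (x : V) (y : κ → V) : f x (∑ i ∈ S, y i) = ∑ i ∈ S, f x (y i) := by
  classical
  induction S using Finset.induction_on with
  | empty => simp [hf.zero_right]
  | insert a s ha ih => rw [Finset.sum_insert ha, Finset.sum_insert ha, hf.add_right hF, ih]

/-- A transvection along an isotropic vector is an isometry. -/
theorem transvection [Fintype F] (hf : Sesq2 f) (hF : Fintype.card F = 4) {v : V} (hv : f v v = 0)
    (x y : V) : f (x + f x v • v) (y + f y v • v) = f x y := by
  have c2 := two_eq_zero_of_card_four hF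
  have hb : f v y = (f y v) ^ 2 := hf.herm v y
  simp only [hf.add_left, hf.add_right hF, hf.smul_left, hf.smul_right]
  linear_combination (f x v * f v y) * c2 - (f x v) * hb + (f x v * (f y v) ^ 2) * hv

/-- A transvection along an isotropic vector is an involution. -/
theorem transvection_invol [Fintype F] (hf : Sesq2 f) (hF : Fintype.card F = 4) {v : V}
    (hv : f v v = 0) (x : V) : (x + f x v • v) + f (x + f x v • v) v • v = x := by
  have c2 := two_eq_zero_of_card_four hF
  rw [hf.add_left, hf.smul_left, hv, mul_zero, add_zero, add_assoc, ← add_smul]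
  have : f x v + f x v = 0 := by linear_combination (f x v) * c2
  rw [this, zero_smul, add_zero]

theorem exists_self_eq_one [Fintype F] (hf : Sesq2 f) (hF : Fintype.card F = 4)
    (hnd : ∀ w : V, w ≠ 0 → ∃ x, f x w ≠ 0) (hV : ∃ w : V, w ≠ 0) : ∃ e, f e e = 1 := by
  by_contra hcon
  push Not at hcon
  have hall : ∀ e, f e e = 0 := fun e => (hf.self_eq e).resolve_right (hcon e)
  obtain ⟨w, hw0⟩ := hV
  obtain ⟨x, hxw⟩ := hnd w hw0
  have hex : ∃ b : F, b ≠ 0 ∧ b ≠ 1 := by
    classical
    have hlt : ({0, 1} : Finset F).card < (Finset.univ : Finset F).card := by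
      rw [Finset.card_univ, hF]
      exact lt_of_le_of_lt (Finset.card_insert_le _ _) (by simp)
    obtain ⟨b, -, hb⟩ := Finset.exists_mem_notMem_of_card_lt_card hlt
    exact ⟨b, fun h => hb (by simp [h]), fun h => hb (by simp [h])⟩
  obtain ⟨b, hb0, hb1⟩ := hex
  have c2 : (2 : F) = 0 := two_eq_zero_of_card_four hF
  have hconj : f w x = (f x w) ^ 2 := hf.herm w x
  have key := hall ((b * (f x w)⁻¹) • x + w)
  simp only [hf.add_left, hf.add_right hF, hf.smul_left, hf.smul_right, hall x, hall w, hconj] at key
  have hcc : (f x w)⁻¹ * f x w = 1 := inv_mul_cancel₀ hxw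
  have hb : b * (b + 1) = 0 := by
    linear_combination key - (b + b ^ 2 * ((f x w)⁻¹ * f x w + 1)) * hcc
  rcases mul_eq_zero.mp hb with h | h
  · exact hb0 h
  · exact hb1 (by linear_combination h - c2)

/-- A non-degenerate Hermitian plane over the field with four elements has an orthonormal basis. -/
theorem exists_orthonormal_basis [Fintype F] (hf : Sesq2 f) (hF : Fintype.card F = 4)
    (hnd : ∀ w : V, w ≠ 0 → ∃ x, f x w ≠ 0) (hdim : Module.finrank F V = 2) :
    ∃ b : Basis (Fin 2) F V, ∀ j j', f (b j) (b j') = if j = j' then 1 else 0 := by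
  have : Module.Finite F V := Module.finite_of_finrank_pos (by omega)
  have hV : ∃ w : V, w ≠ 0 := by
    by_contra h
    push Not at h
    have : Subsingleton V := ⟨fun a b => by rw [h a, h b]⟩
    have := Module.finrank_zero_of_subsingleton (R := F) (M := V)
    omega
  obtain ⟨e, hee⟩ := hf.exists_self_eq_one hF hnd hV
  have hker : LinearMap.ker (hf.toLin e) ≠ ⊥ := by
    apply LinearMap.ker_ne_bot_of_finrank_lt
    rw [hdim, Module.finrank_self]
    norm_num
  obtain ⟨e', he'ker, he'0⟩ := Submodule.exists_mem_ne_zero_of_ne_bot hker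
  have h1 : f e' e = 0 := he'ker
  have h2 : f e e' = 0 := by
    rw [hf.herm, h1]
    simp
  have hli : LinearIndependent F ![e, e'] := by
    rw [LinearIndependent.pair_iff]
    intro s t hst
    have hs : s = 0 := by
      have := congrArg (fun x => f x e) hst
      simp only [hf.add_left, hf.smul_left, hee, h1, hf.zero_left] at this
      simpa using this
    refine ⟨hs, ?_⟩
    rw [hs, zero_smul, zero_add] at hst
    rcases smul_eq_zero.mp hst with h | h
    · exact h
    · exact absurd h he'0
  let b : Basis (Fin 2) F V := basisOfLinearIndependentOfCardEqFinrank hli (by simp [hdim])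
  have hb0 : b 0 = e := by
    simp [b, coe_basisOfLinearIndependentOfCardEqFinrank]
  have hb1 : b 1 = e' := by
    simp [b, coe_basisOfLinearIndependentOfCardEqFinrank]
  have he'e' : f e' e' = 1 := by
    rcases hf.self_eq e' with h | h
    · exfalso
      obtain ⟨x, hxe'⟩ := hnd e' he'0
      have hsum := b.sum_repr x
      rw [Fin.sum_univ_two, hb0, hb1] at hsum
      apply hxe'
      rw [← hsum, hf.add_left, hf.smul_left, hf.smul_left, h2, h]
      simp
    · exact h
  refine ⟨b, ?_⟩
  intro j j'
  fin_cases j <;> fin_cases j'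
  · simpa [hb0] using hee
  · simpa [hb0, hb1] using h2
  · simpa [hb0, hb1] using h1
  · simpa [hb1] using he'e'

/-- Coordinates in an orthonormal basis. -/
theorem repr_orthonormal (hf : Sesq2 f) {κ : Type*} [DecidableEq κ] (b : Basis κ F V)
    (hb : ∀ j j', f (b j) (b j') = if j = j' then 1 else 0) (x : V) (j : κ) :
    b.repr x j = f x (b j) := by
  have h : hf.toLin (b j) = b.coord j := by
    apply b.ext
    intro a'
    rw [toLin_apply, hb, Basis.coord_apply, Basis.repr_self, Finsupp.single_apply]
  have := LinearMap.congr_fun h x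
  rw [toLin_apply, Basis.coord_apply] at this
  exact this.symm

/-- A non-degenerate Hermitian space of dimension at least 2 over the field with four elements has a non-zero
isotropic vector. -/
theorem exists_isotropic [Fintype F] (hf : Sesq2 f) (hF : Fintype.card F = 4)
    (hnd : ∀ w : V, w ≠ 0 → ∃ x, f x w ≠ 0) [Module.Finite F V] (hdim : 2 ≤ Module.finrank F V) :
    ∃ w : V, w ≠ 0 ∧ f w w = 0 := by
  have c2 : (2 : F) = 0 := two_eq_zero_of_card_four hF
  have hV : ∃ w : V, w ≠ 0 := by
    by_contra h
    push Not at h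
    have : Subsingleton V := ⟨fun a b => by rw [h a, h b]⟩
    have := Module.finrank_zero_of_subsingleton (R := F) (M := V)
    omega
  obtain ⟨e, hee⟩ := hf.exists_self_eq_one hF hnd hV
  have hker : LinearMap.ker (hf.toLin e) ≠ ⊥ := by
    apply LinearMap.ker_ne_bot_of_finrank_lt
    rw [Module.finrank_self]
    omega
  obtain ⟨e', he'ker, he'0⟩ := Submodule.exists_mem_ne_zero_of_ne_bot hker
  have h1 : f e' e = 0 := he'ker
  have h2 : f e e' = 0 := by
    rw [hf.herm, h1]
    simp
  rcases hf.self_eq e' with h | h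
  · exact ⟨e', he'0, h⟩
  · refine ⟨e + e', ?_, ?_⟩
    · intro h0
      have := congrArg (fun x => f x e) h0
      simp only [hf.add_left, hee, h1, hf.zero_left] at this
      simp at this
    · rw [hf.add_left, hf.add_right hF, hf.add_right hF, hee, h, h1, h2]
      linear_combination c2

end Sesq2

end Sesq

section Gram

variable {F : Type*} [Field F] {κ : Type} [Fintype κ] [DecidableEq κ]

omit [DecidableEq κ] in
theorem formOfGram_add_left (σ : F → F) (G : Matrix κ κ F) (x y z : κ → F) :
    formOfGram σ G (x + y) z = formOfGram σ G x z + formOfGram σ G y z := by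
  simp only [formOfGram, Pi.add_apply, add_mul, Finset.sum_add_distrib]

omit [DecidableEq κ] in
theorem formOfGram_smul_left (σ : F → F) (G : Matrix κ κ F) (c : F) (x z : κ → F) :
    formOfGram σ G (c • x) z = c * formOfGram σ G x z := by
  simp only [formOfGram, Pi.smul_apply, smul_eq_mul, Finset.mul_sum, mul_assoc]

omit [DecidableEq κ] in
/-- The form with a Hermitian Gram matrix is Hermitian. -/
theorem sesq2_formOfGram [Fintype F] (hF : Fintype.card F = 4) (G : Matrix κ κ F)
    (hG : ∀ a b, G a b = (G b a) ^ 2) : Sesq2 (formOfGram (fun x : F => x ^ 2) G) where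
  add_left := formOfGram_add_left _ G
  smul_left := formOfGram_smul_left _ G
  herm := by
    intro v w
    have c2 := two_eq_zero_of_card_four hF
    have h4 : ∀ a : F, a ^ 4 = a := fun a => by
      have := FiniteField.pow_card a
      rwa [hF] at this
    simp only [formOfGram]
    rw [sq_sum_of_two_eq_zero c2]
    simp_rw [sq_sum_of_two_eq_zero c2]
    rw [Finset.sum_comm]
    apply Finset.sum_congr rfl
    intro a _
    apply Finset.sum_congr rfl
    intro b _
    rw [hG b a]
    have := h4 (v b)
    linear_combination (-(w a ^ 2 * G a b ^ 2)) * this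

/-- A Hermitian form on a coordinate space is the form of its Gram matrix. -/
theorem Sesq2.eq_formOfGram [Fintype F] {f : (κ → F) → (κ → F) → F} (hf : Sesq2 f)
    (hF : Fintype.card F = 4) (x y : κ → F) :
    f x y = formOfGram (fun a : F => a ^ 2) (gramMatrix f) x y := by
  have hx : x = ∑ a, x a • (Pi.single a (1 : F) : κ → F) := by
    ext i
    simp [Finset.sum_apply, Pi.single_apply]
  have hy : y = ∑ b, y b • (Pi.single b (1 : F) : κ → F) := by
    ext i
    simp [Finset.sum_apply, Pi.single_apply]
  conv_lhs => rw [hx]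
  rw [hf.sum_left]
  simp only [formOfGram]
  apply Finset.sum_congr rfl
  intro a _
  rw [hf.smul_left]
  conv_lhs => rw [hy]
  rw [hf.sum_right hF, Finset.mul_sum]
  apply Finset.sum_congr rfl
  intro b _
  rw [hf.smul_right]
  simp only [gramMatrix]
  ring

theorem sesq2_of_isUnitaryFormPow {ι : Type} [Fintype ι] [DecidableEq ι]
    {f : (ι → F) → (ι → F) → F} (hf : IsUnitaryFormPow 2 f) : Sesq2 f where
  add_left := hf.add_left
  smul_left := hf.smul_left
  herm := hf.herm

end Gram

section Transv

variable {F : Type*} [Field F] [Fintype F] {κ : Type} [Fintype κ] [DecidableEq κ]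

/-- The transvection `x ↦ x + Φ x v • v` along an isotropic vector `v`, as an invertible matrix. -/
noncomputable def Sesq2.tv {Φ : (κ → F) → (κ → F) → F} (hΦ : Sesq2 Φ) (v : κ → F) (hv : Φ v v = 0) :
    GL κ F :=
  glTransvection (hΦ.toLin v) v hv

omit [Fintype F] in
theorem Sesq2.tv_mulVec {Φ : (κ → F) → (κ → F) → F} (hΦ : Sesq2 Φ) (v : κ → F) (hv : Φ v v = 0)
    (x : κ → F) : ((hΦ.tv v hv : GL κ F) : Matrix κ κ F) *ᵥ x = x + Φ x v • v :=
  glTransvection_mulVec _ _ _ x

theorem Sesq2.tv_mem_preserving {Φ : (κ → F) → (κ → F) → F} (hΦ : Sesq2 Φ) (hF : Fintype.card F = 4)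
    (v : κ → F) (hv : Φ v v = 0) : hΦ.tv v hv ∈ preserving (Units.coeHom (Matrix κ κ F)) Φ := by
  show ∀ x y, Φ (((hΦ.tv v hv : GL κ F) : Matrix κ κ F) *ᵥ x) (((hΦ.tv v hv : GL κ F) : Matrix κ κ F) *ᵥ y)
    = Φ x y
  intro x y
  rw [hΦ.tv_mulVec, hΦ.tv_mulVec]
  exact hΦ.transvection hF hv x y

omit [Fintype F] in
theorem Sesq2.tv_mem_specialLinear {Φ : (κ → F) → (κ → F) → F} (hΦ : Sesq2 Φ) (v : κ → F)
    (hv : Φ v v = 0) : hΦ.tv v hv ∈ specialLinear κ F :=
  glTransvection_mem_specialLinear _ _ _

end Transv

end Cfsg.Agent.Lib.helper95
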