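import Mathlib
import Cfsg.Prelude.Def_GeometricClasses
import Cfsg.Agent.Lib.helper95.Unitary4

/-!
# Bilinear forms as functions: Gram matrices and alternating forms
-/

set_option autoImplicit false

namespace Cfsg.Agent.Lib.helper95

open Cfsg Cfsg.Geo Matrix Module

section Bilin

variable {F : Type*} [Field F] {κ : Type} [Fintype κ] [DecidableEq κ]

omit [DecidableEq κ] in
theorem formOfGram_id_add_right (G : Matrix κ κ F) (x y z : κ → F) :
    formOfGram id G x (y + z) = formOfGram id G x y + formOfGram id G x z := by
  simp only [formOfGram, id, Pi.add_apply, mul_add, Finset.sum_add_distrib]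

omit [DecidableEq κ] in
theorem formOfGram_id_smul_right (G : Matrix κ κ F) (c : F) (x z : κ → F) :
    formOfGram id G x (c • z) = c * formOfGram id G x z := by
  simp only [formOfGram, id, Pi.smul_apply, smul_eq_mul, Finset.mul_sum]
  apply Finset.sum_congr rfl
  intro a _
  apply Finset.sum_congr rfl
  intro b _
  ring

omit [Fintype κ] [DecidableEq κ] in
theorem bilin_zero_left {f : (κ → F) → (κ → F) → F} (hf : IsBilinearForm f) (v : κ → F) : f 0 v = 0 := by
  have := hf.smul_left 0 0 v
  simpa using this

omit [Fintype κ] [DecidableEq κ] in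
theorem bilin_zero_right {f : (κ → F) → (κ → F) → F} (hf : IsBilinearForm f) (v : κ → F) : f v 0 = 0 := by
  have := hf.smul_right 0 v 0
  simpa using this

theorem bilin_sum_left {f : (κ → F) → (κ → F) → F} (hf : IsBilinearForm f) {α : Type*} (S : Finset α)
    (x : α → κ → F) (w : κ → F) : f (∑ i ∈ S, x i) w = ∑ i ∈ S, f (x i) w := by
  classical
  induction S using Finset.induction_on with
  | empty => simp [bilin_zero_left hf]
  | insert a s ha ih => rw [Finset.sum_insert ha, Finset.sum_insert ha, hf.add_left, ih]

theorem bilin_sum_right {f : (κ → F) → (κ → F) → F} (hf : IsBilinearForm f) {α : Type*} (S : Finset α)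
    (w : κ → F) (x : α → κ → F) : f w (∑ i ∈ S, x i) = ∑ i ∈ S, f w (x i) := by
  classical
  induction S using Finset.induction_on with
  | empty => simp [bilin_zero_right hf]
  | insert a s ha ih => rw [Finset.sum_insert ha, Finset.sum_insert ha, hf.add_right, ih]

/-- A bilinear form on a coordinate space is the form of its Gram matrix. -/
theorem bilin_eq_formOfGram {f : (κ → F) → (κ → F) → F} (hf : IsBilinearForm f) (x y : κ → F) :
    f x y = formOfGram id (gramMatrix f) x y := by
  have hx : x = ∑ a, x a • (Pi.single a (1 : F) : κ → F) := by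
    ext i
    simp [Finset.sum_apply, Pi.single_apply]
  have hy : y = ∑ b, y b • (Pi.single b (1 : F) : κ → F) := by
    ext i
    simp [Finset.sum_apply, Pi.single_apply]
  conv_lhs => rw [hx]
  rw [bilin_sum_left hf]
  simp only [formOfGram]
  apply Finset.sum_congr rfl
  intro a _
  rw [hf.smul_left]
  conv_lhs => rw [hy]
  rw [bilin_sum_right hf, Finset.mul_sum]
  apply Finset.sum_congr rfl
  intro b _
  rw [hf.smul_right]
  simp only [gramMatrix, id]
  ring

end Bilin

section AltB

variable {F : Type*} [Field F] {V : Type*} [AddCommGroup V] [Module F V]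

/-- An alternating bilinear form given as a function. -/
structure AltB (f : V → V → F) : Prop where
  add_left : ∀ x y v, f (x + y) v = f x v + f y v
  smul_left : ∀ (c : F) (x v : V), f (c • x) v = c * f x v
  alt : ∀ v, f v v = 0
  skew : ∀ v w, f v w = -f w v

namespace AltB

variable {f : V → V → F}

theorem add_right (hf : AltB f) (v x y : V) : f v (x + y) = f v x + f v y := by
  rw [hf.skew v, hf.add_left, hf.skew v x, hf.skew v y]
  ring

theorem smul_right (hf : AltB f) (c : F) (v x : V) : f v (c • x) = c * f v x := by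
  rw [hf.skew v, hf.smul_left, hf.skew v x]
  ring

theorem zero_left (hf : AltB f) (v : V) : f 0 v = 0 := by
  have := hf.smul_left 0 0 v
  simpa using this

/-- The linear functional `x ↦ f x w`. -/
def toLin (hf : AltB f) (w : V) : V →ₗ[F] F where
  toFun x := f x w
  map_add' x y := hf.add_left x y w
  map_smul' c x := by simpa using hf.smul_left c x w

theorem toLin_apply (hf : AltB f) (w x : V) : hf.toLin w x = f x w := rfl

/-- A symplectic transvection is an isometry. -/
theorem transvection (hf : AltB f) (v x y : V) : f (x + f x v • v) (y + f y v • v) = f x y := by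
  have h1 := hf.skew v y
  simp only [hf.add_left, hf.add_right, hf.smul_left, hf.smul_right, hf.alt v]
  linear_combination (f x v) * h1

end AltB

end AltB

section AltTransv

variable {F : Type*} [Field F] {κ : Type} [Fintype κ] [DecidableEq κ]

/-- The symplectic transvection `x ↦ x + Φ x v • v`, as an invertible matrix. -/
noncomputable def AltB.tv {Φ : (κ → F) → (κ → F) → F} (hΦ : AltB Φ) (v : κ → F) : GL κ F :=
  glTransvection (hΦ.toLin v) v (hΦ.alt v)

theorem AltB.tv_mulVec {Φ : (κ → F) → (κ → F) → F} (hΦ : AltB Φ) (v x : κ → F) :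
    ((hΦ.tv v : GL κ F) : Matrix κ κ F) *ᵥ x = x + Φ x v • v :=
  glTransvection_mulVec _ _ _ x

theorem AltB.tv_mem_preserving {Φ : (κ → F) → (κ → F) → F} (hΦ : AltB Φ) (v : κ → F) :
    hΦ.tv v ∈ preserving (Units.coeHom (Matrix κ κ F)) Φ := by
  show ∀ x y, Φ (((hΦ.tv v : GL κ F) : Matrix κ κ F) *ᵥ x) (((hΦ.tv v : GL κ F) : Matrix κ κ F) *ᵥ y)
    = Φ x y
  intro x y
  rw [hΦ.tv_mulVec, hΦ.tv_mulVec]
  exact hΦ.transvection v x y

end AltTransv

end Cfsg.Agent.Lib.helper95
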