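import Mathlib
import Cfsg.Prelude.Def_GeometricClasses
import Cfsg.Agent.Lib.helper95.SLTransv
import Cfsg.Agent.Lib.helper95.Blocks

/-!
Rank-one perturbations of the identity `x ↦ x + φ(x) u` as elements of GL, their calculus
(conjugation, products), diagonal elements, signed swaps, monomial elements, and the passage from one
transvection along a coordinate vector to the whole special linear subgroup.
-/

set_option autoImplicit false

namespace Cfsg.Agent.Lib.helper95

open Matrix Cfsg Cfsg.Geo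

section
variable {ι : Type} [Fintype ι] [DecidableEq ι] {F : Type*} [Field F]

theorem exists_not_mem_of_card {α : Type*} [Fintype α] [DecidableEq α] (s : Finset α)
    (h : s.card < Fintype.card α) : ∃ c, c ∉ s := by
  by_contra hc
  push Not at hc
  have : s = Finset.univ := Finset.eq_univ_iff_forall.mpr hc
  rw [this, Finset.card_univ] at h
  exact lt_irrefl _ h

open Classical in
/-- `x ↦ x + φ(x) u` as an element of GL when `1 + φ(u) ≠ 0`; `1` otherwise. -/
noncomputable def gT (u φ : ι → F) : GL ι F :=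
  if h : 1 + φ ⬝ᵥ u ≠ 0 then
    Matrix.GeneralLinearGroup.mkOfDetNeZero (1 + Matrix.vecMulVec u φ)
      (by rw [Matrix.vecMulVec_eq (ι := Unit), Matrix.det_one_add_replicateCol_mul_replicateRow]
          exact h)
  else 1

theorem gT_val (u φ : ι → F) (h : 1 + φ ⬝ᵥ u ≠ 0) :
    ((gT u φ : GL ι F) : Matrix ι ι F) = 1 + Matrix.vecMulVec u φ := by
  unfold gT
  rw [dif_pos h]
  rfl

theorem gT_mulVec (u φ : ι → F) (h : 1 + φ ⬝ᵥ u ≠ 0) (x : ι → F) :
    ((gT u φ : GL ι F) : Matrix ι ι F) *ᵥ x = x + (φ ⬝ᵥ x) • u := by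
  rw [gT_val u φ h, Matrix.add_mulVec, Matrix.one_mulVec, Matrix.vecMulVec_mulVec,
    op_smul_eq_smul]

theorem gT_of_eq_zero (u φ : ι → F) (h : 1 + φ ⬝ᵥ u = 0) : gT u φ = 1 := by
  unfold gT
  rw [dif_neg (not_not.mpr h)]

theorem gT_det (u φ : ι → F) (h : 1 + φ ⬝ᵥ u ≠ 0) :
    ((gT u φ : GL ι F) : Matrix ι ι F).det = 1 + φ ⬝ᵥ u := by
  rw [gT_val u φ h, Matrix.vecMulVec_eq (ι := Unit),
    Matrix.det_one_add_replicateCol_mul_replicateRow]

theorem gT_mulVec' (u φ : ι → F) (h : φ ⬝ᵥ u = 0) (x : ι → F) :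
    ((gT u φ : GL ι F) : Matrix ι ι F) *ᵥ x = x + (φ ⬝ᵥ x) • u :=
  gT_mulVec u φ (by rw [h, add_zero]; exact one_ne_zero) x

theorem gT_mem_specialLinear (u φ : ι → F) (h : φ ⬝ᵥ u = 0) : gT u φ ∈ specialLinear ι F := by
  rw [mem_specialLinear_iff, gT_det u φ (by rw [h, add_zero]; exact one_ne_zero), h, add_zero]

theorem slT_eq_gT (u φ : ι → F) (h : φ ⬝ᵥ u = 0) : slT u φ = gT u φ := by
  apply gl_ext_mulVec
  intro x
  rw [slT_mulVec u φ h, gT_mulVec' u φ h]

theorem gT_zero_right (u : ι → F) : gT u (0 : ι → F) = 1 := by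
  apply gl_ext_mulVec
  intro x
  rw [gT_mulVec' u 0 (by simp)]
  simp

theorem gT_zero_left (φ : ι → F) : gT (0 : ι → F) φ = 1 := by
  apply gl_ext_mulVec
  intro x
  rw [gT_mulVec' 0 φ (by simp)]
  simp

/-- Conjugation of a rank-one perturbation. -/
theorem gT_conj (g : GL ι F) (u φ φ' : ι → F)
    (hφ : ∀ x, φ' ⬝ᵥ ((g : Matrix ι ι F) *ᵥ x) = φ ⬝ᵥ x) :
    g * gT u φ * g⁻¹ = gT ((g : Matrix ι ι F) *ᵥ u) φ' := by
  by_cases h : 1 + φ ⬝ᵥ u = 0
  · rw [gT_of_eq_zero u φ h, gT_of_eq_zero _ _ (by rw [hφ]; exact h)]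
    simp
  · have h' : 1 + φ' ⬝ᵥ ((g : Matrix ι ι F) *ᵥ u) ≠ 0 := by rw [hφ]; exact h
    apply gl_ext_mulVec
    intro x
    rw [Units.val_mul, Units.val_mul, ← Matrix.mulVec_mulVec, ← Matrix.mulVec_mulVec,
      gT_mulVec u φ h, gT_mulVec _ _ h', Matrix.mulVec_add, Matrix.mulVec_smul,
      gl_mulVec_inv_mulVec]
    congr 2
    have := hφ (((g⁻¹ : GL ι F) : Matrix ι ι F) *ᵥ x)
    rw [gl_mulVec_inv_mulVec] at this
    exact this.symm

theorem gT_mul_same (u φ φ' : ι → F) (h : 1 + φ ⬝ᵥ u ≠ 0) (h' : 1 + φ' ⬝ᵥ u ≠ 0) :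
    gT u φ * gT u φ' = gT u (φ + (1 + φ ⬝ᵥ u) • φ') := by
  have h'' : 1 + (φ + (1 + φ ⬝ᵥ u) • φ') ⬝ᵥ u ≠ 0 := by
    rw [add_dotProduct, smul_dotProduct, smul_eq_mul]
    have : 1 + (φ ⬝ᵥ u + (1 + φ ⬝ᵥ u) * (φ' ⬝ᵥ u)) = (1 + φ ⬝ᵥ u) * (1 + φ' ⬝ᵥ u) := by ring
    rw [this]
    exact mul_ne_zero h h'
  apply gl_ext_mulVec
  intro x
  rw [Units.val_mul, ← Matrix.mulVec_mulVec, gT_mulVec u φ' h', gT_mulVec u φ h,
    gT_mulVec _ _ h'']
  rw [dotProduct_add, dotProduct_smul, add_dotProduct, smul_dotProduct]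
  simp only [smul_eq_mul]
  module

theorem gT_mul_phi (u φ φ' : ι → F) (h : φ ⬝ᵥ u = 0) (h' : φ' ⬝ᵥ u = 0) :
    gT u φ * gT u φ' = gT u (φ + φ') := by
  rw [gT_mul_same u φ φ' (by rw [h, add_zero]; exact one_ne_zero)
    (by rw [h', add_zero]; exact one_ne_zero), h, add_zero, one_smul]

theorem gT_mul_u (u u' φ : ι → F) (h : φ ⬝ᵥ u = 0) (h' : φ ⬝ᵥ u' = 0) :
    gT u φ * gT u' φ = gT (u + u') φ := by
  have h'' : φ ⬝ᵥ (u + u') = 0 := by rw [dotProduct_add, h, h', add_zero]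
  apply gl_ext_mulVec
  intro x
  rw [Units.val_mul, ← Matrix.mulVec_mulVec, gT_mulVec' u' φ h', gT_mulVec' u φ h,
    gT_mulVec' _ _ h'']
  rw [dotProduct_add, dotProduct_smul, h']
  simp only [smul_eq_mul]
  module

theorem gT_smul_comm (a : F) (u φ : ι → F) : gT (a • u) φ = gT u (a • φ) := by
  by_cases h : 1 + φ ⬝ᵥ (a • u) = 0
  · rw [gT_of_eq_zero _ _ h, gT_of_eq_zero _ _ (by rw [smul_dotProduct, ← dotProduct_smul]; exact h)]
  · have h' : 1 + (a • φ) ⬝ᵥ u ≠ 0 := by rw [smul_dotProduct, ← dotProduct_smul]; exact h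
    apply gl_ext_mulVec
    intro x
    rw [gT_mulVec _ _ h, gT_mulVec _ _ h', smul_dotProduct, smul_smul, smul_eq_mul, mul_comm]

theorem gT_inv_of_dot (u φ : ι → F) (h : φ ⬝ᵥ u = 0) : (gT u φ)⁻¹ = gT u (-φ) := by
  apply inv_eq_of_mul_eq_one_right
  rw [gT_mul_phi u φ (-φ) h (by rw [neg_dotProduct, h, neg_zero]), add_neg_cancel, gT_zero_right]

theorem gT_neg_left (u φ : ι → F) : gT (-u) φ = gT u (-φ) := by
  have := gT_smul_comm (-1 : F) u φ
  simpa using this

theorem elemT_eq_gT (i j : ι) (hij : i ≠ j) (a : F) :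
    elemT i j a = gT (a • Pi.single i 1) (Pi.single j 1) :=
  slT_eq_gT _ _ (elemT_dot i j hij a)

/-- A subgroup of GL containing all elementary transvections contains the special linear
subgroup. -/
theorem specialLinear_le_of_elemT [Nontrivial ι] (M : Subgroup (GL ι F))
    (hE : ∀ (i j : ι), i ≠ j → ∀ a : F, elemT i j a ∈ M) : specialLinear ι F ≤ M := by
  intro g hg
  have hdet : (g : Matrix ι ι F).det = 1 := (mem_specialLinear_iff g).mp hg
  have key : ∀ A : Matrix.SpecialLinearGroup ι F, ∀ g : GL ι F,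
      (g : Matrix ι ι F) = A.1 → g ∈ M := by
    intro A
    refine Matrix.SpecialLinearGroup.diagonal_transvection_induction'
      (fun A => ∀ g : GL ι F, (g : Matrix ι ι F) = A.1 → g ∈ M) A ?_ ?_ ?_
    · intro i j hij c hc g hg
      rw [diag2_eq_prod i j hij c hc g (by rw [hg]; rfl)]
      exact M.mul_mem (M.mul_mem (M.mul_mem (M.mul_mem (M.mul_mem (hE i j hij _)
        (hE j i hij.symm _)) (hE i j hij _)) (hE i j hij _)) (hE j i hij.symm _)) (hE i j hij _)
    · intro i j hij a g hg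
      have e : g = elemT i j a := by
        apply gl_ext_mulVec
        intro x
        funext k
        rw [hg, Matrix.SpecialLinearGroup.transvection_coe, elemT_mulVec i j hij,
          Matrix.add_mulVec, Matrix.one_mulVec, Matrix.single_mulVec]
        simp [Function.update_apply]
      rw [e]
      exact hE i j hij a
    · intro A B hA hB g hg
      have hAd : A.1.det ≠ 0 := by rw [A.2]; exact one_ne_zero
      have hBd : B.1.det ≠ 0 := by rw [B.2]; exact one_ne_zero
      have e : g = Matrix.GeneralLinearGroup.mkOfDetNeZero A.1 hAd *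
          Matrix.GeneralLinearGroup.mkOfDetNeZero B.1 hBd := by
        apply Units.ext
        rw [hg]
        rfl
      rw [e]
      exact M.mul_mem (hA _ rfl) (hB _ rfl)
  exact key ⟨_, hdet⟩ g rfl

/-! ### Diagonal elements and signed swaps -/

/-- The pseudo-reflection `diag(1, …, μ, …, 1)` (with `μ` at `r`); `1` when `μ = 0`. -/
noncomputable def dg1 (r : ι) (μ : F) : GL ι F :=
  gT ((μ - 1) • Pi.single r 1) (Pi.single r 1)

theorem dg1_cond (r : ι) (μ : F) :
    1 + (Pi.single r 1 : ι → F) ⬝ᵥ ((μ - 1) • Pi.single r 1) = μ := by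
  simp

theorem dg1_mulVec (r : ι) (μ : F) (hμ : μ ≠ 0) (x : ι → F) (k : ι) :
    (((dg1 r μ : GL ι F) : Matrix ι ι F) *ᵥ x) k = (if k = r then μ else 1) * x k := by
  unfold dg1
  rw [gT_mulVec _ _ (by rw [dg1_cond]; exact hμ)]
  by_cases h : k = r
  · subst h
    simp
    ring
  · simp [h]

theorem dg1_zero (r : ι) : dg1 r (0 : F) = 1 := by
  unfold dg1
  exact gT_of_eq_zero _ _ (by rw [dg1_cond])

theorem dg1_det (r : ι) (μ : F) (hμ : μ ≠ 0) : ((dg1 r μ : GL ι F) : Matrix ι ι F).det = μ := by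
  unfold dg1
  rw [gT_det _ _ (by rw [dg1_cond]; exact hμ), dg1_cond]

/-- `diag(η at a, η⁻¹ at b)`. -/
noncomputable def dg2 (a b : ι) (η : F) : GL ι F := dg1 a η * dg1 b η⁻¹

theorem dg2_mulVec (a b : ι) (hab : a ≠ b) (η : F) (hη : η ≠ 0) (x : ι → F) (k : ι) :
    (((dg2 a b η : GL ι F) : Matrix ι ι F) *ᵥ x) k =
      (if k = a then η else if k = b then η⁻¹ else 1) * x k := by
  unfold dg2
  rw [Units.val_mul, ← Matrix.mulVec_mulVec, dg1_mulVec a η hη, dg1_mulVec b η⁻¹ (inv_ne_zero hη)]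
  by_cases h : k = a
  · subst h
    simp [hab]
  · simp [h]

theorem dg2_mem (a b : ι) (η : F) : dg2 a b η ∈ specialLinear ι F := by
  unfold dg2
  by_cases hη : η = 0
  · subst hη
    rw [_root_.inv_zero, dg1_zero, dg1_zero, one_mul]
    exact Subgroup.one_mem _
  · rw [mem_specialLinear_iff, Units.val_mul, Matrix.det_mul, dg1_det a η hη,
      dg1_det b η⁻¹ (inv_ne_zero hη), mul_inv_cancel₀ hη]

/-- The signed swap `e_a ↦ -e_b`, `e_b ↦ e_a`. -/
noncomputable def sswap (a b : ι) : GL ι F := elemT a b 1 * elemT b a (-1) * elemT a b 1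

theorem sswap_mulVec (a b : ι) (hab : a ≠ b) (x : ι → F) (k : ι) :
    (((sswap a b : GL ι F) : Matrix ι ι F) *ᵥ x) k =
      if k = a then x b else if k = b then -x a else x k := by
  unfold sswap
  simp only [Units.val_mul, ← Matrix.mulVec_mulVec]
  simp only [elemT_mulVec a b hab, elemT_mulVec b a hab.symm]
  by_cases hka : k = a
  · subst hka
    simp [hab, hab.symm]
  · by_cases hkb : k = b
    · subst hkb
      simp [hab.symm]
    · simp [hka, hkb]

theorem sswap_mem (a b : ι) : (sswap a b : GL ι F) ∈ specialLinear ι F := by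
  unfold sswap elemT
  exact Subgroup.mul_mem _ (Subgroup.mul_mem _ (slT_mem _ _) (slT_mem _ _)) (slT_mem _ _)

/-- Conjugation of a rank-one perturbation by a diagonal element. -/
theorem gT_conj_diag (g : GL ι F) (δ : ι → F) (hδ : ∀ k, δ k ≠ 0)
    (hg : ∀ x k, ((g : Matrix ι ι F) *ᵥ x) k = δ k * x k) (u φ : ι → F) :
    g * gT u φ * g⁻¹ = gT (fun k => δ k * u k) (fun k => φ k / δ k) := by
  have e : (g : Matrix ι ι F) *ᵥ u = fun k => δ k * u k := funext (hg u)
  rw [← e]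
  apply gT_conj
  intro x
  simp only [dotProduct, hg]
  apply Finset.sum_congr rfl
  intro k _
  have := hδ k
  field_simp

/-- Commutator of a transvection with a diagonal element fixing its direction. -/
theorem gT_comm_diag_mem (K : Subgroup (GL ι F)) (g : GL ι F) (hgK : g ∈ K) (δ : ι → F)
    (hδ : ∀ k, δ k ≠ 0) (hg : ∀ x k, ((g : Matrix ι ι F) *ᵥ x) k = δ k * x k) (w ψ : ι → F)
    (hw : ∀ k, δ k * w k = w k) (hψ : ψ ⬝ᵥ w = 0) (hmem : gT w ψ ∈ K) :
    gT w (fun k => ψ k - ψ k / δ k) ∈ K := by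
  have h1 : gT w ψ * (g * (gT w ψ)⁻¹ * g⁻¹) ∈ K :=
    K.mul_mem hmem (K.mul_mem (K.mul_mem hgK (K.inv_mem hmem)) (K.inv_mem hgK))
  rw [gT_inv_of_dot w ψ hψ, gT_conj_diag g δ hδ hg] at h1
  have e1 : (fun k => δ k * w k) = w := funext hw
  rw [e1] at h1
  have hdot : (fun k => (-ψ) k / δ k) ⬝ᵥ w = 0 := by
    have e2 : ∀ k, (-ψ) k / δ k * w k = -(ψ k * w k) := by
      intro k
      have := hδ k
      conv_lhs => rw [← hw k]
      simp only [Pi.neg_apply]
      field_simp
    simp only [dotProduct, e2]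
    rw [Finset.sum_neg_distrib]
    have : ∑ k, ψ k * w k = ψ ⬝ᵥ w := rfl
    rw [this, hψ, neg_zero]
  rw [gT_mul_phi w ψ _ hψ hdot] at h1
  have e3 : (ψ + fun k => (-ψ) k / δ k) = fun k => ψ k - ψ k / δ k := by
    funext k
    simp only [Pi.add_apply, Pi.neg_apply]
    ring
  rw [e3] at h1
  exact h1

/-- Commutator of a transvection with a diagonal element fixing its linear form. -/
theorem gT_comm_diag_mem' (K : Subgroup (GL ι F)) (g : GL ι F) (hgK : g ∈ K) (δ : ι → F)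
    (hδ : ∀ k, δ k ≠ 0) (hg : ∀ x k, ((g : Matrix ι ι F) *ᵥ x) k = δ k * x k) (w ψ : ι → F)
    (hψδ : ∀ k, ψ k / δ k = ψ k) (hψ : ψ ⬝ᵥ w = 0) (hmem : gT w ψ ∈ K) :
    gT (fun k => w k - δ k * w k) ψ ∈ K := by
  have h1 : gT w ψ * (g * (gT w ψ)⁻¹ * g⁻¹) ∈ K :=
    K.mul_mem hmem (K.mul_mem (K.mul_mem hgK (K.inv_mem hmem)) (K.inv_mem hgK))
  rw [gT_inv_of_dot w ψ hψ, ← gT_neg_left, gT_conj_diag g δ hδ hg] at h1
  have e1 : (fun k => ψ k / δ k) = ψ := funext hψδ
  rw [e1] at h1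
  have hdot : ψ ⬝ᵥ (fun k => δ k * (-w) k) = 0 := by
    have e2 : ∀ k, ψ k * (δ k * (-w) k) = -(ψ k * w k) := by
      intro k
      have := hδ k
      conv_lhs => rw [← hψδ k]
      simp only [Pi.neg_apply]
      field_simp
    simp only [dotProduct, e2]
    rw [Finset.sum_neg_distrib]
    have : ∑ k, ψ k * w k = ψ ⬝ᵥ w := rfl
    rw [this, hψ, neg_zero]
  rw [gT_mul_u w _ ψ hψ hdot] at h1
  have e3 : (w + fun k => δ k * (-w) k) = fun k => w k - δ k * w k := by
    funext k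
    simp only [Pi.add_apply, Pi.neg_apply]
    ring
  rw [e3] at h1
  exact h1

/-! ### Monomial elements -/

/-- Every column has at most one non-zero entry. -/
def IsMonoG (g : GL ι F) : Prop :=
  ∀ j, ∃ (i : ι) (l : F), (g : Matrix ι ι F) *ᵥ Pi.single j 1 = l • Pi.single i 1

theorem isMonoG_one : IsMonoG (1 : GL ι F) := fun j =>
  ⟨j, 1, by rw [Units.val_one, Matrix.one_mulVec, one_smul]⟩

theorem IsMonoG.mul {g h : GL ι F} (hg : IsMonoG g) (hh : IsMonoG h) : IsMonoG (g * h) := by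
  intro j
  obtain ⟨i, l, hi⟩ := hh j
  obtain ⟨i', l', hi'⟩ := hg i
  refine ⟨i', l * l', ?_⟩
  rw [Units.val_mul, ← Matrix.mulVec_mulVec, hi, Matrix.mulVec_smul, hi', smul_smul]

omit [Fintype ι] in
theorem single_one_ne_zero (j : ι) : (Pi.single j 1 : ι → F) ≠ 0 := by
  intro h
  have := congrFun h j
  simp at this

theorem IsMonoG.inv {g : GL ι F} (hg : IsMonoG g) : IsMonoG g⁻¹ := by
  choose π l hπ using hg
  have hl : ∀ j, l j ≠ 0 := by
    intro j h0
    have := hπ j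
    rw [h0, zero_smul] at this
    exact single_one_ne_zero j ((gl_mulVec_eq_zero_iff g _).mp this)
  have hinj : Function.Injective π := by
    intro j j' hjj
    by_contra hne
    have h1 : (g : Matrix ι ι F) *ᵥ (l j' • Pi.single j 1 - l j • Pi.single j' 1) = 0 := by
      rw [Matrix.mulVec_sub, Matrix.mulVec_smul, Matrix.mulVec_smul, hπ, hπ, hjj, smul_smul,
        smul_smul, mul_comm, sub_self]
    have h2 := (gl_mulVec_eq_zero_iff g _).mp h1
    have h3 := congrFun h2 j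
    simp [hne] at h3
    exact hl j' h3
  have hsurj : Function.Surjective π := Finite.injective_iff_surjective.mp hinj
  intro i
  obtain ⟨j, rfl⟩ := hsurj i
  refine ⟨j, (l j)⁻¹, ?_⟩
  have : (Pi.single (π j) 1 : ι → F) = (g : Matrix ι ι F) *ᵥ ((l j)⁻¹ • Pi.single j 1) := by
    rw [Matrix.mulVec_smul, hπ, smul_smul, inv_mul_cancel₀ (hl j), one_smul]
  rw [this, gl_inv_mulVec_mulVec]

theorem exists_two_of_not_isMonoG {g : GL ι F} (h : ¬ IsMonoG g) :
    ∃ j a b, a ≠ b ∧ (g : Matrix ι ι F) a j ≠ 0 ∧ (g : Matrix ι ι F) b j ≠ 0 := by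
  by_contra hc
  push Not at hc
  apply h
  intro j
  have hne : (g : Matrix ι ι F) *ᵥ Pi.single j 1 ≠ 0 := fun h0 =>
    single_one_ne_zero j ((gl_mulVec_eq_zero_iff g _).mp h0)
  obtain ⟨i, hi⟩ := Function.ne_iff.mp hne
  have hi' : (g : Matrix ι ι F) i j ≠ 0 := by simpa using hi
  refine ⟨i, (g : Matrix ι ι F) i j, ?_⟩
  funext k
  by_cases hk : k = i
  · subst hk
    simp
  · have : (g : Matrix ι ι F) k j = 0 := hc j i k (Ne.symm hk) hi'
    simp [hk, this]

theorem not_isMonoG_of_two {g : GL ι F} {j a b : ι} (hab : a ≠ b)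
    (ha : (g : Matrix ι ι F) a j ≠ 0) (hb : (g : Matrix ι ι F) b j ≠ 0) : ¬ IsMonoG g := by
  intro hg
  obtain ⟨i, l, h⟩ := hg j
  have h1 := congrFun h a
  have h2 := congrFun h b
  simp only [Matrix.mulVec_single_one, Pi.smul_apply, Pi.single_apply, smul_eq_mul] at h1 h2
  by_cases hai : a = i
  · by_cases hbi : b = i
    · exact hab (hai.trans hbi.symm)
    · apply hb
      simpa [hbi] using h2
  · apply ha
    simpa [hai] using h1

theorem isMonoG_dg1 (r : ι) (μ : F) : IsMonoG (dg1 r μ : GL ι F) := by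
  by_cases hμ : μ = 0
  · subst hμ
    rw [dg1_zero]
    exact isMonoG_one
  · intro j
    refine ⟨j, if j = r then μ else 1, ?_⟩
    funext k
    rw [dg1_mulVec r μ hμ]
    by_cases hk : k = j
    · subst hk
      simp
    · simp [hk]

theorem isMonoG_dg2 (a b : ι) (η : F) : IsMonoG (dg2 a b η : GL ι F) :=
  (isMonoG_dg1 a η).mul (isMonoG_dg1 b η⁻¹)

theorem isMonoG_sswap (a b : ι) (hab : a ≠ b) : IsMonoG (sswap a b : GL ι F) := by
  intro j
  by_cases hja : j = a
  · subst hja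
    refine ⟨b, -1, ?_⟩
    funext k
    rw [sswap_mulVec j b hab]
    by_cases hk : k = j
    · subst hk
      simp [hab]
    · by_cases hkb : k = b
      · subst hkb
        simp [hk]
      · simp [hk, hkb]
  · by_cases hjb : j = b
    · subst hjb
      refine ⟨a, 1, ?_⟩
      funext k
      rw [sswap_mulVec a j hab]
      by_cases hk : k = a
      · subst hk
        simp
      · by_cases hkb : k = j
        · subst hkb
          simp [hk, hab]
        · simp [hk, hkb]
    · refine ⟨j, 1, ?_⟩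
      funext k
      rw [sswap_mulVec a b hab]
      by_cases hk : k = a
      · subst hk
        simp [Ne.symm hja, Ne.symm hjb]
      · by_cases hkb : k = b
        · subst hkb
          simp [hk, Ne.symm hja, Ne.symm hjb]
        · simp [hk, hkb]

/-! ### From one transvection to the special linear group -/

theorem gT_single_mem_of_mem (K : Subgroup (GL ι F)) (hK : ∀ (a b : ι) (η : F), dg2 a b η ∈ K)
    (r b c c' : ι) (hbr : b ≠ r) (hcr : c ≠ r) (hcb : c ≠ b) (hc'r : c' ≠ r) (hc'b : c' ≠ b)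
    (hcc' : c ≠ c') (η : F) (hη0 : η ≠ 0) (ψ : ι → F) (hψr : ψ r = 0)
    (hmem : gT (Pi.single r 1) ψ ∈ K) :
    gT (Pi.single r 1) ((ψ b * (1 - η⁻¹) ^ 2) • Pi.single b 1) ∈ K := by
  have hδ : ∀ (c : ι) (k : ι), (if k = b then η else if k = c then η⁻¹ else 1) ≠ 0 := by
    intro c k
    split_ifs <;> simp [hη0]
  have hw : ∀ (c : ι), c ≠ r → ∀ k, (if k = b then η else if k = c then η⁻¹ else 1) *
      (Pi.single r 1 : ι → F) k = (Pi.single r 1 : ι → F) k := by
    intro c hc k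
    by_cases hk : k = r
    · subst hk
      simp [Ne.symm hbr, Ne.symm hc]
    · simp [hk]
  have h1 := gT_comm_diag_mem K (dg2 b c η) (hK b c η) _ (hδ c) (dg2_mulVec b c hcb.symm η hη0)
    (Pi.single r 1) ψ (hw c hcr) (by simp [hψr]) hmem
  have h2 := gT_comm_diag_mem K (dg2 b c' η) (hK b c' η) _ (hδ c') (dg2_mulVec b c' hc'b.symm η hη0)
    (Pi.single r 1) _ (hw c' hc'r) (by simp [hψr]) h1
  convert h2 using 2
  funext k
  by_cases hkb : k = b
  · subst hkb
    simp
    field_simp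
  · by_cases hkc : k = c
    · subst hkc
      simp [hkb, hcc']
    · simp [hkb, hkc]

/-- All multiples of the elementary transvection at `(r, b)` lie in `K`. -/
def AllT (K : Subgroup (GL ι F)) (r b : ι) : Prop :=
  ∀ a : F, gT (a • Pi.single r 1) (Pi.single b 1) ∈ K

theorem allT_of_one (K : Subgroup (GL ι F)) (hK : ∀ (a b : ι) (η : F), dg2 a b η ∈ K)
    (r b c : ι) (hrb : r ≠ b) (hcr : c ≠ r) (hcb : c ≠ b) (l : F) (hl : l ≠ 0)
    (hmem : gT (l • Pi.single r 1) (Pi.single b 1) ∈ K) : AllT K r b := by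
  intro a
  by_cases ha : a = 0
  · subst ha
    rw [zero_smul, gT_zero_left]
    exact K.one_mem
  · have hν : a / l ≠ 0 := div_ne_zero ha hl
    have hδ : ∀ k : ι, (if k = r then a / l else if k = c then (a / l)⁻¹ else 1) ≠ 0 := by
      intro k
      split_ifs <;> simp [ha, hl]
    have h1 := K.mul_mem (K.mul_mem (hK r c (a / l)) hmem) (K.inv_mem (hK r c (a / l)))
    rw [gT_conj_diag _ _ hδ (dg2_mulVec r c hcr.symm (a / l) hν)] at h1
    convert h1 using 2
    · funext k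
      by_cases hk : k = r
      · subst hk
        simp
        field_simp
      · simp [hk]
    · funext k
      by_cases hk : k = b
      · subst hk
        simp [Ne.symm hrb, Ne.symm hcb]
      · simp [hk]

theorem allT_right (K : Subgroup (GL ι F)) (hs : ∀ a b : ι, a ≠ b → (sswap a b : GL ι F) ∈ K)
    (r b b' : ι) (hbr : b ≠ r) (hb'r : b' ≠ r) (hbb' : b ≠ b') (h : AllT K r b) : AllT K r b' := by
  intro a
  have h1 := K.mul_mem (K.mul_mem (hs b b' hbb') (h (-a))) (K.inv_mem (hs b b' hbb'))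
  have hφ : ∀ x : ι → F, (-(Pi.single b' 1 : ι → F)) ⬝ᵥ
      (((sswap b b' : GL ι F) : Matrix ι ι F) *ᵥ x) = (Pi.single b 1 : ι → F) ⬝ᵥ x := by
    intro x
    rw [neg_dotProduct, single_one_dotProduct, single_one_dotProduct, sswap_mulVec b b' hbb']
    simp [Ne.symm hbb']
  rw [gT_conj (sswap b b') _ _ _ hφ] at h1
  have e : ((sswap b b' : GL ι F) : Matrix ι ι F) *ᵥ ((-a) • (Pi.single r 1 : ι → F)) =
      (-a) • Pi.single r 1 := by
    funext k
    rw [sswap_mulVec b b' hbb']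
    by_cases hk : k = b
    · subst hk
      simp [hbr, hb'r]
    · by_cases hk' : k = b'
      · subst hk'
        simp [hk, hbr, hb'r]
      · simp [hk, hk']
  rw [e, ← gT_neg_left, neg_smul, neg_neg] at h1
  exact h1

theorem allT_left (K : Subgroup (GL ι F)) (hs : ∀ a b : ι, a ≠ b → (sswap a b : GL ι F) ∈ K)
    (r r' b : ι) (hrb : r ≠ b) (hr'b : r' ≠ b) (hrr' : r ≠ r') (h : AllT K r b) : AllT K r' b := by
  intro a
  have h1 := K.mul_mem (K.mul_mem (hs r r' hrr') (h (-a))) (K.inv_mem (hs r r' hrr'))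
  have hφ : ∀ x : ι → F, (Pi.single b 1 : ι → F) ⬝ᵥ
      (((sswap r r' : GL ι F) : Matrix ι ι F) *ᵥ x) = (Pi.single b 1 : ι → F) ⬝ᵥ x := by
    intro x
    rw [single_one_dotProduct, single_one_dotProduct, sswap_mulVec r r' hrr']
    simp [Ne.symm hrb, Ne.symm hr'b]
  rw [gT_conj (sswap r r') _ _ _ hφ] at h1
  have e : ((sswap r r' : GL ι F) : Matrix ι ι F) *ᵥ ((-a) • (Pi.single r 1 : ι → F)) =
      a • Pi.single r' 1 := by
    funext k
    rw [sswap_mulVec r r' hrr']
    by_cases hk : k = r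
    · subst hk
      simp [hrr', Ne.symm hrr']
    · by_cases hk' : k = r'
      · subst hk'
        simp [hk]
      · simp [hk, hk']
  rw [e] at h1
  exact h1

theorem allT_all (K : Subgroup (GL ι F)) (hs : ∀ a b : ι, a ≠ b → (sswap a b : GL ι F) ∈ K)
    (hcard : 3 ≤ Fintype.card ι) (r b : ι) (hrb : r ≠ b) (h : AllT K r b) :
    ∀ r' b' : ι, r' ≠ b' → AllT K r' b' := by
  have step1 : ∀ b' : ι, b' ≠ r → AllT K r b' := by
    intro b' hb'
    by_cases hbb' : b = b'
    · subst hbb'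
      exact h
    · exact allT_right K hs r b b' (Ne.symm hrb) hb' hbb' h
  intro r' b' hr'b'
  by_cases hr : r' = r
  · subst hr
    exact step1 b' (Ne.symm hr'b')
  · by_cases hb : b' = r
    · subst hb
      obtain ⟨b'', hb''⟩ := exists_not_mem_of_card ({b', r'} : Finset ι)
        (lt_of_le_of_lt Finset.card_le_two (by omega))
      simp only [Finset.mem_insert, Finset.mem_singleton, not_or] at hb''
      have h1 := step1 b'' hb''.1
      have h2 := allT_left K hs b' r' b'' (Ne.symm hb''.1) (Ne.symm hb''.2) (Ne.symm hr) h1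
      exact allT_right K hs r' b'' b' hb''.2 (Ne.symm hr) hb''.1 h2
    · exact allT_left K hs r r' b' (Ne.symm hb) hr'b' (Ne.symm hr) (step1 b' hb)

/-- A subgroup containing the diagonal elements `dg2`, the signed swaps and one non-trivial
transvection along a coordinate vector contains the special linear subgroup. -/
theorem specialLinear_le_of_gT_single (M : Subgroup (GL ι F))
    (hK : ∀ (a b : ι) (η : F), dg2 a b η ∈ M)
    (hs : ∀ a b : ι, a ≠ b → (sswap a b : GL ι F) ∈ M) (hcard : 4 ≤ Fintype.card ι)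
    (η : F) (hη0 : η ≠ 0) (hη1 : η ≠ 1) (r : ι) (ψ : ι → F) (hψr : ψ r = 0) (hψ : ψ ≠ 0)
    (hmem : gT (Pi.single r 1) ψ ∈ M) : specialLinear ι F ≤ M := by
  obtain ⟨b, hb⟩ := Function.ne_iff.mp hψ
  have hb' : ψ b ≠ 0 := hb
  have hbr : b ≠ r := by
    intro h
    rw [h] at hb'
    exact hb' hψr
  obtain ⟨c, hc⟩ := exists_not_mem_of_card ({r, b} : Finset ι)
    (lt_of_le_of_lt Finset.card_le_two (by omega))
  simp only [Finset.mem_insert, Finset.mem_singleton, not_or] at hc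
  obtain ⟨c', hc'⟩ := exists_not_mem_of_card ({r, b, c} : Finset ι)
    (lt_of_le_of_lt Finset.card_le_three (by omega))
  simp only [Finset.mem_insert, Finset.mem_singleton, not_or] at hc'
  have h1 := gT_single_mem_of_mem M hK r b c c' hbr hc.1 hc.2 hc'.1 hc'.2.1 (Ne.symm hc'.2.2) η hη0
    ψ hψr hmem
  rw [← gT_smul_comm] at h1
  have hl : ψ b * (1 - η⁻¹) ^ 2 ≠ 0 := by
    apply mul_ne_zero hb'
    apply pow_ne_zero
    intro h0
    apply hη1
    have : η⁻¹ = 1 := by linear_combination -h0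
    rw [inv_eq_one] at this
    exact this
  have h2 := allT_of_one M hK r b c (Ne.symm hbr) hc.1 hc.2 _ hl h1
  have h3 := allT_all M hs (by omega) r b (Ne.symm hbr) h2
  haveI : Nontrivial ι := Fintype.one_lt_card_iff_nontrivial.mp (by omega)
  apply specialLinear_le_of_elemT
  intro i j hij a
  rw [elemT_eq_gT i j hij]
  exact h3 i j hij a

end

end Cfsg.Agent.Lib.helper95
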