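import Mathlib
import Cfsg.Agent.Lib.helper95.Mono0

/-!
Overgroups of the stabiliser of a decomposition into blocks of dimension at least two inside the
special linear group: transvection pairs, and the passage from one element outside the stabiliser to
all transvections.
-/

set_option autoImplicit false
set_option linter.unusedSectionVars false

namespace Cfsg.Agent.Lib.helper95

open Matrix Cfsg Cfsg.Geo Module

section
variable {ι : Type} [Fintype ι] [DecidableEq ι] {F : Type*} [Field F]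

/-- A linear form on `F^ι` as a vector. -/
def dualVec (ℓ : Module.Dual F (ι → F)) : ι → F := fun k => ℓ (Pi.single k 1)

theorem dualVec_dot (ℓ : Module.Dual F (ι → F)) (w : ι → F) : dualVec ℓ ⬝ᵥ w = ℓ w := by
  have hw : w = ∑ k, w k • (Pi.single k 1 : ι → F) := by
    funext j
    simp [Finset.sum_apply, Pi.single_apply]
  conv_rhs => rw [hw]
  rw [map_sum]
  simp only [dotProduct, dualVec, map_smul, smul_eq_mul]
  apply Finset.sum_congr rfl
  intro k _
  ring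

/-- Transvection pairs: `φ(u) = 0` and all `x ↦ x + a φ(x) u` lie in `M`. -/
def IsTP (M : Subgroup (GL ι F)) (u φ : ι → F) : Prop :=
  φ ⬝ᵥ u = 0 ∧ ∀ a : F, gT (a • u) φ ∈ M

theorem IsTP.smul_left {M : Subgroup (GL ι F)} {u φ : ι → F} (h : IsTP M u φ) (c : F) :
    IsTP M (c • u) φ :=
  ⟨by rw [dotProduct_smul, h.1, smul_zero], fun a => by rw [smul_smul]; exact h.2 _⟩

theorem IsTP.smul_right {M : Subgroup (GL ι F)} {u φ : ι → F} (h : IsTP M u φ) (c : F) :
    IsTP M u (c • φ) :=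
  ⟨by rw [smul_dotProduct, h.1, smul_zero], fun a => by
    rw [← gT_smul_comm, smul_smul]
    exact h.2 _⟩

theorem IsTP.add_right {M : Subgroup (GL ι F)} {u φ φ' : ι → F} (h : IsTP M u φ)
    (h' : IsTP M u φ') : IsTP M u (φ + φ') :=
  ⟨by rw [add_dotProduct, h.1, h'.1, add_zero], fun a => by
    have := M.mul_mem (h.2 a) (h'.2 a)
    rwa [gT_mul_phi _ _ _ (by rw [dotProduct_smul, h.1, smul_zero])
      (by rw [dotProduct_smul, h'.1, smul_zero])] at this⟩

theorem IsTP.add_left {M : Subgroup (GL ι F)} {u u' φ : ι → F} (h : IsTP M u φ)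
    (h' : IsTP M u' φ) : IsTP M (u + u') φ :=
  ⟨by rw [dotProduct_add, h.1, h'.1, add_zero], fun a => by
    have := M.mul_mem (h.2 a) (h'.2 a)
    rwa [gT_mul_u _ _ _ (by rw [dotProduct_smul, h.1, smul_zero])
      (by rw [dotProduct_smul, h'.1, smul_zero]), ← smul_add] at this⟩

theorem IsTP.conj {M : Subgroup (GL ι F)} {u φ : ι → F} (h : IsTP M u φ) (g : GL ι F)
    (hg : g ∈ M) (φ' : ι → F)
    (hφ' : ∀ x, φ' ⬝ᵥ ((g : Matrix ι ι F) *ᵥ x) = φ ⬝ᵥ x) :
    IsTP M ((g : Matrix ι ι F) *ᵥ u) φ' :=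
  ⟨by rw [hφ']; exact h.1, fun a => by
    have := M.mul_mem (M.mul_mem hg (h.2 a)) (M.inv_mem hg)
    rwa [gT_conj g _ _ φ' hφ', Matrix.mulVec_smul] at this⟩

/-- The commutator rule. -/
theorem IsTP.comm {M : Subgroup (GL ι F)} {u φ u' φ' : ι → F} (h : IsTP M u φ)
    (h' : IsTP M u' φ') (h0 : φ' ⬝ᵥ u = 0) : IsTP M ((φ ⬝ᵥ u') • u) φ' := by
  refine ⟨by rw [dotProduct_smul, h0, smul_zero], fun a => ?_⟩
  have hA := h.2 a
  have hB := h'.2 1
  rw [one_smul] at hB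
  have h1 := M.mul_mem (M.mul_mem (M.mul_mem hA hB) (M.inv_mem hA)) (M.inv_mem hB)
  have hdA : φ ⬝ᵥ (a • u) = 0 := by rw [dotProduct_smul, h.1, smul_zero]
  rw [gT_conj (gT (a • u) φ) u' φ' φ' (by
      intro x
      rw [gT_mulVec' _ _ hdA, dotProduct_add, dotProduct_smul, dotProduct_smul, h0]
      simp),
    gT_mulVec' _ _ hdA, gT_inv_of_dot _ _ h'.1, ← gT_neg_left,
    gT_mul_u _ _ _ (by
      rw [dotProduct_add, h'.1, dotProduct_smul, dotProduct_smul, h0]
      simp) (by rw [dotProduct_neg, h'.1, neg_zero])] at h1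
  convert h1 using 2
  module

end

section Decomp
variable {ι : Type} [Fintype ι] [DecidableEq ι] {F : Type*} [Field F]
variable {t m : ℕ} {D : Fin t → Submodule F (ι → F)}

/-- The linear form `φ` vanishes on all blocks other than `D i`. -/
def IsDual (D : Fin t → Submodule F (ι → F)) (i : Fin t) (φ : ι → F) : Prop :=
  ∀ j, j ≠ i → ∀ w ∈ D j, φ ⬝ᵥ w = 0

omit [DecidableEq ι] in
theorem IsDual.add {i : Fin t} {φ φ' : ι → F} (h : IsDual D i φ) (h' : IsDual D i φ') :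
    IsDual D i (φ + φ') := fun j hj w hw => by
  rw [add_dotProduct, h j hj w hw, h' j hj w hw, add_zero]

omit [DecidableEq ι] in
theorem IsDual.smul {i : Fin t} {φ : ι → F} (h : IsDual D i φ) (c : F) :
    IsDual D i (c • φ) := fun j hj w hw => by
  rw [smul_dotProduct, h j hj w hw, smul_zero]

/-- The component of a vector in the block `D j`. -/
noncomputable def cmp (hD : IsMDecomposition m D) (j : Fin t) : (ι → F) →ₗ[F] (ι → F) :=
  bproj (decompBasis hD) j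

theorem cmp_mem (hD : IsMDecomposition m D) (j : Fin t) (x : ι → F) : cmp hD j x ∈ D j := by
  have := bproj_mem (decompBasis hD) j x
  rwa [blk_decompBasis] at this

theorem sum_cmp (hD : IsMDecomposition m D) (x : ι → F) : ∑ j, cmp hD j x = x :=
  sum_bproj _ x

theorem cmp_of_mem (hD : IsMDecomposition m D) {x : ι → F} {j : Fin t} (hx : x ∈ D j) :
    cmp hD j x = x :=
  bproj_of_mem _ (by rwa [blk_decompBasis])

theorem cmp_of_mem_ne (hD : IsMDecomposition m D) {x : ι → F} {i j : Fin t} (hx : x ∈ D i)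
    (h : i ≠ j) : cmp hD j x = 0 :=
  bproj_of_mem_ne _ (by rwa [blk_decompBasis]) h

theorem IsDual.dot_eq (hD : IsMDecomposition m D) {i : Fin t} {φ : ι → F} (h : IsDual D i φ)
    (x : ι → F) : φ ⬝ᵥ x = φ ⬝ᵥ cmp hD i x := by
  conv_lhs => rw [← sum_cmp hD x]
  rw [dotProduct_sum, Finset.sum_eq_single i]
  · intro j _ hj
    exact h j hj _ (cmp_mem hD j x)
  · intro h
    exact absurd (Finset.mem_univ i) h

theorem exists_cmp_ne_zero (hD : IsMDecomposition m D) {x : ι → F} (hx : x ≠ 0) :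
    ∃ j, cmp hD j x ≠ 0 := by
  by_contra hc
  push Not at hc
  apply hx
  rw [← sum_cmp hD x]
  exact Finset.sum_eq_zero (fun j _ => hc j)

theorem exists_cmp_ne_zero_of_notMem (hD : IsMDecomposition m D) {x : ι → F} {i : Fin t}
    (hx : x ∉ D i) : ∃ j, j ≠ i ∧ cmp hD j x ≠ 0 := by
  by_contra hc
  push Not at hc
  apply hx
  rw [← sum_cmp hD x, Finset.sum_eq_single i]
  · exact cmp_mem hD i x
  · intro j _ hj
    exact hc j hj
  · intro h
    exact absurd (Finset.mem_univ i) h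

theorem IsDual.exists_ne (hD : IsMDecomposition m D) {j : Fin t} {φ : ι → F}
    (h : IsDual D j φ) (h0 : φ ≠ 0) : ∃ w ∈ D j, φ ⬝ᵥ w ≠ 0 := by
  by_contra hc
  push Not at hc
  apply h0
  funext k
  have := h.dot_eq hD (Pi.single k 1)
  rw [dotProduct_single_one, hc _ (cmp_mem hD j _)] at this
  exact this

/-- Two vectors of different blocks whose sum lies in a block: one of them vanishes. -/
theorem eq_zero_or_of_add_mem (hD : IsMDecomposition m D) {a b c : Fin t} (hab : a ≠ b)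
    {x y : ι → F} (hx : x ∈ D a) (hy : y ∈ D b) (hxy : x + y ∈ D c) : x = 0 ∨ y = 0 := by
  by_cases hca : c = a
  · right
    have h1 := cmp_of_mem_ne hD hxy (by rw [hca]; exact hab : c ≠ b)
    rw [map_add, cmp_of_mem_ne hD hx hab, cmp_of_mem hD hy, zero_add] at h1
    exact h1
  · left
    have h1 := cmp_of_mem_ne hD hxy hca
    rw [map_add, cmp_of_mem hD hx, cmp_of_mem_ne hD hy (Ne.symm hab), add_zero] at h1
    exact h1

theorem exists_dual_sep (hD : IsMDecomposition m D) (i : Fin t) (x y : ι → F) (hx : x ∈ D i)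
    (hy : y ∈ D i) (hxy : y ∉ Submodule.span F {x}) :
    ∃ ψ : ι → F, IsDual D i ψ ∧ ψ ⬝ᵥ x = 0 ∧ ψ ⬝ᵥ y = 1 := by
  have hyW : y ∉ Submodule.span F {x} ⊔ ⨆ j, ⨆ (_ : j ≠ i), D j := by
    intro h
    obtain ⟨p, hp, q, hq, hpq⟩ := Submodule.mem_sup.mp h
    have hpD : p ∈ D i := (Submodule.span_le.mpr (by simpa using hx)) hp
    have hq' : q ∈ D i := by
      have : q = y - p := by rw [← hpq]; abel
      rw [this]
      exact (D i).sub_mem hy hpD
    have hq0 : q = 0 := (Submodule.disjoint_def.mp (hD.indep i)) q hq' hq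
    rw [hq0, add_zero] at hpq
    rw [← hpq] at hxy
    exact hxy hp
  obtain ⟨ℓ, hℓ1, hℓ0⟩ := exists_dual_eq_one_of_notMem _ y hyW
  refine ⟨dualVec ℓ, ?_, ?_, ?_⟩
  · intro j hj w hw
    rw [dualVec_dot]
    exact hℓ0 w (Submodule.mem_sup_right
      (Submodule.mem_iSup_of_mem j (Submodule.mem_iSup_of_mem hj hw)))
  · rw [dualVec_dot]
    exact hℓ0 x (Submodule.mem_sup_left (Submodule.mem_span_singleton_self x))
  · rw [dualVec_dot]
    exact hℓ1

omit [DecidableEq ι] in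
theorem exists_notMem_span_singleton (hD : IsMDecomposition m D) (hm : 2 ≤ m) (j : Fin t)
    (x : ι → F) : ∃ y ∈ D j, y ∉ Submodule.span F {x} := by
  classical
  by_contra hc
  push Not at hc
  have hle : D j ≤ Submodule.span F {x} := fun y hy => hc y hy
  have h1 := Submodule.finrank_mono hle
  rw [hD.finrank_eq j] at h1
  have h2 : Module.finrank F (Submodule.span F ({x} : Set (ι → F))) ≤ 1 := by
    have : Module.finrank F (Submodule.span F ((({x} : Finset (ι → F)) : Set (ι → F)))) ≤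
        ({x} : Finset (ι → F)).card := finrank_span_finset_le_card _
    rw [Finset.coe_singleton, Finset.card_singleton] at this
    exact this
  omega

omit [DecidableEq ι] in
theorem exists_notMem_span_pair (hD : IsMDecomposition m D) (hm : 3 ≤ m) (j : Fin t)
    (x y : ι → F) : ∃ z ∈ D j, z ∉ Submodule.span F {x, y} := by
  classical
  by_contra hc
  push Not at hc
  have hle : D j ≤ Submodule.span F {x, y} := fun z hz => hc z hz
  have h1 := Submodule.finrank_mono hle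
  rw [hD.finrank_eq j] at h1
  have h2 : Module.finrank F (Submodule.span F ({x, y} : Set (ι → F))) ≤ 2 := by
    have : Module.finrank F (Submodule.span F ((({x, y} : Finset (ι → F)) : Set (ι → F)))) ≤
        ({x, y} : Finset (ι → F)).card := finrank_span_finset_le_card _
    have h3 : ({x, y} : Finset (ι → F)).card ≤ 2 := Finset.card_le_two
    rw [Finset.coe_pair] at this
    omega
  omega

omit [Fintype ι] [DecidableEq ι] in
theorem notMem_span_singleton_symm {w v : ι → F} (hv : v ≠ 0)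
    (h : w ∉ Submodule.span F {v}) : v ∉ Submodule.span F {w} := by
  intro hmem
  obtain ⟨a, ha⟩ := Submodule.mem_span_singleton.mp hmem
  have ha0 : a ≠ 0 := by
    rintro rfl
    rw [zero_smul] at ha
    exact hv ha.symm
  apply h
  rw [Submodule.mem_span_singleton]
  exact ⟨a⁻¹, by rw [← ha, smul_smul, inv_mul_cancel₀ ha0, one_smul]⟩

theorem decomp_map_eq_of_forall (hD : IsMDecomposition m D) (g : GL ι F) (i j : Fin t)
    (h : ∀ w ∈ D i, (g : Matrix ι ι F) *ᵥ w ∈ D j) :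
    (D i).map (Matrix.toLin' (g : Matrix ι ι F)) = D j := by
  apply Submodule.eq_of_le_of_finrank_eq
  · rintro _ ⟨w, hw, rfl⟩
    rw [Matrix.toLin'_apply]
    exact h w hw
  · have hinj : Function.Injective (Matrix.toLin' (g : Matrix ι ι F)) := by
      intro v w hvw
      simp only [Matrix.toLin'_apply] at hvw
      exact gl_mulVec_injective g hvw
    rw [← (Submodule.equivMapOfInjective _ hinj (D i)).finrank_eq, hD.finrank_eq, hD.finrank_eq]

theorem gT_mem_decompStab (hD : IsMDecomposition m D) (i : Fin t) (e ψ : ι → F) (he : e ∈ D i)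
    (hψ : IsDual D i ψ) : gT e ψ ∈ decompositionStabilizer D := by
  by_cases h : 1 + ψ ⬝ᵥ e = 0
  · rw [gT_of_eq_zero _ _ h]
    exact Subgroup.one_mem _
  · refine ⟨1, fun j => decomp_map_eq_of_forall hD _ j j ?_⟩
    intro w hw
    rw [gT_mulVec _ _ h]
    by_cases hj : j = i
    · subst hj
      exact (D j).add_mem hw ((D j).smul_mem _ he)
    · rw [hψ j hj w hw, zero_smul, add_zero]
      exact hw

theorem isTP_block (hD : IsMDecomposition m D) (M : Subgroup (GL ι F))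
    (hHM : decompositionStabilizer D ⊓ specialLinear ι F ≤ M) (i : Fin t) (u φ : ι → F)
    (hu : u ∈ D i) (hφ : IsDual D i φ) (h0 : φ ⬝ᵥ u = 0) : IsTP M u φ :=
  ⟨h0, fun a => hHM ⟨gT_mem_decompStab hD i _ φ ((D i).smul_mem a hu) hφ,
    gT_mem_specialLinear _ _ (by rw [dotProduct_smul, h0, smul_zero])⟩⟩

/-- `M` contains a transvection pair `(u, φ)` with `u` in one block and `φ` dual to another. -/
def HasCross (M : Subgroup (GL ι F)) (D : Fin t → Submodule F (ι → F)) : Prop :=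
  ∃ (i j : Fin t) (u φ : ι → F), i ≠ j ∧ u ∈ D i ∧ u ≠ 0 ∧ IsDual D j φ ∧ φ ≠ 0 ∧ IsTP M u φ

theorem hasCross_X1 (hD : IsMDecomposition m D) (hm : 2 ≤ m) (M : Subgroup (GL ι F))
    (hHM : decompositionStabilizer D ⊓ specialLinear ι F ≤ M) (i : Fin t) (u φ : ι → F)
    (h : IsTP M u φ) (hu : u ∈ D i) (hu0 : u ≠ 0) (hφ : ¬ IsDual D i φ) : HasCross M D := by
  unfold IsDual at hφ
  push Not at hφ
  obtain ⟨j, hj, w, hw, hφw⟩ := hφ
  obtain ⟨y, hy, hyw⟩ := exists_notMem_span_singleton hD hm j w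
  obtain ⟨φ', hφ'd, hφ'w, hφ'y⟩ := exists_dual_sep hD j w y hw hy hyw
  have hTP' : IsTP M w φ' := isTP_block hD M hHM j w φ' hw hφ'd hφ'w
  have h1 := h.comm hTP' (hφ'd i (Ne.symm hj) u hu)
  have h2 := h1.smul_left (φ ⬝ᵥ w)⁻¹
  rw [smul_smul, inv_mul_cancel₀ hφw, one_smul] at h2
  refine ⟨i, j, u, φ', Ne.symm hj, hu, hu0, hφ'd, ?_, h2⟩
  intro h0
  rw [h0, zero_dotProduct] at hφ'y
  exact zero_ne_one hφ'y

theorem hasCross_X2 (hD : IsMDecomposition m D) (hm : 2 ≤ m) (M : Subgroup (GL ι F))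
    (hHM : decompositionStabilizer D ⊓ specialLinear ι F ≤ M) (i : Fin t) (u φ : ι → F)
    (h : IsTP M u φ) (hφ : IsDual D i φ) (hφ0 : φ ≠ 0) (hu : u ∉ D i) : HasCross M D := by
  obtain ⟨j, hj, hcj⟩ := exists_cmp_ne_zero_of_notMem hD hu
  obtain ⟨φ', hφ'd, -, hφ'1⟩ := exists_dual_sep hD j 0 (cmp hD j u) (D j).zero_mem
    (cmp_mem hD j u) (by simpa using hcj)
  obtain ⟨y, hy, hyu⟩ := exists_notMem_span_singleton hD hm j (cmp hD j u)
  obtain ⟨u', hu'⟩ : ∃ u' : ι → F, u' = y - (φ' ⬝ᵥ y) • cmp hD j u := ⟨_, rfl⟩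
  have hu'mem : u' ∈ D j := by
    rw [hu']
    exact (D j).sub_mem hy ((D j).smul_mem _ (cmp_mem hD j u))
  have hu'0 : u' ≠ 0 := by
    intro h0
    apply hyu
    rw [hu', sub_eq_zero] at h0
    rw [h0]
    exact Submodule.smul_mem _ _ (Submodule.mem_span_singleton_self _)
  have hφ'u' : φ' ⬝ᵥ u' = 0 := by
    rw [hu', dotProduct_sub, dotProduct_smul, hφ'1]
    simp
  have hTP' : IsTP M u' φ' := isTP_block hD M hHM j u' φ' hu'mem hφ'd hφ'u'
  have h1 := hTP'.comm h (hφ j hj u' hu'mem)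
  rw [hφ'd.dot_eq hD u, hφ'1, one_smul] at h1
  exact ⟨j, i, u', φ, hj, hu'mem, hu'0, hφ, hφ0, h1⟩

/-- The remaining configuration for blocks of dimension two. -/
theorem hasCross_iii [Fintype F] (hD : IsMDecomposition m D) (hm : 2 ≤ m)
    (hq3 : 3 ≤ Fintype.card F) (ht3 : 3 ≤ t) (M : Subgroup (GL ι F))
    (hHM : decompositionStabilizer D ⊓ specialLinear ι F ≤ M) (u φ : ι → F) (h : IsTP M u φ)
    (hu : ∀ j, u ∉ D j) (j : Fin t) (hj : cmp hD j u ≠ 0)
    (hii : ∀ w ∈ D j, w ∉ Submodule.span F {cmp hD j u} → φ ⬝ᵥ w ≠ 0) : HasCross M D := by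
  classical
  obtain ⟨δ, hδ⟩ := exists_not_mem_of_card ({0, 1} : Finset F)
    (lt_of_le_of_lt Finset.card_le_two (by omega))
  simp only [Finset.mem_insert, Finset.mem_singleton, not_or] at hδ
  obtain ⟨hδ0, hδ1⟩ := hδ
  have hδi : δ * δ⁻¹ = 1 := mul_inv_cancel₀ hδ0
  have hδi1 : δ⁻¹ - 1 ≠ 0 := by
    intro h2
    apply hδ1
    have : δ⁻¹ = 1 := by linear_combination h2
    rw [inv_eq_one] at this
    exact this
  obtain ⟨e, he, heu⟩ := exists_notMem_span_singleton hD hm j (cmp hD j u)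
  obtain ⟨ψ, hψd, hψu, hψe⟩ := exists_dual_sep hD j (cmp hD j u) e (cmp_mem hD j u) he heu
  have hφe : φ ⬝ᵥ e ≠ 0 := hii e he heu
  have hψu' : ψ ⬝ᵥ u = 0 := by rw [hψd.dot_eq hD u, hψu]
  -- the general construction
  have key : ∀ (l : Fin t), l ≠ j → ∀ (e' ψ' : ι → F), e' ∈ D l → IsDual D l ψ' → ψ' ⬝ᵥ e' = 1 →
      ψ' ⬝ᵥ u = 0 →
      IsTP M u (((δ⁻¹ - 1) * (φ ⬝ᵥ e)) • ψ + ((δ - 1) * (φ ⬝ᵥ e')) • ψ') := by
    intro l hl e' ψ' he' hψ'd hψ'e' hψ'u
    have hψe' : ψ ⬝ᵥ e' = 0 := hψd l hl e' he'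
    have hψ'e : ψ' ⬝ᵥ e = 0 := hψ'd j (Ne.symm hl) e he
    have c1 : 1 + ψ ⬝ᵥ ((δ - 1) • e) ≠ 0 := by
      rw [dotProduct_smul, hψe]
      simpa using hδ0
    have c2 : 1 + ψ' ⬝ᵥ ((δ⁻¹ - 1) • e') ≠ 0 := by
      rw [dotProduct_smul, hψ'e']
      simpa using hδ0
    have hSL : gT ((δ - 1) • e) ψ * gT ((δ⁻¹ - 1) • e') ψ' ∈ specialLinear ι F := by
      rw [mem_specialLinear_iff, Units.val_mul, Matrix.det_mul, gT_det _ _ c1, gT_det _ _ c2,
        dotProduct_smul, dotProduct_smul, hψe, hψ'e']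
      simp only [smul_eq_mul, mul_one]
      linear_combination hδi
    have hmem : gT ((δ - 1) • e) ψ * gT ((δ⁻¹ - 1) • e') ψ' ∈ M :=
      hHM ⟨Subgroup.mul_mem _ (gT_mem_decompStab hD j _ ψ ((D j).smul_mem _ he) hψd)
        (gT_mem_decompStab hD l _ ψ' ((D l).smul_mem _ he') hψ'd), hSL⟩
    have hfix : ((gT ((δ - 1) • e) ψ * gT ((δ⁻¹ - 1) • e') ψ' : GL ι F) : Matrix ι ι F) *ᵥ u =
        u := by
      rw [Units.val_mul, ← Matrix.mulVec_mulVec, gT_mulVec _ _ c2, hψ'u, zero_smul, add_zero,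
        gT_mulVec _ _ c1, hψu', zero_smul, add_zero]
    have h1 := h.conj _ hmem
      (φ + ((δ⁻¹ - 1) * (φ ⬝ᵥ e)) • ψ + ((δ - 1) * (φ ⬝ᵥ e')) • ψ') (by
        intro x
        rw [Units.val_mul, ← Matrix.mulVec_mulVec, gT_mulVec _ _ c2, gT_mulVec _ _ c1]
        simp only [dotProduct_add, add_dotProduct, dotProduct_smul, smul_dotProduct, hψe, hψe',
          hψ'e, hψ'e', smul_eq_mul]
        linear_combination ((ψ' ⬝ᵥ x) * (φ ⬝ᵥ e') + (ψ ⬝ᵥ x) * (φ ⬝ᵥ e)) * hδi)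
    rw [hfix] at h1
    have h2 := h1.add_right (h.smul_right (-1))
    have e3 : φ + ((δ⁻¹ - 1) * (φ ⬝ᵥ e)) • ψ + ((δ - 1) * (φ ⬝ᵥ e')) • ψ' + (-1 : F) • φ =
        ((δ⁻¹ - 1) * (φ ⬝ᵥ e)) • ψ + ((δ - 1) * (φ ⬝ᵥ e')) • ψ' := by
      module
    rw [e3] at h2
    exact h2
  by_cases hzero : ∃ l, l ≠ j ∧ cmp hD l u = 0
  · obtain ⟨l, hl, hul⟩ := hzero
    -- a non-zero vector of `D l` killed by `φ`
    obtain ⟨e', he', he'0, hφe'⟩ : ∃ e' ∈ D l, e' ≠ 0 ∧ φ ⬝ᵥ e' = 0 := by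
      obtain ⟨y₁, hy₁, hy₁0⟩ := exists_notMem_span_singleton hD hm l (0 : ι → F)
      have hy₁ne : y₁ ≠ 0 := by
        rintro rfl
        exact hy₁0 (Submodule.zero_mem _)
      by_cases hφy₁ : φ ⬝ᵥ y₁ = 0
      · exact ⟨y₁, hy₁, hy₁ne, hφy₁⟩
      · obtain ⟨y₂, hy₂, hy₂y⟩ := exists_notMem_span_singleton hD hm l y₁
        refine ⟨y₂ - ((φ ⬝ᵥ y₂) / (φ ⬝ᵥ y₁)) • y₁, (D l).sub_mem hy₂ ((D l).smul_mem _ hy₁), ?_, ?_⟩
        · intro h0
          apply hy₂y
          rw [sub_eq_zero] at h0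
          rw [h0]
          exact Submodule.smul_mem _ _ (Submodule.mem_span_singleton_self _)
        · rw [dotProduct_sub, dotProduct_smul, smul_eq_mul]
          field_simp
          ring
    obtain ⟨ψ', hψ'd, -, hψ'e'⟩ := exists_dual_sep hD l 0 e' (D l).zero_mem he'
      (by simpa using he'0)
    have hψ'u : ψ' ⬝ᵥ u = 0 := by rw [hψ'd.dot_eq hD u, hul, dotProduct_zero]
    have h1 := key l hl e' ψ' he' hψ'd hψ'e' hψ'u
    rw [hφe', mul_zero, zero_smul, add_zero] at h1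
    refine hasCross_X2 hD hm M hHM j u _ h1 (hψd.smul _) ?_ (hu j)
    intro h0
    have h2 := congrArg (fun θ : ι → F => θ ⬝ᵥ e) h0
    simp only [smul_dotProduct, hψe, zero_dotProduct, smul_eq_mul, mul_one] at h2
    exact (mul_ne_zero hδi1 hφe) h2
  · push Not at hzero
    obtain ⟨l, hl⟩ := exists_not_mem_of_card ({j} : Finset (Fin t))
      (by rw [Finset.card_singleton, Fintype.card_fin]; omega)
    obtain ⟨j'', hj''⟩ := exists_not_mem_of_card ({j, l} : Finset (Fin t))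
      (lt_of_le_of_lt Finset.card_le_two (by rw [Fintype.card_fin]; omega))
    simp only [Finset.mem_insert, Finset.mem_singleton, not_or] at hl hj''
    obtain ⟨e', he', he'u⟩ := exists_notMem_span_singleton hD hm l (cmp hD l u)
    obtain ⟨ψ', hψ'd, hψ'ul, hψ'e'⟩ := exists_dual_sep hD l (cmp hD l u) e' (cmp_mem hD l u) he'
      he'u
    have hψ'u : ψ' ⬝ᵥ u = 0 := by rw [hψ'd.dot_eq hD u, hψ'ul]
    have h1 := key l hl e' ψ' he' hψ'd hψ'e' hψ'u
    obtain ⟨w, hw, hwu⟩ := exists_notMem_span_singleton hD hm j'' (cmp hD j'' u)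
    have hcj'' : cmp hD j'' u ≠ 0 := hzero j'' hj''.1
    obtain ⟨ψ'', hψ''d, hψ''w, hψ''u⟩ := exists_dual_sep hD j'' w (cmp hD j'' u) hw
      (cmp_mem hD j'' u) (notMem_span_singleton_symm hcj'' hwu)
    have hTP'' := isTP_block hD M hHM j'' w ψ'' hw hψ''d hψ''w
    have hθw : (((δ⁻¹ - 1) * (φ ⬝ᵥ e)) • ψ + ((δ - 1) * (φ ⬝ᵥ e')) • ψ') ⬝ᵥ w = 0 := by
      rw [add_dotProduct, smul_dotProduct, smul_dotProduct, hψd j'' hj''.1 w hw,
        hψ'd j'' hj''.2 w hw]
      simp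
    have h2 := hTP''.comm h1 hθw
    rw [hψ''d.dot_eq hD u, hψ''u, one_smul] at h2
    have hw0 : w ≠ 0 := by
      rintro rfl
      exact hwu (Submodule.zero_mem _)
    refine hasCross_X1 hD hm M hHM j'' w _ h2 hw hw0 ?_
    intro hd
    have h3 := hd j (Ne.symm hj''.1) e he
    rw [add_dotProduct, smul_dotProduct, smul_dotProduct, hψe, hψ'd j (Ne.symm hl) e he] at h3
    simp only [smul_eq_mul, mul_one, mul_zero, add_zero] at h3
    exact (mul_ne_zero hδi1 hφe) h3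

/-- A transvection pair whose direction lies in no block yields a cross pair. -/
theorem hasCross_of_notMem [Fintype F] (hD : IsMDecomposition m D) (hm : 2 ≤ m)
    (hmq : 3 ≤ m ∨ (3 ≤ Fintype.card F ∧ 3 ≤ t)) (M : Subgroup (GL ι F))
    (hHM : decompositionStabilizer D ⊓ specialLinear ι F ≤ M) (u φ : ι → F) (h : IsTP M u φ)
    (hφ0 : φ ≠ 0) (hu : ∀ j, u ∉ D j) : HasCross M D := by
  by_cases hA : ∃ i, IsDual D i φ
  · obtain ⟨i, hi⟩ := hA
    exact hasCross_X2 hD hm M hHM i u φ h hi hφ0 (hu i)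
  push Not at hA
  have hu0 : u ≠ 0 := by
    rintro rfl
    exact hu ⟨0, by have := hD.two_le; omega⟩ (Submodule.zero_mem _)
  obtain ⟨j, hj⟩ := exists_cmp_ne_zero hD hu0
  by_cases hii : ∃ w ∈ D j, w ∉ Submodule.span F {cmp hD j u} ∧ φ ⬝ᵥ w = 0
  · obtain ⟨w, hw, hwu, hφw⟩ := hii
    obtain ⟨ψ, hψd, hψw, hψu⟩ := exists_dual_sep hD j w (cmp hD j u) hw (cmp_mem hD j u)
      (notMem_span_singleton_symm hj hwu)
    have hTP' := isTP_block hD M hHM j w ψ hw hψd hψw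
    have h1 := hTP'.comm h hφw
    rw [hψd.dot_eq hD u, hψu, one_smul] at h1
    have hw0 : w ≠ 0 := by
      rintro rfl
      exact hwu (Submodule.zero_mem _)
    exact hasCross_X1 hD hm M hHM j w φ h1 hw hw0 (hA j)
  push Not at hii
  rcases hmq with hm3 | ⟨hq3, ht3⟩
  · exfalso
    obtain ⟨y₁, hy₁, hy₁u⟩ := exists_notMem_span_singleton hD hm j (cmp hD j u)
    have hφy₁ := hii y₁ hy₁ hy₁u
    obtain ⟨y₂, hy₂, hy₂u⟩ := exists_notMem_span_pair hD hm3 j (cmp hD j u) y₁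
    apply hii (y₂ - ((φ ⬝ᵥ y₂) / (φ ⬝ᵥ y₁)) • y₁) ((D j).sub_mem hy₂ ((D j).smul_mem _ hy₁))
    · intro hmem
      obtain ⟨a, ha⟩ := Submodule.mem_span_singleton.mp hmem
      apply hy₂u
      have : y₂ = a • cmp hD j u + ((φ ⬝ᵥ y₂) / (φ ⬝ᵥ y₁)) • y₁ := by
        rw [ha]
        abel
      rw [this]
      exact Submodule.add_mem _ (Submodule.smul_mem _ _ (Submodule.subset_span (by simp)))
        (Submodule.smul_mem _ _ (Submodule.subset_span (by simp)))
    · rw [dotProduct_sub, dotProduct_smul, smul_eq_mul]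
      field_simp
      ring
  · exact hasCross_iii hD hm hq3 ht3 M hHM u φ h hu j hj hii

theorem isTP_of_cross (hD : IsMDecomposition m D) (M : Subgroup (GL ι F))
    (hHM : decompositionStabilizer D ⊓ specialLinear ι F ≤ M) (i j : Fin t) (hij : i ≠ j)
    (u₀ φ₀ : ι → F) (hu₀ : u₀ ∈ D i) (hu₀0 : u₀ ≠ 0) (hφ₀ : IsDual D j φ₀) (hφ₀0 : φ₀ ≠ 0)
    (h : IsTP M u₀ φ₀) : ∀ u ∈ D i, ∀ φ, IsDual D j φ → IsTP M u φ := by
  obtain ⟨w, hw, hφ₀w⟩ := hφ₀.exists_ne hD hφ₀0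
  obtain ⟨u', hu'⟩ : ∃ u' : ι → F, u' = (φ₀ ⬝ᵥ w)⁻¹ • w := ⟨_, rfl⟩
  have hu'mem : u' ∈ D j := by
    rw [hu']
    exact (D j).smul_mem _ hw
  have hφ₀u' : φ₀ ⬝ᵥ u' = 1 := by
    rw [hu', dotProduct_smul, smul_eq_mul, inv_mul_cancel₀ hφ₀w]
  have h3a : ∀ φ, IsDual D j φ → IsTP M u₀ φ := by
    intro φ hφ
    have hφ₁d : IsDual D j (φ - (φ ⬝ᵥ u') • φ₀) := by
      rw [sub_eq_add_neg, ← neg_smul]
      exact hφ.add (hφ₀.smul _)
    have hφ₁u' : (φ - (φ ⬝ᵥ u') • φ₀) ⬝ᵥ u' = 0 := by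
      rw [sub_dotProduct, smul_dotProduct, hφ₀u']
      simp
    have hH := isTP_block hD M hHM j u' _ hu'mem hφ₁d hφ₁u'
    have h1 := h.comm hH (hφ₁d i hij u₀ hu₀)
    rw [hφ₀u', one_smul] at h1
    have h2 := h1.add_right (h.smul_right (φ ⬝ᵥ u'))
    rw [sub_add_cancel] at h2
    exact h2
  obtain ⟨ψ₀, hψ₀d, -, hψ₀u₀⟩ := exists_dual_sep hD i 0 u₀ (D i).zero_mem hu₀
    (by simpa using hu₀0)
  intro u hu φ hφ
  have hu₁mem : u - (ψ₀ ⬝ᵥ u) • u₀ ∈ D i := (D i).sub_mem hu ((D i).smul_mem _ hu₀)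
  have hψ₀u₁ : ψ₀ ⬝ᵥ (u - (ψ₀ ⬝ᵥ u) • u₀) = 0 := by
    rw [dotProduct_sub, dotProduct_smul, hψ₀u₀]
    simp
  have hH := isTP_block hD M hHM i _ ψ₀ hu₁mem hψ₀d hψ₀u₁
  have h1 := hH.comm (h3a φ hφ) (hφ i hij _ hu₁mem)
  rw [hψ₀u₀, one_smul] at h1
  have h2 := h1.add_left ((h3a φ hφ).smul_left (ψ₀ ⬝ᵥ u))
  rw [sub_add_cancel] at h2
  exact h2

/-- An element of the stabiliser of determinant one permuting the blocks in a prescribed way. -/
theorem exists_blockPerm (hD : IsMDecomposition m D) (σ : Equiv.Perm (Fin t)) :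
    ∃ s ∈ decompositionStabilizer D ⊓ specialLinear ι F,
      ∀ k, (D k).map (Matrix.toLin' (s : Matrix ι ι F)) = D (σ k) := by
  classical
  let σ' : ((_ : Fin t) × Fin m) ≃ ((_ : Fin t) × Fin m) :=
    ⟨fun p => ⟨σ p.1, p.2⟩, fun p => ⟨σ.symm p.1, p.2⟩, fun p => by simp, fun p => by simp⟩
  obtain ⟨s₀, hs₀⟩ : ∃ s₀ : GL ι F,
      s₀ = glOfEquiv ((decompBasis hD).equiv (decompBasis hD) σ') := ⟨_, rfl⟩
  have hs₀B : ∀ k a, (s₀ : Matrix ι ι F) *ᵥ decompBasis hD ⟨k, a⟩ = decompBasis hD ⟨σ k, a⟩ := by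
    intro k a
    rw [hs₀, glOfEquiv_mulVec, Basis.equiv_apply]
    rfl
  have hs₀D : ∀ k, ∀ w ∈ D k, (s₀ : Matrix ι ι F) *ᵥ w ∈ D (σ k) := by
    intro k w hw
    rw [← blk_decompBasis hD k] at hw
    unfold blk at hw
    induction hw using Submodule.span_induction with
    | mem x hx =>
      obtain ⟨a, rfl⟩ := hx
      rw [hs₀B]
      exact decompBasis_mem hD _ _
    | zero =>
      rw [Matrix.mulVec_zero]
      exact Submodule.zero_mem _
    | add x y _ _ hx hy =>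
      rw [Matrix.mulVec_add]
      exact Submodule.add_mem _ hx hy
    | smul a x _ hx =>
      rw [Matrix.mulVec_smul]
      exact Submodule.smul_mem _ _ hx
  have hdet : (s₀ : Matrix ι ι F).det ≠ 0 := by
    have := (Matrix.GeneralLinearGroup.det s₀).ne_zero
    simpa using this
  obtain ⟨k₀, hk₀⟩ : ∃ k₀ : Fin t, k₀ = ⟨0, by have := hD.two_le; omega⟩ := ⟨_, rfl⟩
  obtain ⟨e₀, he₀⟩ : ∃ e₀ : ι → F, e₀ = decompBasis hD ⟨k₀, ⟨0, hD.pos⟩⟩ := ⟨_, rfl⟩
  have he₀m : e₀ ∈ D k₀ := by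
    rw [he₀]
    exact decompBasis_mem hD _ _
  have he₀0 : e₀ ≠ 0 := by
    rw [he₀]
    exact (decompBasis hD).ne_zero _
  obtain ⟨ψ, hψd, -, hψe⟩ := exists_dual_sep hD k₀ 0 e₀ (D k₀).zero_mem he₀m
    (by simpa using he₀0)
  obtain ⟨δ, hδ⟩ : ∃ δ : F, δ = ((s₀ : Matrix ι ι F).det)⁻¹ := ⟨_, rfl⟩
  have hδ0 : δ ≠ 0 := by
    rw [hδ]
    exact inv_ne_zero hdet
  have hc : 1 + ψ ⬝ᵥ ((δ - 1) • e₀) ≠ 0 := by
    rw [dotProduct_smul, hψe]
    simpa using hδ0
  have hpD : ∀ k, ∀ w ∈ D k, ((gT ((δ - 1) • e₀) ψ : GL ι F) : Matrix ι ι F) *ᵥ w ∈ D k := by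
    intro k w hw
    rw [gT_mulVec _ _ hc]
    by_cases hk : k = k₀
    · subst hk
      exact (D k).add_mem hw ((D k).smul_mem _ ((D k).smul_mem _ he₀m))
    · rw [hψd k hk w hw, zero_smul, add_zero]
      exact hw
  have hsD : ∀ k, ∀ w ∈ D k, ((s₀ * gT ((δ - 1) • e₀) ψ : GL ι F) : Matrix ι ι F) *ᵥ w ∈
      D (σ k) := by
    intro k w hw
    rw [Units.val_mul, ← Matrix.mulVec_mulVec]
    exact hs₀D k _ (hpD k w hw)
  have hSL : s₀ * gT ((δ - 1) • e₀) ψ ∈ specialLinear ι F := by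
    rw [mem_specialLinear_iff, Units.val_mul, Matrix.det_mul, gT_det _ _ hc, dotProduct_smul, hψe,
      hδ]
    simp only [smul_eq_mul, mul_one]
    have := mul_inv_cancel₀ hdet
    linear_combination this
  exact ⟨s₀ * gT ((δ - 1) • e₀) ψ, ⟨⟨σ, fun k => decomp_map_eq_of_forall hD _ k _ (hsD k)⟩, hSL⟩,
    fun k => decomp_map_eq_of_forall hD _ k _ (hsD k)⟩

theorem isTP_all_cross (hD : IsMDecomposition m D) (M : Subgroup (GL ι F))
    (hHM : decompositionStabilizer D ⊓ specialLinear ι F ≤ M) (hc : HasCross M D) :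
    ∀ i' j' : Fin t, i' ≠ j' → ∀ u ∈ D i', ∀ φ, IsDual D j' φ → IsTP M u φ := by
  obtain ⟨i, j, u₀, φ₀, hij, hu₀, hu₀0, hφ₀, hφ₀0, h⟩ := hc
  have hall := isTP_of_cross hD M hHM i j hij u₀ φ₀ hu₀ hu₀0 hφ₀ hφ₀0 h
  intro i' j' hi'j' u hu φ hφ
  obtain ⟨σ, hσi, hσj⟩ : ∃ σ : Equiv.Perm (Fin t), σ i = i' ∧ σ j = j' := by
    refine ⟨Equiv.swap (Equiv.swap i i' j) j' * Equiv.swap i i', ?_, ?_⟩
    · rw [Equiv.Perm.mul_apply, Equiv.swap_apply_left]
      apply Equiv.swap_apply_of_ne_of_ne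
      · intro h1
        have : Equiv.swap i i' i = Equiv.swap i i' j := by
          rw [Equiv.swap_apply_left]
          exact h1
        exact hij ((Equiv.swap i i').injective this)
      · exact hi'j'
    · rw [Equiv.Perm.mul_apply, Equiv.swap_apply_left]
  obtain ⟨s, hsH, hs⟩ := exists_blockPerm hD σ
  have hsM : s ∈ M := hHM hsH
  have hu' : u ∈ (D i).map (Matrix.toLin' (s : Matrix ι ι F)) := by
    rw [hs, hσi]
    exact hu
  obtain ⟨u₁, hu₁, hu₁s⟩ := hu'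
  rw [Matrix.toLin'_apply] at hu₁s
  have hφ₁ : IsDual D j (φ ᵥ* (s : Matrix ι ι F)) := by
    intro k hk w hw
    rw [← dotProduct_mulVec]
    apply hφ (σ k) (by rw [← hσj]; exact fun h => hk (σ.injective h))
    rw [← hs k]
    exact ⟨w, hw, by rw [Matrix.toLin'_apply]⟩
  have h1 := (hall u₁ hu₁ _ hφ₁).conj s hsM φ (fun x => by rw [dotProduct_mulVec])
  rw [hu₁s] at h1
  exact h1

end Decomp

section Conj
variable {ι : Type} [Fintype ι] [DecidableEq ι] {F : Type*} [Field F]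

theorem specialLinear_le_of_comap_conj (M : Subgroup (GL ι F)) (P : GL ι F)
    (h : specialLinear ι F ≤ M.comap (MulAut.conj P).toMonoidHom) : specialLinear ι F ≤ M := by
  intro x hx
  have hn : (specialLinear ι F).Normal := by
    unfold specialLinear
    infer_instance
  have h1 := h (hn.conj_mem x hx P⁻¹)
  rw [Subgroup.mem_comap] at h1
  have h2 : (MulAut.conj P).toMonoidHom (P⁻¹ * x * P⁻¹⁻¹) = x := by
    show P * (P⁻¹ * x * P⁻¹⁻¹) * P⁻¹ = x
    group
  rw [h2] at h1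
  exact h1

end Conj

section Decomp2
variable {ι : Type} [Fintype ι] [DecidableEq ι] {F : Type*} [Field F]
variable {t m : ℕ} {D : Fin t → Submodule F (ι → F)}

theorem specialLinear_le_of_cross (hD : IsMDecomposition m D) (hm : 2 ≤ m)
    (M : Subgroup (GL ι F)) (hHM : decompositionStabilizer D ⊓ specialLinear ι F ≤ M)
    (hc : HasCross M D) : specialLinear ι F ≤ M := by
  classical
  have hall := isTP_all_cross hD M hHM hc
  obtain ⟨e, -⟩ : ∃ e : ι ≃ ((_ : Fin t) × Fin m), e = e :=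
    ⟨(Pi.basisFun F ι).indexEquiv (decompBasis hD), rfl⟩
  obtain ⟨P, hP⟩ : ∃ P : GL ι F,
      P = glOfEquiv ((Pi.basisFun F ι).equiv (decompBasis hD) e) := ⟨_, rfl⟩
  have hPe : ∀ k, (P : Matrix ι ι F) *ᵥ Pi.single k 1 = decompBasis hD (e k) := by
    intro k
    rw [hP, glOfEquiv_mulVec, ← Pi.basisFun_apply F ι k, Basis.equiv_apply]
  have hcoord : ∀ l x, dualVec ((decompBasis hD).coord (e l)) ⬝ᵥ ((P : Matrix ι ι F) *ᵥ x) =
      (Pi.single l 1 : ι → F) ⬝ᵥ x := by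
    intro l x
    rw [dualVec_dot, single_one_dotProduct]
    have hx : x = ∑ k, x k • (Pi.single k 1 : ι → F) := by
      funext j
      simp [Finset.sum_apply, Pi.single_apply]
    conv_lhs => rw [hx]
    rw [Matrix.mulVec_sum, map_sum]
    simp only [Matrix.mulVec_smul, hPe, map_smul, Basis.coord_apply, Basis.repr_self,
      smul_eq_mul]
    rw [Finset.sum_eq_single l]
    · simp
    · intro k _ hk
      rw [Finsupp.single_apply, if_neg (fun h => hk (e.injective h)), mul_zero]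
    · intro h
      exact absurd (Finset.mem_univ l) h
  have hmem : ∀ k l, k ≠ l → ∀ a : F, P * elemT k l a * P⁻¹ ∈ M := by
    intro k l hkl a
    rw [elemT_eq_gT k l hkl, gT_conj P _ _ _ (hcoord l), Matrix.mulVec_smul, hPe]
    have hu : decompBasis hD (e k) ∈ D (e k).1 := decompBasis_mem hD (e k).1 (e k).2
    have hφ : IsDual D (e l).1 (dualVec ((decompBasis hD).coord (e l))) := by
      intro j hj w hw
      rw [dualVec_dot, Basis.coord_apply]
      exact decompBasis_repr_of_mem_ne hD hw hj (e l).2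
    by_cases hb : (e k).1 = (e l).1
    · refine (isTP_block hD M hHM (e l).1 _ _ (by rw [← hb]; exact hu) hφ ?_).2 a
      rw [dualVec_dot, Basis.coord_apply, Basis.repr_self, Finsupp.single_apply,
        if_neg (fun h => hkl (e.injective h))]
    · exact (hall (e k).1 (e l).1 hb _ hu _ hφ).2 a
  apply specialLinear_le_of_comap_conj M P
  have : Nontrivial ι := Fintype.one_lt_card_iff_nontrivial.mp (by
    have h1 := decomp_card (ι := ι) hD
    have h2 := hD.two_le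
    nlinarith)
  apply specialLinear_le_of_elemT
  intro k l hkl a
  rw [Subgroup.mem_comap]
  exact hmem k l hkl a

theorem exists_notMem_of_notMem_stab (hD : IsMDecomposition m D) (g : GL ι F)
    (hg : g ∉ decompositionStabilizer D) :
    ∃ i, ∃ u ∈ D i, ∀ j, (g : Matrix ι ι F) *ᵥ u ∉ D j := by
  classical
  by_contra hc
  push Not at hc
  have hu0 : ∀ i : Fin t, decompBasis hD ⟨i, ⟨0, hD.pos⟩⟩ ≠ 0 := fun i =>
    (decompBasis hD).ne_zero _
  have hu0m : ∀ i : Fin t, decompBasis hD ⟨i, ⟨0, hD.pos⟩⟩ ∈ D i := fun i =>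
    decompBasis_mem hD i _
  choose σ hσ using fun i => hc i _ (hu0m i)
  have hall : ∀ i, ∀ u ∈ D i, (g : Matrix ι ι F) *ᵥ u ∈ D (σ i) := by
    intro i u hu
    obtain ⟨j', hj'⟩ := hc i u hu
    by_cases hjσ : j' = σ i
    · rw [← hjσ]
      exact hj'
    · obtain ⟨j'', hj''⟩ := hc i (u + decompBasis hD ⟨i, ⟨0, hD.pos⟩⟩)
        ((D i).add_mem hu (hu0m i))
      rw [Matrix.mulVec_add] at hj''
      rcases eq_zero_or_of_add_mem hD hjσ hj' (hσ i) hj'' with h0 | h0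
      · rw [h0]
        exact Submodule.zero_mem _
      · exact absurd ((gl_mulVec_eq_zero_iff g _).mp h0) (hu0 i)
  have hinj : Function.Injective σ := by
    intro i i' hii
    by_contra hne
    have h1 := decomp_map_eq_of_forall hD g i (σ i) (hall i)
    have h2 : (g : Matrix ι ι F) *ᵥ decompBasis hD ⟨i', ⟨0, hD.pos⟩⟩ ∈
        (D i).map (Matrix.toLin' (g : Matrix ι ι F)) := by
      rw [h1, hii]
      exact hσ i'
    obtain ⟨w, hw, hws⟩ := h2
    rw [Matrix.toLin'_apply] at hws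
    have h3 := gl_mulVec_injective g hws
    rw [h3] at hw
    have h4 := cmp_of_mem_ne hD hw hne
    rw [cmp_of_mem hD (hu0m i')] at h4
    exact hu0 i' h4
  apply hg
  exact ⟨Equiv.ofBijective σ (Finite.injective_iff_bijective.mp hinj),
    fun j => decomp_map_eq_of_forall hD g j _ (hall j)⟩

/-- Blocks of dimension at least two: a subgroup containing the stabiliser of the decomposition in
the special linear group and an element not stabilising the decomposition contains the special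
linear group. -/
theorem specialLinear_le_of_decomp [Fintype F] (hD : IsMDecomposition m D) (hm : 2 ≤ m)
    (hmq : 3 ≤ m ∨ (3 ≤ Fintype.card F ∧ 3 ≤ t)) (M : Subgroup (GL ι F))
    (hHM : decompositionStabilizer D ⊓ specialLinear ι F ≤ M) (g : GL ι F) (hg : g ∈ M)
    (hgS : g ∉ decompositionStabilizer D) : specialLinear ι F ≤ M := by
  obtain ⟨i, u, hu, hgu⟩ := exists_notMem_of_notMem_stab hD g hgS
  obtain ⟨y, hy, hyu⟩ := exists_notMem_span_singleton hD hm i u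
  obtain ⟨ψ, hψd, hψu, hψy⟩ := exists_dual_sep hD i u y hu hy hyu
  have hTP := isTP_block hD M hHM i u ψ hu hψd hψu
  have hconj : ∀ x, (ψ ᵥ* ((g⁻¹ : GL ι F) : Matrix ι ι F)) ⬝ᵥ ((g : Matrix ι ι F) *ᵥ x) =
      ψ ⬝ᵥ x := fun x => by rw [← dotProduct_mulVec, gl_inv_mulVec_mulVec]
  have hTP' := hTP.conj g hg _ hconj
  have hφ0 : ψ ᵥ* ((g⁻¹ : GL ι F) : Matrix ι ι F) ≠ 0 := by
    intro h0
    have := hconj y
    rw [h0, zero_dotProduct, hψy] at this
    exact zero_ne_one this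
  exact specialLinear_le_of_cross hD hm M hHM
    (hasCross_of_notMem hD hm hmq M hHM _ _ hTP' hφ0 hgu)

end Decomp2

end Cfsg.Agent.Lib.helper95
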