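import Cfsg.Agent.Lib.helper95.D4B
import Cfsg.Agent.Lib.helper34.D4A
import Cfsg.Agent.Lib.helper48.D4C1
import Cfsg.Agent.Lib.helper48.D4D
import Cfsg.Agent.Lib.helper48.D4GS
import Cfsg.Agent.Lib.helper23.D4E1
import Cfsg.Agent.Lib.helper47.D4FIN
import Cfsg.Agent.Lib.helper50.IsoReindex
import Cfsg.Agent.Lib.helper23.ChevWord
import Cfsg.Agent.Lib.helper23.ChevCertsD4

/-!
# S1082: assembly of `D₄(F) ≅ PΩ₈⁺(F)` (given the simplicity of `D₄(F)`)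
-/

set_option autoImplicit false

namespace Cfsg.Agent.Lib.helper95.D4

open Matrix Cfsg Cfsg.Lie

variable {F : Type*} [Field F]

/-! ### the adjoint relation for all roots -/

theorem ad_rel (r : Fin 24) (t : F) (c : chevD4.Idx → F) :
    X8 r t * Lmap c = Lmap (chevD4.xMat F r t *ᵥ c) * X8 r t := by
  fin_cases r
  · exact Cfsg.Agent.Lib.helper34.D4.ad_rel_0 t c
  · exact Cfsg.Agent.Lib.helper34.D4.ad_rel_1 t c
  · exact Cfsg.Agent.Lib.helper34.D4.ad_rel_2 t c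
  · exact Cfsg.Agent.Lib.helper34.D4.ad_rel_3 t c
  · exact Cfsg.Agent.Lib.helper34.D4.ad_rel_4 t c
  · exact Cfsg.Agent.Lib.helper34.D4.ad_rel_5 t c
  · exact Cfsg.Agent.Lib.helper34.D4.ad_rel_6 t c
  · exact Cfsg.Agent.Lib.helper34.D4.ad_rel_7 t c
  · exact Cfsg.Agent.Lib.helper34.D4.ad_rel_8 t c
  · exact Cfsg.Agent.Lib.helper34.D4.ad_rel_9 t c
  · exact Cfsg.Agent.Lib.helper34.D4.ad_rel_10 t c
  · exact Cfsg.Agent.Lib.helper34.D4.ad_rel_11 t c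
  · exact Cfsg.Agent.Lib.helper34.D4.ad_rel_12 t c
  · exact Cfsg.Agent.Lib.helper34.D4.ad_rel_13 t c
  · exact Cfsg.Agent.Lib.helper34.D4.ad_rel_14 t c
  · exact Cfsg.Agent.Lib.helper34.D4.ad_rel_15 t c
  · exact Cfsg.Agent.Lib.helper34.D4.ad_rel_16 t c
  · exact Cfsg.Agent.Lib.helper34.D4.ad_rel_17 t c
  · exact Cfsg.Agent.Lib.helper34.D4.ad_rel_18 t c
  · exact Cfsg.Agent.Lib.helper34.D4.ad_rel_19 t c
  · exact Cfsg.Agent.Lib.helper34.D4.ad_rel_20 t c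
  · exact Cfsg.Agent.Lib.helper34.D4.ad_rel_21 t c
  · exact Cfsg.Agent.Lib.helper34.D4.ad_rel_22 t c
  · exact Cfsg.Agent.Lib.helper34.D4.ad_rel_23 t c

/-! ### the invariant of `Gam` -/

theorem gam_ad (p : GL (Fin 8) F × GL chevD4.Idx F) (hp : p ∈ Gam F) :
    ∀ c : chevD4.Idx → F, (p.1 : Matrix (Fin 8) (Fin 8) F) * Lmap c
      = Lmap ((p.2 : Matrix chevD4.Idx chevD4.Idx F) *ᵥ c) * (p.1 : Matrix (Fin 8) (Fin 8) F) := by
  unfold Gam at hp
  induction hp using Subgroup.closure_induction with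
  | mem p hp =>
    obtain ⟨r, t, h1, h2⟩ := hp
    intro c
    rw [h1, h2]; exact ad_rel r t c
  | one => intro c; simp
  | mul p q _ _ hp hq =>
    intro c
    simp only [Prod.fst_mul, Prod.snd_mul, Units.val_mul]
    rw [Matrix.mul_assoc, hq c, ← Matrix.mul_assoc, hp, Matrix.mul_assoc, Matrix.mulVec_mulVec]
  | inv p _ hp =>
    intro c
    have e1 : ((p.1⁻¹ : GL (Fin 8) F) : Matrix (Fin 8) (Fin 8) F) * (p.1 : Matrix (Fin 8) (Fin 8) F) = 1 := by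
      rw [← Units.val_mul]; simp
    have e2 : (p.1 : Matrix (Fin 8) (Fin 8) F) * ((p.1⁻¹ : GL (Fin 8) F) : Matrix (Fin 8) (Fin 8) F) = 1 := by
      rw [← Units.val_mul]; simp
    have e3 : (p.2 : Matrix chevD4.Idx chevD4.Idx F) *
        ((p.2⁻¹ : GL chevD4.Idx F) : Matrix chevD4.Idx chevD4.Idx F) = 1 := by
      rw [← Units.val_mul]; simp
    simp only [Prod.fst_inv, Prod.snd_inv]
    have h := hp (((p.2⁻¹ : GL chevD4.Idx F) : Matrix chevD4.Idx chevD4.Idx F) *ᵥ c)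
    rw [Matrix.mulVec_mulVec, e3, Matrix.one_mulVec] at h
    calc ((p.1⁻¹ : GL (Fin 8) F) : Matrix (Fin 8) (Fin 8) F) * Lmap c
        = ((p.1⁻¹ : GL (Fin 8) F) : Matrix (Fin 8) (Fin 8) F) *
            (Lmap c * (p.1 : Matrix (Fin 8) (Fin 8) F)) *
            ((p.1⁻¹ : GL (Fin 8) F) : Matrix (Fin 8) (Fin 8) F) := by
          rw [Matrix.mul_assoc, Matrix.mul_assoc, e2, Matrix.mul_one]
      _ = _ := by
          rw [← h, ← Matrix.mul_assoc, e1, Matrix.one_mul]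

/-- an element of `Gam` with trivial second component has a scalar first component -/
theorem gam_scalar (p : GL (Fin 8) F × GL chevD4.Idx F) (hp : p ∈ Gam F) (h : p.2 = 1) :
    ∃ a : F, (p.1 : Matrix (Fin 8) (Fin 8) F) = a • (1 : Matrix (Fin 8) (Fin 8) F) := by
  apply Cfsg.Agent.Lib.helper48.D4.comm_Lmap
  intro c
  have h2 := gam_ad p hp c
  rw [h] at h2
  simpa using h2

theorem gam_hK : ∀ p ∈ Gam F, p.2 = 1 → ∀ q ∈ Gam F, p.1 * q.1 = q.1 * p.1 := by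
  intro p hp h q _
  obtain ⟨a, ha⟩ := gam_scalar p hp h
  apply Units.ext
  rw [Units.val_mul, Units.val_mul, ha]
  simp

/-! ### the generators as units -/

/-- `X8 r t` as a unit -/
def X8u (r : Fin 24) (t : F) : GL (Fin 8) F :=
  ⟨X8 r t, X8 r (-t), by rw [X8_add, add_neg_cancel, X8_zero],
    by rw [X8_add, neg_add_cancel, X8_zero]⟩

theorem ex_xMat (r : Fin 24) (t : F) :
    ∃ g : GL chevD4.Idx F, (g : Matrix chevD4.Idx chevD4.Idx F) = chevD4.xMat F r t := by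
  obtain ⟨g, hg⟩ := Cfsg.Agent.Lib.helper23.exists_x (D := chevD4) (F := F)
    (fun r => ⟨Cfsg.Agent.Lib.helper23.stringDataD4 r⟩) r.val r.isLt t
  exact ⟨g, by rw [hg]; exact Cfsg.Agent.Lib.helper22.x_eq chevD4 F r t⟩

theorem gam_hW : ∃ q ∈ Gam F, ∀ p ∈ Gam F, p.1 = 1 → p.2 ≠ q.2 := by
  obtain ⟨M, hM⟩ := ex_xMat (F := F) 18 1
  have hq : (X8u 18 (1 : F), M) ∈ Gam F := Subgroup.subset_closure ⟨18, 1, rfl, hM⟩
  refine ⟨_, hq, ?_⟩
  intro p hp h1 h2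
  have hk : (X8u 18 (1 : F), M) * p⁻¹ ∈ Gam F := (Gam F).mul_mem hq ((Gam F).inv_mem hp)
  have hk2 : ((X8u 18 (1 : F), M) * p⁻¹).2 = 1 := by
    simp only [Prod.snd_mul, Prod.snd_inv]
    rw [h2]
    simp
  obtain ⟨a, ha⟩ := gam_scalar _ hk hk2
  simp only [Prod.fst_mul, Prod.fst_inv, h1, inv_one, mul_one] at ha
  have h01 := congrFun (congrFun ha 0) 1
  simp [X8u, X8] at h01

/-! ### the two projections of `Gam` -/

theorem gam_map_B :
    (Gam F).map (MonoidHom.snd (GL (Fin 8) F) (GL chevD4.Idx F)) = chevD4.group F := by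
  unfold Gam ChevalleyDatum.group
  rw [MonoidHom.map_closure]
  congr 1
  ext g
  constructor
  · rintro ⟨p, ⟨r, t, _, h2⟩, rfl⟩
    exact ⟨r, t, h2⟩
  · rintro ⟨r, t, h⟩
    exact ⟨(X8u r t, g), ⟨r, t, rfl, h⟩, rfl⟩

theorem gam_map_E :
    (Gam F).map (MonoidHom.fst (GL (Fin 8) F) (GL chevD4.Idx F)) = Eg8 F := by
  unfold Gam Eg8
  rw [MonoidHom.map_closure]
  congr 1
  ext g
  constructor
  · rintro ⟨p, ⟨r, t, h1, _⟩, rfl⟩
    exact ⟨r, t, h1⟩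
  · rintro ⟨r, t, h⟩
    obtain ⟨M, hM⟩ := ex_xMat (F := F) r t
    exact ⟨(g, M), ⟨r, t, h, hM⟩, rfl⟩

theorem chev_equiv (hs : IsSimpleGroup ↥(chevD4.group F))
    (hnc : ¬ IsMulCommutative ↥(chevD4.group F)) :
    Nonempty (↥(chevD4.group F) ≃* ↥(Eg8 F) ⧸ Subgroup.center ↥(Eg8 F)) := by
  have key : ∀ (H₁ : Subgroup (GL (Fin 8) F)) (H₂ : Subgroup (GL chevD4.Idx F)),
      (Gam F).map (MonoidHom.fst (GL (Fin 8) F) (GL chevD4.Idx F)) = H₁ →
      (Gam F).map (MonoidHom.snd (GL (Fin 8) F) (GL chevD4.Idx F)) = H₂ →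
      IsSimpleGroup ↥H₂ → ¬ IsMulCommutative ↥H₂ →
      Nonempty (↥H₂ ≃* ↥H₁ ⧸ Subgroup.center ↥H₁) := by
    rintro _ _ rfl rfl hs hnc
    exact Cfsg.Agent.Lib.helper48.D4GS.goursat_center (Gam F) hs hnc gam_hK gam_hW
  exact key _ _ gam_map_E gam_map_B hs hnc

/-! ### `Eg8` is the commutator subgroup of `Og8` -/

theorem Eg8_eq_comm : (commutator ↥(Og8 F)).map (Og8 F).subtype = Eg8 F := by
  apply le_antisymm
  · rintro _ ⟨x, hx, rfl⟩
    exact Cfsg.Agent.Lib.helper47.D4.comm_le_Eg8 x hx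
  · unfold Eg8
    rw [Subgroup.closure_le]
    rintro g ⟨r, t, h⟩
    have hg : g ∈ Og8 F := Eg8_le_Og8 (Subgroup.subset_closure ⟨r, t, h⟩)
    exact ⟨⟨g, hg⟩, Cfsg.Agent.Lib.helper23.D4.X8_mem_comm r t ⟨g, hg⟩ h, rfl⟩

/-! ### the final isomorphism -/

/-- the reindexing `Fin 4 ⊕ Fin 4 ≃ Fin 8` -/
def idx8 : Fin 4 ⊕ Fin 4 ≃ Fin 8 where
  toFun x := match x with
    | Sum.inl i => ⟨i.val, by omega⟩
    | Sum.inr i => ⟨i.val + 4, by omega⟩
  invFun k := if h : k.val < 4 then Sum.inl ⟨k.val, h⟩ else Sum.inr ⟨k.val - 4, by omega⟩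
  left_inv x := by
    rcases x with i | i
    · fin_cases i <;> rfl
    · fin_cases i <;> rfl
  right_inv k := by
    fin_cases k <;> rfl

theorem quad_reindex8 :
    (fun v : Fin 8 → F => Cfsg.quadFormPlus 4 F (v ∘ idx8)) = Q8 := by
  funext v
  simp [Cfsg.quadFormPlus, Q8, Fin.sum_univ_four, idx8]

theorem comm_map_equiv8 {A B : Type*} [Group A] [Group B] (φ : A ≃* B) :
    (commutator A).map φ.toMonoidHom = commutator B := by
  rw [commutator_def, commutator_def, Subgroup.map_commutator]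
  congr 1 <;> exact Subgroup.map_top_of_surjective _ φ.surjective

theorem main_of_simple (hs : IsSimpleGroup ↥(chevD4.group F))
    (hnc : ¬ IsMulCommutative ↥(chevD4.group F)) :
    Nonempty (↥(chevD4.group F) ≃* Cfsg.POmega F (Cfsg.quadFormPlus 4 F)) := by
  obtain ⟨e0⟩ := chev_equiv hs hnc
  have φ0 := Cfsg.Agent.Lib.helper50.isometryGroupReindex (F := F) idx8 (Cfsg.quadFormPlus 4 F)
  rw [quad_reindex8] at φ0
  have φ : ↥(Cfsg.isometryGroup F (Cfsg.quadFormPlus 4 F)) ≃* ↥(Og8 F) := φ0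
  have ψ1 : ↥(Cfsg.Omega F (Cfsg.quadFormPlus 4 F)) ≃* ↥(commutator ↥(Og8 F)) :=
    (φ.subgroupMap (commutator _)).trans (MulEquiv.subgroupCongr (comm_map_equiv8 φ))
  have ψ2 : ↥(commutator ↥(Og8 F)) ≃* ↥(Eg8 F) :=
    ((commutator ↥(Og8 F)).equivMapOfInjective (Og8 F).subtype (Subgroup.subtype_injective _)).trans
      (MulEquiv.subgroupCongr Eg8_eq_comm)
  obtain ⟨χ⟩ := Cfsg.Agent.Lib.helper48.D4.quot_center_congr (ψ1.trans ψ2)
  exact ⟨e0.trans χ.symm⟩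

end Cfsg.Agent.Lib.helper95.D4
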