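import Mathlib
import Cfsg.Prelude.Def_ChevD4
import Cfsg.Prelude.Def_Classical

/-!
# S1082 (D₄(F) ≅ PΩ₈⁺(F)): shared definitions

* `Lmap c` : the element of `so₈(F)` (8×8 matrices, coordinates `x₁..x₄, y₁..y₄`, form `Σ xᵢyᵢ`) with
  coordinates `c` in the Chevalley basis of `Def_ChevD4` (`h_{p₁..p₄}, e_0, …, e_23`);
* `X8 r t = 1 + t e_r` : the root elements of `Ω₈⁺(F)`; `Ad (X8 r t) = chevD4.xMat F r t` on `Lmap`;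
* `Q8`, `B8` : the quadratic form `Σ xᵢyᵢ` and its polar form;
* `Og8 F` : the isometry group of `Q8`; `Eg8 F` : the subgroup generated by the `X8 r t`;
* `Gam F` : the subgroup of `GL₈ × GL₂₈` generated by the pairs `(X8 r t, xMat r t)`;
* `dgc c = diag(1,1,1,c,1,1,1,c⁻¹)`, `sw` : the swap of `x₄` and `y₄`.
-/

set_option autoImplicit false

namespace Cfsg.Agent.Lib.helper95.D4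

open Matrix Cfsg Cfsg.Lie

variable {F : Type*} [Field F]

/-- coordinate index of `h_{p_{i+1}}` -/
abbrev hI (i : Fin 4) : chevD4.Idx := Sum.inl i
/-- coordinate index of `e_k` -/
abbrev eI (k : Fin 24) : chevD4.Idx := Sum.inr k

/-- The element of `so₈(F)` with coordinates `c` in the Chevalley basis. -/
def Lmap (c : chevD4.Idx → F) : Matrix (Fin 8) (Fin 8) F :=
  !![c (hI 0), c (eI 18), - c (eI 19), c (eI 21), 0, c (eI 23), c (eI 22), c (eI 20);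
     c (eI 5), - c (hI 0) + c (hI 1), c (eI 14), - c (eI 16), - c (eI 23), 0, - c (eI 17), - c (eI 15);
     - c (eI 4), c (eI 9), - c (hI 1) + c (hI 2) + c (hI 3), c (eI 13), - c (eI 22), c (eI 17), 0, c (eI 12);
     c (eI 2), - c (eI 7), c (eI 10), - c (hI 2) + c (hI 3), - c (eI 20), c (eI 15), - c (eI 12), 0;
     0, - c (eI 0), - c (eI 1), - c (eI 3), - c (hI 0), - c (eI 5), c (eI 4), - c (eI 2);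
     c (eI 0), 0, c (eI 6), c (eI 8), - c (eI 18), c (hI 0) - c (hI 1), - c (eI 9), c (eI 7);
     c (eI 1), - c (eI 6), 0, - c (eI 11), c (eI 19), - c (eI 14), c (hI 1) - c (hI 2) - c (hI 3), - c (eI 10);
     c (eI 3), - c (eI 8), c (eI 11), 0, - c (eI 21), c (eI 16), - c (eI 13), c (hI 2) - c (hI 3)]

/-- The root elements `1 + t e_r` of `Ω₈⁺(F)` (`r` = root index of `Def_ChevD4`). -/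
def X8 (r : Fin 24) (t : F) : Matrix (Fin 8) (Fin 8) F :=
  ![!![1,0,0,0,0,0,0,0; 0,1,0,0,0,0,0,0; 0,0,1,0,0,0,0,0; 0,0,0,1,0,0,0,0; 0,-t,0,0,1,0,0,0; t,0,0,0,0,1,0,0; 0,0,0,0,0,0,1,0; 0,0,0,0,0,0,0,1],
    !![1,0,0,0,0,0,0,0; 0,1,0,0,0,0,0,0; 0,0,1,0,0,0,0,0; 0,0,0,1,0,0,0,0; 0,0,-t,0,1,0,0,0; 0,0,0,0,0,1,0,0; t,0,0,0,0,0,1,0; 0,0,0,0,0,0,0,1],
    !![1,0,0,0,0,0,0,0; 0,1,0,0,0,0,0,0; 0,0,1,0,0,0,0,0; t,0,0,1,0,0,0,0; 0,0,0,0,1,0,0,-t; 0,0,0,0,0,1,0,0; 0,0,0,0,0,0,1,0; 0,0,0,0,0,0,0,1],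
    !![1,0,0,0,0,0,0,0; 0,1,0,0,0,0,0,0; 0,0,1,0,0,0,0,0; 0,0,0,1,0,0,0,0; 0,0,0,-t,1,0,0,0; 0,0,0,0,0,1,0,0; 0,0,0,0,0,0,1,0; t,0,0,0,0,0,0,1],
    !![1,0,0,0,0,0,0,0; 0,1,0,0,0,0,0,0; -t,0,1,0,0,0,0,0; 0,0,0,1,0,0,0,0; 0,0,0,0,1,0,t,0; 0,0,0,0,0,1,0,0; 0,0,0,0,0,0,1,0; 0,0,0,0,0,0,0,1],
    !![1,0,0,0,0,0,0,0; t,1,0,0,0,0,0,0; 0,0,1,0,0,0,0,0; 0,0,0,1,0,0,0,0; 0,0,0,0,1,-t,0,0; 0,0,0,0,0,1,0,0; 0,0,0,0,0,0,1,0; 0,0,0,0,0,0,0,1],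
    !![1,0,0,0,0,0,0,0; 0,1,0,0,0,0,0,0; 0,0,1,0,0,0,0,0; 0,0,0,1,0,0,0,0; 0,0,0,0,1,0,0,0; 0,0,t,0,0,1,0,0; 0,-t,0,0,0,0,1,0; 0,0,0,0,0,0,0,1],
    !![1,0,0,0,0,0,0,0; 0,1,0,0,0,0,0,0; 0,0,1,0,0,0,0,0; 0,-t,0,1,0,0,0,0; 0,0,0,0,1,0,0,0; 0,0,0,0,0,1,0,t; 0,0,0,0,0,0,1,0; 0,0,0,0,0,0,0,1],
    !![1,0,0,0,0,0,0,0; 0,1,0,0,0,0,0,0; 0,0,1,0,0,0,0,0; 0,0,0,1,0,0,0,0; 0,0,0,0,1,0,0,0; 0,0,0,t,0,1,0,0; 0,0,0,0,0,0,1,0; 0,-t,0,0,0,0,0,1],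
    !![1,0,0,0,0,0,0,0; 0,1,0,0,0,0,0,0; 0,t,1,0,0,0,0,0; 0,0,0,1,0,0,0,0; 0,0,0,0,1,0,0,0; 0,0,0,0,0,1,-t,0; 0,0,0,0,0,0,1,0; 0,0,0,0,0,0,0,1],
    !![1,0,0,0,0,0,0,0; 0,1,0,0,0,0,0,0; 0,0,1,0,0,0,0,0; 0,0,t,1,0,0,0,0; 0,0,0,0,1,0,0,0; 0,0,0,0,0,1,0,0; 0,0,0,0,0,0,1,-t; 0,0,0,0,0,0,0,1],
    !![1,0,0,0,0,0,0,0; 0,1,0,0,0,0,0,0; 0,0,1,0,0,0,0,0; 0,0,0,1,0,0,0,0; 0,0,0,0,1,0,0,0; 0,0,0,0,0,1,0,0; 0,0,0,-t,0,0,1,0; 0,0,t,0,0,0,0,1],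
    !![1,0,0,0,0,0,0,0; 0,1,0,0,0,0,0,0; 0,0,1,0,0,0,0,t; 0,0,0,1,0,0,-t,0; 0,0,0,0,1,0,0,0; 0,0,0,0,0,1,0,0; 0,0,0,0,0,0,1,0; 0,0,0,0,0,0,0,1],
    !![1,0,0,0,0,0,0,0; 0,1,0,0,0,0,0,0; 0,0,1,t,0,0,0,0; 0,0,0,1,0,0,0,0; 0,0,0,0,1,0,0,0; 0,0,0,0,0,1,0,0; 0,0,0,0,0,0,1,0; 0,0,0,0,0,0,-t,1],
    !![1,0,0,0,0,0,0,0; 0,1,t,0,0,0,0,0; 0,0,1,0,0,0,0,0; 0,0,0,1,0,0,0,0; 0,0,0,0,1,0,0,0; 0,0,0,0,0,1,0,0; 0,0,0,0,0,-t,1,0; 0,0,0,0,0,0,0,1],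
    !![1,0,0,0,0,0,0,0; 0,1,0,0,0,0,0,-t; 0,0,1,0,0,0,0,0; 0,0,0,1,0,t,0,0; 0,0,0,0,1,0,0,0; 0,0,0,0,0,1,0,0; 0,0,0,0,0,0,1,0; 0,0,0,0,0,0,0,1],
    !![1,0,0,0,0,0,0,0; 0,1,0,-t,0,0,0,0; 0,0,1,0,0,0,0,0; 0,0,0,1,0,0,0,0; 0,0,0,0,1,0,0,0; 0,0,0,0,0,1,0,0; 0,0,0,0,0,0,1,0; 0,0,0,0,0,t,0,1],
    !![1,0,0,0,0,0,0,0; 0,1,0,0,0,0,-t,0; 0,0,1,0,0,t,0,0; 0,0,0,1,0,0,0,0; 0,0,0,0,1,0,0,0; 0,0,0,0,0,1,0,0; 0,0,0,0,0,0,1,0; 0,0,0,0,0,0,0,1],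
    !![1,t,0,0,0,0,0,0; 0,1,0,0,0,0,0,0; 0,0,1,0,0,0,0,0; 0,0,0,1,0,0,0,0; 0,0,0,0,1,0,0,0; 0,0,0,0,-t,1,0,0; 0,0,0,0,0,0,1,0; 0,0,0,0,0,0,0,1],
    !![1,0,-t,0,0,0,0,0; 0,1,0,0,0,0,0,0; 0,0,1,0,0,0,0,0; 0,0,0,1,0,0,0,0; 0,0,0,0,1,0,0,0; 0,0,0,0,0,1,0,0; 0,0,0,0,t,0,1,0; 0,0,0,0,0,0,0,1],
    !![1,0,0,0,0,0,0,t; 0,1,0,0,0,0,0,0; 0,0,1,0,0,0,0,0; 0,0,0,1,-t,0,0,0; 0,0,0,0,1,0,0,0; 0,0,0,0,0,1,0,0; 0,0,0,0,0,0,1,0; 0,0,0,0,0,0,0,1],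
    !![1,0,0,t,0,0,0,0; 0,1,0,0,0,0,0,0; 0,0,1,0,0,0,0,0; 0,0,0,1,0,0,0,0; 0,0,0,0,1,0,0,0; 0,0,0,0,0,1,0,0; 0,0,0,0,0,0,1,0; 0,0,0,0,-t,0,0,1],
    !![1,0,0,0,0,0,t,0; 0,1,0,0,0,0,0,0; 0,0,1,0,-t,0,0,0; 0,0,0,1,0,0,0,0; 0,0,0,0,1,0,0,0; 0,0,0,0,0,1,0,0; 0,0,0,0,0,0,1,0; 0,0,0,0,0,0,0,1],
    !![1,0,0,0,0,t,0,0; 0,1,0,0,-t,0,0,0; 0,0,1,0,0,0,0,0; 0,0,0,1,0,0,0,0; 0,0,0,0,1,0,0,0; 0,0,0,0,0,1,0,0; 0,0,0,0,0,0,1,0; 0,0,0,0,0,0,0,1]] r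

/-- The quadratic form `x₁y₁ + x₂y₂ + x₃y₃ + x₄y₄` (coordinates `0..3 = x`, `4..7 = y`). -/
def Q8 (v : Fin 8 → F) : F := v 0 * v 4 + v 1 * v 5 + v 2 * v 6 + v 3 * v 7

/-- The polar form of `Q8`. -/
def B8 (u v : Fin 8 → F) : F :=
  u 0 * v 4 + u 4 * v 0 + u 1 * v 5 + u 5 * v 1 + u 2 * v 6 + u 6 * v 2 + u 3 * v 7 + u 7 * v 3

/-- The diagonal matrix `diag(1,1,1,c,1,1,1,c⁻¹)`. -/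
def dgc (c : F) : Matrix (Fin 8) (Fin 8) F := Matrix.diagonal ![1, 1, 1, c, 1, 1, 1, c⁻¹]

/-- The permutation matrix swapping `x₄` and `y₄` (coordinates 3 and 7). -/
def sw : Matrix (Fin 8) (Fin 8) F :=
  !![1,0,0,0,0,0,0,0; 0,1,0,0,0,0,0,0; 0,0,1,0,0,0,0,0; 0,0,0,0,0,0,0,1;
     0,0,0,0,1,0,0,0; 0,0,0,0,0,1,0,0; 0,0,0,0,0,0,1,0; 0,0,0,1,0,0,0,0]

/-- The isometry group of `Q8`. -/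
abbrev Og8 (F : Type*) [Field F] : Subgroup (GL (Fin 8) F) := Cfsg.isometryGroup F (Q8 (F := F))

/-- The subgroup of `GL₈(F)` generated by the root elements `X8 r t`. -/
def Eg8 (F : Type*) [Field F] : Subgroup (GL (Fin 8) F) :=
  Subgroup.closure {g | ∃ (r : Fin 24) (t : F), (g : Matrix (Fin 8) (Fin 8) F) = X8 r t}

/-- The "graph" subgroup of `GL₈ × GL₂₈`. -/
def Gam (F : Type*) [Field F] : Subgroup (GL (Fin 8) F × GL chevD4.Idx F) :=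
  Subgroup.closure {p | ∃ (r : Fin 24) (t : F),
    (p.1 : Matrix (Fin 8) (Fin 8) F) = X8 r t ∧
    (p.2 : Matrix chevD4.Idx chevD4.Idx F) = chevD4.xMat F r t}

theorem mem_Og8 (g : GL (Fin 8) F) :
    g ∈ Og8 F ↔ ∀ v : Fin 8 → F, Q8 ((g : Matrix (Fin 8) (Fin 8) F) *ᵥ v) = Q8 v := by
  constructor
  · intro h v
    exact h v v
  · intro h u v
    exact h u

end Cfsg.Agent.Lib.helper95.D4
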