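import Mathlib
import Cfsg.Agent.Lib.helper95.Mono0

/-!
Subgroups of GL containing all pseudo-reflections `dg1 r μ` (`r ≠ c₀`) and signed swaps away from a
distinguished coordinate `c₀`: a non-monomial element forces an elementary transvection.
-/

set_option autoImplicit false

namespace Cfsg.Agent.Lib.helper95

open Matrix Cfsg Cfsg.Geo

section
variable {ι : Type} [Fintype ι] [DecidableEq ι] {F : Type*} [Field F]

/-- A "reflection pair": `η(y) = 1` and all `x ↦ x + (ε - 1) η(x) y` lie in `H`. -/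
def IsRP (H : Subgroup (GL ι F)) (y η : ι → F) : Prop :=
  η ⬝ᵥ y = 1 ∧ ∀ ε : F, ε ≠ 0 → gT ((ε - 1) • y) η ∈ H

theorem IsRP.cond {H : Subgroup (GL ι F)} {y η : ι → F} (h : IsRP H y η) (ε : F) :
    1 + η ⬝ᵥ ((ε - 1) • y) = ε := by
  rw [dotProduct_smul, h.1, smul_eq_mul, mul_one]
  ring

theorem isRP_single (H : Subgroup (GL ι F)) (r : ι) (h : ∀ μ : F, μ ≠ 0 → dg1 r μ ∈ H) :
    IsRP H (Pi.single r 1) (Pi.single r 1) := ⟨by simp, fun ε hε => h ε hε⟩

theorem IsRP.conj {H : Subgroup (GL ι F)} {y η : ι → F} (h : IsRP H y η) (g : GL ι F)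
    (hg : g ∈ H) (η' : ι → F)
    (hη' : ∀ x, η' ⬝ᵥ ((g : Matrix ι ι F) *ᵥ x) = η ⬝ᵥ x) :
    IsRP H ((g : Matrix ι ι F) *ᵥ y) η' := by
  refine ⟨by rw [hη']; exact h.1, fun ε hε => ?_⟩
  have h1 := H.mul_mem (H.mul_mem hg (h.2 ε hε)) (H.inv_mem hg)
  rw [gT_conj g _ _ η' hη', Matrix.mulVec_smul] at h1
  exact h1

theorem IsRP.newPair {H : Subgroup (GL ι F)} {y η : ι → F} (h : IsRP H y η) (r : ι)
    (hr : ∀ μ : F, μ ≠ 0 → dg1 r μ ∈ H) (ε ε' : F) (hεε' : ε * ε' = 1) :
    IsRP H (Pi.single r 1 + ((ε - 1) * η r) • y) (Pi.single r 1 + ((ε' - 1) * y r) • η) := by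
  have hε : ε ≠ 0 := left_ne_zero_of_mul_eq_one hεε'
  have hc : 1 + η ⬝ᵥ ((ε - 1) • y) ≠ 0 := by rw [h.cond]; exact hε
  have h1 := (isRP_single H r hr).conj (gT ((ε - 1) • y) η) (h.2 ε hε)
    (Pi.single r 1 + ((ε' - 1) * y r) • η) (by
      intro x
      rw [gT_mulVec _ _ hc, add_dotProduct, smul_dotProduct, single_one_dotProduct,
        single_one_dotProduct, dotProduct_add, dotProduct_smul, dotProduct_smul, h.1]
      simp only [Pi.add_apply, Pi.smul_apply, smul_eq_mul]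
      linear_combination ((η ⬝ᵥ x) * y r) * hεε')
  rw [gT_mulVec _ _ hc, dotProduct_single_one, smul_smul, mul_comm] at h1
  exact h1

theorem IsRP.diff_right {H : Subgroup (GL ι F)} {y η η' : ι → F} (h : IsRP H y η)
    (h' : IsRP H y η') (δ δ' : F) (hδ : δ * δ' = 1) : gT y ((δ - 1) • (η - η')) ∈ H := by
  have hδ0 : δ ≠ 0 := left_ne_zero_of_mul_eq_one hδ
  have hδ'0 : δ' ≠ 0 := right_ne_zero_of_mul_eq_one hδ
  have h1 := H.mul_mem (h.2 δ hδ0) (h'.2 δ' hδ'0)
  have c1 : 1 + ((δ - 1) • η) ⬝ᵥ y = δ := by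
    rw [smul_dotProduct, h.1, smul_eq_mul, mul_one]
    ring
  have c2 : 1 + ((δ' - 1) • η') ⬝ᵥ y = δ' := by
    rw [smul_dotProduct, h'.1, smul_eq_mul, mul_one]
    ring
  rw [gT_smul_comm, gT_smul_comm, gT_mul_same _ _ _ (by rw [c1]; exact hδ0)
    (by rw [c2]; exact hδ'0), c1] at h1
  have e : (δ - 1) • η + δ • (δ' - 1) • η' = (δ - 1) • (η - η') := by
    linear_combination (norm := module) hδ • η'
  rw [e] at h1
  exact h1

theorem IsRP.diff_left {H : Subgroup (GL ι F)} {y y' η : ι → F} (h : IsRP H y η)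
    (h' : IsRP H y' η) (δ δ' : F) (hδ : δ * δ' = 1) : gT ((1 - δ') • (y - y')) η ∈ H := by
  have hδ0 : δ ≠ 0 := left_ne_zero_of_mul_eq_one hδ
  have hδ'0 : δ' ≠ 0 := right_ne_zero_of_mul_eq_one hδ
  have h1 := H.mul_mem (h.2 δ hδ0) (h'.2 δ' hδ'0)
  have hdot : η ⬝ᵥ ((1 - δ') • (y - y')) = 0 := by
    rw [dotProduct_smul, dotProduct_sub, h.1, h'.1, sub_self, smul_zero]
  have e : gT ((δ - 1) • y) η * gT ((δ' - 1) • y') η = gT ((1 - δ') • (y - y')) η := by
    apply gl_ext_mulVec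
    intro x
    rw [Units.val_mul, ← Matrix.mulVec_mulVec, gT_mulVec _ _ (by rw [h.cond]; exact hδ0),
      gT_mulVec _ _ (by rw [h'.cond]; exact hδ'0), gT_mulVec' _ _ hdot]
    rw [dotProduct_add, dotProduct_smul, dotProduct_smul, h'.1]
    simp only [smul_eq_mul]
    linear_combination (norm := module) hδ • ((η ⬝ᵥ x) • y)
  rw [e] at h1
  exact h1

/-- `H` contains a non-trivial elementary transvection. -/
def HasElem (H : Subgroup (GL ι F)) : Prop :=
  ∃ (r b : ι) (l : F), r ≠ b ∧ l ≠ 0 ∧ gT (l • Pi.single r 1) (Pi.single b 1) ∈ H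

/-- The standing assumptions on `H`. -/
structure RGroup (H : Subgroup (GL ι F)) (c₀ : ι) : Prop where
  fix : ∀ g ∈ H, (g : Matrix ι ι F) *ᵥ Pi.single c₀ 1 = Pi.single c₀ 1 ∧
    ∀ x, ((g : Matrix ι ι F) *ᵥ x) c₀ = x c₀
  dg : ∀ r, r ≠ c₀ → ∀ μ : F, μ ≠ 0 → dg1 r μ ∈ H
  sw : ∀ a b, a ≠ c₀ → b ≠ c₀ → a ≠ b → (sswap a b : GL ι F) ∈ H

theorem hasElem_of_row {H : Subgroup (GL ι F)} {c₀ : ι} (hH : RGroup H c₀) (η₀ : F)
    (h0 : η₀ ≠ 0) (h1 : η₀ ≠ 1) (r b : ι) (hb : b ≠ c₀) (ψ : ι → F) (hψr : ψ r = 0)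
    (hψb : ψ b ≠ 0) (hmem : gT (Pi.single r 1) ψ ∈ H) : HasElem H := by
  have hbr : b ≠ r := by
    intro h
    rw [h] at hψb
    exact hψb hψr
  have hδ : ∀ k : ι, (if k = b then η₀ else 1) ≠ 0 := by
    intro k
    split_ifs <;> simp [h0]
  have hw : ∀ k, (if k = b then η₀ else 1) * (Pi.single r 1 : ι → F) k =
      (Pi.single r 1 : ι → F) k := by
    intro k
    by_cases hk : k = r
    · subst hk
      simp [Ne.symm hbr]
    · simp [hk]
  have h2 := gT_comm_diag_mem H (dg1 b η₀) (hH.dg b hb η₀ h0) _ hδ (dg1_mulVec b η₀ h0)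
    (Pi.single r 1) ψ hw (by simp [hψr]) hmem
  refine ⟨r, b, ψ b * (1 - η₀⁻¹), Ne.symm hbr, ?_, ?_⟩
  · apply mul_ne_zero hψb
    intro h
    apply h1
    have : η₀⁻¹ = 1 := by linear_combination -h
    rw [inv_eq_one] at this
    exact this
  · rw [gT_smul_comm]
    convert h2 using 2
    funext k
    by_cases hk : k = b
    · subst hk
      simp
      field_simp
    · simp [hk]

theorem hasElem_of_col {H : Subgroup (GL ι F)} {c₀ : ι} (hH : RGroup H c₀) (η₀ : F)
    (h0 : η₀ ≠ 0) (h1 : η₀ ≠ 1) (r b : ι) (hb : b ≠ c₀) (y : ι → F) (hyr : y r = 0)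
    (hyb : y b ≠ 0) (hmem : gT y (Pi.single r 1) ∈ H) : HasElem H := by
  have hbr : b ≠ r := by
    intro h
    rw [h] at hyb
    exact hyb hyr
  have hδ : ∀ k : ι, (if k = b then η₀ else 1) ≠ 0 := by
    intro k
    split_ifs <;> simp [h0]
  have hψδ : ∀ k, (Pi.single r 1 : ι → F) k / (if k = b then η₀ else 1) =
      (Pi.single r 1 : ι → F) k := by
    intro k
    by_cases hk : k = r
    · subst hk
      simp [Ne.symm hbr]
    · simp [hk]
  have h2 := gT_comm_diag_mem' H (dg1 b η₀) (hH.dg b hb η₀ h0) _ hδ (dg1_mulVec b η₀ h0)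
    y (Pi.single r 1) hψδ (by simp [hyr]) hmem
  refine ⟨b, r, y b * (1 - η₀), hbr, ?_, ?_⟩
  · apply mul_ne_zero hyb
    intro h
    apply h1
    linear_combination -h
  · convert h2 using 2
    funext k
    by_cases hk : k = b
    · subst hk
      simp
      ring
    · simp [hk]

theorem IsRP.zero_c0 {H : Subgroup (GL ι F)} {c₀ : ι} (hH : RGroup H c₀) {y η : ι → F}
    (h : IsRP H y η) (ε : F) (hε0 : ε ≠ 0) (hε1 : ε ≠ 1) : y c₀ = 0 ∧ η c₀ = 0 := by
  have hc : 1 + η ⬝ᵥ ((ε - 1) • y) ≠ 0 := by rw [h.cond]; exact hε0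
  have hg := hH.fix _ (h.2 ε hε0)
  have hε1' : ε - 1 ≠ 0 := sub_ne_zero.mpr hε1
  have hy : y c₀ = 0 := by
    have h2 := hg.2 y
    rw [gT_mulVec _ _ hc, h.1] at h2
    simp only [Pi.add_apply, Pi.smul_apply, smul_eq_mul, one_mul] at h2
    have h3 : (ε - 1) * y c₀ = 0 := by linear_combination h2
    rcases mul_eq_zero.mp h3 with h4 | h4
    · exact absurd h4 hε1'
    · exact h4
  refine ⟨hy, ?_⟩
  have h2 := hg.1
  rw [gT_mulVec _ _ hc, dotProduct_single_one] at h2
  have hy0 : y ≠ 0 := by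
    intro h0
    have := h.1
    rw [h0, dotProduct_zero] at this
    exact zero_ne_one this
  obtain ⟨k, hk⟩ := Function.ne_iff.mp hy0
  have h3 := congrFun h2 k
  simp only [Pi.add_apply, Pi.smul_apply, smul_eq_mul] at h3
  have h4 : η c₀ * ((ε - 1) * y k) = 0 := by linear_combination h3
  rcases mul_eq_zero.mp h4 with h5 | h5
  · exact h5
  · exact absurd h5 (mul_ne_zero hε1' hk)

theorem IsRP.ne_zero_left {H : Subgroup (GL ι F)} {y η : ι → F} (h : IsRP H y η) : y ≠ 0 := by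
  intro h0
  have := h.1
  rw [h0, dotProduct_zero] at this
  exact zero_ne_one this

theorem IsRP.ne_zero_right {H : Subgroup (GL ι F)} {y η : ι → F} (h : IsRP H y η) : η ≠ 0 := by
  intro h0
  have := h.1
  rw [h0, zero_dotProduct] at this
  exact zero_ne_one this

/-- `η r = 0` and `y r ≠ 0` force an elementary transvection. -/
theorem hasElem_of_rp_zero_right {H : Subgroup (GL ι F)} {c₀ : ι} (hH : RGroup H c₀) (η₀ : F)
    (h0 : η₀ ≠ 0) (h1 : η₀ ≠ 1) {y η : ι → F} (h : IsRP H y η) (r : ι) (hr : r ≠ c₀)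
    (hη : η r = 0) (hy : y r ≠ 0) : HasElem H := by
  have hinv : η₀ * η₀⁻¹ = 1 := mul_inv_cancel₀ h0
  have hp := h.newPair r (hH.dg r hr) η₀ η₀⁻¹ hinv
  rw [hη, mul_zero, zero_smul, add_zero] at hp
  have hd := hp.diff_right (isRP_single H r (hH.dg r hr)) η₀ η₀⁻¹ hinv
  rw [add_sub_cancel_left, smul_smul] at hd
  obtain ⟨b, hb⟩ := Function.ne_iff.mp h.ne_zero_right
  have hb' : η b ≠ 0 := hb
  have hbc : b ≠ c₀ := by
    intro hbc
    rw [hbc] at hb'
    exact hb' (h.zero_c0 hH η₀ h0 h1).2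
  have hinv1 : η₀⁻¹ - 1 ≠ 0 := by
    intro h2
    apply h1
    have : η₀⁻¹ = 1 := by linear_combination h2
    rw [inv_eq_one] at this
    exact this
  refine hasElem_of_row hH η₀ h0 h1 r b hbc _ ?_ ?_ hd
  · simp [hη]
  · simp only [Pi.smul_apply, smul_eq_mul]
    exact mul_ne_zero (mul_ne_zero (sub_ne_zero.mpr h1) (mul_ne_zero hinv1 hy)) hb'

/-- `y r = 0` and `η r ≠ 0` force an elementary transvection. -/
theorem hasElem_of_rp_zero_left {H : Subgroup (GL ι F)} {c₀ : ι} (hH : RGroup H c₀) (η₀ : F)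
    (h0 : η₀ ≠ 0) (h1 : η₀ ≠ 1) {y η : ι → F} (h : IsRP H y η) (r : ι) (hr : r ≠ c₀)
    (hy : y r = 0) (hη : η r ≠ 0) : HasElem H := by
  have hinv : η₀ * η₀⁻¹ = 1 := mul_inv_cancel₀ h0
  have hp := h.newPair r (hH.dg r hr) η₀ η₀⁻¹ hinv
  rw [hy, mul_zero, zero_smul, add_zero] at hp
  have hd := hp.diff_left (isRP_single H r (hH.dg r hr)) η₀ η₀⁻¹ hinv
  rw [add_sub_cancel_left, smul_smul] at hd
  obtain ⟨b, hb⟩ := Function.ne_iff.mp h.ne_zero_left
  have hb' : y b ≠ 0 := hb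
  have hbc : b ≠ c₀ := by
    intro hbc
    rw [hbc] at hb'
    exact hb' (h.zero_c0 hH η₀ h0 h1).1
  have hinv1 : 1 - η₀⁻¹ ≠ 0 := by
    intro h2
    apply h1
    have : η₀⁻¹ = 1 := by linear_combination -h2
    rw [inv_eq_one] at this
    exact this
  refine hasElem_of_col hH η₀ h0 h1 r b hbc _ ?_ ?_ hd
  · simp [hy]
  · simp only [Pi.smul_apply, smul_eq_mul]
    exact mul_ne_zero (mul_ne_zero hinv1 (mul_ne_zero (sub_ne_zero.mpr h1) hη)) hb'

/-- A reflection pair with `κ = y r * η r ∉ {0, 1, 1/2}` forces an elementary transvection. -/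
theorem hasElem_of_rp_kappa {H : Subgroup (GL ι F)} {c₀ : ι} (hH : RGroup H c₀) (η₀ : F)
    (h0 : η₀ ≠ 0) (h1 : η₀ ≠ 1) {y η : ι → F} (h : IsRP H y η) (r : ι) (hr : r ≠ c₀)
    (hκ0 : y r * η r ≠ 0) (hκ1 : y r * η r ≠ 1) (hκ2 : 2 * (y r * η r) ≠ 1) : HasElem H := by
  obtain ⟨κ, hκ⟩ : ∃ κ : F, κ = y r * η r := ⟨_, rfl⟩
  rw [← hκ] at hκ0 hκ1 hκ2
  have hκi : κ * κ⁻¹ = 1 := mul_inv_cancel₀ hκ0
  have hε0 : 1 - κ⁻¹ ≠ 0 := by
    intro h2
    apply hκ1
    have : κ⁻¹ = 1 := by linear_combination -h2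
    rw [inv_eq_one] at this
    exact this
  have hεi : (1 - κ⁻¹) * (1 - κ⁻¹)⁻¹ = 1 := mul_inv_cancel₀ hε0
  have hp := h.newPair r (hH.dg r hr) (1 - κ⁻¹) (1 - κ⁻¹)⁻¹ hεi
  refine hasElem_of_rp_zero_left hH η₀ h0 h1 hp r hr ?_ ?_
  · simp only [Pi.add_apply, Pi.smul_apply, Pi.single_eq_same, smul_eq_mul]
    linear_combination (-1 : F) * hκi + κ⁻¹ * hκ
  · simp only [Pi.add_apply, Pi.smul_apply, Pi.single_eq_same, smul_eq_mul]
    intro h2
    apply hκ2
    linear_combination (κ * (1 - κ⁻¹)) * h2 + (κ * (1 - κ⁻¹) * ((1 - κ⁻¹)⁻¹ - 1)) * hκ +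
      (1 - κ) * hκi - κ ^ 2 * hεi

theorem IsRP.conj' {H : Subgroup (GL ι F)} {y η : ι → F} (h : IsRP H y η) (g : GL ι F)
    (hg : g ∈ H) :
    IsRP H ((g : Matrix ι ι F) *ᵥ y) (η ᵥ* ((g⁻¹ : GL ι F) : Matrix ι ι F)) :=
  h.conj g hg _ (fun x => by rw [← dotProduct_mulVec, gl_inv_mulVec_mulVec])

/-- Two coordinates in the support of a reflection pair, and a suitable parameter. -/
theorem hasElem_of_rp_two {H : Subgroup (GL ι F)} {c₀ : ι} (hH : RGroup H c₀) (η₀ : F)
    (h0 : η₀ ≠ 0) (h1 : η₀ ≠ 1) {y η : ι → F} (h : IsRP H y η) (r k : ι) (hr : r ≠ c₀)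
    (hk : k ≠ c₀) (hrk : r ≠ k) (P : F) (hP : P = y r * η r * (y k * η k)) (hP0 : P ≠ 0)
    (ε ε' : F) (hεε' : ε * ε' = 1) (hε1 : ε ≠ 1)
    (hκ1 : (ε - 1) * (ε' - 1) * P ≠ 1) (hκ2 : 2 * ((ε - 1) * (ε' - 1) * P) ≠ 1) : HasElem H := by
  have hp := h.newPair r (hH.dg r hr) ε ε' hεε'
  have e : (Pi.single r 1 + ((ε - 1) * η r) • y : ι → F) k *
      (Pi.single r 1 + ((ε' - 1) * y r) • η : ι → F) k = (ε - 1) * (ε' - 1) * P := by
    simp only [Pi.add_apply, Pi.smul_apply, smul_eq_mul, Pi.single_apply, if_neg (Ne.symm hrk)]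
    rw [hP]
    ring
  have hε'1 : ε' - 1 ≠ 0 := by
    intro h2
    apply hε1
    have : ε' = 1 := by linear_combination h2
    rw [this, mul_one] at hεε'
    exact hεε'
  refine hasElem_of_rp_kappa hH η₀ h0 h1 hp k hk ?_ ?_ ?_
  · rw [e]
    exact mul_ne_zero (mul_ne_zero (sub_ne_zero.mpr hε1) hε'1) hP0
  · rw [e]
    exact hκ1
  · rw [e]
    exact hκ2

end

section Params

variable {F : Type*} [Field F] [Fintype F]

theorem exists_eps_of_seven (hq : 7 ≤ Fintype.card F) (P : F) (hP : P ≠ 0) :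
    ∃ ε ε' : F, ε * ε' = 1 ∧ ε ≠ 1 ∧ (ε - 1) * (ε' - 1) * P ≠ 1 ∧
      2 * ((ε - 1) * (ε' - 1) * P) ≠ 1 := by
  classical
  have hA : (Finset.univ.filter (fun ε : F => (ε - 1) ^ 2 * P = -ε)).card ≤ 2 := by
    by_contra hc
    push Not at hc
    obtain ⟨a, b, c, ha, hb, hc', hab, hac, hbc⟩ := Finset.two_lt_card_iff.mp hc
    simp only [Finset.mem_filter, Finset.mem_univ, true_and] at ha hb hc'
    have e1 : (a - b) * (P * (a + b - 2) + 1) = 0 := by linear_combination ha - hb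
    have e2 : (a - c) * (P * (a + c - 2) + 1) = 0 := by linear_combination ha - hc'
    have e1' := (mul_eq_zero.mp e1).resolve_left (sub_ne_zero.mpr hab)
    have e2' := (mul_eq_zero.mp e2).resolve_left (sub_ne_zero.mpr hac)
    have e3 : P * (b - c) = 0 := by linear_combination e1' - e2'
    rcases mul_eq_zero.mp e3 with h | h
    · exact hP h
    · exact hbc (sub_eq_zero.mp h)
  have hB : (Finset.univ.filter (fun ε : F => 2 * ((ε - 1) ^ 2 * P) = -ε)).card ≤ 2 := by
    by_contra hc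
    push Not at hc
    obtain ⟨a, b, c, ha, hb, hc', hab, hac, hbc⟩ := Finset.two_lt_card_iff.mp hc
    simp only [Finset.mem_filter, Finset.mem_univ, true_and] at ha hb hc'
    have e1 : (a - b) * (2 * P * (a + b - 2) + 1) = 0 := by linear_combination ha - hb
    have e2 : (a - c) * (2 * P * (a + c - 2) + 1) = 0 := by linear_combination ha - hc'
    have e1' := (mul_eq_zero.mp e1).resolve_left (sub_ne_zero.mpr hab)
    have e2' := (mul_eq_zero.mp e2).resolve_left (sub_ne_zero.mpr hac)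
    have e3 : 2 * (P * (b - c)) = 0 := by linear_combination e1' - e2'
    have h2 : (2 : F) = 0 := by
      rcases mul_eq_zero.mp e3 with h | h
      · exact h
      · rcases mul_eq_zero.mp h with h | h
        · exact absurd h hP
        · exact absurd (sub_eq_zero.mp h) hbc
    have ha0 : a = 0 := by
      rw [h2, zero_mul] at ha
      linear_combination ha
    have hb0 : b = 0 := by
      rw [h2, zero_mul] at hb
      linear_combination hb
    exact hab (ha0.trans hb0.symm)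
  have hcard : (({0, 1} : Finset F) ∪ Finset.univ.filter (fun ε : F => (ε - 1) ^ 2 * P = -ε) ∪
      Finset.univ.filter (fun ε : F => 2 * ((ε - 1) ^ 2 * P) = -ε)).card < Fintype.card F := by
    refine lt_of_le_of_lt (Finset.card_union_le _ _) ?_
    have := Finset.card_union_le ({0, 1} : Finset F)
      (Finset.univ.filter (fun ε : F => (ε - 1) ^ 2 * P = -ε))
    have h2 : ({0, 1} : Finset F).card ≤ 2 := Finset.card_le_two
    omega
  obtain ⟨ε, hε⟩ := exists_not_mem_of_card _ hcard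
  simp only [Finset.mem_union, Finset.mem_insert, Finset.mem_singleton, Finset.mem_filter,
    Finset.mem_univ, true_and, not_or] at hε
  obtain ⟨⟨⟨hε0, hε1⟩, hεA⟩, hεB⟩ := hε
  have hi : ε * ε⁻¹ = 1 := mul_inv_cancel₀ hε0
  refine ⟨ε, ε⁻¹, hi, hε1, ?_, ?_⟩
  · intro h
    apply hεA
    linear_combination (-ε) * h + (ε - 1) * P * hi
  · intro h
    apply hεB
    linear_combination (-ε) * h + 2 * (ε - 1) * P * hi

theorem five_eq_zero_of_card (h : Fintype.card F = 5) : (5 : F) = 0 := by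
  have := FiniteField.cast_card_eq_zero F
  rw [h] at this
  exact_mod_cast this

end Params

section
variable {ι : Type} [Fintype ι] [DecidableEq ι] {F : Type*} [Field F]

theorem sswap_inv (a t : ι) (hat : a ≠ t) : (sswap a t : GL ι F)⁻¹ = sswap t a := by
  apply inv_eq_of_mul_eq_one_right
  apply gl_ext_mulVec
  intro x
  funext k
  rw [Units.val_mul, ← Matrix.mulVec_mulVec, sswap_mulVec a t hat, Units.val_one,
    Matrix.one_mulVec, sswap_mulVec t a hat.symm, sswap_mulVec t a hat.symm,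
    sswap_mulVec t a hat.symm]
  by_cases hk : k = a
  · subst hk
    simp
  · by_cases hk' : k = t
    · subst hk'
      simp [hk, hat]
    · simp [hk, hk']

/-- The field with five elements. -/
theorem hasElem_of_rp_five [Fintype F] {H : Subgroup (GL ι F)} {c₀ : ι} (hH : RGroup H c₀)
    (hq : Fintype.card F = 5) (hcard : 4 ≤ Fintype.card ι) {y η : ι → F} (h : IsRP H y η)
    (a b : ι) (hab : a ≠ b) (ha : a ≠ c₀) (hb : b ≠ c₀) (hya : y a ≠ 0) (hηa : η a ≠ 0)
    (hyb : y b ≠ 0) (hηb : η b ≠ 0) : HasElem H := by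
  have h5 : (5 : F) = 0 := five_eq_zero_of_card hq
  have n2 : (2 : F) ≠ 0 := by
    intro h2
    apply one_ne_zero (α := F)
    linear_combination h5 - 2 * h2
  have n3 : (3 : F) ≠ 0 := by
    intro h3
    apply one_ne_zero (α := F)
    linear_combination 2 * h3 - h5
  have n21 : (2 : F) ≠ 1 := by
    intro h2
    apply one_ne_zero (α := F)
    linear_combination h2
  have n41 : (4 : F) ≠ 1 := by
    intro h4
    apply n3
    linear_combination h4
  have i23 : (2 : F) * 3 = 1 := by linear_combination h5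
  have i44 : (4 : F) * 4 = 1 := by linear_combination 3 * h5
  obtain ⟨κa, hκa⟩ : ∃ κ : F, κ = y a * η a := ⟨_, rfl⟩
  obtain ⟨κb, hκb⟩ : ∃ κ : F, κ = y b * η b := ⟨_, rfl⟩
  have hκa0 : κa ≠ 0 := by rw [hκa]; exact mul_ne_zero hya hηa
  have hκb0 : κb ≠ 0 := by rw [hκb]; exact mul_ne_zero hyb hηb
  have B3 : ∀ {y η : ι → F}, IsRP H y η → ∀ r, r ≠ c₀ → ∀ κ : F, κ = y r * η r → κ ≠ 0 → κ ≠ 1 →
      κ ≠ 3 → HasElem H := by
    intro y η h r hr κ hκ hκ0 hκ1 hκ3
    refine hasElem_of_rp_kappa hH 2 n2 n21 h r hr (by rw [← hκ]; exact hκ0)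
      (by rw [← hκ]; exact hκ1) ?_
    rw [← hκ]
    intro h2
    apply hκ3
    linear_combination 3 * h2 - κ * h5
  have A2 : ∀ {y η : ι → F}, IsRP H y η → ∀ r k, r ≠ c₀ → k ≠ c₀ → r ≠ k → ∀ P : F,
      P = y r * η r * (y k * η k) → P ≠ 0 → P ≠ 4 → HasElem H := by
    intro y η h r k hr hk hrk P hP hP0 hP4
    by_cases hP3 : P = 3
    · refine hasElem_of_rp_two hH 2 n2 n21 h r k hr hk hrk P hP hP0 4 4 i44 n41 ?_ ?_
      · intro h2
        rw [hP3] at h2
        apply one_ne_zero (α := F)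
        linear_combination h2 - 5 * h5
      · intro h2
        rw [hP3] at h2
        apply n3
        linear_combination h2 - 10 * h5
    · refine hasElem_of_rp_two hH 2 n2 n21 h r k hr hk hrk P hP hP0 2 3 i23 n21 ?_ ?_
      · intro h2
        apply hP3
        linear_combination 3 * h2 - P * h5
      · intro h2
        apply hP4
        linear_combination 4 * h2 - 3 * P * h5
  by_cases hP4 : κa * κb = 4
  swap
  · exact A2 h a b ha hb hab (κa * κb) (by rw [hκa, hκb]) (mul_ne_zero hκa0 hκb0) hP4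
  by_cases hκa1 : κa = 1
  · have hκb4 : κb = 4 := by
      rw [hκa1, one_mul] at hP4
      exact hP4
    refine B3 h b hb κb hκb hκb0 (by rw [hκb4]; exact n41) ?_
    rw [hκb4]
    intro h43
    apply one_ne_zero (α := F)
    linear_combination h43
  by_cases hκa3 : κa = 3
  swap
  · exact B3 h a ha κa hκa hκa0 hκa1 hκa3
  have hκb3 : κb = 3 := by
    rw [hκa3] at hP4
    linear_combination 2 * hP4 - (κb - 1) * h5
  have hA : y a * η a = 3 := by rw [← hκa]; exact hκa3
  have hB : y b * η b = 3 := by rw [← hκb]; exact hκb3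
  obtain ⟨t, ht⟩ := exists_not_mem_of_card ({a, b, c₀} : Finset ι)
    (lt_of_le_of_lt Finset.card_le_three (by omega))
  simp only [Finset.mem_insert, Finset.mem_singleton, not_or] at ht
  obtain ⟨hta, htb, htc⟩ := ht
  by_cases hyt : y t = 0
  · by_cases hηt : η t = 0
    · -- the coordinate `t` is free: mix with the pair moved by a signed swap
      have hρ : (sswap a t : GL ι F) ∈ H := hH.sw a t ha htc (Ne.symm hta)
      have hp2 := h.conj' (sswap a t) hρ
      rw [sswap_inv a t (Ne.symm hta)] at hp2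
      have hs'y : ((sswap t a : GL ι F) : Matrix ι ι F) *ᵥ y =
          y + (y a) • (Pi.single t 1 - Pi.single a 1) := by
        funext k
        rw [sswap_mulVec t a hta]
        by_cases hk : k = t
        · subst hk
          simp [hta, hyt]
        · by_cases hk' : k = a
          · subst hk'
            simp [hk, hyt]
          · simp [hk, hk']
      have hρy : ((sswap a t : GL ι F) : Matrix ι ι F) *ᵥ y =
          y - (y a) • (Pi.single a 1 + Pi.single t 1) := by
        funext k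
        rw [sswap_mulVec a t (Ne.symm hta)]
        by_cases hk : k = a
        · subst hk
          simp [Ne.symm hta, hyt]
        · by_cases hk' : k = t
          · subst hk'
            simp [hk, hyt]
          · simp [hk, hk']
      have hs'e : ((sswap t a : GL ι F) : Matrix ι ι F) *ᵥ (Pi.single t 1) =
          -(Pi.single a 1 : ι → F) := by
        funext k
        rw [sswap_mulVec t a hta]
        by_cases hk : k = t
        · subst hk
          simp [hta, Ne.symm hta]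
        · by_cases hk' : k = a
          · subst hk'
            simp [hk]
          · simp [hk, hk']
      have d1 : (η ᵥ* ((sswap t a : GL ι F) : Matrix ι ι F)) ⬝ᵥ y = 1 - y a * η a := by
        rw [← dotProduct_mulVec, hs'y, dotProduct_add, dotProduct_smul, dotProduct_sub, h.1,
          dotProduct_single_one, dotProduct_single_one, hηt]
        simp only [smul_eq_mul]
        ring
      have d2 : η ⬝ᵥ (((sswap a t : GL ι F) : Matrix ι ι F) *ᵥ y) = 1 - y a * η a := by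
        rw [hρy, dotProduct_sub, dotProduct_smul, dotProduct_add, h.1,
          dotProduct_single_one, dotProduct_single_one, hηt]
        simp only [smul_eq_mul]
        ring
      have d3 : (η ᵥ* ((sswap t a : GL ι F) : Matrix ι ι F)) t = -η a := by
        have : (η ᵥ* ((sswap t a : GL ι F) : Matrix ι ι F)) t =
            (η ᵥ* ((sswap t a : GL ι F) : Matrix ι ι F)) ⬝ᵥ (Pi.single t 1) := by
          rw [dotProduct_single_one]
        rw [this, ← dotProduct_mulVec, hs'e, dotProduct_neg, dotProduct_single_one]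
      have d4 : (((sswap a t : GL ι F) : Matrix ι ι F) *ᵥ y) t = -y a := by
        rw [sswap_mulVec a t (Ne.symm hta)]
        simp [hta]
      obtain ⟨y₂, hy₂⟩ : ∃ y₂ : ι → F, y₂ = ((sswap a t : GL ι F) : Matrix ι ι F) *ᵥ y := ⟨_, rfl⟩
      obtain ⟨η₂, hη₂⟩ : ∃ η₂ : ι → F, η₂ = η ᵥ* ((sswap t a : GL ι F) : Matrix ι ι F) :=
        ⟨_, rfl⟩
      rw [← hy₂, ← hη₂] at hp2
      rw [← hη₂] at d1 d3
      rw [← hy₂] at d2 d4
      have hc2 : 1 + η₂ ⬝ᵥ (((2 : F) - 1) • y₂) ≠ 0 := by rw [hp2.cond]; exact n2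
      have hp3 := h.conj (gT (((2 : F) - 1) • y₂) η₂) (hp2.2 2 n2)
        (η + ((3 - 1) * (η ⬝ᵥ y₂)) • η₂) (by
          intro x
          rw [gT_mulVec _ _ hc2, add_dotProduct, smul_dotProduct, dotProduct_add,
            dotProduct_smul, dotProduct_smul, dotProduct_add, dotProduct_smul, dotProduct_smul,
            hp2.1]
          simp only [smul_eq_mul]
          linear_combination ((η₂ ⬝ᵥ x) * (η ⬝ᵥ y₂)) * h5)
      rw [gT_mulVec _ _ hc2] at hp3
      have hk4 : (4 : F) = (y + (η₂ ⬝ᵥ y) • ((2 : F) - 1) • y₂) t *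
          (η + ((3 - 1) * (η ⬝ᵥ y₂)) • η₂) t := by
        simp only [Pi.add_apply, Pi.smul_apply, smul_eq_mul]
        rw [d1, d2, d3, d4, hyt, hηt]
        linear_combination (-(2 * (y a * η a) ^ 2 + 2 * (y a * η a) + 8)) * hA - 4 * h5
      refine B3 hp3 t htc 4 hk4 ?_ n41 ?_
      · intro h4
        apply one_ne_zero (α := F)
        linear_combination h5 - h4
      · intro h43
        apply one_ne_zero (α := F)
        linear_combination h43
    · exact hasElem_of_rp_zero_left hH 2 n2 n21 h t htc hyt hηt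
  · by_cases hηt : η t = 0
    · exact hasElem_of_rp_zero_right hH 2 n2 n21 h t htc hηt hyt
    · obtain ⟨κt, hκt⟩ : ∃ κ : F, κ = y t * η t := ⟨_, rfl⟩
      have hκt0 : κt ≠ 0 := by rw [hκt]; exact mul_ne_zero hyt hηt
      by_cases hκt1 : κt = 1
      · refine A2 h t a htc ha hta (κt * κa) (by rw [hκt, hκa]) (mul_ne_zero hκt0 hκa0) ?_
        rw [hκt1, hκa3, one_mul]
        intro h34
        apply one_ne_zero (α := F)
        linear_combination -h34
      by_cases hκt3 : κt = 3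
      swap
      · exact B3 h t htc κt hκt hκt0 hκt1 hκt3
      have hT : y t * η t = 3 := by rw [← hκt]; exact hκt3
      have hp := h.newPair a (hH.dg a ha) 4 4 i44
      refine A2 hp b t hb htc (Ne.symm htb) 1 ?_ one_ne_zero ?_
      · simp only [Pi.add_apply, Pi.smul_apply, smul_eq_mul, Pi.single_apply, if_neg hab.symm,
          if_neg hta]
        have e : (0 + (4 - 1) * η a * y b) * (0 + (4 - 1) * y a * η b) *
            ((0 + (4 - 1) * η a * y t) * (0 + (4 - 1) * y a * η t)) =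
            81 * (y a * η a) ^ 2 * (y b * η b) * (y t * η t) := by ring
        rw [e, hA, hB, hT]
        linear_combination (-1312 : F) * h5
      · intro h14
        apply n3
        linear_combination -h14

/-- A non-monomial element of `H` forces an elementary transvection. -/
theorem hasElem_of_not_isMonoG [Fintype F] {H : Subgroup (GL ι F)} {c₀ : ι} (hH : RGroup H c₀)
    (hq : 5 ≤ Fintype.card F) (hcard : 4 ≤ Fintype.card ι) (Y : GL ι F) (hY : Y ∈ H)
    (hYm : ¬ IsMonoG Y) : HasElem H := by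
  classical
  obtain ⟨η₀, hη₀⟩ := exists_not_mem_of_card ({0, 1} : Finset F)
    (lt_of_le_of_lt Finset.card_le_two (by omega))
  simp only [Finset.mem_insert, Finset.mem_singleton, not_or] at hη₀
  obtain ⟨h0, h1⟩ := hη₀
  obtain ⟨c, a, b, hab, hYa, hYb⟩ := exists_two_of_not_isMonoG hYm
  have hfix := hH.fix Y hY
  have hc : c ≠ c₀ := by
    rintro rfl
    have e1 := congrFun hfix.1 a
    have e2 := congrFun hfix.1 b
    simp only [Matrix.mulVec_single_one, Matrix.col_apply, Pi.single_apply] at e1 e2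
    by_cases hac : a = c
    · by_cases hbc : b = c
      · exact hab (hac.trans hbc.symm)
      · rw [if_neg hbc] at e2
        exact hYb e2
    · rw [if_neg hac] at e1
      exact hYa e1
  have hp : IsRP H ((Y : Matrix ι ι F) *ᵥ Pi.single c 1) (((Y⁻¹ : GL ι F) : Matrix ι ι F) c) :=
    (isRP_single H c (hH.dg c hc)).conj Y hY _ (fun x => by
      show (((Y⁻¹ : GL ι F) : Matrix ι ι F) *ᵥ ((Y : Matrix ι ι F) *ᵥ x)) c = _
      rw [gl_inv_mulVec_mulVec, single_one_dotProduct])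
  have hya : ((Y : Matrix ι ι F) *ᵥ Pi.single c 1) a ≠ 0 := by simpa using hYa
  have hyb : ((Y : Matrix ι ι F) *ᵥ Pi.single c 1) b ≠ 0 := by simpa using hYb
  have hz := hp.zero_c0 hH η₀ h0 h1
  have hac₀ : a ≠ c₀ := by
    rintro rfl
    exact hya hz.1
  have hbc₀ : b ≠ c₀ := by
    rintro rfl
    exact hyb hz.1
  by_cases hηa : ((Y⁻¹ : GL ι F) : Matrix ι ι F) c a = 0
  · exact hasElem_of_rp_zero_right hH η₀ h0 h1 hp a hac₀ hηa hya
  by_cases hηb : ((Y⁻¹ : GL ι F) : Matrix ι ι F) c b = 0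
  · exact hasElem_of_rp_zero_right hH η₀ h0 h1 hp b hbc₀ hηb hyb
  by_cases hq7 : 7 ≤ Fintype.card F
  · obtain ⟨ε, ε', hεε', hε1, hκ1, hκ2⟩ := exists_eps_of_seven hq7 _
      (mul_ne_zero (mul_ne_zero hya hηa) (mul_ne_zero hyb hηb))
    exact hasElem_of_rp_two hH η₀ h0 h1 hp a b hac₀ hbc₀ hab _ rfl
      (mul_ne_zero (mul_ne_zero hya hηa) (mul_ne_zero hyb hηb)) ε ε' hεε' hε1 hκ1 hκ2
  · have hpp := FiniteField.isPrimePow_card F
    have hq5 : Fintype.card F = 5 := by
      by_contra h5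
      have h6 : Fintype.card F = 6 := by omega
      rw [h6] at hpp
      exact absurd hpp (by decide)
    exact hasElem_of_rp_five hH hq5 hcard hp a b hab hac₀ hbc₀ hya hηa hyb hηb

end

end Cfsg.Agent.Lib.helper95
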