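import Mathlib
import Cfsg.Agent.Lib.helper95.MonoG

/-!
A subgroup `M` of the special linear group containing all monomial matrices of determinant one and a
non-monomial element with a column proportional to a coordinate vector is the whole special linear
group (at least five elements in the field, at least five coordinates).
-/

set_option autoImplicit false

namespace Cfsg.Agent.Lib.helper95

open Matrix Cfsg Cfsg.Geo

section
variable {ι : Type} [Fintype ι] [DecidableEq ι] {F : Type*} [Field F]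

omit [Fintype ι] in
theorem eq_add_of_agree_off (c₀ : ι) (u v : ι → F) (h : ∀ i, i ≠ c₀ → u i = v i) :
    u = v + (u c₀ - v c₀) • Pi.single c₀ 1 := by
  funext i
  by_cases hi : i = c₀
  · subst hi
    simp
  · simp [hi, h i hi]

/-- The group of the "lower right blocks" of the elements of `M` fixing the line of `e_{c₀}`,
realised as matrices fixing `e_{c₀}` and the coordinate `c₀`. -/
def blockGroup (M : Subgroup (GL ι F)) (c₀ : ι) : Subgroup (GL ι F) where
  carrier := {g | ((g : Matrix ι ι F) *ᵥ Pi.single c₀ 1 = Pi.single c₀ 1 ∧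
      ∀ x, ((g : Matrix ι ι F) *ᵥ x) c₀ = x c₀) ∧
    ∃ g' ∈ M, ∀ x i, i ≠ c₀ → ((g' : Matrix ι ι F) *ᵥ x) i = ((g : Matrix ι ι F) *ᵥ x) i}
  mul_mem' := by
    rintro a b ⟨⟨ha1, ha2⟩, a', ha'M, hRa⟩ ⟨⟨hb1, hb2⟩, b', hb'M, hRb⟩
    refine ⟨⟨?_, ?_⟩, a' * b', M.mul_mem ha'M hb'M, ?_⟩
    · rw [Units.val_mul, ← Matrix.mulVec_mulVec, hb1, ha1]
    · intro x
      rw [Units.val_mul, ← Matrix.mulVec_mulVec, ha2, hb2]
    · intro x i hi
      rw [Units.val_mul, Units.val_mul, ← Matrix.mulVec_mulVec, ← Matrix.mulVec_mulVec,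
        hRa _ i hi, eq_add_of_agree_off c₀ ((b' : Matrix ι ι F) *ᵥ x) ((b : Matrix ι ι F) *ᵥ x)
          (fun i hi => hRb x i hi), Matrix.mulVec_add, Matrix.mulVec_smul, ha1]
      simp [hi]
  one_mem' := by
    refine ⟨⟨by rw [Units.val_one, Matrix.one_mulVec],
      fun x => by rw [Units.val_one, Matrix.one_mulVec]⟩, 1, M.one_mem, ?_⟩
    intro x i _
    rfl
  inv_mem' := by
    rintro a ⟨⟨ha1, ha2⟩, a', ha'M, hRa⟩
    have hinv : ((a⁻¹ : GL ι F) : Matrix ι ι F) *ᵥ Pi.single c₀ 1 = Pi.single c₀ 1 := by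
      have := congrArg (fun v => ((a⁻¹ : GL ι F) : Matrix ι ι F) *ᵥ v) ha1
      simp only [gl_inv_mulVec_mulVec] at this
      exact this.symm
    refine ⟨⟨hinv, ?_⟩, a'⁻¹, M.inv_mem ha'M, ?_⟩
    · intro x
      have := ha2 (((a⁻¹ : GL ι F) : Matrix ι ι F) *ᵥ x)
      rw [gl_mulVec_inv_mulVec] at this
      exact this.symm
    · intro x i hi
      obtain ⟨w, hw⟩ : ∃ w : ι → F, w = ((a'⁻¹ : GL ι F) : Matrix ι ι F) *ᵥ x := ⟨_, rfl⟩
      rw [← hw]
      have hw' : (a' : Matrix ι ι F) *ᵥ w = x := by rw [hw, gl_mulVec_inv_mulVec]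
      have hagree : ∀ i, i ≠ c₀ → ((a : Matrix ι ι F) *ᵥ w) i = x i := by
        intro i hi
        rw [← hRa w i hi, hw']
      have e := eq_add_of_agree_off c₀ ((a : Matrix ι ι F) *ᵥ w) x hagree
      have e2 : w = ((a⁻¹ : GL ι F) : Matrix ι ι F) *ᵥ ((a : Matrix ι ι F) *ᵥ w) :=
        (gl_inv_mulVec_mulVec a w).symm
      rw [e2, e, Matrix.mulVec_add, Matrix.mulVec_smul, hinv]
      simp [hi]

theorem rGroup_blockGroup (M : Subgroup (GL ι F))
    (hN : ∀ g ∈ specialLinear ι F, IsMonoG g → g ∈ M) (c₀ : ι) : RGroup (blockGroup M c₀) c₀ where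
  fix := fun g hg => hg.1
  dg := by
    intro r hr μ hμ
    refine ⟨⟨?_, ?_⟩, dg2 r c₀ μ, hN _ (dg2_mem r c₀ μ) (isMonoG_dg2 r c₀ μ), ?_⟩
    · funext k
      rw [dg1_mulVec r μ hμ]
      by_cases hk : k = c₀
      · subst hk
        simp [Ne.symm hr]
      · simp [hk]
    · intro x
      rw [dg1_mulVec r μ hμ]
      simp [Ne.symm hr]
    · intro x i hi
      rw [dg1_mulVec r μ hμ, dg2_mulVec r c₀ hr μ hμ]
      simp [hi]
  sw := by
    intro a b ha hb hab
    refine ⟨⟨?_, ?_⟩, sswap a b, hN _ (sswap_mem a b) (isMonoG_sswap a b hab), fun x i _ => rfl⟩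
    · funext k
      rw [sswap_mulVec a b hab]
      by_cases hk : k = a
      · subst hk
        simp [hb, ha]
      · by_cases hk' : k = b
        · subst hk'
          simp [hk, ha, hb]
        · simp [hk, hk']
    · intro x
      rw [sswap_mulVec a b hab]
      simp [Ne.symm ha, Ne.symm hb]

theorem specialLinear_le_of_frame_aux [Fintype F] (M : Subgroup (GL ι F))
    (hSL : M ≤ specialLinear ι F) (hN : ∀ g ∈ specialLinear ι F, IsMonoG g → g ∈ M)
    (hq : 5 ≤ Fintype.card F) (hcard : 5 ≤ Fintype.card ι) (z : GL ι F) (hz : z ∈ M)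
    (hzm : ¬ IsMonoG z) (c₀ : ι) (γ : F)
    (hγ : (z : Matrix ι ι F) *ᵥ Pi.single c₀ 1 = γ • Pi.single c₀ 1) :
    specialLinear ι F ≤ M := by
  classical
  obtain ⟨η₀, hη₀⟩ := exists_not_mem_of_card ({0, 1} : Finset F)
    (lt_of_le_of_lt Finset.card_le_two (by omega))
  simp only [Finset.mem_insert, Finset.mem_singleton, not_or] at hη₀
  obtain ⟨h0, h1⟩ := hη₀
  have hdg : ∀ (a b : ι) (η : F), dg2 a b η ∈ M := fun a b η =>
    hN _ (dg2_mem a b η) (isMonoG_dg2 a b η)
  have hsw : ∀ a b : ι, a ≠ b → (sswap a b : GL ι F) ∈ M := fun a b hab =>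
    hN _ (sswap_mem a b) (isMonoG_sswap a b hab)
  have key : ∀ (r : ι) (ψ : ι → F), ψ r = 0 → ψ ≠ 0 → gT (Pi.single r 1) ψ ∈ M →
      specialLinear ι F ≤ M := fun r ψ hψr hψ hmem =>
    specialLinear_le_of_gT_single M hdg hsw (by omega) η₀ h0 h1 r ψ hψr hψ hmem
  have hγ0 : γ ≠ 0 := by
    intro h
    rw [h, zero_smul] at hγ
    exact single_one_ne_zero c₀ ((gl_mulVec_eq_zero_iff z _).mp hγ)
  obtain ⟨ρ, hρ⟩ : ∃ ρ : ι → F, ρ = fun k => if k = c₀ then 0 else (z : Matrix ι ι F) c₀ k :=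
    ⟨_, rfl⟩
  have hρc : ρ c₀ = 0 := by rw [hρ]; simp
  have hrow : ∀ x, ((z : Matrix ι ι F) *ᵥ x) c₀ = γ * x c₀ + ρ ⬝ᵥ x := by
    intro x
    have e : (z : Matrix ι ι F) c₀ = γ • Pi.single c₀ 1 + ρ := by
      funext k
      by_cases hk : k = c₀
      · subst hk
        have := congrFun hγ k
        simp only [Matrix.mulVec_single_one, Matrix.col_apply, Pi.smul_apply, Pi.single_eq_same,
          smul_eq_mul, mul_one] at this
        simp [hρc, this]
      · simp [hρ, hk]
    show (z : Matrix ι ι F) c₀ ⬝ᵥ x = _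
    rw [e, add_dotProduct, smul_dotProduct, single_one_dotProduct, smul_eq_mul]
  have hUdot : (-γ⁻¹ • ρ) ⬝ᵥ (Pi.single c₀ 1) = 0 := by simp [hρc]
  obtain ⟨U, hU⟩ : ∃ U : GL ι F, U = gT (Pi.single c₀ 1) (-γ⁻¹ • ρ) := ⟨_, rfl⟩
  have hUx : ∀ x, (U : Matrix ι ι F) *ᵥ x = x + ((-γ⁻¹ • ρ) ⬝ᵥ x) • Pi.single c₀ 1 := by
    intro x
    rw [hU, gT_mulVec' _ _ hUdot]
  have hUSL : U ∈ specialLinear ι F := by
    rw [hU]
    exact gT_mem_specialLinear _ _ hUdot
  obtain ⟨D, hD⟩ : ∃ D : GL ι F, D = dg1 c₀ γ⁻¹ := ⟨_, rfl⟩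
  have hDx : ∀ x k, ((D : Matrix ι ι F) *ᵥ x) k = (if k = c₀ then γ⁻¹ else 1) * x k := by
    intro x k
    rw [hD, dg1_mulVec c₀ γ⁻¹ (inv_ne_zero hγ0)]
  obtain ⟨g, hg⟩ : ∃ g : GL ι F, g = D * z * U := ⟨_, rfl⟩
  have hgx : ∀ x k, ((g : Matrix ι ι F) *ᵥ x) k = (if k = c₀ then γ⁻¹ else 1) *
      (((z : Matrix ι ι F) *ᵥ x) k + ((-γ⁻¹ • ρ) ⬝ᵥ x) * γ * (Pi.single c₀ 1 : ι → F) k) := by
    intro x k
    rw [hg, Units.val_mul, Units.val_mul, ← Matrix.mulVec_mulVec, ← Matrix.mulVec_mulVec, hDx,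
      hUx, Matrix.mulVec_add, Matrix.mulVec_smul, hγ]
    simp only [Pi.add_apply, Pi.smul_apply, smul_eq_mul]
    ring
  have hgB : g ∈ blockGroup M c₀ := by
    refine ⟨⟨?_, ?_⟩, z, hz, ?_⟩
    · funext k
      rw [hgx, hγ, hUdot]
      by_cases hk : k = c₀
      · subst hk
        simp
        field_simp
      · simp [hk]
    · intro x
      rw [hgx, hrow, smul_dotProduct]
      simp only [if_true, Pi.single_eq_same, smul_eq_mul]
      field_simp
      ring
    · intro x i hi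
      rw [hgx]
      simp [hi]
  by_cases hgm : IsMonoG g
  · have hm : IsMonoG (z * U) := by
      have e : z * U = D⁻¹ * g := by
        rw [hg]
        group
      rw [e]
      have hDm : IsMonoG D⁻¹ := by
        rw [hD]
        exact (isMonoG_dg1 c₀ γ⁻¹).inv
      exact hDm.mul hgm
    have hmM : z * U ∈ M := hN _ (Subgroup.mul_mem _ (hSL hz) hUSL) hm
    have hUM : U ∈ M := by
      have : U = z⁻¹ * (z * U) := by group
      rw [this]
      exact M.mul_mem (M.inv_mem hz) hmM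
    have hne : (-γ⁻¹ • ρ) ≠ 0 := by
      intro h0'
      apply hzm
      have hU1 : U = 1 := by rw [hU, h0', gT_zero_right]
      have e : z = z * U := by rw [hU1, mul_one]
      rw [e]
      exact hm
    rw [hU] at hUM
    exact key c₀ _ (by simp [hρc]) hne hUM
  · obtain ⟨r, b, l, hrb, hl, hE⟩ :=
      hasElem_of_not_isMonoG (rGroup_blockGroup M hN c₀) hq (by omega) g hgB hgm
    obtain ⟨⟨hE1, hE2⟩, g', hg'M, hR⟩ := hE
    have hEdot : (Pi.single b 1 : ι → F) ⬝ᵥ (l • Pi.single r 1) = 0 := by simp [hrb]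
    have hEx : ∀ x, ((gT (l • Pi.single r 1) (Pi.single b 1) : GL ι F) : Matrix ι ι F) *ᵥ x =
        x + (x b) • (l • Pi.single r 1) := by
      intro x
      rw [gT_mulVec' _ _ hEdot, single_one_dotProduct]
    have hbc : b ≠ c₀ := by
      rintro rfl
      rw [hEx] at hE1
      have := congrFun hE1 r
      simp [hrb] at this
      exact hl this
    have hrc : r ≠ c₀ := by
      rintro rfl
      have := hE2 (Pi.single b 1)
      rw [hEx] at this
      simp [Ne.symm hrb] at this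
      exact hl this
    obtain ⟨E, hEdef⟩ : ∃ E : GL ι F, E = gT (l • Pi.single r 1) (Pi.single b 1) := ⟨_, rfl⟩
    rw [← hEdef] at hR hEx
    obtain ⟨u, hu⟩ : ∃ u : GL ι F, u = g' * E⁻¹ := ⟨_, rfl⟩
    have hESL : E ∈ specialLinear ι F := by
      rw [hEdef]
      exact gT_mem_specialLinear _ _ hEdot
    have huSL : u ∈ specialLinear ι F := by
      rw [hu]
      exact Subgroup.mul_mem _ (hSL hg'M) (Subgroup.inv_mem _ hESL)
    have hux : ∀ x i, i ≠ c₀ → ((u : Matrix ι ι F) *ᵥ x) i = x i := by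
      intro x i hi
      rw [hu, Units.val_mul, ← Matrix.mulVec_mulVec, hR _ i hi, gl_mulVec_inv_mulVec]
    obtain ⟨χ, hχ⟩ : ∃ χ : ι → F, χ = (u : Matrix ι ι F) c₀ - Pi.single c₀ 1 := ⟨_, rfl⟩
    have huc : ∀ x, ((u : Matrix ι ι F) *ᵥ x) c₀ = x c₀ + χ ⬝ᵥ x := by
      intro x
      rw [hχ, sub_dotProduct, single_one_dotProduct]
      show (u : Matrix ι ι F) c₀ ⬝ᵥ x = _
      ring
    have hτ0 : 1 + χ ⬝ᵥ (Pi.single c₀ 1) ≠ 0 := by
      intro h0'
      have e : (u : Matrix ι ι F) *ᵥ (Pi.single c₀ 1) = 0 := by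
        funext i
        by_cases hi : i = c₀
        · subst hi
          rw [huc]
          simpa using h0'
        · rw [hux _ i hi]
          simp [hi]
      exact single_one_ne_zero c₀ ((gl_mulVec_eq_zero_iff u _).mp e)
    have hueq : u = gT (Pi.single c₀ 1) χ := by
      apply gl_ext_mulVec
      intro x
      rw [gT_mulVec _ _ hτ0]
      funext i
      by_cases hi : i = c₀
      · subst hi
        rw [huc]
        simp
      · rw [hux _ i hi]
        simp [hi]
    have hχc : χ c₀ = 0 := by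
      have hdet := (mem_specialLinear_iff u).mp huSL
      rw [hueq, gT_det _ _ hτ0, dotProduct_single_one] at hdet
      linear_combination hdet
    have hg'eq : g' = u * E := by
      rw [hu]
      group
    by_cases hχ0 : χ = 0
    · have hu1 : u = 1 := by rw [hueq, hχ0, gT_zero_right]
      rw [hg'eq, hu1, one_mul, hEdef, gT_smul_comm] at hg'M
      refine key r (l • Pi.single b 1) (by simp [hrb]) ?_ hg'M
      intro h0'
      have := congrFun h0' b
      simp at this
      exact hl this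
    · obtain ⟨j, hj⟩ := Function.ne_iff.mp hχ0
      have hj' : χ j ≠ 0 := hj
      have hjc : j ≠ c₀ := by
        rintro rfl
        exact hj' hχc
      obtain ⟨x₀, hx₀⟩ := exists_not_mem_of_card ({c₀, r, b, j} : Finset ι)
        (lt_of_le_of_lt Finset.card_le_four (by omega))
      simp only [Finset.mem_insert, Finset.mem_singleton, not_or] at hx₀
      obtain ⟨hx₀c, hx₀r, hx₀b, hx₀j⟩ := hx₀
      have hdM := hdg c₀ x₀ η₀
      have hδ : ∀ k : ι, (if k = c₀ then η₀ else if k = x₀ then η₀⁻¹ else 1) ≠ 0 := by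
        intro k
        split_ifs <;> simp [h0]
      have hdx := dg2_mulVec c₀ x₀ (Ne.symm hx₀c) η₀ h0
      have hcomm : dg2 c₀ x₀ η₀ * g' * (dg2 c₀ x₀ η₀)⁻¹ * g'⁻¹ ∈ M :=
        M.mul_mem (M.mul_mem (M.mul_mem hdM hg'M) (M.inv_mem hdM)) (M.inv_mem hg'M)
      have e1 : dg2 c₀ x₀ η₀ * g' * (dg2 c₀ x₀ η₀)⁻¹ * g'⁻¹ =
          (dg2 c₀ x₀ η₀ * u * (dg2 c₀ x₀ η₀)⁻¹) * ((dg2 c₀ x₀ η₀ * E * (dg2 c₀ x₀ η₀)⁻¹) * E⁻¹) *
            u⁻¹ := by
        rw [hg'eq]
        group
      have e2 : dg2 c₀ x₀ η₀ * E * (dg2 c₀ x₀ η₀)⁻¹ = E := by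
        rw [hEdef, gT_conj_diag _ _ hδ hdx]
        congr 1
        · funext k
          by_cases hk : k = r
          · subst hk
            simp [hrc, Ne.symm hx₀r]
          · simp [hk]
        · funext k
          by_cases hk : k = b
          · subst hk
            simp [hbc, Ne.symm hx₀b]
          · simp [hk]
      have e3 : (fun k => (if k = c₀ then η₀ else if k = x₀ then η₀⁻¹ else 1) *
          (Pi.single c₀ 1 : ι → F) k) = η₀ • Pi.single c₀ 1 := by
        funext k
        by_cases hk : k = c₀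
        · subst hk
          simp
        · simp [hk]
      have d1 : (η₀ • fun k => χ k / (if k = c₀ then η₀ else if k = x₀ then η₀⁻¹ else 1)) ⬝ᵥ
          (Pi.single c₀ 1) = 0 := by
        simp [hχc]
      have d2 : (-χ) ⬝ᵥ (Pi.single c₀ 1) = 0 := by simp [hχc]
      rw [e1, e2, mul_inv_cancel, mul_one, hueq, gT_conj_diag _ _ hδ hdx,
        gT_inv_of_dot _ _ (by rw [dotProduct_single_one]; exact hχc), e3, gT_smul_comm,
        gT_mul_phi _ _ _ d1 d2] at hcomm
      refine key c₀ _ ?_ ?_ hcomm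
      · simp [hχc]
      · intro h0'
        have := congrFun h0' j
        simp only [Pi.add_apply, Pi.smul_apply, Pi.neg_apply, if_neg hjc, if_neg (Ne.symm hx₀j),
          div_one, smul_eq_mul, Pi.zero_apply] at this
        have h2 : (η₀ - 1) * χ j = 0 := by linear_combination this
        rcases mul_eq_zero.mp h2 with h3 | h3
        · exact h1 (by linear_combination h3)
        · exact hj' h3

/-- A subgroup of the special linear group containing the monomial matrices of determinant one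
and a non-monomial element one of whose columns is proportional to a coordinate vector is the
special linear group. -/
theorem specialLinear_le_of_frame [Fintype F] (M : Subgroup (GL ι F))
    (hSL : M ≤ specialLinear ι F) (hN : ∀ g ∈ specialLinear ι F, IsMonoG g → g ∈ M)
    (hq : 5 ≤ Fintype.card F) (hcard : 5 ≤ Fintype.card ι) (z : GL ι F) (hz : z ∈ M)
    (hzm : ¬ IsMonoG z) (c c' : ι) (γ : F)
    (hγ : (z : Matrix ι ι F) *ᵥ Pi.single c 1 = γ • Pi.single c' 1) :
    specialLinear ι F ≤ M := by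
  by_cases hcc : c = c'
  · subst hcc
    exact specialLinear_le_of_frame_aux M hSL hN hq hcard z hz hzm c γ hγ
  · have hs : (sswap c c' : GL ι F) ∈ M := hN _ (sswap_mem c c') (isMonoG_sswap c c' hcc)
    refine specialLinear_le_of_frame_aux M hSL hN hq hcard (sswap c c' * z) (M.mul_mem hs hz) ?_
      c γ ?_
    · intro hm
      apply hzm
      have e : z = (sswap c c')⁻¹ * (sswap c c' * z) := by group
      rw [e]
      exact (isMonoG_sswap c c' hcc).inv.mul hm
    · rw [Units.val_mul, ← Matrix.mulVec_mulVec, hγ, Matrix.mulVec_smul]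
      congr 1
      funext k
      rw [sswap_mulVec c c' hcc]
      by_cases hk : k = c
      · subst hk
        simp
      · by_cases hk' : k = c'
        · subst hk'
          simp [hk, Ne.symm hk]
        · simp [hk, hk']

end

end Cfsg.Agent.Lib.helper95
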