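import Mathlib
import Cfsg.Agent.Lib.helper95.MonoQ

/-!
Overgroups `M` of the monomial group in the special linear group: if every element of `M` with a
column proportional to a coordinate vector is monomial, then `M` consists of monomial matrices
(at least five elements in the field, at least thirteen coordinates).
-/

set_option autoImplicit false

namespace Cfsg.Agent.Lib.helper95

open Matrix Cfsg Cfsg.Geo

section
variable {ι : Type} [Fintype ι] [DecidableEq ι] {F : Type*} [Field F]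

/-- Every element of `M` with a column proportional to a coordinate vector is monomial. -/
def FrameMono (M : Subgroup (GL ι F)) : Prop :=
  ∀ z ∈ M, ∀ (c c' : ι) (γ : F),
    (z : Matrix ι ι F) *ᵥ Pi.single c 1 = γ • Pi.single c' 1 → IsMonoG z

theorem gl_inv_col (x : GL ι F) (i : ι) :
    ((x⁻¹ : GL ι F) : Matrix ι ι F) *ᵥ ((x : Matrix ι ι F) *ᵥ Pi.single i 1) = Pi.single i 1 :=
  gl_inv_mulVec_mulVec x _

theorem stepA1 [Fintype F] (M : Subgroup (GL ι F))
    (hN : ∀ g ∈ specialLinear ι F, IsMonoG g → g ∈ M) (hstar : FrameMono M)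
    (hq : 5 ≤ Fintype.card F) (x : GL ι F) (hx : x ∈ M) (c j j' i k : ι) (hjj' : j ≠ j')
    (hkj : k ≠ j) (hkj' : k ≠ j') (h1 : (x : Matrix ι ι F) j c = 0)
    (h2 : (x : Matrix ι ι F) j' c = 0) (h3 : (x : Matrix ι ι F) j i ≠ 0)
    (h4 : (x : Matrix ι ι F) k i ≠ 0) : False := by
  classical
  obtain ⟨y, hy⟩ : ∃ y : ι → F, y = (x : Matrix ι ι F) *ᵥ Pi.single i 1 := ⟨_, rfl⟩
  have hyj : y j ≠ 0 := by rw [hy]; simpa using h3
  have hyk : y k ≠ 0 := by rw [hy]; simpa using h4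
  have hxy : ((x⁻¹ : GL ι F) : Matrix ι ι F) *ᵥ y = Pi.single i 1 := by rw [hy, gl_inv_col]
  have hm : ∀ μ : F, μ ≠ 0 → ∃ (i' : ι) (l : F), ((x⁻¹ : GL ι F) : Matrix ι ι F) *ᵥ
      (fun m => (if m = j then μ else if m = j' then μ⁻¹ else 1) * y m) = l • Pi.single i' 1 := by
    intro μ hμ
    have hzM : x⁻¹ * dg2 j j' μ * x ∈ M :=
      M.mul_mem (M.mul_mem (M.inv_mem hx) (hN _ (dg2_mem j j' μ) (isMonoG_dg2 j j' μ))) hx
    have hfix : ((x⁻¹ * dg2 j j' μ * x : GL ι F) : Matrix ι ι F) *ᵥ Pi.single c 1 =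
        (1 : F) • Pi.single c 1 := by
      rw [Units.val_mul, Units.val_mul, ← Matrix.mulVec_mulVec, ← Matrix.mulVec_mulVec]
      have e : ((dg2 j j' μ : GL ι F) : Matrix ι ι F) *ᵥ ((x : Matrix ι ι F) *ᵥ Pi.single c 1) =
          (x : Matrix ι ι F) *ᵥ Pi.single c 1 := by
        funext m
        rw [dg2_mulVec j j' hjj' μ hμ]
        by_cases hmj : m = j
        · subst hmj
          simp [h1]
        · by_cases hmj' : m = j'
          · subst hmj'
            simp [h2]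
          · simp [hmj, hmj']
      rw [e, gl_inv_col, one_smul]
    obtain ⟨i', l, hl⟩ := hstar _ hzM c c 1 hfix i
    refine ⟨i', l, ?_⟩
    rw [← hl, Units.val_mul, Units.val_mul, ← Matrix.mulVec_mulVec, ← Matrix.mulVec_mulVec, ← hy]
    congr 1
    funext m
    rw [dg2_mulVec j j' hjj' μ hμ]
  obtain ⟨μ₁, hμ₁⟩ := exists_not_mem_of_card ({0, 1} : Finset F)
    (lt_of_le_of_lt Finset.card_le_two (by omega))
  obtain ⟨μ₂, hμ₂⟩ := exists_not_mem_of_card ({0, 1, μ₁} : Finset F)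
    (lt_of_le_of_lt Finset.card_le_three (by omega))
  obtain ⟨μ₃, hμ₃⟩ := exists_not_mem_of_card ({0, 1, μ₁, μ₂} : Finset F)
    (lt_of_le_of_lt Finset.card_le_four (by omega))
  simp only [Finset.mem_insert, Finset.mem_singleton, not_or] at hμ₁ hμ₂ hμ₃
  obtain ⟨i₁, l₁, e₁⟩ := hm μ₁ hμ₁.1
  obtain ⟨i₂, l₂, e₂⟩ := hm μ₂ hμ₂.1
  obtain ⟨i₃, l₃, e₃⟩ := hm μ₃ hμ₃.1
  -- injectivity of `x⁻¹`
  have hinj : ∀ w w' : ι → F, ((x⁻¹ : GL ι F) : Matrix ι ι F) *ᵥ w =
      ((x⁻¹ : GL ι F) : Matrix ι ι F) *ᵥ w' → w = w' := fun w w' h => gl_mulVec_injective x⁻¹ h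
  have hl₁ : l₁ ≠ 0 := by
    intro h0
    rw [h0, zero_smul] at e₁
    have := (gl_mulVec_eq_zero_iff x⁻¹ _).mp e₁
    have h5 := congrFun this k
    simp only [if_neg hkj, if_neg hkj', one_mul, Pi.zero_apply] at h5
    exact hyk h5
  -- different parameters give different columns
  have hdiff : ∀ (μ μ' : F) (i' : ι) (l l' : F), μ ≠ 0 → l ≠ 0 →
      ((x⁻¹ : GL ι F) : Matrix ι ι F) *ᵥ
        (fun m => (if m = j then μ else if m = j' then μ⁻¹ else 1) * y m) = l • Pi.single i' 1 →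
      ((x⁻¹ : GL ι F) : Matrix ι ι F) *ᵥ
        (fun m => (if m = j then μ' else if m = j' then μ'⁻¹ else 1) * y m) = l' • Pi.single i' 1 →
      μ = μ' := by
    intro μ μ' i' l l' hμ hl e e'
    have h5 : l' • (fun m => (if m = j then μ else if m = j' then μ⁻¹ else 1) * y m) =
        l • (fun m => (if m = j then μ' else if m = j' then μ'⁻¹ else 1) * y m) := by
      apply hinj
      rw [Matrix.mulVec_smul, Matrix.mulVec_smul, e, e', smul_smul, smul_smul, mul_comm]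
    have h6 := congrFun h5 k
    simp only [Pi.smul_apply, if_neg hkj, if_neg hkj', one_mul, smul_eq_mul] at h6
    have hll : l' = l := mul_right_cancel₀ hyk h6
    have h7 := congrFun h5 j
    simp only [Pi.smul_apply, if_true, smul_eq_mul] at h7
    rw [hll] at h7
    have h8 : l * y j * (μ - μ') = 0 := by linear_combination h7
    rcases mul_eq_zero.mp h8 with h9 | h9
    · exact absurd h9 (mul_ne_zero hl hyj)
    · exact sub_eq_zero.mp h9
  have hi₁ : i₁ ≠ i := by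
    rintro rfl
    have e0 : ((x⁻¹ : GL ι F) : Matrix ι ι F) *ᵥ
        (fun m => (if m = j then (1 : F) else if m = j' then (1 : F)⁻¹ else 1) * y m) =
        (1 : F) • Pi.single i₁ 1 := by
      rw [one_smul, ← hxy]
      congr 1
      funext m
      split_ifs <;> simp
    exact hμ₁.2 (hdiff μ₁ 1 i₁ l₁ 1 hμ₁.1 hl₁ e₁ e0)
  have hi₂ : i₂ ≠ i₁ := by
    rintro rfl
    exact hμ₂.2.2 ((hdiff μ₁ μ₂ i₂ l₁ l₂ hμ₁.1 hl₁ e₁ e₂).symm)
  have hi₃ : i₃ ≠ i₁ := by
    rintro rfl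
    exact hμ₃.2.2.1 ((hdiff μ₁ μ₃ i₃ l₁ l₃ hμ₁.1 hl₁ e₁ e₃).symm)
  -- the equations at the coordinate `i₁`
  obtain ⟨A, hA⟩ : ∃ A : F, A = y j * (((x⁻¹ : GL ι F) : Matrix ι ι F) *ᵥ Pi.single j 1) i₁ :=
    ⟨_, rfl⟩
  obtain ⟨B, hB⟩ : ∃ B : F, B = y j' * (((x⁻¹ : GL ι F) : Matrix ι ι F) *ᵥ Pi.single j' 1) i₁ :=
    ⟨_, rfl⟩
  have hexp : ∀ (μ : F) (i' : ι) (l : F), ((x⁻¹ : GL ι F) : Matrix ι ι F) *ᵥ
        (fun m => (if m = j then μ else if m = j' then μ⁻¹ else 1) * y m) = l • Pi.single i' 1 →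
      (μ - 1) * A + (μ⁻¹ - 1) * B = l * (Pi.single i' 1 : ι → F) i₁ := by
    intro μ i' l e
    have e' : (fun m => (if m = j then μ else if m = j' then μ⁻¹ else 1) * y m) =
        y + ((μ - 1) * y j) • Pi.single j 1 + ((μ⁻¹ - 1) * y j') • Pi.single j' 1 := by
      funext m
      by_cases hmj : m = j
      · subst hmj
        simp [hjj']
        ring
      · by_cases hmj' : m = j'
        · subst hmj'
          simp [hmj]
          ring
        · simp [hmj, hmj']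
    rw [e', Matrix.mulVec_add, Matrix.mulVec_add, Matrix.mulVec_smul, Matrix.mulVec_smul, hxy] at e
    have h5 := congrFun e i₁
    simp only [Pi.add_apply, Pi.smul_apply, smul_eq_mul, Pi.single_apply, if_neg hi₁] at h5
    rw [hA, hB]
    simp only [Pi.single_apply]
    linear_combination h5
  have E1 := hexp μ₁ i₁ l₁ e₁
  have E2 := hexp μ₂ i₂ l₂ e₂
  have E3 := hexp μ₃ i₃ l₃ e₃
  simp only [Pi.single_eq_same, mul_one] at E1
  rw [Pi.single_apply, if_neg (Ne.symm hi₂), mul_zero] at E2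
  rw [Pi.single_apply, if_neg (Ne.symm hi₃), mul_zero] at E3
  have hi2 := mul_inv_cancel₀ hμ₂.1
  have hi3 := mul_inv_cancel₀ hμ₃.1
  have F2 : (μ₂ - 1) * (μ₂ * A - B) = 0 := by linear_combination μ₂ * E2 - B * hi2
  have F3 : (μ₃ - 1) * (μ₃ * A - B) = 0 := by linear_combination μ₃ * E3 - B * hi3
  have G2 := (mul_eq_zero.mp F2).resolve_left (sub_ne_zero.mpr hμ₂.2.1)
  have G3 := (mul_eq_zero.mp F3).resolve_left (sub_ne_zero.mpr hμ₃.2.1)
  have hA0 : (μ₂ - μ₃) * A = 0 := by linear_combination G2 - G3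
  have hA0' : A = 0 := by
    rcases mul_eq_zero.mp hA0 with h | h
    · exact absurd (sub_eq_zero.mp h) (Ne.symm hμ₃.2.2.2)
    · exact h
  have hB0 : B = 0 := by
    rw [hA0'] at G2
    linear_combination -G2
  rw [hA0', hB0] at E1
  apply hl₁
  linear_combination -E1

theorem exists_row_ne_zero (x : GL ι F) (j : ι) : ∃ i, (x : Matrix ι ι F) j i ≠ 0 := by
  by_contra hc
  push Not at hc
  have h1 : ((x : Matrix ι ι F) *ᵥ (((x⁻¹ : GL ι F) : Matrix ι ι F) *ᵥ Pi.single j 1)) j = 0 := by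
    show (x : Matrix ι ι F) j ⬝ᵥ _ = 0
    have : (x : Matrix ι ι F) j = 0 := funext hc
    rw [this, zero_dotProduct]
  rw [gl_mulVec_inv_mulVec] at h1
  simp at h1

theorem stepA2 [Fintype F] (M : Subgroup (GL ι F))
    (hN : ∀ g ∈ specialLinear ι F, IsMonoG g → g ∈ M) (hstar : FrameMono M)
    (hq : 5 ≤ Fintype.card F) (x : GL ι F) (hx : x ∈ M) (c j j' j'' : ι) (h12 : j ≠ j')
    (h13 : j ≠ j'') (h23 : j' ≠ j'') (h1 : (x : Matrix ι ι F) j c = 0)
    (h2 : (x : Matrix ι ι F) j' c = 0) (h3 : (x : Matrix ι ι F) j'' c = 0) : IsMonoG x := by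
  obtain ⟨i, hi⟩ := exists_row_ne_zero x j
  apply hstar x hx i j ((x : Matrix ι ι F) j i)
  funext k
  by_cases hk : k = j
  · subst hk
    simp
  · have : (x : Matrix ι ι F) k i = 0 := by
      by_contra hne
      by_cases hk' : k = j'
      · have hkj'' : k ≠ j'' := by rw [hk']; exact h23
        exact stepA1 M hN hstar hq x hx c j j'' i k h13 hk hkj'' h1 h3 hi hne
      · exact stepA1 M hN hstar hq x hx c j j' i k h12 hk hk' h1 h2 hi hne
    simp [hk, this]

/-- Under `FrameMono`, an element of `M` with two zeros in a column is monomial. -/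
theorem stepA3 [Fintype F] (M : Subgroup (GL ι F))
    (hN : ∀ g ∈ specialLinear ι F, IsMonoG g → g ∈ M) (hstar : FrameMono M)
    (hq : 5 ≤ Fintype.card F) (hcard : 5 ≤ Fintype.card ι) (x : GL ι F) (hx : x ∈ M)
    (c j j' : ι) (hjj' : j ≠ j') (h1 : (x : Matrix ι ι F) j c = 0)
    (h2 : (x : Matrix ι ι F) j' c = 0) : IsMonoG x := by
  classical
  obtain ⟨i, hi⟩ := exists_row_ne_zero x j
  have hz : ∀ k, k ≠ j → k ≠ j' → (x : Matrix ι ι F) k i = 0 := by
    intro k hk hk'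
    by_contra hne
    exact stepA1 M hN hstar hq x hx c j j' i k hjj' hk hk' h1 h2 hi hne
  obtain ⟨k₁, hk₁⟩ := exists_not_mem_of_card ({j, j'} : Finset ι)
    (lt_of_le_of_lt Finset.card_le_two (by omega))
  obtain ⟨k₂, hk₂⟩ := exists_not_mem_of_card ({j, j', k₁} : Finset ι)
    (lt_of_le_of_lt Finset.card_le_three (by omega))
  obtain ⟨k₃, hk₃⟩ := exists_not_mem_of_card ({j, j', k₁, k₂} : Finset ι)
    (lt_of_le_of_lt Finset.card_le_four (by omega))
  simp only [Finset.mem_insert, Finset.mem_singleton, not_or] at hk₁ hk₂ hk₃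
  exact stepA2 M hN hstar hq x hx i k₁ k₂ k₃ (Ne.symm hk₂.2.2) (Ne.symm hk₃.2.2.1)
    (Ne.symm hk₃.2.2.2) (hz k₁ hk₁.1 hk₁.2) (hz k₂ hk₂.1 hk₂.2.1) (hz k₃ hk₃.1 hk₃.2.1)

theorem IsMonoG.exists_inj {g : GL ι F} (hg : IsMonoG g) :
    ∃ (π : ι → ι) (l : ι → F), Function.Injective π ∧ (∀ j, l j ≠ 0) ∧
      ∀ j, (g : Matrix ι ι F) *ᵥ Pi.single j 1 = l j • Pi.single (π j) 1 := by
  choose π l hπ using hg
  have hl : ∀ j, l j ≠ 0 := by
    intro j h0
    have := hπ j
    rw [h0, zero_smul] at this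
    exact single_one_ne_zero j ((gl_mulVec_eq_zero_iff g _).mp this)
  refine ⟨π, l, ?_, hl, hπ⟩
  intro j j' hjj
  by_contra hne
  have h1 : (g : Matrix ι ι F) *ᵥ (l j' • Pi.single j 1 - l j • Pi.single j' 1) = 0 := by
    rw [Matrix.mulVec_sub, Matrix.mulVec_smul, Matrix.mulVec_smul, hπ, hπ, hjj, smul_smul,
      smul_smul, mul_comm, sub_self]
  have h2 := (gl_mulVec_eq_zero_iff g _).mp h1
  have h3 := congrFun h2 j
  simp [hne] at h3
  exact hl j' h3

theorem IsMonoG.row_of_fix {g : GL ι F} (hg : IsMonoG g) (r : ι)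
    (hr : (g : Matrix ι ι F) *ᵥ Pi.single r 1 = Pi.single r 1) (w : ι → F) :
    ((g : Matrix ι ι F) *ᵥ w) r = w r := by
  obtain ⟨π, l, hinj, hl, hπ⟩ := hg.exists_inj
  have hπr : π r = r := by
    by_contra hne
    have h1 := congrFun ((hπ r).symm.trans hr) (π r)
    simp [hne] at h1
    exact hl r h1
  simp only [Matrix.mulVec, dotProduct]
  rw [Finset.sum_eq_single r]
  · have h1 : (g : Matrix ι ι F) r r = 1 := by
      have := congrFun hr r
      simpa using this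
    rw [h1, one_mul]
  · intro m _ hm
    have h1 : (g : Matrix ι ι F) r m = 0 := by
      have h2 := congrFun (hπ m) r
      have hne : π m ≠ r := by
        intro h3
        exact hm (hinj (h3.trans hπr.symm))
      simpa [Ne.symm hne] using h2
    rw [h1, zero_mul]
  · intro h
    exact absurd (Finset.mem_univ r) h

theorem exists_sigma3 (M : Subgroup (GL ι F))
    (hN : ∀ g ∈ specialLinear ι F, IsMonoG g → g ∈ M) (a b c' : ι) (hab : a ≠ b) (hac : a ≠ c')
    (hbc : b ≠ c') (v : ι → F) (ha : v a ≠ 0) (hb : v b ≠ 0) (hc : v c' ≠ 0) :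
    ∃ σ ∈ M, ∀ (w : ι → F) (k : ι), ((σ : Matrix ι ι F) *ᵥ w) k =
      if k = a then v a / v c' * w c' else if k = b then v b / v a * w a
      else if k = c' then v c' / v b * w b else w k := by
  refine ⟨dg2 a c' (v a / v c') * dg2 b c' (-(v b / v a)) * sswap a b * sswap b c', ?_, ?_⟩
  · apply hN
    · exact Subgroup.mul_mem _ (Subgroup.mul_mem _ (Subgroup.mul_mem _ (dg2_mem _ _ _)
        (dg2_mem _ _ _)) (sswap_mem _ _)) (sswap_mem _ _)
    · exact (((isMonoG_dg2 _ _ _).mul (isMonoG_dg2 _ _ _)).mul (isMonoG_sswap a b hab)).mul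
        (isMonoG_sswap b c' hbc)
  · intro w k
    simp only [Units.val_mul, ← Matrix.mulVec_mulVec]
    rw [dg2_mulVec a c' hac _ (div_ne_zero ha hc),
      dg2_mulVec b c' hbc _ (neg_ne_zero.mpr (div_ne_zero hb ha)), sswap_mulVec a b hab]
    simp only [sswap_mulVec b c' hbc]
    by_cases hka : k = a
    · subst hka
      simp [hab, hac]
    · by_cases hkb : k = b
      · subst hkb
        simp [hka, hbc, hab, hac]
      · by_cases hkc : k = c'
        · subst hkc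
          simp [hka, hkb]
          field_simp
        · simp [hka, hkb, hkc]

omit [Fintype ι] [DecidableEq ι] in
theorem exists_rel3 (α₁ α₂ α₃ β₁ β₂ β₃ : F) : ∃ c₁ c₂ c₃ : F, (c₁ ≠ 0 ∨ c₂ ≠ 0 ∨ c₃ ≠ 0) ∧
    c₁ * α₁ + c₂ * α₂ + c₃ * α₃ = 0 ∧ c₁ * β₁ + c₂ * β₂ + c₃ * β₃ = 0 := by
  by_cases h : α₂ * β₃ - α₃ * β₂ ≠ 0 ∨ α₃ * β₁ - α₁ * β₃ ≠ 0 ∨ α₁ * β₂ - α₂ * β₁ ≠ 0
  · exact ⟨α₂ * β₃ - α₃ * β₂, α₃ * β₁ - α₁ * β₃, α₁ * β₂ - α₂ * β₁, h, by ring, by ring⟩
  · push Not at h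
    obtain ⟨h1, h2, h3⟩ := h
    by_cases hα1 : α₁ ≠ 0
    · exact ⟨-α₂, α₁, 0, Or.inr (Or.inl hα1), by ring, by linear_combination h3⟩
    by_cases hα2 : α₂ ≠ 0
    · exact ⟨0, -α₃, α₂, Or.inr (Or.inr hα2), by ring, by linear_combination h1⟩
    by_cases hα3 : α₃ ≠ 0
    · exact ⟨α₃, 0, -α₁, Or.inl hα3, by ring, by linear_combination h2⟩
    push Not at hα1 hα2 hα3
    by_cases hβ1 : β₁ ≠ 0
    · exact ⟨-β₂, β₁, 0, Or.inr (Or.inl hβ1), by rw [hα1, hα2, hα3]; ring, by ring⟩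
    by_cases hβ2 : β₂ ≠ 0
    · exact ⟨0, -β₃, β₂, Or.inr (Or.inr hβ2), by rw [hα1, hα2, hα3]; ring, by ring⟩
    push Not at hβ1 hβ2
    exact ⟨1, 0, 0, Or.inl one_ne_zero, by rw [hα1]; ring, by rw [hβ1]; ring⟩

theorem claim1 [Fintype F] (M : Subgroup (GL ι F))
    (hN : ∀ g ∈ specialLinear ι F, IsMonoG g → g ∈ M) (hstar : FrameMono M)
    (hq : 5 ≤ Fintype.card F) (hcard : 5 ≤ Fintype.card ι) (x : GL ι F) (hx : x ∈ M)
    (hxm : ¬ IsMonoG x) (c a b c' : ι) (hab : a ≠ b) (hac : a ≠ c') (hbc : b ≠ c')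
    (ha : (x : Matrix ι ι F) a c ≠ 0) (hb : (x : Matrix ι ι F) b c ≠ 0)
    (hc' : (x : Matrix ι ι F) c' c ≠ 0) :
    ∃ I : Finset ι, I.card ≤ 6 ∧ c ∉ I ∧ ∀ r, r ∉ I →
      (((x⁻¹ : GL ι F) : Matrix ι ι F) *ᵥ
        ((x : Matrix ι ι F) b c • Pi.single b 1 - (x : Matrix ι ι F) a c • Pi.single a 1)) r =
        0 := by
  classical
  obtain ⟨v, hv⟩ : ∃ v : ι → F, v = (x : Matrix ι ι F) *ᵥ Pi.single c 1 := ⟨_, rfl⟩
  have hva : v a = (x : Matrix ι ι F) a c := by rw [hv]; simp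
  have hvb : v b = (x : Matrix ι ι F) b c := by rw [hv]; simp
  have hvc : v c' = (x : Matrix ι ι F) c' c := by rw [hv]; simp
  rw [← hva, ← hvb]
  rw [← hva] at ha
  rw [← hvb] at hb
  rw [← hvc] at hc'
  obtain ⟨σ, hσM, hσ⟩ := exists_sigma3 M hN a b c' hab hac hbc v ha hb hc'
  have hσv : (σ : Matrix ι ι F) *ᵥ v = v := by
    funext k
    rw [hσ]
    by_cases hka : k = a
    · subst hka
      simp
      field_simp
    · by_cases hkb : k = b
      · subst hkb
        simp [hka]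
        field_simp
      · by_cases hkc : k = c'
        · subst hkc
          simp [hka, hkb]
          field_simp
        · simp [hka, hkb, hkc]
  have hσa : (σ : Matrix ι ι F) *ᵥ (v a • Pi.single a 1) = v b • Pi.single b 1 := by
    funext k
    rw [hσ]
    by_cases hka : k = a
    · subst hka
      simp [hab, hac]
    · by_cases hkb : k = b
      · subst hkb
        simp [hka]
        field_simp
      · by_cases hkc : k = c'
        · subst hkc
          simp [hka, hkb, hab]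
        · simp [hka, hkb, hkc]
  obtain ⟨z, hz⟩ : ∃ z : GL ι F, z = x⁻¹ * σ * x := ⟨_, rfl⟩
  have hzM : z ∈ M := by
    rw [hz]
    exact M.mul_mem (M.mul_mem (M.inv_mem hx) hσM) hx
  have hzx : ∀ w, (z : Matrix ι ι F) *ᵥ w = ((x⁻¹ : GL ι F) : Matrix ι ι F) *ᵥ
      ((σ : Matrix ι ι F) *ᵥ ((x : Matrix ι ι F) *ᵥ w)) := by
    intro w
    rw [hz, Units.val_mul, Units.val_mul, ← Matrix.mulVec_mulVec, ← Matrix.mulVec_mulVec]
  have hzc : (z : Matrix ι ι F) *ᵥ Pi.single c 1 = Pi.single c 1 := by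
    rw [hzx, ← hv, hσv, hv, gl_inv_col]
  have hzm : IsMonoG z := hstar z hzM c c 1 (by rw [hzc, one_smul])
  obtain ⟨π, l, hinj, hl, hπ⟩ := hzm.exists_inj
  obtain ⟨I, hI⟩ : ∃ I : Finset ι, I = Finset.univ.filter
      (fun m => (z : Matrix ι ι F) *ᵥ Pi.single m 1 ≠ Pi.single m 1) := ⟨_, rfl⟩
  have hImem : ∀ m, m ∈ I ↔ (z : Matrix ι ι F) *ᵥ Pi.single m 1 ≠ Pi.single m 1 := by
    intro m
    rw [hI]
    simp
  refine ⟨I, ?_, ?_, ?_⟩
  rotate_left
  · rw [hImem]
    exact fun h => h hzc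
  · intro r hr
    have hr' : (z : Matrix ι ι F) *ᵥ Pi.single r 1 = Pi.single r 1 := by
      by_contra h
      exact hr ((hImem r).mpr h)
    have e : ((x⁻¹ : GL ι F) : Matrix ι ι F) *ᵥ (v b • Pi.single b 1 - v a • Pi.single a 1) =
        (z : Matrix ι ι F) *ᵥ (((x⁻¹ : GL ι F) : Matrix ι ι F) *ᵥ (v a • Pi.single a 1)) -
          ((x⁻¹ : GL ι F) : Matrix ι ι F) *ᵥ (v a • Pi.single a 1) := by
      rw [hzx, gl_mulVec_inv_mulVec, hσa, Matrix.mulVec_sub]
    rw [e, Pi.sub_apply, hzm.row_of_fix r hr', sub_self]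
  · by_contra hcard6
    push Not at hcard6
    have hmove : ∀ m, m ∈ I → π m ≠ m := by
      intro m hm hπm
      have hzm' := hπ m
      rw [hπm] at hzm'
      have hl1 : l m ≠ 1 := by
        intro h1
        rw [h1, one_smul] at hzm'
        exact (hImem m).mp hm hzm'
      have hσx : (σ : Matrix ι ι F) *ᵥ ((x : Matrix ι ι F) *ᵥ Pi.single m 1) =
          l m • ((x : Matrix ι ι F) *ᵥ Pi.single m 1) := by
        have := congrArg (fun w => (x : Matrix ι ι F) *ᵥ w) (hzx (Pi.single m 1))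
        simp only [gl_mulVec_inv_mulVec] at this
        rw [← this, hzm', Matrix.mulVec_smul]
      have hzero : ∀ k, k ≠ a → k ≠ b → k ≠ c' → (x : Matrix ι ι F) k m = 0 := by
        intro k hka hkb hkc
        have h5 := congrFun hσx k
        rw [hσ] at h5
        simp only [if_neg hka, if_neg hkb, if_neg hkc, Pi.smul_apply, smul_eq_mul,
          Matrix.mulVec_single_one, Matrix.col_apply] at h5
        have h6 : (1 - l m) * (x : Matrix ι ι F) k m = 0 := by linear_combination h5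
        rcases mul_eq_zero.mp h6 with h7 | h7
        · exact absurd (by linear_combination -h7 : l m = 1) hl1
        · exact h7
      obtain ⟨k₁, hk₁⟩ := exists_not_mem_of_card ({a, b, c'} : Finset ι)
        (lt_of_le_of_lt Finset.card_le_three (by omega))
      obtain ⟨k₂, hk₂⟩ := exists_not_mem_of_card ({a, b, c', k₁} : Finset ι)
        (lt_of_le_of_lt Finset.card_le_four (by omega))
      simp only [Finset.mem_insert, Finset.mem_singleton, not_or] at hk₁ hk₂
      exact hxm (stepA3 M hN hstar hq hcard x hx m k₁ k₂ (Ne.symm hk₂.2.2.2)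
        (hzero k₁ hk₁.1 hk₁.2.1 hk₁.2.2) (hzero k₂ hk₂.1 hk₂.2.1 hk₂.2.2.1))
    have hpre : ∀ m, (Finset.univ.filter (fun m' => π m' = m)).card ≤ 1 := by
      intro m
      rw [Finset.card_le_one]
      intro p hp p' hp'
      simp only [Finset.mem_filter, Finset.mem_univ, true_and] at hp hp'
      exact hinj (hp.trans hp'.symm)
    have hIne : I.Nonempty := by
      rw [← Finset.card_pos]
      omega
    obtain ⟨m₁, hm₁⟩ := hIne
    obtain ⟨m₂, hm₂, hm₂'⟩ := Finset.exists_mem_notMem_of_card_lt_card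
      (s := ({m₁, π m₁} : Finset ι) ∪ Finset.univ.filter (fun m' => π m' = m₁)) (t := I) (by
        have h1 := Finset.card_union_le ({m₁, π m₁} : Finset ι)
          (Finset.univ.filter (fun m' => π m' = m₁))
        have h2 : ({m₁, π m₁} : Finset ι).card ≤ 2 := Finset.card_le_two
        have h3 := hpre m₁
        omega)
    obtain ⟨m₃, hm₃, hm₃'⟩ := Finset.exists_mem_notMem_of_card_lt_card
      (s := ({m₁, π m₁, m₂, π m₂} : Finset ι) ∪ Finset.univ.filter (fun m' => π m' = m₁) ∪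
        Finset.univ.filter (fun m' => π m' = m₂)) (t := I) (by
        have h1 := Finset.card_union_le (({m₁, π m₁, m₂, π m₂} : Finset ι) ∪
          Finset.univ.filter (fun m' => π m' = m₁)) (Finset.univ.filter (fun m' => π m' = m₂))
        have h1' := Finset.card_union_le ({m₁, π m₁, m₂, π m₂} : Finset ι)
          (Finset.univ.filter (fun m' => π m' = m₁))
        have h2 : ({m₁, π m₁, m₂, π m₂} : Finset ι).card ≤ 4 := Finset.card_le_four
        have h3 := hpre m₁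
        have h4 := hpre m₂
        omega)
    simp only [Finset.mem_union, Finset.mem_insert, Finset.mem_singleton, Finset.mem_filter,
      Finset.mem_univ, true_and, not_or] at hm₂' hm₃'
    obtain ⟨⟨h21, h21'⟩, h21''⟩ := hm₂'
    obtain ⟨⟨⟨h31, h31', h32, h32'⟩, h31''⟩, h32''⟩ := hm₃'
    obtain ⟨u₁, hu₁⟩ : ∃ u₁ : ι → F, u₁ = ((x⁻¹ : GL ι F) : Matrix ι ι F) *ᵥ
        (v b • Pi.single b 1 - v a • Pi.single a 1) := ⟨_, rfl⟩
    obtain ⟨u₂, hu₂⟩ : ∃ u₂ : ι → F, u₂ = ((x⁻¹ : GL ι F) : Matrix ι ι F) *ᵥ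
        (v c' • Pi.single c' 1 - v b • Pi.single b 1) := ⟨_, rfl⟩
    have hσsub : ∀ w : ι → F, (σ : Matrix ι ι F) *ᵥ w - w =
        (w a / v a - w c' / v c') • (v b • Pi.single b 1 - v a • Pi.single a 1) +
        (w b / v b - w c' / v c') • (v c' • Pi.single c' 1 - v b • Pi.single b 1) := by
      intro w
      funext k
      rw [Pi.sub_apply, hσ]
      by_cases hka : k = a
      · subst hka
        simp [hab, hac]
        field_simp
        ring
      · by_cases hkb : k = b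
        · subst hkb
          simp [hka, hbc]
          field_simp
          ring
        · by_cases hkc : k = c'
          · subst hkc
            simp [hka, hkb]
            field_simp
          · simp [hka, hkb, hkc]
    have hf : ∀ m, ∃ α β : F, l m • (Pi.single (π m) 1 : ι → F) - Pi.single m 1 =
        α • u₁ + β • u₂ := by
      intro m
      obtain ⟨w, hw⟩ : ∃ w : ι → F, w = (x : Matrix ι ι F) *ᵥ Pi.single m 1 := ⟨_, rfl⟩
      refine ⟨w a / v a - w c' / v c', w b / v b - w c' / v c', ?_⟩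
      have e1 : l m • (Pi.single (π m) 1 : ι → F) - Pi.single m 1 =
          ((x⁻¹ : GL ι F) : Matrix ι ι F) *ᵥ ((σ : Matrix ι ι F) *ᵥ w - w) := by
        rw [Matrix.mulVec_sub, hw, ← hzx, hπ m, gl_inv_col]
      rw [e1, hσsub w, Matrix.mulVec_add, Matrix.mulVec_smul, Matrix.mulVec_smul, hu₁, hu₂]
    obtain ⟨α₁, β₁, hf₁⟩ := hf m₁
    obtain ⟨α₂, β₂, hf₂⟩ := hf m₂
    obtain ⟨α₃, β₃, hf₃⟩ := hf m₃
    obtain ⟨c₁, c₂, c₃, hne, hα, hβ⟩ := exists_rel3 α₁ α₂ α₃ β₁ β₂ β₃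
    have hsum : c₁ • (l m₁ • (Pi.single (π m₁) 1 : ι → F) - Pi.single m₁ 1) +
        c₂ • (l m₂ • (Pi.single (π m₂) 1 : ι → F) - Pi.single m₂ 1) +
        c₃ • (l m₃ • (Pi.single (π m₃) 1 : ι → F) - Pi.single m₃ 1) = 0 := by
      rw [hf₁, hf₂, hf₃]
      linear_combination (norm := module) hα • u₁ + hβ • u₂
    have hπ1 := hmove m₁ hm₁
    have hπ2 := hmove m₂ hm₂
    have hπ3 := hmove m₃ hm₃
    have hc₁ : c₁ = 0 := by
      have h := congrFun hsum m₁
      simp only [Pi.add_apply, Pi.smul_apply, Pi.sub_apply, Pi.single_apply, smul_eq_mul,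
        Pi.zero_apply, if_neg (Ne.symm hπ1), if_neg (Ne.symm h21''), if_neg (Ne.symm h21),
        if_neg (Ne.symm h31''), if_neg (Ne.symm h31), ↓reduceIte] at h
      linear_combination -h
    have hc₂ : c₂ = 0 := by
      have h := congrFun hsum m₂
      simp only [Pi.add_apply, Pi.smul_apply, Pi.sub_apply, Pi.single_apply, smul_eq_mul,
        Pi.zero_apply, if_neg h21', if_neg h21, if_neg (Ne.symm hπ2),
        if_neg (Ne.symm h32''), if_neg (Ne.symm h32), ↓reduceIte] at h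
      linear_combination -h
    have hc₃ : c₃ = 0 := by
      have h := congrFun hsum m₃
      simp only [Pi.add_apply, Pi.smul_apply, Pi.sub_apply, Pi.single_apply, smul_eq_mul,
        Pi.zero_apply, if_neg h31', if_neg h31, if_neg h32', if_neg h32,
        if_neg (Ne.symm hπ3), ↓reduceIte] at h
      linear_combination -h
    rcases hne with h | h | h
    · exact h hc₁
    · exact h hc₂
    · exact h hc₃

theorem lemmaK [Fintype F] (M : Subgroup (GL ι F))
    (hN : ∀ g ∈ specialLinear ι F, IsMonoG g → g ∈ M) (hstar : FrameMono M)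
    (hq : 5 ≤ Fintype.card F) (hcard : 13 ≤ Fintype.card ι) (x : GL ι F) (hx : x ∈ M)
    (hxm : ¬ IsMonoG x) (k₀ c : ι) (h0 : (x : Matrix ι ι F) k₀ c = 0) : False := by
  classical
  have hnz : ∀ k, k ≠ k₀ → (x : Matrix ι ι F) k c ≠ 0 := by
    intro k hk h
    exact hxm (stepA3 M hN hstar hq (by omega) x hx c k k₀ hk h h0)
  obtain ⟨a, ha⟩ := exists_not_mem_of_card ({k₀} : Finset ι)
    (by rw [Finset.card_singleton]; omega)
  obtain ⟨b, hb⟩ := exists_not_mem_of_card ({k₀, a} : Finset ι)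
    (lt_of_le_of_lt Finset.card_le_two (by omega))
  obtain ⟨c', hc'⟩ := exists_not_mem_of_card ({k₀, a, b} : Finset ι)
    (lt_of_le_of_lt Finset.card_le_three (by omega))
  simp only [Finset.mem_insert, Finset.mem_singleton, not_or] at ha hb hc'
  obtain ⟨I, hI6, hcI, hω⟩ := claim1 M hN hstar hq (by omega) x hx hxm c a b c' (Ne.symm hb.2)
    (Ne.symm hc'.2.1) (Ne.symm hc'.2.2) (hnz a ha) (hnz b hb.1) (hnz c' hc'.1)
  obtain ⟨y₁, hy₁⟩ := exists_not_mem_of_card ({0, 1, 2} : Finset F)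
    (lt_of_le_of_lt Finset.card_le_three (by omega))
  simp only [Finset.mem_insert, Finset.mem_singleton, not_or] at hy₁
  obtain ⟨hy0, hy1, hy2⟩ := hy₁
  have hy2' : 2 - y₁ ≠ 0 := fun h => hy2 (by linear_combination -h)
  obtain ⟨ω, hωdef⟩ : ∃ ω : ι → F, ω = ((x⁻¹ : GL ι F) : Matrix ι ι F) *ᵥ
      ((x : Matrix ι ι F) b c • Pi.single b 1 - (x : Matrix ι ι F) a c • Pi.single a 1) :=
    ⟨_, rfl⟩
  rw [← hωdef] at hω
  obtain ⟨d, hd⟩ : ∃ d : GL ι F, d = dg2 b k₀ y₁ * dg2 a k₀ (2 - y₁) := ⟨_, rfl⟩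
  have hdM : d ∈ M := by
    rw [hd]
    exact M.mul_mem (hN _ (dg2_mem _ _ _) (isMonoG_dg2 _ _ _))
      (hN _ (dg2_mem _ _ _) (isMonoG_dg2 _ _ _))
  have hdv : (d : Matrix ι ι F) *ᵥ ((x : Matrix ι ι F) *ᵥ Pi.single c 1) =
      (x : Matrix ι ι F) *ᵥ Pi.single c 1 + (y₁ - 1) •
        ((x : Matrix ι ι F) b c • Pi.single b 1 - (x : Matrix ι ι F) a c • Pi.single a 1) := by
    funext k
    rw [hd, Units.val_mul, ← Matrix.mulVec_mulVec, dg2_mulVec b k₀ hb.1 y₁ hy0,
      dg2_mulVec a k₀ ha (2 - y₁) hy2']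
    by_cases hkb : k = b
    · subst hkb
      simp [hb.2, hb.1]
      ring
    · by_cases hka : k = a
      · subst hka
        simp [hkb, ha]
        ring
      · by_cases hkk : k = k₀
        · subst hkk
          simp [h0, hkb, hka]
        · simp [hkb, hka, hkk]
  obtain ⟨y, hy⟩ : ∃ y : GL ι F, y = x⁻¹ * d * x := ⟨_, rfl⟩
  have hyM : y ∈ M := by
    rw [hy]
    exact M.mul_mem (M.mul_mem (M.inv_mem hx) hdM) hx
  have hyc : (y : Matrix ι ι F) *ᵥ Pi.single c 1 = Pi.single c 1 + (y₁ - 1) • ω := by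
    rw [hy, Units.val_mul, Units.val_mul, ← Matrix.mulVec_mulVec, ← Matrix.mulVec_mulVec, hdv,
      Matrix.mulVec_add, Matrix.mulVec_smul, gl_inv_col, hωdef]
  have hyent : ∀ r, (y : Matrix ι ι F) r c = (Pi.single c 1 : ι → F) r + (y₁ - 1) * ω r := by
    intro r
    have := congrFun hyc r
    simpa using this
  have hω0 : ω ≠ 0 := by
    intro h
    rw [hωdef] at h
    have := (gl_mulVec_eq_zero_iff x⁻¹ _).mp h
    have h5 := congrFun this b
    simp [hb.2] at h5
    exact hnz b hb.1 h5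
  obtain ⟨r, hr⟩ := Function.ne_iff.mp hω0
  have hr' : ω r ≠ 0 := hr
  have hrI : r ∈ I := by
    by_contra h
    exact hr' (hω r h)
  have hrc : r ≠ c := by
    rintro rfl
    exact hcI hrI
  have hym : ¬ IsMonoG y := by
    apply not_isMonoG_of_two (j := c) (a := c) (b := r) (Ne.symm hrc)
    · rw [hyent, hω c hcI]
      simp
    · rw [hyent]
      simp only [Pi.single_apply, if_neg hrc, zero_add]
      exact mul_ne_zero (sub_ne_zero.mpr hy1) hr'
  obtain ⟨r₁, hr₁⟩ := exists_not_mem_of_card (insert c I)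
    (lt_of_le_of_lt (Finset.card_insert_le _ _) (by omega))
  obtain ⟨r₂, hr₂⟩ := exists_not_mem_of_card (insert r₁ (insert c I))
    (lt_of_le_of_lt (Finset.card_insert_le _ _)
      (by have := Finset.card_insert_le c I; omega))
  simp only [Finset.mem_insert, not_or] at hr₁ hr₂
  have hz : ∀ r', r' ∉ I → r' ≠ c → (y : Matrix ι ι F) r' c = 0 := by
    intro r' h1 h2
    rw [hyent, hω r' h1]
    simp [h2]
  exact hym (stepA3 M hN hstar hq (by omega) y hyM c r₁ r₂ (Ne.symm hr₂.1)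
    (hz r₁ hr₁.2 hr₁.1) (hz r₂ hr₂.2.2 hr₂.2.1))

/-- Under `FrameMono`, every element of `M` is monomial. -/
theorem mono_of_frameMono [Fintype F] (M : Subgroup (GL ι F))
    (hN : ∀ g ∈ specialLinear ι F, IsMonoG g → g ∈ M) (hstar : FrameMono M)
    (hq : 5 ≤ Fintype.card F) (hcard : 13 ≤ Fintype.card ι) (g : GL ι F) (hg : g ∈ M) :
    IsMonoG g := by
  classical
  by_contra hgm
  have hgi : ¬ IsMonoG g⁻¹ := fun h => hgm (by simpa using h.inv)
  have hnz : ∀ k c, (g : Matrix ι ι F) k c ≠ 0 := fun k c h =>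
    lemmaK M hN hstar hq hcard g hg hgm k c h
  have hnzi : ∀ k c, ((g⁻¹ : GL ι F) : Matrix ι ι F) k c ≠ 0 := fun k c h =>
    lemmaK M hN hstar hq hcard g⁻¹ (M.inv_mem hg) hgi k c h
  obtain ⟨c, -⟩ := exists_not_mem_of_card (∅ : Finset ι) (by rw [Finset.card_empty]; omega)
  obtain ⟨a, -⟩ := exists_not_mem_of_card (∅ : Finset ι) (by rw [Finset.card_empty]; omega)
  obtain ⟨b, hb⟩ := exists_not_mem_of_card ({a} : Finset ι)
    (by rw [Finset.card_singleton]; omega)
  obtain ⟨c', hc'⟩ := exists_not_mem_of_card ({a, b} : Finset ι)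
    (lt_of_le_of_lt Finset.card_le_two (by omega))
  simp only [Finset.mem_insert, Finset.mem_singleton, not_or] at hb hc'
  obtain ⟨I, hI6, hcI, hω⟩ := claim1 M hN hstar hq (by omega) g hg hgm c a b c' (Ne.symm hb)
    (Ne.symm hc'.1) (Ne.symm hc'.2) (hnz a c) (hnz b c) (hnz c' c)
  have hωr : ∀ r, (((g⁻¹ : GL ι F) : Matrix ι ι F) *ᵥ
      ((g : Matrix ι ι F) b c • Pi.single b 1 - (g : Matrix ι ι F) a c • Pi.single a 1)) r =
      (g : Matrix ι ι F) b c * ((g⁻¹ : GL ι F) : Matrix ι ι F) r b -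
        (g : Matrix ι ι F) a c * ((g⁻¹ : GL ι F) : Matrix ι ι F) r a := by
    intro r
    rw [Matrix.mulVec_sub, Matrix.mulVec_smul, Matrix.mulVec_smul]
    simp
  have hω0 : ((g⁻¹ : GL ι F) : Matrix ι ι F) *ᵥ
      ((g : Matrix ι ι F) b c • Pi.single b 1 - (g : Matrix ι ι F) a c • Pi.single a 1) ≠ 0 := by
    intro h
    have := (gl_mulVec_eq_zero_iff g⁻¹ _).mp h
    have h5 := congrFun this b
    simp [hb] at h5
    exact hnz b c h5
  obtain ⟨r, hr⟩ := Function.ne_iff.mp hω0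
  have hrI : r ∈ I := by
    by_contra h
    exact hr (hω r h)
  have hrc : r ≠ c := by
    rintro rfl
    exact hcI hrI
  rw [hωr] at hr
  obtain ⟨A, hA⟩ : ∃ A : F, A = (g : Matrix ι ι F) a c * ((g⁻¹ : GL ι F) : Matrix ι ι F) r a :=
    ⟨_, rfl⟩
  obtain ⟨B, hB⟩ : ∃ B : F, B = (g : Matrix ι ι F) b c * ((g⁻¹ : GL ι F) : Matrix ι ι F) r b :=
    ⟨_, rfl⟩
  rw [← hA, ← hB] at hr
  have hA0 : A ≠ 0 := by rw [hA]; exact mul_ne_zero (hnz a c) (hnzi r a)
  have hB0 : B ≠ 0 := by rw [hB]; exact mul_ne_zero (hnz b c) (hnzi r b)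
  have hμ0 : A / B ≠ 0 := div_ne_zero hA0 hB0
  have hμ1 : A / B ≠ 1 := by
    intro h
    rw [div_eq_one_iff_eq hB0] at h
    apply hr
    simp only [Pi.zero_apply]
    rw [h, sub_self]
  obtain ⟨y, hy⟩ : ∃ y : GL ι F, y = g⁻¹ * dg2 b a (A / B) * g := ⟨_, rfl⟩
  have hyM : y ∈ M := by
    rw [hy]
    exact M.mul_mem (M.mul_mem (M.inv_mem hg) (hN _ (dg2_mem _ _ _) (isMonoG_dg2 _ _ _))) hg
  have hdv : ((dg2 b a (A / B) : GL ι F) : Matrix ι ι F) *ᵥ ((g : Matrix ι ι F) *ᵥ Pi.single c 1) =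
      (g : Matrix ι ι F) *ᵥ Pi.single c 1 + ((A / B - 1) * (g : Matrix ι ι F) b c) • Pi.single b 1
        + (((A / B)⁻¹ - 1) * (g : Matrix ι ι F) a c) • Pi.single a 1 := by
    funext k
    rw [dg2_mulVec b a hb (A / B) hμ0]
    by_cases hkb : k = b
    · subst hkb
      simp [hb]
      ring
    · by_cases hka : k = a
      · subst hka
        simp [hkb]
        ring
      · simp [hkb, hka]
  have hyent : ∀ r', (y : Matrix ι ι F) r' c = (Pi.single c 1 : ι → F) r' +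
      (A / B - 1) * ((g : Matrix ι ι F) b c * ((g⁻¹ : GL ι F) : Matrix ι ι F) r' b) +
      ((A / B)⁻¹ - 1) * ((g : Matrix ι ι F) a c * ((g⁻¹ : GL ι F) : Matrix ι ι F) r' a) := by
    intro r'
    have h1 : (y : Matrix ι ι F) *ᵥ Pi.single c 1 = Pi.single c 1 +
        ((A / B - 1) * (g : Matrix ι ι F) b c) • (((g⁻¹ : GL ι F) : Matrix ι ι F) *ᵥ Pi.single b 1)
        + (((A / B)⁻¹ - 1) * (g : Matrix ι ι F) a c) •
          (((g⁻¹ : GL ι F) : Matrix ι ι F) *ᵥ Pi.single a 1) := by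
      rw [hy, Units.val_mul, Units.val_mul, ← Matrix.mulVec_mulVec, ← Matrix.mulVec_mulVec, hdv,
        Matrix.mulVec_add, Matrix.mulVec_add, Matrix.mulVec_smul, Matrix.mulVec_smul, gl_inv_col]
    have h2 := congrFun h1 r'
    simp only [Matrix.mulVec_single_one, Matrix.col_apply, Pi.add_apply, Pi.smul_apply,
      smul_eq_mul] at h2
    rw [h2]
    ring
  have hyr : (y : Matrix ι ι F) r c = 0 := by
    rw [hyent, ← hA, ← hB]
    simp only [Pi.single_apply, if_neg hrc]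
    field_simp
    ring
  have hynz : ∀ r', r' ∉ I → r' ≠ c → (y : Matrix ι ι F) r' c ≠ 0 := by
    intro r' h1 h2
    have h3 := hω r' h1
    rw [hωr] at h3
    have h4 : (g : Matrix ι ι F) b c * ((g⁻¹ : GL ι F) : Matrix ι ι F) r' b =
        (g : Matrix ι ι F) a c * ((g⁻¹ : GL ι F) : Matrix ι ι F) r' a := by linear_combination h3
    rw [hyent, h4]
    simp only [Pi.single_apply, if_neg h2, zero_add]
    have h5 : (A / B - 1) * ((g : Matrix ι ι F) a c * ((g⁻¹ : GL ι F) : Matrix ι ι F) r' a) +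
        ((A / B)⁻¹ - 1) * ((g : Matrix ι ι F) a c * ((g⁻¹ : GL ι F) : Matrix ι ι F) r' a) =
        (A / B - 1) ^ 2 * (A / B)⁻¹ * ((g : Matrix ι ι F) a c * ((g⁻¹ : GL ι F) : Matrix ι ι F) r' a) := by
      field_simp
      ring
    rw [h5]
    exact mul_ne_zero (mul_ne_zero (pow_ne_zero 2 (sub_ne_zero.mpr hμ1)) (inv_ne_zero hμ0))
      (mul_ne_zero (hnz a c) (hnzi r' a))
  obtain ⟨r₁, hr₁⟩ := exists_not_mem_of_card (insert c I)
    (lt_of_le_of_lt (Finset.card_insert_le _ _) (by omega))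
  obtain ⟨r₂, hr₂⟩ := exists_not_mem_of_card (insert r₁ (insert c I))
    (lt_of_le_of_lt (Finset.card_insert_le _ _)
      (by have := Finset.card_insert_le c I; omega))
  simp only [Finset.mem_insert, not_or] at hr₁ hr₂
  have hym : ¬ IsMonoG y :=
    not_isMonoG_of_two (j := c) (Ne.symm hr₂.1) (hynz r₁ hr₁.2 hr₁.1) (hynz r₂ hr₂.2.2 hr₂.2.1)
  exact lemmaK M hN hstar hq hcard y hyM hym r c hyr

/-- A subgroup of the special linear group (at least five elements in the field, at least thirteen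
coordinates) containing all monomial matrices of determinant one and a non-monomial element is
the whole special linear group. -/
theorem specialLinear_le_of_monomial [Fintype F] (M : Subgroup (GL ι F))
    (hSL : M ≤ specialLinear ι F) (hN : ∀ g ∈ specialLinear ι F, IsMonoG g → g ∈ M)
    (hq : 5 ≤ Fintype.card F) (hcard : 13 ≤ Fintype.card ι) (g : GL ι F) (hg : g ∈ M)
    (hgm : ¬ IsMonoG g) : specialLinear ι F ≤ M := by
  by_cases hstar : FrameMono M
  · exact absurd (mono_of_frameMono M hN hstar hq hcard g hg) hgm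
  · unfold FrameMono at hstar
    push Not at hstar
    obtain ⟨z, hz, c, c', γ, hγ, hzm⟩ := hstar
    exact specialLinear_le_of_frame M hSL hN hq (by omega) z hz hzm c c' γ hγ

end

end Cfsg.Agent.Lib.helper95
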