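import Mathlib
import Cfsg.Agent.Lib.helper95.MonoB
import Cfsg.Agent.Lib.helper95.BlockT

/-!
Maximality of the stabiliser of a decomposition in the special linear group: the two remaining
ingredients (properness, and the reduction of one-dimensional blocks to monomial matrices).
-/

set_option autoImplicit false
set_option linter.unusedSectionVars false

namespace Cfsg.Agent.Lib.helper95

open Matrix Cfsg Cfsg.Geo Module

section
variable {ι : Type} [Fintype ι] [DecidableEq ι] {F : Type*} [Field F]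
variable {t m : ℕ} {D : Fin t → Submodule F (ι → F)}

/-- The special linear group is not contained in the stabiliser of a decomposition. -/
theorem exists_sl_notMem_stab (hD : IsMDecomposition m D) :
    ∃ g ∈ specialLinear ι F, g ∉ decompositionStabilizer D := by
  obtain ⟨i₀, hi₀⟩ : ∃ i₀ : Fin t, i₀ = ⟨0, by have := hD.two_le; omega⟩ := ⟨_, rfl⟩
  obtain ⟨i₁, hi₁⟩ : ∃ i₁ : Fin t, i₁ = ⟨1, by have := hD.two_le; omega⟩ := ⟨_, rfl⟩
  have h01 : i₀ ≠ i₁ := by
    rw [hi₀, hi₁]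
    intro h
    have := congrArg Fin.val h
    simp at this
  obtain ⟨u, hu⟩ : ∃ u : ι → F, u = decompBasis hD ⟨i₀, ⟨0, hD.pos⟩⟩ := ⟨_, rfl⟩
  obtain ⟨w, hw⟩ : ∃ w : ι → F, w = decompBasis hD ⟨i₁, ⟨0, hD.pos⟩⟩ := ⟨_, rfl⟩
  have hum : u ∈ D i₀ := by rw [hu]; exact decompBasis_mem hD _ _
  have hwm : w ∈ D i₁ := by rw [hw]; exact decompBasis_mem hD _ _
  have hu0 : u ≠ 0 := by rw [hu]; exact (decompBasis hD).ne_zero _
  have hw0 : w ≠ 0 := by rw [hw]; exact (decompBasis hD).ne_zero _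
  obtain ⟨φ, hφd, -, hφw⟩ := exists_dual_sep hD i₁ 0 w (D i₁).zero_mem hwm (by simpa using hw0)
  have hφu : φ ⬝ᵥ u = 0 := hφd i₀ h01 u hum
  refine ⟨gT u φ, gT_mem_specialLinear _ _ hφu, ?_⟩
  rintro ⟨σ, hσ⟩
  have h1 : ((gT u φ : GL ι F) : Matrix ι ι F) *ᵥ w ∈ D (σ i₁) := by
    rw [← hσ i₁]
    exact ⟨w, hwm, by rw [Matrix.toLin'_apply]⟩
  rw [gT_mulVec' _ _ hφu, hφw, one_smul] at h1
  rcases eq_zero_or_of_add_mem hD (Ne.symm h01) hwm hum h1 with h | h
  · exact hw0 h
  · exact hu0 h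

/-- One-dimensional blocks: conjugates of monomial matrices stabilise the decomposition. -/
theorem conj_mem_stab_of_isMonoG (hD : IsMDecomposition 1 D) (e : ι ≃ ((_ : Fin t) × Fin 1))
    (P : GL ι F) (hPe : ∀ k, (P : Matrix ι ι F) *ᵥ Pi.single k 1 = decompBasis hD (e k))
    (g' : GL ι F) (hg' : IsMonoG g') : P * g' * P⁻¹ ∈ decompositionStabilizer D := by
  classical
  obtain ⟨π, l, hinj, hl, hπ⟩ := hg'.exists_inj
  have heta : ∀ p : (_ : Fin t) × Fin 1, p = ⟨p.1, 0⟩ := by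
    intro p
    exact Sigma.ext rfl (heq_of_eq (Subsingleton.elim _ _))
  obtain ⟨σ, hσ⟩ : ∃ σ : Fin t → Fin t, σ = fun i => (e (π (e.symm ⟨i, 0⟩))).1 := ⟨_, rfl⟩
  have hσinj : Function.Injective σ := by
    intro i i' hii
    rw [hσ] at hii
    simp only at hii
    have h1 : e (π (e.symm ⟨i, 0⟩)) = e (π (e.symm ⟨i', 0⟩)) := by
      rw [heta (e (π (e.symm ⟨i, 0⟩))), heta (e (π (e.symm ⟨i', 0⟩))), hii]
    have h2 := e.symm.injective (hinj (e.injective h1))
    exact congrArg Sigma.fst h2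
  have hall : ∀ i, ∀ w ∈ D i, ((P * g' * P⁻¹ : GL ι F) : Matrix ι ι F) *ᵥ w ∈ D (σ i) := by
    intro i w hw
    rw [← blk_decompBasis hD i] at hw
    unfold blk at hw
    induction hw using Submodule.span_induction with
    | mem x hx =>
      obtain ⟨a, rfl⟩ := hx
      have ha : (⟨i, a⟩ : (_ : Fin t) × Fin 1) = e (e.symm ⟨i, 0⟩) := by
        rw [Equiv.apply_symm_apply]
        exact heta _
      show ((P * g' * P⁻¹ : GL ι F) : Matrix ι ι F) *ᵥ decompBasis hD ⟨i, a⟩ ∈ D (σ i)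
      rw [ha, ← hPe, Units.val_mul, Units.val_mul, ← Matrix.mulVec_mulVec, ← Matrix.mulVec_mulVec,
        gl_inv_mulVec_mulVec, hπ, Matrix.mulVec_smul, hPe]
      apply Submodule.smul_mem
      rw [hσ]
      exact decompBasis_mem hD _ _
    | zero =>
      rw [Matrix.mulVec_zero]
      exact Submodule.zero_mem _
    | add x y _ _ hx hy =>
      rw [Matrix.mulVec_add]
      exact Submodule.add_mem _ hx hy
    | smul a x _ hx =>
      rw [Matrix.mulVec_smul]
      exact Submodule.smul_mem _ _ hx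
  exact ⟨Equiv.ofBijective σ (Finite.injective_iff_bijective.mp hσinj),
    fun j => decomp_map_eq_of_forall hD _ j _ (hall j)⟩

/-- One-dimensional blocks. -/
theorem specialLinear_le_of_decomp_one [Fintype F] (hD : IsMDecomposition 1 D)
    (hq : 5 ≤ Fintype.card F) (hcard : 13 ≤ Fintype.card ι) (M : Subgroup (GL ι F))
    (hHM : decompositionStabilizer D ⊓ specialLinear ι F ≤ M) (hMSL : M ≤ specialLinear ι F)
    (g : GL ι F) (hg : g ∈ M) (hgS : g ∉ decompositionStabilizer D) :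
    specialLinear ι F ≤ M := by
  classical
  obtain ⟨e, -⟩ : ∃ e : ι ≃ ((_ : Fin t) × Fin 1), e = e :=
    ⟨(Pi.basisFun F ι).indexEquiv (decompBasis hD), rfl⟩
  obtain ⟨P, hP⟩ : ∃ P : GL ι F,
      P = glOfEquiv ((Pi.basisFun F ι).equiv (decompBasis hD) e) := ⟨_, rfl⟩
  have hPe : ∀ k, (P : Matrix ι ι F) *ᵥ Pi.single k 1 = decompBasis hD (e k) := by
    intro k
    rw [hP, glOfEquiv_mulVec, ← Pi.basisFun_apply F ι k, Basis.equiv_apply]
  have hstab := conj_mem_stab_of_isMonoG hD e P hPe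
  apply specialLinear_le_of_comap_conj M P
  have hn : (specialLinear ι F).Normal := by
    unfold specialLinear
    infer_instance
  apply specialLinear_le_of_monomial (M.comap (MulAut.conj P).toMonoidHom) ?_ ?_ hq hcard
    (P⁻¹ * g * P) ?_ ?_
  · intro x hx
    rw [Subgroup.mem_comap] at hx
    have h1 := hn.conj_mem _ (hMSL hx) P⁻¹
    have h2 : P⁻¹ * (MulAut.conj P).toMonoidHom x * P⁻¹⁻¹ = x := by
      show P⁻¹ * (P * x * P⁻¹) * P⁻¹⁻¹ = x
      group
    rw [h2] at h1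
    exact h1
  · intro x hxSL hxm
    rw [Subgroup.mem_comap]
    exact hHM ⟨hstab x hxm, hn.conj_mem x hxSL P⟩
  · rw [Subgroup.mem_comap]
    have : (MulAut.conj P).toMonoidHom (P⁻¹ * g * P) = g := by
      show P * (P⁻¹ * g * P) * P⁻¹ = g
      group
    rw [this]
    exact hg
  · intro hm
    apply hgS
    have := hstab _ hm
    have e2 : P * (P⁻¹ * g * P) * P⁻¹ = g := by group
    rw [e2] at this
    exact this

end

end Cfsg.Agent.Lib.helper95
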