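import Mathlib

/-!
Small actions (piece SA of the S4404 split): a group of odd prime-power order acting by
automorphisms on a group of exponent two with at most sixteen elements.
-/

set_option autoImplicit false

namespace Cfsg.Agent.Lib.helper95

section abstract

variable {U : Type*} [Group U]

/-- The subgroup of points fixed by a group of automorphisms. -/
def fqFix (B : Subgroup (MulAut U)) : Subgroup U where
  carrier := {u | ∀ b ∈ B, b u = u}
  mul_mem' := by
    intro x y hx hy b hb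
    rw [map_mul, hx b hb, hy b hb]
  one_mem' := by
    intro b _
    exact map_one b
  inv_mem' := by
    intro x hx b hb
    rw [map_inv, hx b hb]

theorem mem_fqFix {B : Subgroup (MulAut U)} {u : U} : u ∈ fqFix B ↔ ∀ b ∈ B, b u = u := Iff.rfl

theorem fqFix_anti {B B' : Subgroup (MulAut U)} (h : B' ≤ B) : fqFix B ≤ fqFix B' :=
  fun _ hu b hb => hu b (h hb)

theorem mem_fqFix_zpowers {b : MulAut U} {u : U} :
    u ∈ fqFix (Subgroup.zpowers b) ↔ b u = u := by
  constructor
  · intro h
    exact h b (Subgroup.mem_zpowers b)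
  · intro h c hc
    have hle : Subgroup.zpowers b ≤ MulAction.stabilizer (MulAut U) u := by
      rw [Subgroup.zpowers_le, MulAction.mem_stabilizer_iff, MulAut.smul_def]
      exact h
    have := hle hc
    rwa [MulAction.mem_stabilizer_iff, MulAut.smul_def] at this

variable [Finite U]

theorem fq_card_pow (hU : ∀ u : U, u * u = 1) (H : Subgroup U) : ∃ j, Nat.card H = 2 ^ j := by
  have : Fact (Nat.Prime 2) := ⟨Nat.prime_two⟩
  have hp : IsPGroup 2 U := fun u => ⟨1, by rw [pow_one, pow_two]; exact hU u⟩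
  exact (hp.to_subgroup H).exists_card_eq

theorem fq_modEq (q : ℕ) [Fact q.Prime] (B : Subgroup (MulAut U)) (hB : IsPGroup q B) :
    Nat.card U ≡ Nat.card (fqFix B) [MOD q] := by
  have h := hB.card_modEq_card_fixedPoints U
  have e : Nat.card (MulAction.fixedPoints B U) = Nat.card (fqFix B) := by
    refine Nat.card_congr (Equiv.subtypeEquivRight (fun u => ?_))
    rw [MulAction.mem_fixedPoints]
    constructor
    · intro h b hb
      have := h ⟨b, hb⟩
      rwa [Subgroup.mk_smul, MulAut.smul_def] at this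
    · intro h b
      rw [Subgroup.smul_def, MulAut.smul_def]
      exact h b b.2
  rwa [e] at h

theorem fq_key (hU : ∀ u : U, u * u = 1) (q : ℕ) [Fact q.Prime] (B : Subgroup (MulAut U))
    (hB : IsPGroup q B) (hne : B ≠ ⊥) :
    ∃ k j, Nat.card U = 2 ^ k ∧ Nat.card (fqFix B) = 2 ^ j ∧ j < k ∧ q ∣ 2 ^ k - 2 ^ j := by
  obtain ⟨k, hk⟩ := fq_card_pow hU (⊤ : Subgroup U)
  obtain ⟨j, hj⟩ := fq_card_pow hU (fqFix B)
  rw [Subgroup.card_top] at hk
  have hne' : fqFix B ≠ ⊤ := by
    intro h
    apply hne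
    rw [Subgroup.eq_bot_iff_forall]
    intro b hb
    ext u
    have : u ∈ fqFix B := by rw [h]; exact Subgroup.mem_top u
    exact this b hb
  have hlt : Nat.card (fqFix B) < Nat.card U := by
    rcases (Subgroup.card_le_card_group (fqFix B)).lt_or_eq with h | h
    · exact h
    · exact absurd (Subgroup.eq_top_of_card_eq _ h) hne'
  have hjk : j < k := by
    rw [hj, hk] at hlt
    exact (Nat.pow_lt_pow_iff_right (by norm_num)).mp hlt
  refine ⟨k, j, hk, hj, hjk, ?_⟩
  have hmod := fq_modEq q B hB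
  rw [hk, hj] at hmod
  exact (Nat.modEq_iff_dvd' (Nat.pow_le_pow_right (by norm_num) hjk.le)).mp hmod.symm

/-- A free orbit outside a pointwise fixed subgroup. -/
theorem fq_inj (B : Subgroup (MulAut U)) (D : Subgroup U) (w : U)
    (hfix : ∀ d ∈ D, ∀ b ∈ B, b d = d) (hw : w ∉ D) (hfree : ∀ b ∈ B, b w = w → b = 1) :
    Nat.card B + Nat.card D ≤ Nat.card U := by
  rw [← Nat.card_sum]
  apply Nat.card_le_card_of_injective
    (Sum.elim (fun b : B => (b : MulAut U) w) (fun d : D => (d : U)))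
  have key : ∀ (b : B) (d : D), (b : MulAut U) w ≠ (d : U) := by
    intro b d h
    apply hw
    have h2 := hfix d d.2 (b⁻¹ : MulAut U) (B.inv_mem b.2)
    rw [← h, MulAut.inv_apply_self] at h2
    rw [h2, h]
    exact d.2
  rintro (b | d) (b' | d') h
  · simp only [Sum.elim_inl] at h
    have h3 : ((b : MulAut U)⁻¹ * (b' : MulAut U)) w = w := by
      rw [MulAut.mul_apply, ← h, MulAut.inv_apply_self]
    have h1 := hfree _ (B.mul_mem (B.inv_mem b.2) b'.2) h3
    congr 1
    exact Subtype.ext (inv_mul_eq_one.mp h1)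
  · simp only [Sum.elim_inl, Sum.elim_inr] at h
    exact absurd h (key b d')
  · simp only [Sum.elim_inl, Sum.elim_inr] at h
    exact absurd h.symm (key b' d)
  · simp only [Sum.elim_inr] at h
    congr 1
    exact Subtype.ext h

/-- Two free orbits outside a pointwise fixed subgroup. -/
theorem fq_inj2 (B : Subgroup (MulAut U)) (D : Subgroup U) (w w' : U)
    (hfix : ∀ d ∈ D, ∀ b ∈ B, b d = d) (hw : w ∉ D) (hw' : w' ∉ D)
    (hfree : ∀ b ∈ B, ∀ x, x ∉ D → b x = x → b = 1) (hdis : ∀ b ∈ B, b w ≠ w') :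
    (Nat.card B + Nat.card B) + Nat.card D ≤ Nat.card U := by
  rw [← Nat.card_sum, ← Nat.card_sum]
  apply Nat.card_le_card_of_injective
    (Sum.elim (Sum.elim (fun b : B => (b : MulAut U) w) (fun b : B => (b : MulAut U) w'))
      (fun d : D => (d : U)))
  have key : ∀ (x : U), x ∉ D → ∀ (b : B) (d : D), (b : MulAut U) x ≠ (d : U) := by
    intro x hx b d h
    apply hx
    have h2 := hfix d d.2 (b⁻¹ : MulAut U) (B.inv_mem b.2)
    rw [← h, MulAut.inv_apply_self] at h2
    rw [h2, h]
    exact d.2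
  have inj : ∀ (x : U), x ∉ D → ∀ (b b' : B), (b : MulAut U) x = (b' : MulAut U) x → b = b' := by
    intro x hx b b' h
    have h3 : ((b : MulAut U)⁻¹ * (b' : MulAut U)) x = x := by
      rw [MulAut.mul_apply, ← h, MulAut.inv_apply_self]
    have h1 := hfree _ (B.mul_mem (B.inv_mem b.2) b'.2) x hx h3
    exact Subtype.ext (inv_mul_eq_one.mp h1)
  have cross : ∀ (b b' : B), (b : MulAut U) w ≠ (b' : MulAut U) w' := by
    intro b b' h
    apply hdis ((b' : MulAut U)⁻¹ * (b : MulAut U)) (B.mul_mem (B.inv_mem b'.2) b.2)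
    rw [MulAut.mul_apply, h, MulAut.inv_apply_self]
  rintro ((b | b) | d) ((b' | b') | d') h
  · simp only [Sum.elim_inl] at h
    rw [inj w hw b b' h]
  · simp only [Sum.elim_inl, Sum.elim_inr] at h
    exact absurd h (cross b b')
  · simp only [Sum.elim_inl, Sum.elim_inr] at h
    exact absurd h (key w hw b d')
  · simp only [Sum.elim_inl, Sum.elim_inr] at h
    exact absurd h.symm (cross b' b)
  · simp only [Sum.elim_inl, Sum.elim_inr] at h
    rw [inj w' hw' b b' h]
  · simp only [Sum.elim_inl, Sum.elim_inr] at h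
    exact absurd h (key w' hw' b d')
  · simp only [Sum.elim_inl, Sum.elim_inr] at h
    exact absurd h.symm (key w hw b' d)
  · simp only [Sum.elim_inl, Sum.elim_inr] at h
    exact absurd h.symm (key w' hw' b' d)
  · simp only [Sum.elim_inr] at h
    congr 1
    exact Subtype.ext h

theorem fq_k_le (k : ℕ) (h : 2 ^ k ≤ 16) : k ≤ 4 := by
  by_contra hk
  have : 2 ^ 5 ≤ 2 ^ k := Nat.pow_le_pow_right (by norm_num) (by omega)
  omega

/-- A `3`-group of automorphisms fixing a non-trivial point has at most three elements. -/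
theorem fq_stab_three (hU : ∀ u : U, u * u = 1) (hU16 : Nat.card U ≤ 16)
    (B : Subgroup (MulAut U)) (hB : IsPGroup 3 B) (u : U) (hu : u ≠ 1)
    (hfix : ∀ b ∈ B, b u = u) : Nat.card B ≤ 3 := by
  have : Fact (Nat.Prime 3) := ⟨Nat.prime_three⟩
  by_cases hne : B = ⊥
  · rw [hne, Subgroup.card_bot]
    norm_num
  obtain ⟨k, j, hk, hj, hjk, hdvd⟩ := fq_key hU 3 B hB hne
  have hk4 : k ≤ 4 := fq_k_le k (by rw [← hk]; exact hU16)
  have huD : u ∈ fqFix B := hfix
  have hj1 : 1 ≤ j := by
    by_contra h0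
    have hj0 : j = 0 := by omega
    rw [hj0, pow_zero, Subgroup.card_eq_one] at hj
    rw [hj, Subgroup.mem_bot] at huD
    exact hu huD
  have hkj : (k = 3 ∧ j = 1) ∨ (k = 4 ∧ j = 2) := by
    interval_cases k <;> interval_cases j <;> simp_all
  have hD : ∀ b ∈ B, b ≠ 1 → ∀ w, b w = w → w ∈ fqFix B := by
    intro b hb hb1 w hw
    have hle : Subgroup.zpowers b ≤ B := (Subgroup.zpowers_le).mpr hb
    have hne1 : Subgroup.zpowers b ≠ ⊥ := by
      rw [Ne, Subgroup.zpowers_eq_bot]
      exact hb1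
    obtain ⟨k', j', hk', hj', hjk', hdvd'⟩ := fq_key hU 3 _ (hB.to_le hle) hne1
    have hkk : k' = k := Nat.pow_right_injective (le_refl 2) (hk'.symm.trans hk)
    subst hkk
    have hsub : fqFix B ≤ fqFix (Subgroup.zpowers b) := fqFix_anti hle
    have hcard := Subgroup.card_le_of_le hsub
    rw [hj, hj'] at hcard
    have hjj : j ≤ j' := (Nat.pow_le_pow_iff_right (by norm_num)).mp hcard
    have hj'j : j' = j := by
      rcases hkj with ⟨rfl, rfl⟩ | ⟨rfl, rfl⟩
      · interval_cases j' <;> simp_all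
      · interval_cases j' <;> simp_all
    have heq : fqFix B = fqFix (Subgroup.zpowers b) :=
      Subgroup.eq_of_le_of_card_ge hsub (by rw [hj, hj', hj'j])
    rw [heq]
    exact mem_fqFix_zpowers.mpr hw
  have hDtop : fqFix B ≠ ⊤ := by
    intro h
    have : Nat.card (fqFix B) = Nat.card U := by rw [h, Subgroup.card_top]
    rw [hj, hk] at this
    have := Nat.pow_right_injective (le_refl 2) this
    omega
  obtain ⟨w, hw⟩ : ∃ w, w ∉ fqFix B := by
    by_contra hc
    push Not at hc
    exact hDtop (Subgroup.eq_top_iff' _ |>.mpr hc)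
  have hfree : ∀ b ∈ B, ∀ x, x ∉ fqFix B → b x = x → b = 1 := by
    intro b hb x hx hbx
    by_contra hb1
    exact hx (hD b hb hb1 x hbx)
  have h1 := fq_inj B (fqFix B) w (fun d hd b hb => hd b hb) hw (fun b hb => hfree b hb w hw)
  obtain ⟨e, he⟩ := hB.exists_card_eq
  rw [he, hj, hk] at h1
  rw [he]
  rcases hkj with ⟨rfl, rfl⟩ | ⟨rfl, rfl⟩
  · have he1 : e ≤ 1 := by
      by_contra hc
      have : 3 ^ 2 ≤ 3 ^ e := Nat.pow_le_pow_right (by norm_num) (by omega)
      omega
    interval_cases e <;> norm_num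
  · have he2 : e ≤ 2 := by
      by_contra hc
      have : 3 ^ 3 ≤ 3 ^ e := Nat.pow_le_pow_right (by norm_num) (by omega)
      omega
    interval_cases e
    · norm_num
    · norm_num
    · exfalso
      obtain ⟨w', hw', hdis⟩ : ∃ w', w' ∉ fqFix B ∧ ∀ b ∈ B, b w ≠ w' := by
        by_contra hc
        push Not at hc
        have hsurj : Function.Surjective
            (Sum.elim (fun b : B => (b : MulAut U) w) (fun d : fqFix B => (d : U))) := by
          intro x
          by_cases hx : x ∈ fqFix B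
          · exact ⟨Sum.inr ⟨x, hx⟩, rfl⟩
          · obtain ⟨b, hb, hbx⟩ := hc x hx
            exact ⟨Sum.inl ⟨b, hb⟩, hbx⟩
        have h2 := Nat.card_le_card_of_surjective _ hsurj
        rw [Nat.card_sum, he, hj, hk] at h2
        omega
      have h3 := fq_inj2 B (fqFix B) w w' (fun d hd b hb => hd b hb) hw hw' hfree hdis
      rw [he, hj, hk] at h3
      omega

/-- A `3`-group of automorphisms of a group of exponent two with at most sixteen elements has at
most nine elements. -/
theorem fq_three (hU : ∀ u : U, u * u = 1) (hU16 : Nat.card U ≤ 16)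
    (B : Subgroup (MulAut U)) (hB : IsPGroup 3 B) : Nat.card B ≤ 9 := by
  have : Fact (Nat.Prime 3) := ⟨Nat.prime_three⟩
  by_contra hgt
  obtain ⟨e, he⟩ := hB.exists_card_eq
  have he3 : 3 ≤ e := by
    by_contra hc
    apply hgt
    rw [he]
    have : e ≤ 2 := by omega
    interval_cases e <;> norm_num
  have h27 : 27 ≤ Nat.card B := by
    rw [he]
    calc 27 = 3 ^ 3 := by norm_num
      _ ≤ 3 ^ e := Nat.pow_le_pow_right (by norm_num) he3
  obtain ⟨k, hk⟩ := fq_card_pow hU (⊤ : Subgroup U)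
  rw [Subgroup.card_top] at hk
  have hk4 : k ≤ 4 := fq_k_le k (by rw [← hk]; exact hU16)
  -- every orbit of a non-trivial point has nine elements
  have horb : ∀ x : U, x ≠ 1 → (MulAction.orbit B x).ncard = 9 := by
    intro x hx
    have hst : Nat.card (MulAction.stabilizer B x) ≤ 3 := by
      rw [← Subgroup.card_map_of_injective (K := MulAction.stabilizer B x) B.subtype_injective]
      apply fq_stab_three hU hU16 _ (hB.to_le (Subgroup.map_subtype_le _)) x hx
      rintro b ⟨c, hc, rfl⟩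
      rw [SetLike.mem_coe, MulAction.mem_stabilizer_iff, Subgroup.smul_def, MulAut.smul_def] at hc
      exact hc
    have hmul := Subgroup.card_mul_index (MulAction.stabilizer B x)
    rw [MulAction.index_stabilizer, he] at hmul
    have h1 : (1 : U) ∉ MulAction.orbit B x := by
      rintro ⟨b, hb⟩
      apply hx
      have hb' : (b : MulAut U) x = 1 := by
        rw [← MulAut.smul_def, ← Subgroup.smul_def]
        exact hb
      have := congrArg (fun y => ((b : MulAut U)⁻¹) y) hb'
      simpa using this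
    have hle : (MulAction.orbit B x).ncard + 1 ≤ 16 := by
      rw [← Set.ncard_insert_of_notMem h1 (Set.toFinite _)]
      refine le_trans (Set.ncard_le_ncard (Set.subset_univ _) (Set.toFinite _)) ?_
      rw [Set.ncard_univ]
      exact hU16
    have hdvd : (MulAction.orbit B x).ncard ∣ 3 ^ e := Dvd.intro_left _ hmul
    obtain ⟨i, -, hi⟩ := (Nat.dvd_prime_pow Nat.prime_three).mp hdvd
    have hge : 9 ≤ (MulAction.orbit B x).ncard := by
      by_contra hc
      have h8 : (MulAction.orbit B x).ncard ≤ 8 := by omega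
      have : Nat.card (MulAction.stabilizer B x) * (MulAction.orbit B x).ncard ≤ 3 * 8 :=
        Nat.mul_le_mul hst h8
      rw [hmul] at this
      rw [he] at h27
      omega
    rw [hi] at hge hle ⊢
    have hi3 : i ≤ 2 := by
      by_contra hc
      have : 3 ^ 3 ≤ 3 ^ i := Nat.pow_le_pow_right (by norm_num) (by omega)
      omega
    interval_cases i <;> omega
  -- a non-trivial point
  have hne : B ≠ ⊥ := by
    intro h
    rw [h, Subgroup.card_bot] at h27
    omega
  obtain ⟨b, hb1⟩ := (Subgroup.ne_bot_iff_exists_ne_one.mp hne)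
  obtain ⟨u, hu⟩ : ∃ u : U, (b : MulAut U) u ≠ u := by
    by_contra hc
    push Not at hc
    apply hb1
    apply Subtype.ext
    ext u
    exact hc u
  have hu1 : u ≠ 1 := by
    rintro rfl
    exact hu (map_one _)
  have hO := horb u hu1
  have h1O : (1 : U) ∉ MulAction.orbit B u := by
    rintro ⟨c, hc⟩
    apply hu1
    have hc' : (c : MulAut U) u = 1 := by
      rw [← MulAut.smul_def, ← Subgroup.smul_def]
      exact hc
    have := congrArg (fun y => ((c : MulAut U)⁻¹) y) hc'
    simpa using this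
  obtain ⟨u', hu'⟩ : ∃ u' : U, u' ∉ insert (1 : U) (MulAction.orbit B u) := by
    by_contra hc
    push Not at hc
    have huniv : insert (1 : U) (MulAction.orbit B u) = Set.univ := Set.eq_univ_of_forall hc
    have hc2 := congrArg Set.ncard huniv
    rw [Set.ncard_insert_of_notMem h1O (Set.toFinite _), hO, Set.ncard_univ, hk] at hc2
    interval_cases k <;> omega
  rw [Set.mem_insert_iff, not_or] at hu'
  have hO' := horb u' hu'.1
  have hdisj : Disjoint (MulAction.orbit B u) (MulAction.orbit B u') := by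
    rw [Set.disjoint_left]
    intro x hx hx'
    apply hu'.2
    have e1 := MulAction.orbit_eq_iff.mpr hx
    have e2 := MulAction.orbit_eq_iff.mpr hx'
    rw [← e1, e2]
    exact MulAction.mem_orbit_self u'
  have hunion : (MulAction.orbit B u ∪ MulAction.orbit B u').ncard = 18 := by
    rw [Set.ncard_union_eq hdisj (Set.toFinite _) (Set.toFinite _), hO, hO']
  have hle := Set.ncard_le_ncard (Set.subset_univ (MulAction.orbit B u ∪ MulAction.orbit B u'))
    (Set.toFinite _)
  rw [hunion, Set.ncard_univ] at hle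
  omega

theorem fq_three_comm (hU : ∀ u : U, u * u = 1) (hU16 : Nat.card U ≤ 16)
    (B : Subgroup (MulAut U)) (hB : IsPGroup 3 B) (x : MulAut U) (hx : x ∈ B) (y : MulAut U)
    (hy : y ∈ B) : x * y = y * x := by
  have : Fact (Nat.Prime 3) := ⟨Nat.prime_three⟩
  have h9 := fq_three hU hU16 B hB
  obtain ⟨e, he⟩ := hB.exists_card_eq
  have he2 : e ≤ 2 := by
    by_contra hc
    have : 3 ^ 3 ≤ 3 ^ e := Nat.pow_le_pow_right (by norm_num) (by omega)
    omega
  have hcomm : ∀ a b : B, a * b = b * a := by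
    interval_cases e
    · rw [pow_zero] at he
      have hs : Subsingleton B := (Nat.card_eq_one_iff_unique.mp he).1
      intro a b
      exact Subsingleton.elim _ _
    · rw [pow_one] at he
      have hc : IsCyclic B := isCyclic_of_prime_card he
      obtain ⟨g, hg⟩ := hc.exists_generator
      intro a b
      obtain ⟨m, rfl⟩ := Subgroup.mem_zpowers_iff.mp (hg a)
      obtain ⟨n, rfl⟩ := Subgroup.mem_zpowers_iff.mp (hg b)
      rw [← zpow_add, ← zpow_add, add_comm]
    · have hm := IsPGroup.isMulCommutative_of_card_eq_prime_sq he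
      exact fun a b => hm.is_comm.comm a b
  have := congrArg Subtype.val (hcomm ⟨x, hx⟩ ⟨y, hy⟩)
  exact this

/-- A `p`-group (`p ≥ 5`) of automorphisms of a group of exponent two with at most sixteen
elements is trivial or of order `p ∈ {5, 7}`. -/
theorem fq_large (hU : ∀ u : U, u * u = 1) (hU16 : Nat.card U ≤ 16) (p : ℕ) [Fact p.Prime]
    (hp5 : 5 ≤ p) (B : Subgroup (MulAut U)) (hB : IsPGroup p B) (hne : B ≠ ⊥) :
    (p = 5 ∨ p = 7) ∧ Nat.card B = p := by
  have hpp : p.Prime := Fact.out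
  -- the possible shapes of fixed-point subgroups
  have shape : ∀ B₁ : Subgroup (MulAut U), B₁ ≤ B → B₁ ≠ ⊥ → ∀ k, Nat.card U = 2 ^ k →
      ∃ j, Nat.card (fqFix B₁) = 2 ^ j ∧
        ((p = 5 ∧ k = 4 ∧ j = 0) ∨ (p = 7 ∧ k = 3 ∧ j = 0) ∨ (p = 7 ∧ k = 4 ∧ j = 1)) := by
    intro B₁ hle hne₁ k hk
    obtain ⟨k', j, hk', hj, hjk, hdvd⟩ := fq_key hU p B₁ (hB.to_le hle) hne₁
    have hkk : k' = k := Nat.pow_right_injective (le_refl 2) (hk'.symm.trans hk)
    subst hkk
    have hk4 : k' ≤ 4 := fq_k_le k' (by rw [← hk]; exact hU16)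
    refine ⟨j, hj, ?_⟩
    have hpos : 0 < 2 ^ k' - 2 ^ j := by
      have : 2 ^ j < 2 ^ k' := Nat.pow_lt_pow_right (by norm_num) hjk
      omega
    have hple : p ≤ 2 ^ k' - 2 ^ j := Nat.le_of_dvd hpos hdvd
    have hp15 : p ≤ 15 := by
      have h16 : 2 ^ k' ≤ 2 ^ 4 := Nat.pow_le_pow_right (by norm_num) hk4
      have h1 : 1 ≤ 2 ^ j := Nat.one_le_two_pow
      omega
    clear hple hpos hk hj
    interval_cases k' <;> interval_cases j <;> interval_cases p <;>
      first
      | (exfalso; revert hdvd; decide)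
      | (exfalso; revert hpp; norm_num; done)
      | simp
  obtain ⟨k, hk⟩ := fq_card_pow hU (⊤ : Subgroup U)
  rw [Subgroup.card_top] at hk
  obtain ⟨j, hj, hsh⟩ := shape B le_rfl hne k hk
  refine ⟨by rcases hsh with h | h | h <;> simp [h.1], ?_⟩
  obtain ⟨e, he⟩ := hB.exists_card_eq
  have he0 : e ≠ 0 := by
    rintro rfl
    rw [pow_zero, Subgroup.card_eq_one] at he
    exact hne he
  by_cases he1 : e = 1
  · rw [he, he1, pow_one]
  exfalso
  have he2 : 2 ≤ e := by omega
  have h25 : 25 ≤ Nat.card B := by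
    rw [he]
    calc 25 = 5 ^ 2 := by norm_num
      _ ≤ p ^ 2 := Nat.pow_le_pow_left hp5 2
      _ ≤ p ^ e := Nat.pow_le_pow_right hpp.pos he2
  -- pigeonhole: every non-trivial point is fixed by a non-trivial element
  have pig : ∀ u : U, u ≠ 1 → ∃ b ∈ B, b ≠ 1 ∧ b u = u := by
    intro u hu
    by_contra hc
    push Not at hc
    have h1 := fq_inj B ⊥ u (by
      intro d hd b _
      rw [Subgroup.mem_bot] at hd
      rw [hd]
      exact map_one b) (by rw [Subgroup.mem_bot]; exact hu) (by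
      intro b hb hbu
      by_contra hb1
      exact hc b hb hb1 hbu)
    omega
  have hUnt : ∃ u : U, u ≠ 1 := by
    by_contra hc
    push Not at hc
    apply hne
    rw [Subgroup.eq_bot_iff_forall]
    intro b _
    ext u
    rw [hc u, map_one, hc ((1 : MulAut U) 1)]
  rcases hsh with ⟨hp, hk4, hj0⟩ | ⟨hp, hk3, hj0⟩ | ⟨hp, hk4, hj1⟩
  · obtain ⟨u, hu⟩ := hUnt
    obtain ⟨b, hb, hb1, hbu⟩ := pig u hu
    obtain ⟨j', hj', hsh'⟩ := shape (Subgroup.zpowers b) ((Subgroup.zpowers_le).mpr hb)
      (by rw [Ne, Subgroup.zpowers_eq_bot]; exact hb1) k hk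
    have hj'0 : j' = 0 := by
      rcases hsh' with h | h | h <;> omega
    rw [hj'0, pow_zero, Subgroup.card_eq_one] at hj'
    have := mem_fqFix_zpowers.mpr hbu
    rw [hj', Subgroup.mem_bot] at this
    exact hu this
  · obtain ⟨u, hu⟩ := hUnt
    obtain ⟨b, hb, hb1, hbu⟩ := pig u hu
    obtain ⟨j', hj', hsh'⟩ := shape (Subgroup.zpowers b) ((Subgroup.zpowers_le).mpr hb)
      (by rw [Ne, Subgroup.zpowers_eq_bot]; exact hb1) k hk
    have hj'0 : j' = 0 := by
      rcases hsh' with h | h | h <;> omega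
    rw [hj'0, pow_zero, Subgroup.card_eq_one] at hj'
    have := mem_fqFix_zpowers.mpr hbu
    rw [hj', Subgroup.mem_bot] at this
    exact hu this
  · -- `k = 4`, the fixed points of `B` form a subgroup of order two
    rw [hj1, pow_one] at hj
    have hFbot : fqFix B ≠ ⊥ := by
      intro h
      rw [h, Subgroup.card_bot] at hj
      omega
    obtain ⟨u₀, hu₀1⟩ := Subgroup.ne_bot_iff_exists_ne_one.mp hFbot
    have hFtop : fqFix B ≠ ⊤ := by
      intro h
      rw [h, Subgroup.card_top, hk, hk4] at hj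
      omega
    obtain ⟨u, hu⟩ : ∃ u, u ∉ fqFix B := by
      by_contra hc
      push Not at hc
      exact hFtop (Subgroup.eq_top_iff' _ |>.mpr hc)
    have hu1 : u ≠ 1 := by
      rintro rfl
      exact hu (Subgroup.one_mem _)
    obtain ⟨b, hb, hb1, hbu⟩ := pig u hu1
    obtain ⟨j', hj', hsh'⟩ := shape (Subgroup.zpowers b) ((Subgroup.zpowers_le).mpr hb)
      (by rw [Ne, Subgroup.zpowers_eq_bot]; exact hb1) k hk
    have hj'1 : j' = 1 := by
      rcases hsh' with h | h | h <;> omega
    rw [hj'1, pow_one] at hj'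
    obtain ⟨y, -, hy⟩ := (Nat.card_eq_two_iff' (1 : fqFix (Subgroup.zpowers b))).mp hj'
    have h1 := hy ⟨u, mem_fqFix_zpowers.mpr hbu⟩ (by
      intro h
      exact hu1 (congrArg Subtype.val h))
    have h2 := hy ⟨(u₀ : U), fqFix_anti ((Subgroup.zpowers_le).mpr hb) u₀.2⟩ (by
      intro h
      apply hu₀1
      have h' : (u₀ : U) = 1 := congrArg Subtype.val h
      exact Subtype.ext h')
    apply hu
    have : u = (u₀ : U) := congrArg Subtype.val (h1.trans h2.symm)
    rw [this]
    exact u₀.2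

end abstract

section concrete

variable {S : Type*} [Group S]

/-- The conjugation action of `A` on a subgroup `U` that it normalises. -/
def fqConj (A U : Subgroup S) (hAU : A ≤ Subgroup.normalizer (U : Set S)) : A →* MulAut U :=
  MonoidHom.mk' (fun a =>
    { toFun := fun u => ⟨(a : S) * u * (a : S)⁻¹,
        ((Subgroup.mem_normalizer_iff.mp (hAU a.2)) u).mp u.2⟩
      invFun := fun u => ⟨(a : S)⁻¹ * u * (a : S), by
        have := ((Subgroup.mem_normalizer_iff.mp (hAU (A.inv_mem a.2))) u).mp u.2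
        simpa using this⟩
      left_inv := fun u => Subtype.ext (by simp [mul_assoc])
      right_inv := fun u => Subtype.ext (by simp [mul_assoc])
      map_mul' := fun u v => Subtype.ext (by simp [mul_assoc]) })
    (fun a b => by
      ext u
      simp [mul_assoc])

theorem fqConj_apply (A U : Subgroup S) (hAU : A ≤ Subgroup.normalizer (U : Set S)) (a : A)
    (u : U) : ((fqConj A U hAU a u : U) : S) = (a : S) * u * (a : S)⁻¹ := rfl

theorem fqConj_eq_one_iff (A U : Subgroup S) (hAU : A ≤ Subgroup.normalizer (U : Set S))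
    (a : A) : fqConj A U hAU a = 1 ↔ (a : S) ∈ Subgroup.centralizer (U : Set S) := by
  rw [Subgroup.mem_centralizer_iff]
  constructor
  · intro h u hu
    have h1 : ((fqConj A U hAU a ⟨u, hu⟩ : U) : S) = u := by rw [h]; rfl
    rw [fqConj_apply] at h1
    have h2 := mul_inv_eq_iff_eq_mul.mp h1
    exact h2.symm
  · intro h
    ext u
    rw [fqConj_apply]
    have := h u u.2
    rw [MulAut.one_apply, ← this, mul_inv_cancel_right]

variable [Finite S]

theorem small_action_three (A U : Subgroup S) (hAU : A ≤ Subgroup.normalizer (U : Set S))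
    (hU : ∀ u ∈ U, u * u = 1) (hU16 : Nat.card ↥U ≤ 16) (hA : IsPGroup 3 ↥A) :
    ∀ a ∈ A, ∀ b ∈ A, a * b * a⁻¹ * b⁻¹ ∈ Subgroup.centralizer (U : Set S) := by
  intro a ha b hb
  have hB : IsPGroup 3 (fqConj A U hAU).range :=
    hA.of_surjective (fqConj A U hAU).rangeRestrict (fqConj A U hAU).rangeRestrict_surjective
  have hU' : ∀ u : U, u * u = 1 := fun u => Subtype.ext (hU u u.2)
  have hc := fq_three_comm hU' hU16 _ hB (fqConj A U hAU ⟨a, ha⟩) ⟨_, rfl⟩
    (fqConj A U hAU ⟨b, hb⟩) ⟨_, rfl⟩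
  have h1 : fqConj A U hAU (⟨a, ha⟩ * ⟨b, hb⟩ * ⟨a, ha⟩⁻¹ * ⟨b, hb⟩⁻¹) = 1 := by
    rw [map_mul, map_mul, map_mul, map_inv, map_inv, hc]
    group
  exact (fqConj_eq_one_iff A U hAU _).mp h1

theorem small_action_large (A U : Subgroup S) (hAU : A ≤ Subgroup.normalizer (U : Set S))
    (hU : ∀ u ∈ U, u * u = 1) (hU16 : Nat.card ↥U ≤ 16) (p : ℕ) (hp : p.Prime) (hp5 : 5 ≤ p)
    (hA : IsPGroup p ↥A) (a : S) (ha : a ∈ A) (ha' : a ∉ Subgroup.centralizer (U : Set S)) :
    (p = 5 ∨ p = 7) ∧ a ^ p ∈ Subgroup.centralizer (U : Set S) ∧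
      ∀ b ∈ A, ∃ j : ℕ, b * (a ^ j)⁻¹ ∈ Subgroup.centralizer (U : Set S) := by
  have : Fact p.Prime := ⟨hp⟩
  have hB : IsPGroup p (fqConj A U hAU).range :=
    hA.of_surjective (fqConj A U hAU).rangeRestrict (fqConj A U hAU).rangeRestrict_surjective
  have hU' : ∀ u : U, u * u = 1 := fun u => Subtype.ext (hU u u.2)
  have ha1 : fqConj A U hAU ⟨a, ha⟩ ≠ 1 := fun h => ha' ((fqConj_eq_one_iff A U hAU _).mp h)
  have hmem : fqConj A U hAU ⟨a, ha⟩ ∈ (fqConj A U hAU).range := ⟨_, rfl⟩
  have hne : (fqConj A U hAU).range ≠ ⊥ := by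
    intro h
    rw [h, Subgroup.mem_bot] at hmem
    exact ha1 hmem
  obtain ⟨hp57, hcard⟩ := fq_large hU' hU16 p hp5 _ hB hne
  have hg1 : (⟨fqConj A U hAU ⟨a, ha⟩, hmem⟩ : (fqConj A U hAU).range) ≠ 1 := by
    intro h
    exact ha1 (congrArg Subtype.val h)
  have htop := zpowers_eq_top_of_prime_card hcard hg1
  have hpow : fqConj A U hAU ⟨a, ha⟩ ^ p = 1 := by
    have h1 : (⟨fqConj A U hAU ⟨a, ha⟩, hmem⟩ : (fqConj A U hAU).range) ^ p = 1 := by
      rw [← hcard]
      exact pow_card_eq_one'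
    exact congrArg Subtype.val h1
  refine ⟨hp57, ?_, ?_⟩
  · have h1 : fqConj A U hAU (⟨a, ha⟩ ^ p) = 1 := by rw [map_pow, hpow]
    exact (fqConj_eq_one_iff A U hAU _).mp h1
  · intro b hb
    have hbm : (⟨fqConj A U hAU ⟨b, hb⟩, ⟨_, rfl⟩⟩ : (fqConj A U hAU).range) ∈
        Subgroup.zpowers (⟨fqConj A U hAU ⟨a, ha⟩, hmem⟩ : (fqConj A U hAU).range) := by
      rw [htop]
      exact Subgroup.mem_top _
    rw [← (isOfFinOrder_of_finite _).mem_powers_iff_mem_zpowers, Submonoid.mem_powers_iff] at hbm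
    obtain ⟨j, hj⟩ := hbm
    have hj' : fqConj A U hAU ⟨a, ha⟩ ^ j = fqConj A U hAU ⟨b, hb⟩ := congrArg Subtype.val hj
    refine ⟨j, ?_⟩
    have h1 : fqConj A U hAU (⟨b, hb⟩ * (⟨a, ha⟩ ^ j)⁻¹) = 1 := by
      rw [map_mul, map_inv, map_pow, hj', mul_inv_cancel]
    exact (fqConj_eq_one_iff A U hAU _).mp h1

end concrete

end Cfsg.Agent.Lib.helper95
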