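/-
S0406 piece F1: the binary code of the lattice is self-orthogonal.
-/
import Mathlib
import Cfsg.Agent.Lib.helper9.LcDefs
set_option autoImplicit false
open Matrix
namespace Cfsg.Agent.Lib.helper95
open Cfsg Cfsg.Agent.Lib.helper9

theorem lc_code_orth (L : AddSubgroup (GolayPt → ℤ)) (hL : LcPre L)
    (s : GolayPt → ZMod 2) (hs : s ∈ lcCode L) (t : GolayPt → ZMod 2) (ht : t ∈ lcCode L) :
    ∑ p, s p * t p = 0 := by
  obtain ⟨h, hh, rfl⟩ := hs
  obtain ⟨k, hk, rfl⟩ := ht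
  have h8 := hL.dot8 _ hh _ hk
  have h1 : dotInt ((2 : ℤ) • h) ((2 : ℤ) • k) = 4 * ∑ p, h p * k p := by
    unfold dotInt
    rw [Finset.mul_sum]
    apply Finset.sum_congr rfl
    intro p _
    simp only [Pi.smul_apply, smul_eq_mul]
    ring
  rw [h1] at h8
  have h2 : (2 : ℤ) ∣ ∑ p, h p * k p := by omega
  have h3 : ((∑ p, h p * k p : ℤ) : ZMod 2) = 0 :=
    (ZMod.intCast_zmod_eq_zero_iff_dvd _ 2).mpr (by exact_mod_cast h2)
  rw [← h3]
  push_cast
  rfl

end Cfsg.Agent.Lib.helper95
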