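import Mathlib
import Cfsg.Prelude.Def_GeometricClasses
import Cfsg.Agent.S2635
import Cfsg.Agent.Lib.helper95.OmegaTools
import Cfsg.Agent.Lib.helper95.PlusPlane
import Cfsg.Agent.Lib.helper95.SpMax

/-!
Characteristic two: the stabiliser of a non-singular point in `Ω(Q)` is a maximal subgroup.
Tools: existence of non-singular vectors orthogonal to a few given vectors, reflections as elements of
GL without dependent arguments (`rho`), and the argument through the set of `a` with `r_a r_v ∈ M`.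
-/

set_option autoImplicit false

namespace Cfsg.Agent.Lib.helper95

open Matrix Cfsg Cfsg.Geo

section
variable {ι : Type} [Fintype ι] [DecidableEq ι] {F : Type*} [Field F]

omit [DecidableEq ι] in
theorem polarBilin_isRefl (Q : QuadraticForm F (ι → F)) : (QuadraticMap.polarBilin Q).IsRefl := by
  intro x y hxy
  rw [QuadraticMap.polarBilin_apply_apply] at hxy ⊢
  rw [QuadraticMap.polar_comm]
  exact hxy

omit [DecidableEq ι] in
/-- A non-singular vector orthogonal to `k` given vectors, when `2k < dim`. -/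
theorem exists_nonsing_perp (Q : QuadraticForm F (ι → F))
    (hnd : (QuadraticMap.polarBilin Q).Nondegenerate) {k : ℕ} (u : Fin k → ι → F)
    (hk : 2 * k < Fintype.card ι) :
    ∃ z, Q z ≠ 0 ∧ ∀ i, QuadraticMap.polar Q z (u i) = 0 := by
  by_contra hcon
  push Not at hcon
  have hU : ∀ z ∈ LinearMap.BilinForm.orthogonal (QuadraticMap.polarBilin Q)
      (Submodule.span F (Set.range u)), Q z = 0 := by
    intro z hz
    by_contra hz0
    obtain ⟨i, hi⟩ := hcon z hz0
    apply hi
    have := hz (u i) (Submodule.subset_span ⟨i, rfl⟩)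
    rw [QuadraticMap.polar_comm]
    exact this
  have hUU : LinearMap.BilinForm.orthogonal (QuadraticMap.polarBilin Q)
      (Submodule.span F (Set.range u)) ≤
      LinearMap.BilinForm.orthogonal (QuadraticMap.polarBilin Q)
        (LinearMap.BilinForm.orthogonal (QuadraticMap.polarBilin Q)
          (Submodule.span F (Set.range u))) := by
    intro z hz
    rw [LinearMap.BilinForm.mem_orthogonal_iff]
    intro y hy
    show QuadraticMap.polarBilin Q y z = 0
    rw [QuadraticMap.polarBilin_apply_apply, QuadraticMap.polar, hU _ (Submodule.add_mem _ hy hz),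
      hU y hy, hU z hz]
    ring
  have h1 := LinearMap.BilinForm.finrank_orthogonal hnd (Submodule.span F (Set.range u))
  have h2 := LinearMap.BilinForm.finrank_orthogonal hnd
    (LinearMap.BilinForm.orthogonal (QuadraticMap.polarBilin Q) (Submodule.span F (Set.range u)))
  have h3 : Module.finrank F (Submodule.span F (Set.range u)) ≤ k := by
    have := finrank_range_le_card (R := F) u
    simpa [Set.finrank] using this
  have h4 := Submodule.finrank_mono hUU
  have h5 : Module.finrank F (ι → F) = Fintype.card ι := Module.finrank_fintype_fun_eq_card F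
  have h6 := Submodule.finrank_le (Submodule.span F (Set.range u))
  omega

omit [DecidableEq ι] in
/-- A non-singular vector orthogonal to `k` given vectors and not orthogonal to a vector `b` outside
their span. -/
theorem exists_nonsing_perp_ne (Q : QuadraticForm F (ι → F))
    (hnd : (QuadraticMap.polarBilin Q).Nondegenerate) {k : ℕ} (u : Fin k → ι → F) (b : ι → F)
    (hb : b ∉ Submodule.span F (Set.range u)) (hk : 2 * (k + 2) < Fintype.card ι) :
    ∃ e, Q e ≠ 0 ∧ (∀ i, QuadraticMap.polar Q e (u i) = 0) ∧ QuadraticMap.polar Q e b ≠ 0 := by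
  have hdp := LinearMap.BilinForm.orthogonal_orthogonal hnd (polarBilin_isRefl Q)
    (Submodule.span F (Set.range u))
  rw [← hdp, LinearMap.BilinForm.mem_orthogonal_iff] at hb
  push Not at hb
  obtain ⟨e₂, he₂, he₂b⟩ := hb
  have he₂u : ∀ i, QuadraticMap.polar Q e₂ (u i) = 0 := fun i => by
    have := he₂ (u i) (Submodule.subset_span ⟨i, rfl⟩)
    rw [QuadraticMap.polar_comm]
    exact this
  have he₂b' : QuadraticMap.polar Q e₂ b ≠ 0 := he₂b
  by_cases hq : Q e₂ = 0
  · obtain ⟨e₃, he₃, he₃o⟩ := exists_nonsing_perp Q hnd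
      (Fin.cons b (Fin.cons e₂ u) : Fin (k + 2) → ι → F) hk
    have h3b : QuadraticMap.polar Q e₃ b = 0 := by
      have := he₃o 0
      rwa [Fin.cons_zero] at this
    have h3e : QuadraticMap.polar Q e₃ e₂ = 0 := by
      have := he₃o (Fin.succ 0)
      rwa [Fin.cons_succ, Fin.cons_zero] at this
    have h3u : ∀ i, QuadraticMap.polar Q e₃ (u i) = 0 := fun i => by
      have := he₃o (Fin.succ (Fin.succ i))
      rwa [Fin.cons_succ, Fin.cons_succ] at this
    refine ⟨e₂ + e₃, ?_, ?_, ?_⟩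
    · rw [QuadraticMap.map_add (⇑Q), hq, zero_add, QuadraticMap.polar_comm, h3e, add_zero]
      exact he₃
    · intro i
      rw [QuadraticMap.polar_add_left, he₂u, h3u, add_zero]
    · rw [QuadraticMap.polar_add_left, h3b, add_zero]
      exact he₂b'
  · exact ⟨e₂, hq, he₂u, he₂b'⟩

omit [Fintype ι] [DecidableEq ι] in
/-- A vector not orthogonal to `v` is outside the span of a family orthogonal to `v`. -/
theorem notMem_span_of_polar_ne (Q : QuadraticForm F (ι → F)) {k : ℕ} (u : Fin k → ι → F)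
    (v b : ι → F) (hu : ∀ i, QuadraticMap.polar Q (u i) v = 0) (hb : QuadraticMap.polar Q b v ≠ 0) :
    b ∉ Submodule.span F (Set.range u) := by
  intro hmem
  apply hb
  have hle : Submodule.span F (Set.range u) ≤
      LinearMap.ker ((QuadraticMap.polarBilin Q).flip v) := by
    rw [Submodule.span_le]
    rintro _ ⟨i, rfl⟩
    show (QuadraticMap.polarBilin Q).flip v (u i) = 0
    rw [LinearMap.flip_apply, QuadraticMap.polarBilin_apply_apply]
    exact hu i
  have := hle hmem
  rw [LinearMap.mem_ker, LinearMap.flip_apply, QuadraticMap.polarBilin_apply_apply] at this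
  exact this

open Classical in
/-- The reflection in `a` as an element of GL (`1` when `Q a = 0`). -/
noncomputable def rho (Q : QuadraticForm F (ι → F)) (a : ι → F) : GL ι F :=
  if h : Q a ≠ 0 then
    ((Cfsg.Agent.Lib.helper17.reflectionIsom Q a h : isometryGroup F ⇑Q) : GL ι F)
  else 1

theorem rho_eq (Q : QuadraticForm F (ι → F)) (a : ι → F) (ha : Q a ≠ 0) :
    rho Q a = ((Cfsg.Agent.Lib.helper17.reflectionIsom Q a ha : isometryGroup F ⇑Q) : GL ι F) := by
  unfold rho
  rw [dif_pos ha]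

theorem rho_val (Q : QuadraticForm F (ι → F)) (a : ι → F) (ha : Q a ≠ 0) :
    ((rho Q a : GL ι F) : Matrix ι ι F) = reflectionMatrix ⇑Q a := by
  rw [rho_eq Q a ha, Cfsg.Agent.Lib.helper17.reflectionIsom_coe]

theorem rho_mulVec (Q : QuadraticForm F (ι → F)) (a : ι → F) (ha : Q a ≠ 0) (x : ι → F) :
    ((rho Q a : GL ι F) : Matrix ι ι F) *ᵥ x =
      x - ((Q a)⁻¹ * QuadraticMap.polar Q a x) • a := by
  rw [rho_val Q a ha, Cfsg.Agent.Lib.helper49.refl_mulVec]

theorem rho_isometry (Q : QuadraticForm F (ι → F)) (a : ι → F) (ha : Q a ≠ 0) (x : ι → F) :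
    Q (((rho Q a : GL ι F) : Matrix ι ι F) *ᵥ x) = Q x := by
  rw [rho_val Q a ha, Cfsg.Agent.Lib.helper49.refl_isometry Q a ha]

theorem rho_mul_self (Q : QuadraticForm F (ι → F)) (a : ι → F) (ha : Q a ≠ 0) :
    rho Q a * rho Q a = 1 := by
  rw [rho_eq Q a ha, ← Subgroup.coe_mul, Cfsg.Agent.Lib.helper17.reflectionIsom_mul_self]
  rfl

theorem rho_inv (Q : QuadraticForm F (ι → F)) (a : ι → F) (ha : Q a ≠ 0) :
    (rho Q a)⁻¹ = rho Q a :=
  inv_eq_of_mul_eq_one_left (rho_mul_self Q a ha)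

theorem rho_conj (Q : QuadraticForm F (ι → F)) (g : GL ι F)
    (hg : ∀ u, Q ((g : Matrix ι ι F) *ᵥ u) = Q u) (a : ι → F) (ha : Q a ≠ 0) :
    g * rho Q a * g⁻¹ = rho Q ((g : Matrix ι ι F) *ᵥ a) := by
  have hga : Q ((g : Matrix ι ι F) *ᵥ a) ≠ 0 := by rw [hg]; exact ha
  apply gl_ext_mulVec
  intro x
  have hp : QuadraticMap.polar Q ((g : Matrix ι ι F) *ᵥ a) x =
      QuadraticMap.polar Q a (((g⁻¹ : GL ι F) : Matrix ι ι F) *ᵥ x) := by
    have h := polar_of_isometry (Q := ⇑Q) hg a (((g⁻¹ : GL ι F) : Matrix ι ι F) *ᵥ x)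
    rw [gl_mulVec_inv_mulVec] at h
    exact h
  rw [Units.val_mul, Units.val_mul, ← Matrix.mulVec_mulVec, ← Matrix.mulVec_mulVec,
    rho_mulVec Q a ha, rho_mulVec Q _ hga, Matrix.mulVec_sub, Matrix.mulVec_smul,
    gl_mulVec_inv_mulVec, hg, hp]

/-- In characteristic two, the product of two reflections lies in `Ω`. -/
theorem rho_mul_rho_mem [Fintype F] (h2 : (2 : F) = 0) (Q : QuadraticForm F (ι → F))
    (hnd : (QuadraticMap.polarBilin Q).Nondegenerate) (a b : ι → F) (ha : Q a ≠ 0) (hb : Q b ≠ 0) :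
    rho Q a * rho Q b ∈ omegaGL ⇑Q := by
  rw [rho_eq Q a ha, rho_eq Q b hb, ← Subgroup.coe_mul]
  exact mem_omegaGL_of_mem _ _
    (Cfsg.Agent.Lib.helper42.refl_mul_refl_mem_commutator h2 Q hnd a b ha hb)

end

section
variable {F : Type*} [Field F] [Fintype F] {n : ℕ}

/-- In characteristic two, `Ω` (inside GL) is contained in any subgroup containing all products of two
reflections. -/
theorem omegaGL_le_of_pairs (hn : 5 ≤ n) (h2 : (2 : F) = 0) (Q : QuadraticForm F (Fin n → F))
    (hnd : (QuadraticMap.polarBilin Q).Nondegenerate) (M : Subgroup (GL (Fin n) F))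
    (hM : ∀ a b, Q a ≠ 0 → Q b ≠ 0 → rho Q a * rho Q b ∈ M) : omegaGL ⇑Q ≤ M := by
  have hchar : ringChar F = 2 :=
    CharP.ringChar_of_prime_eq_zero Nat.prime_two (by exact_mod_cast h2)
  have : CharP F 2 := ringChar.of_eq hchar
  have hS := Cfsg.Agent.S2635.result (F := F) (n := n) (by omega) (Or.inr (by omega)) Q hnd
  intro g hg
  obtain ⟨g', hg', rfl⟩ := hg
  have hg'' : g' ∈ Cfsg.Omega F ⇑Q := hg'
  rw [hS] at hg''
  show (g' : GL (Fin n) F) ∈ M
  refine Subgroup.closure_induction (p := fun (g' : ↥(isometryGroup F ⇑Q)) _ =>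
    (g' : GL (Fin n) F) ∈ M) ?_ ?_ ?_ ?_ hg''
  · rintro g' ⟨u, w, hu, hw, hval⟩
    have : (g' : GL (Fin n) F) = rho Q u * rho Q w :=
      Units.ext (by rw [hval, Units.val_mul, rho_val Q u hu, rho_val Q w hw])
    rw [this]; exact hM u w hu hw
  · exact M.one_mem
  · intro a b _ _ iha ihb
    rw [Subgroup.coe_mul]; exact M.mul_mem iha ihb
  · intro a _ iha
    rw [Subgroup.coe_inv]; exact M.inv_mem iha

/-- If `M ≤ Ω` contains the stabiliser of the non-singular point `⟨v⟩` and an element not stabilising it,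
then `M` contains all products of two reflections (characteristic two). -/
theorem nonsing_point_pairs_all (hn : 9 ≤ n) (h2 : (2 : F) = 0) (Q : QuadraticForm F (Fin n → F))
    (hnd : (QuadraticMap.polarBilin Q).Nondegenerate) (v : Fin n → F) (hv : Q v ≠ 0)
    (M : Subgroup (GL (Fin n) F))
    (hPM : subspaceStabilizer (Submodule.span F {v}) ⊓ omegaGL ⇑Q ≤ M) (hMG : M ≤ omegaGL ⇑Q)
    (h : GL (Fin n) F) (hhM : h ∈ M) (hhW : h ∉ subspaceStabilizer (Submodule.span F {v}))
    (a b : Fin n → F) (ha : Q a ≠ 0) (hb : Q b ≠ 0) : rho Q a * rho Q b ∈ M := by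
  classical
  have hchar : ringChar F = 2 :=
    CharP.ringChar_of_prime_eq_zero Nat.prime_two (by exact_mod_cast h2)
  have hcard : Fintype.card (Fin n) = n := Fintype.card_fin n
  have hpp : ∀ x, QuadraticMap.polar Q x x = 0 := by
    intro x
    rw [QuadraticMap.polar_self, nsmul_eq_mul, Nat.cast_ofNat, h2, zero_mul]
  have hv0 : v ≠ 0 := fun h0 => hv (by rw [h0, map_zero])
  have hiso : ∀ g ∈ M, ∀ u, Q ((g : Matrix (Fin n) (Fin n) F) *ᵥ u) = Q u :=
    fun g hg u => isometry_of_mem_omegaGL (hMG hg) u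
  have hρv : rho Q v * rho Q v = 1 := rho_mul_self Q v hv
  have hρvi : (rho Q v)⁻¹ = rho Q v := rho_inv Q v hv
  have hT0 : ∀ a, Q a ≠ 0 → QuadraticMap.polar Q a v = 0 → rho Q a * rho Q v ∈ M := by
    intro a ha hav
    apply hPM
    refine ⟨mem_subspaceStabilizer_span_singleton _ v 1 one_ne_zero ?_,
      rho_mul_rho_mem h2 Q hnd a v ha hv⟩
    rw [Units.val_mul, ← Matrix.mulVec_mulVec, rho_mulVec Q v hv, hpp, mul_zero, zero_smul, sub_zero,
      rho_mulVec Q a ha, hav, mul_zero, zero_smul, sub_zero, one_smul]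
  have hTr : ∀ a b, Q a ≠ 0 → rho Q a * rho Q v ∈ M → Q b ≠ 0 → rho Q b * rho Q v ∈ M →
      rho Q (((rho Q b : GL (Fin n) F) : Matrix (Fin n) (Fin n) F) *ᵥ a) * rho Q v ∈ M := by
    intro a b ha haM hb hbM
    have e : rho Q (((rho Q b : GL (Fin n) F) : Matrix (Fin n) (Fin n) F) *ᵥ a) * rho Q v =
        (rho Q b * rho Q v) * (rho Q a * rho Q v)⁻¹ * (rho Q b * rho Q v) := by
      rw [← rho_conj Q (rho Q b) (rho_isometry Q b hb) a ha, _root_.mul_inv_rev, rho_inv Q a ha,
        rho_inv Q b hb]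
      group
    rw [e]
    exact M.mul_mem (M.mul_mem hbM (M.inv_mem haM)) hbM
  have hTh : ∀ g ∈ M, ∀ a, Q a ≠ 0 → rho Q a * rho Q v ∈ M →
      rho Q ((g : Matrix (Fin n) (Fin n) F) *ᵥ a) * rho Q v ∈ M →
      rho Q ((g : Matrix (Fin n) (Fin n) F) *ᵥ v) * rho Q v ∈ M := by
    intro g hg a ha haM hgaM
    have e : rho Q ((g : Matrix (Fin n) (Fin n) F) *ᵥ v) * rho Q v =
        g * (rho Q a * rho Q v)⁻¹ * g⁻¹ *
          (rho Q ((g : Matrix (Fin n) (Fin n) F) *ᵥ a) * rho Q v) := by
      rw [← rho_conj Q g (hiso g hg) v hv, ← rho_conj Q g (hiso g hg) a ha, _root_.mul_inv_rev, hρvi]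
      group
    rw [e]
    exact M.mul_mem (M.mul_mem (M.mul_mem hg (M.inv_mem haM)) (M.inv_mem hg)) hgaM
  have hTg : ∀ g ∈ M, rho Q ((g : Matrix (Fin n) (Fin n) F) *ᵥ v) * rho Q v ∈ M →
      ∀ a, Q a ≠ 0 → rho Q a * rho Q v ∈ M →
      rho Q ((g : Matrix (Fin n) (Fin n) F) *ᵥ a) * rho Q v ∈ M := by
    intro g hg hgvM a ha haM
    have e : rho Q ((g : Matrix (Fin n) (Fin n) F) *ᵥ a) * rho Q v =
        g * (rho Q a * rho Q v) * g⁻¹ *
          (rho Q ((g : Matrix (Fin n) (Fin n) F) *ᵥ v) * rho Q v) := by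
      rw [← rho_conj Q g (hiso g hg) v hv, ← rho_conj Q g (hiso g hg) a ha]
      have e2 : g * (rho Q a * rho Q v) * g⁻¹ * (g * rho Q v * g⁻¹ * rho Q v) =
          g * rho Q a * (rho Q v * rho Q v) * g⁻¹ * rho Q v := by group
      rw [e2, hρv, mul_one]
    rw [e]
    exact M.mul_mem (M.mul_mem (M.mul_mem hg haM) (M.inv_mem hg)) hgvM
  have hhv : (h : Matrix (Fin n) (Fin n) F) *ᵥ v ∉ Submodule.span F {v} := by
    intro hmem
    apply hhW
    apply mem_subspaceStabilizer_of_forall
    intro x hx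
    obtain ⟨c, rfl⟩ := Submodule.mem_span_singleton.mp hx
    rw [Matrix.mulVec_smul]
    exact Submodule.smul_mem _ _ hmem
  have hv' : ((h⁻¹ : GL (Fin n) F) : Matrix (Fin n) (Fin n) F) *ᵥ v ∉ Submodule.span F {v} := by
    intro hmem
    obtain ⟨c, hc⟩ := Submodule.mem_span_singleton.mp hmem
    have h1 := congrArg (fun y => (h : Matrix (Fin n) (Fin n) F) *ᵥ y) hc
    simp only [gl_mulVec_inv_mulVec, Matrix.mulVec_smul] at h1
    have hc0 : c ≠ 0 := by
      rintro rfl
      rw [zero_smul] at h1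
      exact hv0 h1.symm
    apply hhv
    rw [Submodule.mem_span_singleton]
    refine ⟨c⁻¹, ?_⟩
    calc c⁻¹ • v = c⁻¹ • (c • (h : Matrix (Fin n) (Fin n) F) *ᵥ v) := by rw [h1]
      _ = (h : Matrix (Fin n) (Fin n) F) *ᵥ v := by
        rw [smul_smul, inv_mul_cancel₀ hc0, one_smul]
  obtain ⟨v', hv'def⟩ : ∃ v' : Fin n → F,
      v' = ((h⁻¹ : GL (Fin n) F) : Matrix (Fin n) (Fin n) F) *ᵥ v := ⟨_, rfl⟩
  rw [← hv'def] at hv'
  have hhv' : (h : Matrix (Fin n) (Fin n) F) *ᵥ v' = v := by
    rw [hv'def]; exact gl_mulVec_inv_mulVec h v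
  have hpolh : ∀ x, QuadraticMap.polar Q ((h : Matrix (Fin n) (Fin n) F) *ᵥ x) v =
      QuadraticMap.polar Q x v' := by
    intro x
    have := polar_of_isometry (Q := ⇑Q) (hiso h hhM) x v'
    rw [hhv'] at this
    exact this
  obtain ⟨a₀, ha₀, ha₀o⟩ := exists_nonsing_perp Q hnd
    (fun i : Fin 2 => if i = 0 then v else v') (by rw [hcard]; omega)
  have ha₀v : QuadraticMap.polar Q a₀ v = 0 := by simpa using ha₀o 0
  have ha₀v' : QuadraticMap.polar Q a₀ v' = 0 := by simpa using ha₀o 1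
  have hha₀ : Q ((h : Matrix (Fin n) (Fin n) F) *ᵥ a₀) ≠ 0 := by rw [hiso h hhM]; exact ha₀
  have hhvT : rho Q ((h : Matrix (Fin n) (Fin n) F) *ᵥ v) * rho Q v ∈ M :=
    hTh h hhM a₀ ha₀ (hT0 a₀ ha₀ ha₀v) (hT0 _ hha₀ (by rw [hpolh]; exact ha₀v'))
  obtain ⟨b₁, hb₁, hb₁M, hb₁v⟩ : ∃ b₁, Q b₁ ≠ 0 ∧ rho Q b₁ * rho Q v ∈ M ∧
      QuadraticMap.polar Q b₁ v ≠ 0 := by
    by_cases hbz : QuadraticMap.polar Q ((h : Matrix (Fin n) (Fin n) F) *ᵥ v) v = 0
    · obtain ⟨e, he, heo, hev'⟩ := exists_nonsing_perp_ne Q hnd (fun _ : Fin 1 => v) v'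
        (by rw [Set.range_const]; exact hv') (by rw [hcard]; omega)
      have hev : QuadraticMap.polar Q e v = 0 := heo 0
      refine ⟨(h : Matrix (Fin n) (Fin n) F) *ᵥ e, by rw [hiso h hhM]; exact he,
        hTg h hhM hhvT e he (hT0 e he hev), ?_⟩
      rw [hpolh]; exact hev'
    · exact ⟨_, by rw [hiso h hhM]; exact hv, hhvT, hbz⟩
  have hclass : ∀ b, Q b ≠ 0 → rho Q b * rho Q v ∈ M → QuadraticMap.polar Q b v ≠ 0 →
      ∀ x, Q x = Q b → QuadraticMap.polar Q x v = QuadraticMap.polar Q b v →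
      rho Q x * rho Q v ∈ M := by
    intro b hb hbM hbv x hxQ hxv
    have hdv : QuadraticMap.polar Q (b - x) v = 0 := by
      rw [QuadraticMap.polar_sub_left, hxv, sub_self]
    by_cases hd : Q (b - x) = 0
    · obtain ⟨e, he, heo, heb⟩ := exists_nonsing_perp_ne Q hnd
        (fun i : Fin 2 => if i = 0 then v else b - x) b
        (notMem_span_of_polar_ne Q _ v b (fun i => by
          by_cases hi : i = 0
          · simp only [hi, if_true]; exact hpp v
          · simp only [hi, if_false]; exact hdv) hbv) (by rw [hcard]; omega)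
      have hev : QuadraticMap.polar Q e v = 0 := by simpa using heo 0
      have hed : QuadraticMap.polar Q e (b - x) = 0 := by simpa using heo 1
      have hyM := hTr b e hb hbM he (hT0 e he hev)
      have hy : ((rho Q e : GL (Fin n) F) : Matrix (Fin n) (Fin n) F) *ᵥ b =
          b - ((Q e)⁻¹ * QuadraticMap.polar Q e b) • e := rho_mulVec Q e he b
      have hQy : Q (((rho Q e : GL (Fin n) F) : Matrix (Fin n) (Fin n) F) *ᵥ b) = Q b :=
        rho_isometry Q e he b
      have hc0 : (Q e)⁻¹ * QuadraticMap.polar Q e b ≠ 0 := mul_ne_zero (inv_ne_zero he) heb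
      have hyx : ((rho Q e : GL (Fin n) F) : Matrix (Fin n) (Fin n) F) *ᵥ b - x =
          (b - x) - ((Q e)⁻¹ * QuadraticMap.polar Q e b) • e := by rw [hy]; abel
      have hQyx : Q (((rho Q e : GL (Fin n) F) : Matrix (Fin n) (Fin n) F) *ᵥ b - x) ≠ 0 := by
        rw [hyx, quad_sub, hd, QuadraticMap.map_smul, QuadraticMap.polar_smul_right,
          QuadraticMap.polar_comm Q (b - x) e, hed]
        simp only [smul_eq_mul, mul_zero, sub_zero, zero_add]
        exact mul_ne_zero (mul_ne_zero hc0 hc0) he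
      have hyxv : QuadraticMap.polar Q
          (((rho Q e : GL (Fin n) F) : Matrix (Fin n) (Fin n) F) *ᵥ b - x) v = 0 := by
        rw [hyx, QuadraticMap.polar_sub_left, hdv, QuadraticMap.polar_smul_left, hev, smul_zero,
          sub_zero]
      have hx_eq : ((rho Q (((rho Q e : GL (Fin n) F) : Matrix (Fin n) (Fin n) F) *ᵥ b - x) :
          GL (Fin n) F) : Matrix (Fin n) (Fin n) F) *ᵥ
          (((rho Q e : GL (Fin n) F) : Matrix (Fin n) (Fin n) F) *ᵥ b) = x := by
        rw [rho_val Q _ hQyx]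
        exact refl_sub_mulVec Q _ x (hxQ.trans hQy.symm) hQyx
      have := hTr _ _ (by rw [hQy]; exact hb) hyM hQyx (hT0 _ hQyx hyxv)
      rw [hx_eq] at this
      exact this
    · have hx_eq : ((rho Q (b - x) : GL (Fin n) F) : Matrix (Fin n) (Fin n) F) *ᵥ b = x := by
        rw [rho_val Q _ hd]
        exact refl_sub_mulVec Q b x hxQ hd
      have := hTr b (b - x) hb hbM hd (hT0 _ hd hdv)
      rw [hx_eq] at this
      exact this
  have hall : ∀ x, Q x ≠ 0 → rho Q x * rho Q v ∈ M := by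
    intro x hx
    by_cases hxv : QuadraticMap.polar Q x v = 0
    · exact hT0 x hx hxv
    · obtain ⟨a₁, ha₁, ha₁o⟩ := exists_nonsing_perp Q hnd
        (fun i : Fin 2 => if i = 0 then v else b₁) (by rw [hcard]; omega)
      have ha₁v : QuadraticMap.polar Q a₁ v = 0 := by simpa using ha₁o 0
      have ha₁b : QuadraticMap.polar Q a₁ b₁ = 0 := by simpa using ha₁o 1
      obtain ⟨c, hc⟩ : ∃ c : F, c = -(QuadraticMap.polar Q x v * Q b₁) /
          (QuadraticMap.polar Q b₁ v) ^ 2 := ⟨_, rfl⟩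
      obtain ⟨s, hs⟩ := FiniteField.isSquare_of_char_two hchar ((Q x - c ^ 2 * Q v) / Q a₁)
      have hQa : Q (s • a₁ + c • v) = Q x := by
        rw [QuadraticMap.map_add (⇑Q), QuadraticMap.map_smul, QuadraticMap.map_smul,
          QuadraticMap.polar_smul_left, QuadraticMap.polar_smul_right, ha₁v]
        simp only [smul_eq_mul, mul_zero, add_zero]
        have h3 : s * s * Q a₁ = Q x - c ^ 2 * Q v := by rw [← hs]; field_simp
        linear_combination h3
      have hav : QuadraticMap.polar Q (s • a₁ + c • v) v = 0 := by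
        rw [QuadraticMap.polar_add_left, QuadraticMap.polar_smul_left, QuadraticMap.polar_smul_left,
          ha₁v, hpp v, smul_zero, smul_zero, add_zero]
      have haQ : Q (s • a₁ + c • v) ≠ 0 := by rw [hQa]; exact hx
      have haM := hT0 _ haQ hav
      have hx₀M := hTr _ b₁ haQ haM hb₁ hb₁M
      have hpol : QuadraticMap.polar Q
          (((rho Q b₁ : GL (Fin n) F) : Matrix (Fin n) (Fin n) F) *ᵥ (s • a₁ + c • v)) v =
          QuadraticMap.polar Q x v := by
        rw [rho_mulVec Q b₁ hb₁, QuadraticMap.polar_sub_left, hav, QuadraticMap.polar_smul_left,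
          QuadraticMap.polar_add_right, QuadraticMap.polar_smul_right, QuadraticMap.polar_smul_right,
          QuadraticMap.polar_comm Q b₁ a₁, ha₁b, hc]
        simp only [smul_eq_mul, mul_zero, zero_add, zero_sub]
        field_simp
      exact hclass _ (by rw [rho_isometry Q b₁ hb₁]; exact haQ) hx₀M (by rw [hpol]; exact hxv) x
        (by rw [rho_isometry Q b₁ hb₁, hQa]) hpol.symm
  have e : rho Q a * rho Q b = (rho Q a * rho Q v) * (rho Q b * rho Q v)⁻¹ := by
    rw [_root_.mul_inv_rev, rho_inv Q b hb]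
    group
  rw [e]
  exact M.mul_mem (hall a ha) (M.inv_mem (hall b hb))

/-- Characteristic two: the stabiliser of a non-singular point in `Ω(Q)` is a maximal subgroup. -/
theorem nonsing_point_maximal (hn : 9 ≤ n) (h2 : (2 : F) = 0) (Q : QuadraticForm F (Fin n → F))
    (hnd : (QuadraticMap.polarBilin Q).Nondegenerate) (v : Fin n → F) (hv : Q v ≠ 0) :
    IsMaximalIn (omegaGL ⇑Q) (subspaceStabilizer (Submodule.span F {v}) ⊓ omegaGL ⇑Q) := by
  have hcard : Fintype.card (Fin n) = n := Fintype.card_fin n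
  have hv0 : v ≠ 0 := fun h0 => hv (by rw [h0, map_zero])
  have hpp : ∀ x, QuadraticMap.polar Q x x = 0 := by
    intro x
    rw [QuadraticMap.polar_self, nsmul_eq_mul, Nat.cast_ofNat, h2, zero_mul]
  refine ⟨?_, ?_⟩
  · refine lt_of_le_of_ne inf_le_right ?_
    intro heq
    obtain ⟨e, he, -, hev⟩ := exists_nonsing_perp_ne Q hnd (fun i : Fin 0 => Fin.elim0 i) v (by
      rw [Set.range_eq_empty, Submodule.span_empty]; simpa using hv0) (by rw [hcard]; omega)
    have hg : rho Q e * rho Q v ∈ subspaceStabilizer (Submodule.span F {v}) ⊓ omegaGL ⇑Q := by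
      rw [heq]; exact rho_mul_rho_mem h2 Q hnd e v he hv
    have h1 := ((mem_subspaceStabilizer_iff _ _).mp hg.1 v).mp (Submodule.mem_span_singleton_self v)
    rw [Units.val_mul, ← Matrix.mulVec_mulVec, rho_mulVec Q v hv, hpp, mul_zero, zero_smul, sub_zero,
      rho_mulVec Q e he] at h1
    have h3 : ((Q e)⁻¹ * QuadraticMap.polar Q e v) • e ∈ Submodule.span F {v} := by
      have := Submodule.sub_mem _ (Submodule.mem_span_singleton_self v) h1
      simpa using this
    have hk : (Q e)⁻¹ * QuadraticMap.polar Q e v ≠ 0 := mul_ne_zero (inv_ne_zero he) hev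
    have h4 : e ∈ Submodule.span F {v} := by
      have := Submodule.smul_mem _ ((Q e)⁻¹ * QuadraticMap.polar Q e v)⁻¹ h3
      rwa [smul_smul, inv_mul_cancel₀ hk, one_smul] at this
    obtain ⟨c, rfl⟩ := Submodule.mem_span_singleton.mp h4
    apply hev
    rw [QuadraticMap.polar_smul_left, hpp, smul_zero]
  · intro M hPM hMG
    by_cases hM : M ≤ subspaceStabilizer (Submodule.span F {v})
    · left; exact le_antisymm (le_inf hM hMG) hPM
    · right
      obtain ⟨h, hhM, hhW⟩ := SetLike.not_le_iff_exists.mp hM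
      exact le_antisymm hMG (omegaGL_le_of_pairs (by omega) h2 Q hnd M (fun a b ha hb =>
        nonsing_point_pairs_all hn h2 Q hnd v hv M hPM hMG h hhM hhW a b ha hb))

end

section
variable {ι : Type} [Fintype ι] [DecidableEq ι] {F : Type*} [Field F]

omit [Fintype ι] [DecidableEq ι] in
theorem polarBilin_nondeg_of (Q : (ι → F) → F) (hQ : IsNondegenerateQuadraticForm Q) :
    (QuadraticMap.polarBilin (qfOfNondeg Q hQ)).Nondegenerate := by
  constructor
  · intro x hx
    by_contra hx0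
    obtain ⟨y, hy⟩ := (hQ.nondegenerate x hx0).2
    exact hy (hx y)
  · intro y hy
    by_contra hy0
    obtain ⟨x, hx⟩ := (hQ.nondegenerate y hy0).1
    exact hx (hy x)

theorem two_eq_zero_of_not_odd_card [Fintype F] (h : ¬ Odd (Fintype.card F)) : (2 : F) = 0 := by
  have h1 : Fintype.card F % 2 = 0 := by
    rcases Nat.even_or_odd (Fintype.card F) with he | ho
    · exact Nat.even_iff.mp he
    · exact absurd ho h
  have h2 : ringChar F = 2 := FiniteField.even_card_iff_char_two.mpr h1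
  have : CharP F 2 := ringChar.of_eq h2
  exact CharTwo.two_eq_zero

end

end Cfsg.Agent.Lib.helper95
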