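import Mathlib
import Cfsg.Prelude.Def_GeometricClasses
import Cfsg.Agent.Lib.helper95.SpMax
import Cfsg.Agent.Lib.helper95.SLTransv
import Cfsg.Agent.Lib.helper95.SpSimSL
import Cfsg.Agent.Lib.helper95.UForm
import Cfsg.Agent.Lib.helper95.NonsingPoint

/-!
A toolkit for a non-degenerate quadratic form over a finite field of odd order: vectors of prescribed
norm orthogonal to a few given vectors, singular vectors, spanning by singular vectors, hyperbolic
partners, Siegel transformations and scaling isometries as elements of GL, and the calculus of the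
maps `x ↦ x + f(x, w) u` for a bilinear form `f`.
-/

set_option autoImplicit false

namespace Cfsg.Agent.Lib.helper95

open Matrix Cfsg Cfsg.Geo

section
variable {ι : Type} [Fintype ι] [DecidableEq ι] {F : Type*} [Field F]
  {f : (ι → F) → (ι → F) → F}

theorem bT_mulVec (hf : IsBilinearForm f) (u w : ι → F) (huw : f u w = 0) (x : ι → F) :
    ((slT u (covec f w) : GL ι F) : Matrix ι ι F) *ᵥ x = x + f x w • u := by
  rw [slT_mulVec u (covec f w) (by rw [covec_dot f hf]; exact huw), covec_dot f hf]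

theorem bT_mul_right (hf : IsBilinearForm f) (u w w' : ι → F) (h1 : f u w = 0)
    (h2 : f u w' = 0) :
    slT u (covec f w) * slT u (covec f w') = slT u (covec f (w + w')) := by
  apply gl_ext_mulVec
  intro x
  rw [Units.val_mul, ← Matrix.mulVec_mulVec, bT_mulVec hf u w' h2, bT_mulVec hf u w h1,
    bT_mulVec hf u (w + w') (by rw [hf.add_right, h1, h2, add_zero]), hf.add_left,
    hf.smul_left, h1, mul_zero, add_zero, hf.add_right, add_smul]
  abel

theorem bT_mul_left (hf : IsBilinearForm f) (u u' w : ι → F) (h1 : f u w = 0)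
    (h2 : f u' w = 0) :
    slT u (covec f w) * slT u' (covec f w) = slT (u + u') (covec f w) := by
  apply gl_ext_mulVec
  intro x
  rw [Units.val_mul, ← Matrix.mulVec_mulVec, bT_mulVec hf u' w h2, bT_mulVec hf u w h1,
    bT_mulVec hf (u + u') w (by rw [hf.add_left, h1, h2, add_zero]), hf.add_left,
    hf.smul_left, h2, mul_zero, add_zero, smul_add]
  abel

theorem bT_zero_right (hf : IsBilinearForm f) (u : ι → F) : slT u (covec f 0) = 1 := by
  apply gl_ext_mulVec
  intro x
  rw [bT_mulVec hf u 0 (form_zero_right f hf u), form_zero_right f hf, zero_smul, add_zero,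
    Units.val_one, Matrix.one_mulVec]

theorem bT_smul (hf : IsBilinearForm f) (c : F) (u w : ι → F) (h : f u w = 0) :
    slT (c • u) (covec f w) = slT u (covec f (c • w)) := by
  apply gl_ext_mulVec
  intro x
  rw [bT_mulVec hf (c • u) w (by rw [hf.smul_left, h, mul_zero]),
    bT_mulVec hf u (c • w) (by rw [hf.smul_right, h, mul_zero]), hf.smul_right, smul_smul,
    mul_comm]

theorem bT_inv (hf : IsBilinearForm f) (u w : ι → F) (h : f u w = 0) :
    (slT u (covec f w))⁻¹ = slT u (covec f (-w)) := by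
  symm
  apply eq_inv_of_mul_eq_one_right
  rw [bT_mul_right hf u w (-w) h (by rw [form_neg_right f hf, h, neg_zero]), add_neg_cancel,
    bT_zero_right hf]

theorem bT_inv_left (hf : IsBilinearForm f) (u w : ι → F) (h : f u w = 0) :
    (slT u (covec f w))⁻¹ = slT (-u) (covec f w) := by
  symm
  apply eq_inv_of_mul_eq_one_right
  have hneg : f (-u) w = 0 := by
    have h1 := hf.smul_left (-1) u w
    rw [neg_one_smul, h, mul_zero] at h1
    exact h1
  rw [bT_mul_left hf u (-u) w h hneg, add_neg_cancel, slT_zero_left]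

theorem bT_conj (hf : IsBilinearForm f) (g : GL ι F)
    (hg : ∀ x y, f ((g : Matrix ι ι F) *ᵥ x) ((g : Matrix ι ι F) *ᵥ y) = f x y) (u w : ι → F)
    (h : f u w = 0) :
    g * slT u (covec f w) * g⁻¹ =
      slT ((g : Matrix ι ι F) *ᵥ u) (covec f ((g : Matrix ι ι F) *ᵥ w)) := by
  symm
  rw [eq_mul_inv_iff_mul_eq]
  apply gl_ext_mulVec
  intro x
  rw [Units.val_mul, Units.val_mul, ← Matrix.mulVec_mulVec, ← Matrix.mulVec_mulVec,
    bT_mulVec hf _ _ (by rw [hg]; exact h), bT_mulVec hf u w h, hg, Matrix.mulVec_add,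
    Matrix.mulVec_smul]

end

section
variable {ι : Type} [Fintype ι] [DecidableEq ι] {F : Type*} [Field F]

omit [Fintype ι] [DecidableEq ι] in
theorem qf_isBilinear (Q : QuadraticForm F (ι → F)) :
    IsBilinearForm (QuadraticMap.polar ⇑Q) where
  add_left := fun x y v => QuadraticMap.polar_add_left Q x y v
  smul_left := fun c x v => by rw [QuadraticMap.polar_smul_left, smul_eq_mul]
  add_right := fun v x y => QuadraticMap.polar_add_right Q v x y
  smul_right := fun c v x => by rw [QuadraticMap.polar_smul_right, smul_eq_mul]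

omit [Fintype ι] [DecidableEq ι] in
theorem qf_polar_self (Q : QuadraticForm F (ι → F)) (x : ι → F) :
    QuadraticMap.polar Q x x = 2 * Q x := by
  rw [QuadraticMap.polar_self, two_smul, two_mul]

omit [Fintype ι] [DecidableEq ι] in
theorem qf_polar_self_sing (Q : QuadraticForm F (ι → F)) {x : ι → F} (hx : Q x = 0) :
    QuadraticMap.polar Q x x = 0 := by
  rw [qf_polar_self, hx, mul_zero]

omit [Fintype ι] [DecidableEq ι] in
theorem qf_nondegForm (Q : QuadraticForm F (ι → F))
    (hnd : (QuadraticMap.polarBilin Q).Nondegenerate) :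
    IsNondegenerateForm (QuadraticMap.polar ⇑Q) := by
  intro v hv
  have h1 : ∃ x, QuadraticMap.polar Q x v ≠ 0 := by
    by_contra hcon
    push Not at hcon
    exact hv (hnd.2 v (fun x => hcon x))
  obtain ⟨x, hx⟩ := h1
  exact ⟨⟨x, hx⟩, ⟨x, by rw [QuadraticMap.polar_comm]; exact hx⟩⟩

theorem qf_exists_covec (Q : QuadraticForm F (ι → F))
    (hnd : (QuadraticMap.polarBilin Q).Nondegenerate) (φ : ι → F) :
    ∃ w, covec (QuadraticMap.polar ⇑Q) w = φ :=
  exists_covec _ (qf_isBilinear Q) (qf_nondegForm Q hnd) φ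

omit [DecidableEq ι] in
/-- A vector orthogonal to the `a i` and not orthogonal to `y`, for `y` outside their span. -/
theorem qf_exists_perp_ne (Q : QuadraticForm F (ι → F))
    (hnd : (QuadraticMap.polarBilin Q).Nondegenerate) {k : ℕ} (a : Fin k → ι → F) (y : ι → F)
    (hy : y ∉ Submodule.span F (Set.range a)) :
    ∃ v, (∀ i, QuadraticMap.polar Q v (a i) = 0) ∧ QuadraticMap.polar Q v y ≠ 0 := by
  have hdp := LinearMap.BilinForm.orthogonal_orthogonal hnd (polarBilin_isRefl Q)
    (Submodule.span F (Set.range a))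
  rw [← hdp, LinearMap.BilinForm.mem_orthogonal_iff] at hy
  push Not at hy
  obtain ⟨v, hv, hvy⟩ := hy
  refine ⟨v, fun i => ?_, hvy⟩
  have h1 := hv (a i) (Submodule.subset_span ⟨i, rfl⟩)
  rw [QuadraticMap.polar_comm]
  exact h1

omit [DecidableEq ι] in
theorem qf_mem_span_of_perp (Q : QuadraticForm F (ι → F))
    (hnd : (QuadraticMap.polarBilin Q).Nondegenerate) (w s : ι → F)
    (h : ∀ y, QuadraticMap.polar Q y w = 0 → QuadraticMap.polar Q y s = 0) :
    ∃ c : F, s = c • w := by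
  by_contra hcon
  push Not at hcon
  have hs : s ∉ Submodule.span F (Set.range (fun _ : Fin 1 => w)) := by
    intro hmem
    rw [Submodule.mem_span_range_iff_exists_fun] at hmem
    obtain ⟨cf, hcf⟩ := hmem
    apply hcon (cf 0)
    rw [← hcf, Fin.sum_univ_one]
  obtain ⟨v, hv, hvs⟩ := qf_exists_perp_ne Q hnd (fun _ : Fin 1 => w) s hs
  exact hvs (h v (hv 0))

omit [Fintype ι] [DecidableEq ι] in
theorem not_mem_span_two (a b y : ι → F) (h : ∀ α β : F, y ≠ α • a + β • b) :
    y ∉ Submodule.span F (Set.range ![a, b]) := by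
  intro hmem
  rw [Submodule.mem_span_range_iff_exists_fun] at hmem
  obtain ⟨cf, hcf⟩ := hmem
  apply h (cf 0) (cf 1)
  rw [← hcf, Fin.sum_univ_two]
  rfl

omit [Fintype ι] [DecidableEq ι] in
theorem not_mem_span_three (a b c y : ι → F) (h : ∀ α β γ : F, y ≠ α • a + β • b + γ • c) :
    y ∉ Submodule.span F (Set.range ![a, b, c]) := by
  intro hmem
  rw [Submodule.mem_span_range_iff_exists_fun] at hmem
  obtain ⟨cf, hcf⟩ := hmem
  apply h (cf 0) (cf 1) (cf 2)
  rw [← hcf, Fin.sum_univ_three]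
  rfl

omit [DecidableEq ι] in
/-- A vector of prescribed norm orthogonal to `k` given vectors, when `2(k+1) < dim`. -/
theorem qf_exists_value [Fintype F] (hodd : Fintype.card F % 2 = 1) (Q : QuadraticForm F (ι → F))
    (hnd : (QuadraticMap.polarBilin Q).Nondegenerate) {k : ℕ} (a : Fin k → ι → F)
    (hk : 2 * (k + 1) < Fintype.card ι) (c : F) :
    ∃ y, Q y = c ∧ ∀ i, QuadraticMap.polar Q y (a i) = 0 := by
  obtain ⟨b₁, hb₁, hb₁a⟩ := exists_nonsing_perp Q hnd a (by omega)
  obtain ⟨b₂, hb₂, hb₂a⟩ := exists_nonsing_perp Q hnd (Fin.cons b₁ a : Fin (k + 1) → ι → F) hk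
  have h21 : QuadraticMap.polar Q b₂ b₁ = 0 := by
    have h0 := hb₂a 0
    rwa [Fin.cons_zero] at h0
  have h2a : ∀ i, QuadraticMap.polar Q b₂ (a i) = 0 := fun i => by
    have h0 := hb₂a (Fin.succ i)
    rwa [Fin.cons_succ] at h0
  obtain ⟨s, t, hst⟩ := FiniteField.exists_root_sum_quadratic
    (f := Polynomial.C (Q b₁) * Polynomial.X ^ 2)
    (g := Polynomial.C (Q b₂) * Polynomial.X ^ 2 + Polynomial.C (-c))
    (Polynomial.degree_C_mul_X_pow 2 hb₁)
    (by
      rw [Polynomial.degree_add_C (by rw [Polynomial.degree_C_mul_X_pow 2 hb₂]; decide),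
        Polynomial.degree_C_mul_X_pow 2 hb₂]
      rfl) hodd
  simp only [Polynomial.eval_mul, Polynomial.eval_C, Polynomial.eval_pow, Polynomial.eval_X,
    Polynomial.eval_add] at hst
  refine ⟨s • b₁ + t • b₂, ?_, fun i => ?_⟩
  · rw [QuadraticMap.map_add (⇑Q), QuadraticMap.map_smul, QuadraticMap.map_smul,
      QuadraticMap.polar_smul_left, QuadraticMap.polar_smul_right, QuadraticMap.polar_comm, h21]
    simp only [smul_eq_mul, mul_zero, add_zero]
    linear_combination hst
  · rw [QuadraticMap.polar_add_left, QuadraticMap.polar_smul_left, QuadraticMap.polar_smul_left,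
      hb₁a, h2a, smul_zero, smul_zero, add_zero]

omit [DecidableEq ι] in
/-- A singular vector orthogonal to the `a i` and not orthogonal to `p`, for `p` outside their
span. -/
theorem qf_exists_sing_perp_ne [Fintype F] (hodd : Fintype.card F % 2 = 1)
    (Q : QuadraticForm F (ι → F)) (hnd : (QuadraticMap.polarBilin Q).Nondegenerate) {k : ℕ}
    (a : Fin k → ι → F) (p : ι → F) (hp : p ∉ Submodule.span F (Set.range a))
    (hk : 2 * (k + 3) < Fintype.card ι) :
    ∃ z, Q z = 0 ∧ (∀ i, QuadraticMap.polar Q z (a i) = 0) ∧ QuadraticMap.polar Q z p ≠ 0 := by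
  obtain ⟨s₀, hs₀a, hs₀p⟩ := qf_exists_perp_ne Q hnd a p hp
  obtain ⟨y, hy, hya⟩ := qf_exists_value hodd Q hnd
    (Fin.cons p (Fin.cons s₀ a) : Fin (k + 2) → ι → F) (by omega) (-(Q s₀))
  have hyp : QuadraticMap.polar Q y p = 0 := by
    have h0 := hya 0
    rwa [Fin.cons_zero] at h0
  have hys : QuadraticMap.polar Q y s₀ = 0 := by
    have h0 := hya (Fin.succ 0)
    rwa [Fin.cons_succ, Fin.cons_zero] at h0
  have hya' : ∀ i, QuadraticMap.polar Q y (a i) = 0 := fun i => by
    have h0 := hya (Fin.succ (Fin.succ i))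
    rwa [Fin.cons_succ, Fin.cons_succ] at h0
  refine ⟨s₀ + y, ?_, fun i => ?_, ?_⟩
  · rw [QuadraticMap.map_add (⇑Q), hy, QuadraticMap.polar_comm, hys]
    ring
  · rw [QuadraticMap.polar_add_left, hs₀a, hya', add_zero]
  · rw [QuadraticMap.polar_add_left, hyp, add_zero]
    exact hs₀p

omit [DecidableEq ι] in
/-- A singular vector `z` orthogonal to the `a i`, with a witness `b` orthogonal to the `a i` and
not orthogonal to `z` (so `z` is outside the span of the `a i`). -/
theorem qf_exists_sing_perp [Fintype F] (h2 : (2 : F) ≠ 0) (hodd : Fintype.card F % 2 = 1)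
    (Q : QuadraticForm F (ι → F)) (hnd : (QuadraticMap.polarBilin Q).Nondegenerate) {k : ℕ}
    (a : Fin k → ι → F) (hk : 2 * (k + 3) < Fintype.card ι) :
    ∃ z b, Q z = 0 ∧ (∀ i, QuadraticMap.polar Q z (a i) = 0) ∧
      (∀ i, QuadraticMap.polar Q b (a i) = 0) ∧ QuadraticMap.polar Q z b ≠ 0 := by
  obtain ⟨b, hb, hba⟩ := exists_nonsing_perp Q hnd a (by omega)
  have hbs : b ∉ Submodule.span F (Set.range a) := by
    apply notMem_span_of_polar_ne Q a b b (fun i => by
      rw [QuadraticMap.polar_comm]; exact hba i)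
    rw [qf_polar_self]
    exact mul_ne_zero h2 hb
  obtain ⟨z, hz, hza, hzb⟩ := qf_exists_sing_perp_ne hodd Q hnd a b hbs hk
  exact ⟨z, b, hz, hza, hba, hzb⟩

omit [Fintype ι] [DecidableEq ι] in
/-- The subspace of vectors orthogonal to `s`. -/
def qfPerp (Q : QuadraticForm F (ι → F)) (s : ι → F) : Submodule F (ι → F) where
  carrier := {y | QuadraticMap.polar Q y s = 0}
  add_mem' := fun {x y} hx hy => by
    have hx' : QuadraticMap.polar Q x s = 0 := hx
    have hy' : QuadraticMap.polar Q y s = 0 := hy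
    show QuadraticMap.polar Q (x + y) s = 0
    rw [QuadraticMap.polar_add_left, hx', hy', add_zero]
  zero_mem' := QuadraticMap.polar_zero_left Q s
  smul_mem' := fun c x hx => by
    have hx' : QuadraticMap.polar Q x s = 0 := hx
    show QuadraticMap.polar Q (c • x) s = 0
    rw [QuadraticMap.polar_smul_left, hx', smul_zero]

omit [DecidableEq ι] in
/-- The singular vectors orthogonal to `w` span the orthogonal complement of `w`. -/
theorem qf_sing_span_perp [Fintype F] (h2 : (2 : F) ≠ 0) (hodd : Fintype.card F % 2 = 1)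
    (Q : QuadraticForm F (ι → F)) (hnd : (QuadraticMap.polarBilin Q).Nondegenerate)
    (hcard : 6 < Fintype.card ι) (w : ι → F) (S : Submodule F (ι → F))
    (hS : ∀ y, Q y = 0 → QuadraticMap.polar Q y w = 0 → y ∈ S) :
    ∀ y, QuadraticMap.polar Q y w = 0 → y ∈ S := by
  intro y hyw
  obtain ⟨y₂, hy₂, hy₂a⟩ := qf_exists_value hodd Q hnd ![w, y] (by omega) (-(Q y))
  have hy₂w : QuadraticMap.polar Q y₂ w = 0 := hy₂a 0
  have hy₂y : QuadraticMap.polar Q y₂ y = 0 := hy₂a 1
  have hyy₂ : QuadraticMap.polar Q y y₂ = 0 := by rw [QuadraticMap.polar_comm]; exact hy₂y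
  have h1 : y + y₂ ∈ S := hS _ (by rw [QuadraticMap.map_add (⇑Q), hy₂, hyy₂]; ring)
    (by rw [QuadraticMap.polar_add_left, hyw, hy₂w, add_zero])
  have h1' : y - y₂ ∈ S := hS _ (by
    rw [sub_eq_add_neg, QuadraticMap.map_add (⇑Q), QuadraticMap.map_neg, hy₂,
      QuadraticMap.polar_neg_right, hyy₂]
    ring) (by rw [QuadraticMap.polar_sub_left, hyw, hy₂w, sub_zero])
  have h3 := S.smul_mem (2⁻¹ : F) (S.add_mem h1 h1')
  have e : (2⁻¹ : F) • (y + y₂ + (y - y₂)) = y := by
    have e' : y + y₂ + (y - y₂) = (2 : F) • y := by rw [two_smul]; abel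
    rw [e', smul_smul, inv_mul_cancel₀ h2, one_smul]
  rw [e] at h3
  exact h3

omit [Fintype ι] [DecidableEq ι] in
/-- A hyperbolic partner of a non-zero singular vector. -/
theorem qf_exists_hyp_partner (Q : QuadraticForm F (ι → F))
    (hnd : (QuadraticMap.polarBilin Q).Nondegenerate) (z : ι → F) (hz0 : z ≠ 0) (hz : Q z = 0) :
    ∃ z', QuadraticMap.polar Q z z' = 1 ∧ Q z' = 0 := by
  obtain ⟨r', hr'⟩ := ((qf_nondegForm Q hnd) z hz0).2
  obtain ⟨r, hr⟩ : ∃ r, QuadraticMap.polar Q z r = 1 :=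
    ⟨(QuadraticMap.polar Q z r')⁻¹ • r', by
      rw [QuadraticMap.polar_smul_right, smul_eq_mul, inv_mul_cancel₀ hr']⟩
  refine ⟨r - Q r • z, ?_, ?_⟩
  · rw [QuadraticMap.polar_sub_right, QuadraticMap.polar_smul_right, qf_polar_self_sing Q hz, hr,
      smul_zero, sub_zero]
  · rw [sub_eq_add_neg, QuadraticMap.map_add (⇑Q), QuadraticMap.map_neg, QuadraticMap.map_smul,
      hz, QuadraticMap.polar_neg_right, QuadraticMap.polar_smul_right, QuadraticMap.polar_comm,
      hr]
    simp only [smul_eq_mul]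
    ring

omit [DecidableEq ι] in
/-- A subspace closed under "singular neighbours orthogonal to `w`" that contains a vector outside
`⟨w⟩` contains the orthogonal complement of `w`. -/
theorem qf_star [Fintype F] (h2 : (2 : F) ≠ 0) (hodd : Fintype.card F % 2 = 1)
    (Q : QuadraticForm F (ι → F)) (hnd : (QuadraticMap.polarBilin Q).Nondegenerate)
    (hcard : 6 < Fintype.card ι) (w : ι → F) (S : Submodule F (ι → F))
    (hstar : ∀ s ∈ S, ∀ y, Q y = 0 → QuadraticMap.polar Q y w = 0 →
      QuadraticMap.polar Q s y ≠ 0 → y ∈ S)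
    (s₀ : ι → F) (hs₀ : s₀ ∈ S) (hs₀w : ∀ c : F, s₀ ≠ c • w) :
    ∀ y, QuadraticMap.polar Q y w = 0 → y ∈ S := by
  obtain ⟨y₁, hy₁, hy₁w, hy₁s⟩ : ∃ y₁, Q y₁ = 0 ∧ QuadraticMap.polar Q y₁ w = 0 ∧
      QuadraticMap.polar Q s₀ y₁ ≠ 0 := by
    by_contra hcon
    push Not at hcon
    have h1 : ∀ y, QuadraticMap.polar Q y w = 0 → y ∈ qfPerp Q s₀ :=
      qf_sing_span_perp h2 hodd Q hnd hcard w (qfPerp Q s₀) (fun y hyy hyw => by
        show QuadraticMap.polar Q y s₀ = 0
        rw [QuadraticMap.polar_comm]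
        exact hcon y hyy hyw)
    obtain ⟨c, hc⟩ := qf_mem_span_of_perp Q hnd w s₀ (fun y hy => h1 y hy)
    exact hs₀w c hc
  have hy₁S : y₁ ∈ S := hstar s₀ hs₀ y₁ hy₁ hy₁w hy₁s
  apply qf_sing_span_perp h2 hodd Q hnd hcard w S
  intro y₂ hy₂ hy₂w
  by_cases h1 : QuadraticMap.polar Q s₀ y₂ = 0
  · by_cases h3 : QuadraticMap.polar Q y₁ y₂ = 0
    · have h4 : y₁ + y₂ ∈ S := by
        apply hstar s₀ hs₀ (y₁ + y₂)
        · rw [QuadraticMap.map_add (⇑Q), hy₁, hy₂, h3]; ring
        · rw [QuadraticMap.polar_add_left, hy₁w, hy₂w, add_zero]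
        · rw [QuadraticMap.polar_add_right, h1, add_zero]; exact hy₁s
      have h5 := S.sub_mem h4 hy₁S
      rw [add_sub_cancel_left] at h5
      exact h5
    · exact hstar y₁ hy₁S y₂ hy₂ hy₂w h3
  · exact hstar s₀ hs₀ y₂ hy₂ hy₂w h1

/-- The Siegel transformation `x ↦ x + B(x,v) z - B(x,z) v - Q(v) B(x,z) z` (`z` singular,
`v ⊥ z`) as an element of GL. -/
noncomputable def qE (Q : QuadraticForm F (ι → F)) (z v : ι → F) : GL ι F :=
  slT z (covec (QuadraticMap.polar ⇑Q) (v + Q v • z)) *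
    slT (-v) (covec (QuadraticMap.polar ⇑Q) z)

theorem qE_mulVec (Q : QuadraticForm F (ι → F)) (z v : ι → F) (hz : Q z = 0)
    (hzv : QuadraticMap.polar Q z v = 0) (x : ι → F) :
    ((qE Q z v : GL ι F) : Matrix ι ι F) *ᵥ x =
      x + QuadraticMap.polar Q x v • z - QuadraticMap.polar Q x z • v -
        (Q v * QuadraticMap.polar Q x z) • z := by
  unfold qE
  have hb := qf_isBilinear Q
  have hzz : QuadraticMap.polar Q z z = 0 := qf_polar_self_sing Q hz
  have hvz : QuadraticMap.polar Q v z = 0 := by rw [QuadraticMap.polar_comm]; exact hzv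
  rw [Units.val_mul, ← Matrix.mulVec_mulVec,
    bT_mulVec hb (-v) z (by rw [QuadraticMap.polar_neg_left, hvz, neg_zero]),
    bT_mulVec hb z (v + Q v • z) (by
      rw [QuadraticMap.polar_add_right, QuadraticMap.polar_smul_right, hzv, hzz, smul_zero,
        add_zero])]
  simp only [QuadraticMap.polar_add_left, QuadraticMap.polar_add_right,
    QuadraticMap.polar_smul_left, QuadraticMap.polar_smul_right, QuadraticMap.polar_neg_left,
    smul_eq_mul, hvz, qf_polar_self, mul_zero, neg_zero, add_zero]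
  module

theorem qE_isometry (Q : QuadraticForm F (ι → F)) (z v : ι → F) (hz : Q z = 0)
    (hzv : QuadraticMap.polar Q z v = 0) (x : ι → F) :
    Q (((qE Q z v : GL ι F) : Matrix ι ι F) *ᵥ x) = Q x := by
  rw [qE_mulVec Q z v hz hzv]
  have e : x + QuadraticMap.polar Q x v • z - QuadraticMap.polar Q x z • v -
      (Q v * QuadraticMap.polar Q x z) • z =
      x + ((QuadraticMap.polar Q x v - Q v * QuadraticMap.polar Q x z) • z +
        (-QuadraticMap.polar Q x z) • v) := by module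
  rw [e, QuadraticMap.map_add (⇑Q), QuadraticMap.map_add (⇑Q), QuadraticMap.map_smul,
    QuadraticMap.map_smul, hz]
  simp only [QuadraticMap.polar_add_right, QuadraticMap.polar_smul_left,
    QuadraticMap.polar_smul_right, smul_eq_mul, hzv]
  ring

theorem qE_mem (Q : QuadraticForm F (ι → F)) (z v : ι → F) (hz : Q z = 0)
    (hzv : QuadraticMap.polar Q z v = 0) :
    qE Q z v ∈ quadSimilarityGroup ⇑Q ⊓ specialLinear ι F := by
  refine ⟨⟨1, fun x => ?_⟩, ?_⟩
  · rw [qE_isometry Q z v hz hzv, Units.val_one, one_mul]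
  · unfold qE
    exact (specialLinear ι F).mul_mem (slT_mem _ _) (slT_mem _ _)

theorem qE_polar (Q : QuadraticForm F (ι → F)) (z v : ι → F) (hz : Q z = 0)
    (hzv : QuadraticMap.polar Q z v = 0) (x y : ι → F) :
    QuadraticMap.polar Q (((qE Q z v : GL ι F) : Matrix ι ι F) *ᵥ x)
      (((qE Q z v : GL ι F) : Matrix ι ι F) *ᵥ y) = QuadraticMap.polar Q x y :=
  polar_of_isometry (Q := ⇑Q) (g := qE Q z v) (qE_isometry Q z v hz hzv) x y

/-- The scaling isometry `z ↦ l z`, `z' ↦ l⁻¹ z'` of a hyperbolic pair, of determinant one. -/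
theorem qf_exists_scaling (Q : QuadraticForm F (ι → F)) (z z' : ι → F) (hz : Q z = 0)
    (hz' : Q z' = 0) (hzz' : QuadraticMap.polar Q z z' = 1) (l : F) (hl : l ≠ 0) :
    ∃ g : GL ι F, g ∈ quadSimilarityGroup ⇑Q ⊓ specialLinear ι F ∧
      (∀ x, Q ((g : Matrix ι ι F) *ᵥ x) = Q x) ∧
      ∀ x, (g : Matrix ι ι F) *ᵥ x = x + ((l - 1) * QuadraticMap.polar Q x z') • z +
        ((l⁻¹ - 1) * QuadraticMap.polar Q x z) • z' := by
  have hb := qf_isBilinear Q
  have hz'z : QuadraticMap.polar Q z' z = 1 := by rw [QuadraticMap.polar_comm]; exact hzz'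
  have hz'z' : QuadraticMap.polar Q z' z' = 0 := qf_polar_self_sing Q hz'
  have d1 : 1 + covec (QuadraticMap.polar ⇑Q) z' ⬝ᵥ ((l - 1) • z) = l := by
    rw [covec_dot _ hb, QuadraticMap.polar_smul_left, hzz', smul_eq_mul]; ring
  have d2 : 1 + covec (QuadraticMap.polar ⇑Q) z ⬝ᵥ ((l⁻¹ - 1) • z') = l⁻¹ := by
    rw [covec_dot _ hb, QuadraticMap.polar_smul_left, hz'z, smul_eq_mul]; ring
  have n1 : 1 + covec (QuadraticMap.polar ⇑Q) z' ⬝ᵥ ((l - 1) • z) ≠ 0 := by rw [d1]; exact hl
  have n2 : 1 + covec (QuadraticMap.polar ⇑Q) z ⬝ᵥ ((l⁻¹ - 1) • z') ≠ 0 := by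
    rw [d2]; exact inv_ne_zero hl
  have hact : ∀ x, ((psr ((l - 1) • z) (covec (QuadraticMap.polar ⇑Q) z') *
      psr ((l⁻¹ - 1) • z') (covec (QuadraticMap.polar ⇑Q) z) : GL ι F) : Matrix ι ι F) *ᵥ x =
      x + ((l - 1) * QuadraticMap.polar Q x z') • z +
        ((l⁻¹ - 1) * QuadraticMap.polar Q x z) • z' := by
    intro x
    rw [Units.val_mul, ← Matrix.mulVec_mulVec, psr_mulVec _ _ n2, psr_mulVec _ _ n1]
    simp only [covec_dot _ hb, QuadraticMap.polar_add_left, QuadraticMap.polar_smul_left,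
      smul_eq_mul, hz'z', mul_zero, add_zero, smul_smul]
    rw [mul_comm (QuadraticMap.polar Q x z), mul_comm (QuadraticMap.polar Q x z')]
    abel
  have hiso : ∀ x, Q (x + ((l - 1) * QuadraticMap.polar Q x z') • z +
      ((l⁻¹ - 1) * QuadraticMap.polar Q x z) • z') = Q x := by
    intro x
    rw [add_assoc, QuadraticMap.map_add (⇑Q), QuadraticMap.map_add (⇑Q), QuadraticMap.map_smul,
      QuadraticMap.map_smul, hz, hz']
    simp only [QuadraticMap.polar_add_right, QuadraticMap.polar_smul_left,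
      QuadraticMap.polar_smul_right, smul_eq_mul, hzz']
    field_simp
    ring
  refine ⟨_, ⟨⟨1, fun x => ?_⟩, (mem_specialLinear_iff _).mpr ?_⟩, fun x => ?_, hact⟩
  · rw [hact, hiso, Units.val_one, one_mul]
  · rw [Units.val_mul, Matrix.det_mul, psr_det _ _ n1, psr_det _ _ n2, d1, d2,
      mul_inv_cancel₀ hl]
  · rw [hact, hiso]

end

end Cfsg.Agent.Lib.helper95
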