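import Mathlib
import Cfsg.Prelude.Def_GeometricClasses
import Cfsg.Agent.Lib.helper95.SpMax
import Cfsg.Agent.Lib.helper95.SLTransv
import Cfsg.Agent.Lib.helper95.SpSimSL
import Cfsg.Agent.Lib.helper95.UForm
import Cfsg.Agent.Lib.helper95.USimSL
import Cfsg.Agent.Lib.helper95.NonsingPoint
import Cfsg.Agent.Lib.helper95.OForm

/-!
The similarity group of a non-degenerate quadratic form over a finite field of odd order meets the
special linear group in a maximal subgroup of the special linear group (dimension at least 13).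
An overgroup containing a non-similarity `h` contains, for a suitable Siegel transformation `E` and
a suitable Siegel transformation `E'`, the commutator of `E'` and `h E h⁻¹`, which is a
transvection; from it one gets a transvection with singular centre, then all transvections with that
centre, then all transvections.
-/

set_option autoImplicit false

namespace Cfsg.Agent.Lib.helper95

open Matrix Cfsg Cfsg.Geo

section
variable {ι : Type} [Fintype ι] [DecidableEq ι] {F : Type*} [Field F] [Fintype F]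

theorem two_ne_zero_of_odd_card (hodd : Fintype.card F % 2 = 1) : (2 : F) ≠ 0 := by
  intro h0
  have h1 : ringChar F ∣ 2 := ringChar.dvd (by exact_mod_cast h0)
  have h3 : ringChar F = 2 := by
    rcases (Nat.dvd_prime Nat.prime_two).mp h1 with h4 | h4
    · exact absurd h4 CharP.ringChar_ne_one
    · exact h4
  have h5 := FiniteField.even_card_of_char_two h3
  omega

/-- A non-similarity fails to be conformal at some non-zero singular vector. -/
theorem q_step0 (h2 : (2 : F) ≠ 0) (hodd : Fintype.card F % 2 = 1) (Q : QuadraticForm F (ι → F))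
    (hnd : (QuadraticMap.polarBilin Q).Nondegenerate) (hcard : 10 < Fintype.card ι) (h : GL ι F)
    (hhf : h ∉ quadSimilarityGroup ⇑Q) :
    ∃ u, u ≠ 0 ∧ Q u = 0 ∧ ∀ μ : F,
      ¬ ∀ y, QuadraticMap.polar Q ((h : Matrix ι ι F) *ᵥ y) ((h : Matrix ι ι F) *ᵥ u) =
        μ * QuadraticMap.polar Q y u := by
  by_contra hcon
  push Not at hcon
  apply hhf
  choose! μ hμ using hcon
  have hndf := qf_nondegForm Q hnd
  have hconst1 : ∀ v₁ v₂, Q v₁ = 0 → Q v₂ = 0 → QuadraticMap.polar Q v₁ v₂ = 0 →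
      (∀ α β : F, α • v₁ + β • v₂ = 0 → α = 0 ∧ β = 0) → μ v₁ = μ v₂ := by
    intro v₁ v₂ h1 h2' h12 hind
    have hv₁0 : v₁ ≠ 0 := by
      intro h0
      exact one_ne_zero (hind 1 0 (by rw [h0, smul_zero, zero_smul, add_zero])).1
    have hv₂0 : v₂ ≠ 0 := by
      intro h0
      exact one_ne_zero (hind 0 1 (by rw [h0, smul_zero, zero_smul, add_zero])).2
    have hv₃ : Q (v₁ + v₂) = 0 := by
      rw [QuadraticMap.map_add (⇑Q), h1, h2', h12]; ring
    have hv₃0 : v₁ + v₂ ≠ 0 := by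
      intro h0
      exact one_ne_zero (hind 1 1 (by rw [one_smul, one_smul]; exact h0)).1
    have e1 := hμ v₁ hv₁0 h1
    have e2 := hμ v₂ hv₂0 h2'
    have e3 := hμ (v₁ + v₂) hv₃0 hv₃
    have e4 : ∀ y, QuadraticMap.polar Q y
        ((μ v₁ - μ (v₁ + v₂)) • v₁ + (μ v₂ - μ (v₁ + v₂)) • v₂) = 0 := by
      intro y
      have h5 := e3 y
      rw [Matrix.mulVec_add, QuadraticMap.polar_add_right, e1 y, e2 y,
        QuadraticMap.polar_add_right] at h5
      rw [QuadraticMap.polar_add_right, QuadraticMap.polar_smul_right,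
        QuadraticMap.polar_smul_right, smul_eq_mul, smul_eq_mul]
      linear_combination h5
    have e5 : (μ v₁ - μ (v₁ + v₂)) • v₁ + (μ v₂ - μ (v₁ + v₂)) • v₂ = 0 := by
      by_contra hne
      obtain ⟨x, hx⟩ := (hndf _ hne).1
      exact hx (e4 x)
    obtain ⟨h7, h8⟩ := hind _ _ e5
    rw [sub_eq_zero.mp h7, sub_eq_zero.mp h8]
  have hconst : ∀ v₁ v₂, v₁ ≠ 0 → v₂ ≠ 0 → Q v₁ = 0 → Q v₂ = 0 → μ v₁ = μ v₂ := by
    intro v₁ v₂ hv₁0 hv₂0 h1 h2'
    obtain ⟨v₃, b, hv₃, hv₃a, hba, hv₃b⟩ :=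
      qf_exists_sing_perp h2 hodd Q hnd ![v₁, v₂] (by omega)
    have h31 : QuadraticMap.polar Q v₃ v₁ = 0 := hv₃a 0
    have h32 : QuadraticMap.polar Q v₃ v₂ = 0 := hv₃a 1
    have hb1 : QuadraticMap.polar Q b v₁ = 0 := hba 0
    have hb2 : QuadraticMap.polar Q b v₂ = 0 := hba 1
    have hind : ∀ v : ι → F, v ≠ 0 → QuadraticMap.polar Q b v = 0 →
        ∀ α β : F, α • v + β • v₃ = 0 → α = 0 ∧ β = 0 := by
      intro v hv0 hbv α β h0
      have h5 : QuadraticMap.polar Q (α • v + β • v₃) b = 0 := by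
        rw [h0, QuadraticMap.polar_zero_left]
      have hβ : β = 0 := by
        rw [QuadraticMap.polar_add_left, QuadraticMap.polar_smul_left,
          QuadraticMap.polar_smul_left, QuadraticMap.polar_comm (⇑Q) v b, hbv, smul_zero,
          zero_add, smul_eq_mul] at h5
        rcases mul_eq_zero.mp h5 with h6 | h6
        · exact h6
        · exact absurd h6 hv₃b
      refine ⟨?_, hβ⟩
      rw [hβ, zero_smul, add_zero] at h0
      rcases smul_eq_zero.mp h0 with h6 | h6
      · exact h6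
      · exact absurd h6 hv0
    rw [hconst1 v₁ v₃ h1 hv₃ (by rw [QuadraticMap.polar_comm]; exact h31) (hind v₁ hv₁0 hb1),
      hconst1 v₂ v₃ h2' hv₃ (by rw [QuadraticMap.polar_comm]; exact h32) (hind v₂ hv₂0 hb2)]
  obtain ⟨vs, bs, hvs, -, -, hvsb⟩ :=
    qf_exists_sing_perp h2 hodd Q hnd (fun i : Fin 0 => Fin.elim0 i) (by omega)
  have hvs0 : vs ≠ 0 := by
    intro h0
    rw [h0, QuadraticMap.polar_zero_left] at hvsb
    exact hvsb rfl
  have hinj : ∀ x : ι → F, (h : Matrix ι ι F) *ᵥ x = 0 → x = 0 := by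
    intro x hx
    have h1 := gl_inv_mulVec_mulVec h x
    rw [hx, Matrix.mulVec_zero] at h1
    exact h1.symm
  have hμ0 : μ vs ≠ 0 := by
    intro h0
    have hhv : (h : Matrix ι ι F) *ᵥ vs ≠ 0 := fun h1 => hvs0 (hinj vs h1)
    obtain ⟨x, hx⟩ := (hndf _ hhv).1
    apply hx
    have h5 := hμ vs hvs0 hvs (((h⁻¹ : GL ι F) : Matrix ι ι F) *ᵥ x)
    rw [gl_mulVec_inv_mulVec, h0, zero_mul] at h5
    exact h5
  have hall : ∀ v y, QuadraticMap.polar Q ((h : Matrix ι ι F) *ᵥ y) ((h : Matrix ι ι F) *ᵥ v) =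
      μ vs * QuadraticMap.polar Q y v := by
    intro v y
    let S : Submodule F (ι → F) :=
      { carrier := {v | QuadraticMap.polar Q ((h : Matrix ι ι F) *ᵥ y) ((h : Matrix ι ι F) *ᵥ v) =
          μ vs * QuadraticMap.polar Q y v}
        add_mem' := fun {a b} ha hb => by
          have ha' : QuadraticMap.polar Q ((h : Matrix ι ι F) *ᵥ y) ((h : Matrix ι ι F) *ᵥ a) =
            μ vs * QuadraticMap.polar Q y a := ha
          have hb' : QuadraticMap.polar Q ((h : Matrix ι ι F) *ᵥ y) ((h : Matrix ι ι F) *ᵥ b) =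
            μ vs * QuadraticMap.polar Q y b := hb
          show QuadraticMap.polar Q ((h : Matrix ι ι F) *ᵥ y) ((h : Matrix ι ι F) *ᵥ (a + b)) =
            μ vs * QuadraticMap.polar Q y (a + b)
          rw [Matrix.mulVec_add, QuadraticMap.polar_add_right, ha', hb',
            QuadraticMap.polar_add_right, mul_add]
        zero_mem' := by
          show QuadraticMap.polar Q ((h : Matrix ι ι F) *ᵥ y) ((h : Matrix ι ι F) *ᵥ 0) =
            μ vs * QuadraticMap.polar Q y 0
          rw [Matrix.mulVec_zero, QuadraticMap.polar_zero_right, QuadraticMap.polar_zero_right,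
            mul_zero]
        smul_mem' := fun c a ha => by
          have ha' : QuadraticMap.polar Q ((h : Matrix ι ι F) *ᵥ y) ((h : Matrix ι ι F) *ᵥ a) =
            μ vs * QuadraticMap.polar Q y a := ha
          show QuadraticMap.polar Q ((h : Matrix ι ι F) *ᵥ y) ((h : Matrix ι ι F) *ᵥ (c • a)) =
            μ vs * QuadraticMap.polar Q y (c • a)
          rw [Matrix.mulVec_smul, QuadraticMap.polar_smul_right, ha',
            QuadraticMap.polar_smul_right, smul_eq_mul, smul_eq_mul]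
          ring }
    have hS : ∀ v, QuadraticMap.polar Q v 0 = 0 → v ∈ S := by
      apply qf_sing_span_perp h2 hodd Q hnd (by omega) 0 S
      intro v hv _
      by_cases hv0 : v = 0
      · rw [hv0]; exact S.zero_mem
      · show QuadraticMap.polar Q ((h : Matrix ι ι F) *ᵥ y) ((h : Matrix ι ι F) *ᵥ v) =
          μ vs * QuadraticMap.polar Q y v
        rw [hμ v hv0 hv y, hconst v vs hv0 hvs0 hv hvs]
    exact hS v (QuadraticMap.polar_zero_right Q v)
  refine ⟨Units.mk0 (μ vs) hμ0, fun v => ?_⟩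
  rw [Units.val_mk0]
  have h5 := hall v v
  rw [qf_polar_self, qf_polar_self] at h5
  have h6 : (2 : F) * (Q ((h : Matrix ι ι F) *ᵥ v) - μ vs * Q v) = 0 := by
    linear_combination h5
  rcases mul_eq_zero.mp h6 with h7 | h7
  · exact absurd h7 h2
  · exact sub_eq_zero.mp h7

/-- If `M` contains the similarities of determinant one of the quadratic form `Q` and an element
that is not a similarity, then `M` contains every transvection. -/
theorem q_sim_transv_all (h2 : (2 : F) ≠ 0) (hodd : Fintype.card F % 2 = 1)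
    (Q : QuadraticForm F (ι → F)) (hnd : (QuadraticMap.polarBilin Q).Nondegenerate)
    (hcard : 12 < Fintype.card ι)
    (M : Subgroup (GL ι F)) (hPM : quadSimilarityGroup ⇑Q ⊓ specialLinear ι F ≤ M)
    (h : GL ι F) (hhM : h ∈ M) (hhf : h ∉ quadSimilarityGroup ⇑Q)
    (u φ : ι → F) (huφ : φ ⬝ᵥ u = 0) : slT u φ ∈ M := by
  have hb := qf_isBilinear Q
  have hndf := qf_nondegForm Q hnd
  obtain ⟨u₁, hu₁0, hu₁, hu₁bad⟩ := q_step0 h2 hodd Q hnd (by omega) h hhf
  have hu₁u₁ : QuadraticMap.polar Q u₁ u₁ = 0 := qf_polar_self_sing Q hu₁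
  obtain ⟨p, hp⟩ : ∃ p, p = (h : Matrix ι ι F) *ᵥ u₁ := ⟨_, rfl⟩
  obtain ⟨a, ha⟩ := qf_exists_covec Q hnd
    (covec (QuadraticMap.polar ⇑Q) p ᵥ* (h : Matrix ι ι F))
  have haf : ∀ x, QuadraticMap.polar Q x a = QuadraticMap.polar Q ((h : Matrix ι ι F) *ᵥ x) p := by
    intro x
    rw [← covec_dot _ hb a x, ha, ← Matrix.dotProduct_mulVec, covec_dot _ hb]
  have haspan : ∀ μ : F, a ≠ μ • u₁ := by
    intro μ hμ
    apply hu₁bad μ
    intro y
    rw [← hp, ← haf, hμ, QuadraticMap.polar_smul_right, smul_eq_mul]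
  -- the second singular vector `w`
  obtain ⟨w, hw0, hw, hwu₁, hwcase⟩ : ∃ w, w ≠ 0 ∧ Q w = 0 ∧ QuadraticMap.polar Q w u₁ = 0 ∧
      ((QuadraticMap.polar Q w a = 0 ∧ Q p ≠ 0) ∨ (QuadraticMap.polar Q w a ≠ 0 ∧ Q p = 0)) := by
    by_cases hQp : Q p = 0
    · have hspan : a ∉ Submodule.span F (Set.range (fun _ : Fin 1 => u₁)) := by
        intro hmem
        rw [Submodule.mem_span_range_iff_exists_fun] at hmem
        obtain ⟨cf, hcf⟩ := hmem
        apply haspan (cf 0)
        rw [← hcf, Fin.sum_univ_one]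
      obtain ⟨w, hw, hwa, hwp⟩ :=
        qf_exists_sing_perp_ne hodd Q hnd (fun _ : Fin 1 => u₁) a hspan (by omega)
      refine ⟨w, ?_, hw, hwa 0, Or.inr ⟨hwp, hQp⟩⟩
      intro h0
      rw [h0, QuadraticMap.polar_zero_left] at hwp
      exact hwp rfl
    · obtain ⟨w, b, hw, hwa, hba, hwb⟩ :=
        qf_exists_sing_perp h2 hodd Q hnd ![u₁, a] (by omega)
      refine ⟨w, ?_, hw, hwa 0, Or.inl ⟨hwa 1, hQp⟩⟩
      intro h0
      rw [h0, QuadraticMap.polar_zero_left] at hwb
      exact hwb rfl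
  have hww : QuadraticMap.polar Q w w = 0 := qf_polar_self_sing Q hw
  have hu₁w : QuadraticMap.polar Q u₁ w = 0 := by rw [QuadraticMap.polar_comm]; exact hwu₁
  obtain ⟨r, hr⟩ : ∃ r, r = (h : Matrix ι ι F) *ᵥ w := ⟨_, rfl⟩
  obtain ⟨us, hus⟩ := qf_exists_covec Q hnd
    (covec (QuadraticMap.polar ⇑Q) u₁ ᵥ* ((h⁻¹ : GL ι F) : Matrix ι ι F))
  obtain ⟨ws, hws⟩ := qf_exists_covec Q hnd
    (covec (QuadraticMap.polar ⇑Q) w ᵥ* ((h⁻¹ : GL ι F) : Matrix ι ι F))
  have husf : ∀ x, QuadraticMap.polar Q x us =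
      QuadraticMap.polar Q (((h⁻¹ : GL ι F) : Matrix ι ι F) *ᵥ x) u₁ := by
    intro x
    rw [← covec_dot _ hb us x, hus, ← Matrix.dotProduct_mulVec, covec_dot _ hb]
  have hwsf : ∀ x, QuadraticMap.polar Q x ws =
      QuadraticMap.polar Q (((h⁻¹ : GL ι F) : Matrix ι ι F) *ᵥ x) w := by
    intro x
    rw [← covec_dot _ hb ws x, hws, ← Matrix.dotProduct_mulVec, covec_dot _ hb]
  have hp_us : QuadraticMap.polar Q p us = 0 := by
    rw [husf, hp, gl_inv_mulVec_mulVec]; exact hu₁u₁
  have hp_ws : QuadraticMap.polar Q p ws = 0 := by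
    rw [hwsf, hp, gl_inv_mulVec_mulVec]; exact hu₁w
  have hr_us : QuadraticMap.polar Q r us = 0 := by
    rw [husf, hr, gl_inv_mulVec_mulVec]; exact hwu₁
  have hr_ws : QuadraticMap.polar Q r ws = 0 := by
    rw [hwsf, hr, gl_inv_mulVec_mulVec]; exact hww
  have hr_p : QuadraticMap.polar Q r p = QuadraticMap.polar Q w a := by rw [haf, hr]
  have hp_r : QuadraticMap.polar Q p r = QuadraticMap.polar Q w a := by
    rw [QuadraticMap.polar_comm]; exact hr_p
  have hws0 : ws ≠ 0 := by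
    intro h0
    obtain ⟨y, hy⟩ := (hndf w hw0).1
    apply hy
    have h5 := hwsf ((h : Matrix ι ι F) *ᵥ y)
    rw [gl_inv_mulVec_mulVec, h0, QuadraticMap.polar_zero_right] at h5
    exact h5.symm
  have hkey : p ∉ Submodule.span F (Set.range ![us, ws, r]) := by
    apply not_mem_span_three
    intro α β δ heq
    have e1 := congrArg (fun t => QuadraticMap.polar Q p t) heq
    simp only [QuadraticMap.polar_add_right, QuadraticMap.polar_smul_right, smul_eq_mul, hp_us,
      hp_ws, hp_r, mul_zero, zero_add] at e1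
    rw [qf_polar_self] at e1
    rcases hwcase with ⟨hwa0, hQp⟩ | ⟨hwa, hQp⟩
    · rw [hwa0, mul_zero] at e1
      rcases mul_eq_zero.mp e1 with h6 | h6
      · exact h2 h6
      · exact hQp h6
    · rw [hQp, mul_zero] at e1
      have hδ : δ = 0 := by
        rcases mul_eq_zero.mp e1.symm with h6 | h6
        · exact h6
        · exact absurd h6 hwa
      have e2 := congrArg (fun t => QuadraticMap.polar Q r t) heq
      simp only [QuadraticMap.polar_add_right, QuadraticMap.polar_smul_right, smul_eq_mul, hr_us,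
        hr_ws, hr_p, hδ, mul_zero, zero_mul, zero_add] at e2
      exact hwa e2
  -- the Siegel transformation `E' = E(z, v)`
  obtain ⟨z, hz, hza, hzp⟩ := qf_exists_sing_perp_ne hodd Q hnd ![us, ws, r] p hkey (by omega)
  have hz_us : QuadraticMap.polar Q z us = 0 := hza 0
  have hz_ws : QuadraticMap.polar Q z ws = 0 := hza 1
  have hz_r : QuadraticMap.polar Q z r = 0 := hza 2
  obtain ⟨v, hv, hva⟩ := exists_nonsing_perp Q hnd ![us, ws, r, z] (by omega)
  have hv_us : QuadraticMap.polar Q v us = 0 := hva 0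
  have hv_ws : QuadraticMap.polar Q v ws = 0 := hva 1
  have hv_r : QuadraticMap.polar Q v r = 0 := hva 2
  have hv_z : QuadraticMap.polar Q v z = 0 := hva 3
  have hzv : QuadraticMap.polar Q z v = 0 := by rw [QuadraticMap.polar_comm]; exact hv_z
  have hpz : QuadraticMap.polar Q p z ≠ 0 := by rw [QuadraticMap.polar_comm]; exact hzp
  have hr_z : QuadraticMap.polar Q r z = 0 := by rw [QuadraticMap.polar_comm]; exact hz_r
  have hr_v : QuadraticMap.polar Q r v = 0 := by rw [QuadraticMap.polar_comm]; exact hv_r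
  have hE₁ := hPM (qE_mem Q u₁ w hu₁ hu₁w)
  have hE' := hPM (qE_mem Q z v hz hzv)
  obtain ⟨g, hg⟩ : ∃ g, g = h * qE Q u₁ w * h⁻¹ := ⟨_, rfl⟩
  have hgM : g ∈ M := by
    rw [hg]; exact M.mul_mem (M.mul_mem hhM hE₁) (M.inv_mem hhM)
  have hgx : ∀ x, (g : Matrix ι ι F) *ᵥ x =
      x + QuadraticMap.polar Q x ws • p - QuadraticMap.polar Q x us • r := by
    intro x
    rw [hg, Units.val_mul, Units.val_mul, ← Matrix.mulVec_mulVec, ← Matrix.mulVec_mulVec,
      qE_mulVec Q u₁ w hu₁ hu₁w, hw, zero_mul, zero_smul, sub_zero, Matrix.mulVec_sub,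
      Matrix.mulVec_add, Matrix.mulVec_smul, Matrix.mulVec_smul, gl_mulVec_inv_mulVec, ← hwsf,
      ← husf, ← hp, ← hr]
  obtain ⟨c₀, hc₀⟩ : ∃ c₀, c₀ = QuadraticMap.polar Q p v • z - QuadraticMap.polar Q p z • v -
      (Q v * QuadraticMap.polar Q p z) • z := ⟨_, rfl⟩
  have hc₀ws : QuadraticMap.polar Q c₀ ws = 0 := by
    rw [hc₀]
    simp only [QuadraticMap.polar_sub_left, QuadraticMap.polar_smul_left, hz_ws, hv_ws, smul_zero,
      sub_zero]
  have hτ : slT c₀ (covec (QuadraticMap.polar ⇑Q) ws) ∈ M := by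
    have e : slT c₀ (covec (QuadraticMap.polar ⇑Q) ws) = qE Q z v * g * (qE Q z v)⁻¹ * g⁻¹ := by
      rw [eq_mul_inv_iff_mul_eq, eq_mul_inv_iff_mul_eq]
      apply gl_ext_mulVec
      intro x
      have hEx : ∀ y, QuadraticMap.polar Q (((qE Q z v : GL ι F) : Matrix ι ι F) *ᵥ y) ws =
          QuadraticMap.polar Q y ws := by
        intro y
        rw [qE_mulVec Q z v hz hzv]
        simp only [QuadraticMap.polar_sub_left, QuadraticMap.polar_add_left,
          QuadraticMap.polar_smul_left, hz_ws, hv_ws, smul_zero, sub_zero, add_zero]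
      have hEx' : ∀ y, QuadraticMap.polar Q (((qE Q z v : GL ι F) : Matrix ι ι F) *ᵥ y) us =
          QuadraticMap.polar Q y us := by
        intro y
        rw [qE_mulVec Q z v hz hzv]
        simp only [QuadraticMap.polar_sub_left, QuadraticMap.polar_add_left,
          QuadraticMap.polar_smul_left, hz_us, hv_us, smul_zero, sub_zero, add_zero]
      have hEp : ((qE Q z v : GL ι F) : Matrix ι ι F) *ᵥ p = p + c₀ := by
        rw [qE_mulVec Q z v hz hzv, hc₀]
        abel
      have hEr : ((qE Q z v : GL ι F) : Matrix ι ι F) *ᵥ r = r := by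
        rw [qE_mulVec Q z v hz hzv, hr_v, hr_z, zero_smul, zero_smul, mul_zero, zero_smul,
          add_zero, sub_zero, sub_zero]
      rw [Units.val_mul, Units.val_mul, Units.val_mul, ← Matrix.mulVec_mulVec,
        ← Matrix.mulVec_mulVec, ← Matrix.mulVec_mulVec, bT_mulVec hb c₀ ws hc₀ws, hgx, hgx, hEx,
        hEx', Matrix.mulVec_sub, Matrix.mulVec_add, Matrix.mulVec_smul, Matrix.mulVec_smul, hEp,
        hEr]
      simp only [QuadraticMap.polar_add_left, QuadraticMap.polar_sub_left,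
        QuadraticMap.polar_smul_left, hEx, hp_ws, hr_ws, smul_zero, add_zero, sub_zero]
      module
    rw [e]
    exact M.mul_mem (M.mul_mem (M.mul_mem hE' hgM) (M.inv_mem hE')) (M.inv_mem hgM)
  have hQc₀ : Q c₀ ≠ 0 := by
    have e : c₀ = (QuadraticMap.polar Q p v - Q v * QuadraticMap.polar Q p z) • z +
        (-(QuadraticMap.polar Q p z)) • v := by
      rw [hc₀]; module
    rw [e, QuadraticMap.map_add (⇑Q), QuadraticMap.map_smul, QuadraticMap.map_smul, hz,
      QuadraticMap.polar_smul_left, QuadraticMap.polar_smul_right, hzv]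
    simp only [smul_eq_mul, mul_zero, zero_add, add_zero]
    exact mul_ne_zero (mul_ne_zero (neg_ne_zero.mpr hpz) (neg_ne_zero.mpr hpz)) hv
  -- a transvection with singular centre
  obtain ⟨z₂, b₂, hz₂, hz₂a, hb₂a, hz₂b₂⟩ :=
    qf_exists_sing_perp h2 hodd Q hnd ![ws, c₀] (by omega)
  have hz₂ws : QuadraticMap.polar Q z₂ ws = 0 := hz₂a 0
  have hz₂c₀ : QuadraticMap.polar Q z₂ c₀ = 0 := hz₂a 1
  have hb₂ws : QuadraticMap.polar Q b₂ ws = 0 := hb₂a 0
  have hz₂0 : z₂ ≠ 0 := by
    intro h0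
    rw [h0, QuadraticMap.polar_zero_left] at hz₂b₂
    exact hz₂b₂ rfl
  have hz₂z₂ : QuadraticMap.polar Q z₂ z₂ = 0 := qf_polar_self_sing Q hz₂
  have hc₀z₂ : QuadraticMap.polar Q c₀ z₂ = 0 := by rw [QuadraticMap.polar_comm]; exact hz₂c₀
  have hwsz₂ : QuadraticMap.polar Q ws z₂ = 0 := by rw [QuadraticMap.polar_comm]; exact hz₂ws
  have hc₀span : c₀ ∉ Submodule.span F (Set.range ![ws, z₂]) := by
    apply not_mem_span_two
    intro α β heq
    have e1 := congrArg (fun t => QuadraticMap.polar Q c₀ t) heq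
    simp only [QuadraticMap.polar_add_right, QuadraticMap.polar_smul_right, smul_eq_mul, hc₀ws,
      hc₀z₂, mul_zero, add_zero] at e1
    rw [qf_polar_self] at e1
    rcases mul_eq_zero.mp e1 with h6 | h6
    · exact h2 h6
    · exact hQc₀ h6
  obtain ⟨v₂, hv₂a, hv₂c₀⟩ := qf_exists_perp_ne Q hnd ![ws, z₂] c₀ hc₀span
  have hv₂ws : QuadraticMap.polar Q v₂ ws = 0 := hv₂a 0
  have hv₂z₂ : QuadraticMap.polar Q v₂ z₂ = 0 := hv₂a 1
  have hz₂v₂ : QuadraticMap.polar Q z₂ v₂ = 0 := by rw [QuadraticMap.polar_comm]; exact hv₂z₂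
  have hwsv₂ : QuadraticMap.polar Q ws v₂ = 0 := by rw [QuadraticMap.polar_comm]; exact hv₂ws
  obtain ⟨κ, hκ⟩ : ∃ κ, κ = QuadraticMap.polar Q c₀ v₂ := ⟨_, rfl⟩
  have hκ0 : κ ≠ 0 := by rw [hκ, QuadraticMap.polar_comm]; exact hv₂c₀
  obtain ⟨s, hs⟩ : ∃ s, s = κ • ws := ⟨_, rfl⟩
  have hzs : QuadraticMap.polar Q z₂ s = 0 := by
    rw [hs, QuadraticMap.polar_smul_right, hz₂ws, smul_zero]
  have hsz : QuadraticMap.polar Q s z₂ = 0 := by rw [QuadraticMap.polar_comm]; exact hzs
  have hT : slT z₂ (covec (QuadraticMap.polar ⇑Q) s) ∈ M := by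
    have hE'' := hPM (qE_mem Q z₂ v₂ hz₂ hz₂v₂)
    have e1 : ((qE Q z₂ v₂ : GL ι F) : Matrix ι ι F) *ᵥ c₀ = c₀ + κ • z₂ := by
      rw [qE_mulVec Q z₂ v₂ hz₂ hz₂v₂, hc₀z₂, zero_smul, mul_zero, zero_smul, sub_zero, sub_zero,
        hκ]
    have e2 : ((qE Q z₂ v₂ : GL ι F) : Matrix ι ι F) *ᵥ ws = ws := by
      rw [qE_mulVec Q z₂ v₂ hz₂ hz₂v₂, hwsv₂, hwsz₂, zero_smul, zero_smul, mul_zero, zero_smul,
        add_zero, sub_zero, sub_zero]
    have h1 := M.mul_mem (M.mul_mem hE'' hτ) (M.inv_mem hE'')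
    rw [bT_conj hb _ (qE_polar Q z₂ v₂ hz₂ hz₂v₂) c₀ ws hc₀ws, e1, e2] at h1
    have h3 := M.mul_mem h1 (M.inv_mem hτ)
    rw [bT_inv_left hb c₀ ws hc₀ws, bT_mul_left hb (c₀ + κ • z₂) (-c₀) ws
      (by rw [QuadraticMap.polar_add_left, QuadraticMap.polar_smul_left, hc₀ws, hz₂ws, smul_zero,
        add_zero])
      (by rw [QuadraticMap.polar_neg_left, hc₀ws, neg_zero])] at h3
    have e3 : c₀ + κ • z₂ + -c₀ = κ • z₂ := by abel
    rw [e3, bT_smul hb κ z₂ ws hz₂ws, ← hs] at h3
    exact h3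
  have hsspan : ∀ c : F, s ≠ c • z₂ := by
    intro c hc
    have e1 := congrArg (fun t => QuadraticMap.polar Q b₂ t) hc
    simp only [hs, QuadraticMap.polar_smul_right, hb₂ws, smul_eq_mul, mul_zero] at e1
    have hc0 : c = 0 := by
      rcases mul_eq_zero.mp e1.symm with h6 | h6
      · exact h6
      · exact absurd (by rw [QuadraticMap.polar_comm]; exact h6) hz₂b₂
    rw [hc0, zero_smul, hs] at hc
    rcases smul_eq_zero.mp hc with h6 | h6
    · exact hκ0 h6
    · exact hws0 h6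
  -- all multiples of a vector `x₀ ⊥ z₂`, `x₀ ∉ ⟨z₂⟩`
  obtain ⟨z', hzz', hz'⟩ := qf_exists_hyp_partner Q hnd z₂ hz₂0 hz₂
  obtain ⟨α, hα⟩ : ∃ α : F, α = QuadraticMap.polar Q s z' := ⟨_, rfl⟩
  obtain ⟨x₀, hx₀⟩ : ∃ x₀, x₀ = s - α • z₂ := ⟨_, rfl⟩
  have hx₀z : QuadraticMap.polar Q x₀ z₂ = 0 := by
    rw [hx₀, QuadraticMap.polar_sub_left, QuadraticMap.polar_smul_left, hsz, hz₂z₂, smul_zero,
      sub_zero]
  have hzx₀ : QuadraticMap.polar Q z₂ x₀ = 0 := by rw [QuadraticMap.polar_comm]; exact hx₀z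
  have hx₀span : ∀ c : F, x₀ ≠ c • z₂ := by
    intro c hc
    apply hsspan (c + α)
    rw [add_smul, ← hc, hx₀]
    abel
  have hseq : s = x₀ + α • z₂ := by rw [hx₀]; abel
  have hB : ∀ l : F, l ≠ 0 →
      slT z₂ (covec (QuadraticMap.polar ⇑Q) (l • s + (l * (l - 1) * α) • z₂)) ∈ M := by
    intro l hl
    obtain ⟨g', hgP, hgiso, hgact⟩ := qf_exists_scaling Q z₂ z' hz₂ hz' hzz' l hl
    have hgM' := hPM hgP
    have h1 := M.mul_mem (M.mul_mem hgM' hT) (M.inv_mem hgM')
    rw [bT_conj hb g' (fun x y => polar_of_isometry (Q := ⇑Q) (g := g') hgiso x y) z₂ s hzs] at h1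
    have egz : (g' : Matrix ι ι F) *ᵥ z₂ = l • z₂ := by
      rw [hgact, hzz', hz₂z₂, mul_one, mul_zero, zero_smul, add_zero, sub_smul, one_smul]
      abel
    have egs : (g' : Matrix ι ι F) *ᵥ s = s + ((l - 1) * α) • z₂ := by
      rw [hgact, ← hα, hsz, mul_zero, zero_smul, add_zero]
    rw [egz, egs, bT_smul hb l z₂ _ (by
      rw [QuadraticMap.polar_add_right, QuadraticMap.polar_smul_right, hzs, hz₂z₂, smul_zero,
        add_zero])] at h1
    have e : l • (s + ((l - 1) * α) • z₂) = l • s + (l * (l - 1) * α) • z₂ := by module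
    rw [e] at h1
    exact h1
  have hzB : ∀ l : F, QuadraticMap.polar Q z₂ (l • s + (l * (l - 1) * α) • z₂) = 0 := by
    intro l
    rw [QuadraticMap.polar_add_right, QuadraticMap.polar_smul_right, QuadraticMap.polar_smul_right,
      hzs, hz₂z₂, smul_zero, smul_zero, add_zero]
  have hC : ∀ c : F, slT z₂ (covec (QuadraticMap.polar ⇑Q) (c • x₀)) ∈ M := by
    intro c
    by_cases hc : c = 0
    · rw [hc, zero_smul, bT_zero_right hb]; exact M.one_mem
    obtain ⟨l, hl⟩ : ∃ l : F, 2 * l = c := ⟨c / 2, by rw [mul_div_cancel₀ _ h2]⟩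
    have hl0 : l ≠ 0 := by
      intro h0
      rw [h0, mul_zero] at hl
      exact hc hl.symm
    have h1 := hB l hl0
    have h3 := M.inv_mem (hB (-l) (neg_ne_zero.mpr hl0))
    rw [bT_inv hb z₂ _ (hzB (-l))] at h3
    have h4 := M.mul_mem h1 h3
    rw [bT_mul_right hb z₂ _ _ (hzB l)
      (by rw [QuadraticMap.polar_neg_right, hzB (-l), neg_zero])] at h4
    have e : l • s + (l * (l - 1) * α) • z₂ + -((-l) • s + (-l * (-l - 1) * α) • z₂) =
        c • x₀ := by
      rw [hseq, ← hl]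
      module
    rw [e] at h4
    exact h4
  -- all transvections with centre `z₂`
  let K : Submodule F (ι → F) :=
    { carrier := {w' | QuadraticMap.polar Q w' z₂ = 0 ∧
        ∀ c : F, slT z₂ (covec (QuadraticMap.polar ⇑Q) (c • w')) ∈ M}
      add_mem' := fun {a' b'} ha' hb' => by
        refine ⟨by rw [QuadraticMap.polar_add_left, ha'.1, hb'.1, add_zero], fun c => ?_⟩
        have h1 := M.mul_mem (ha'.2 c) (hb'.2 c)
        rw [bT_mul_right hb z₂ _ _
          (by rw [QuadraticMap.polar_smul_right, QuadraticMap.polar_comm, ha'.1, smul_zero])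
          (by rw [QuadraticMap.polar_smul_right, QuadraticMap.polar_comm, hb'.1, smul_zero]),
          ← smul_add] at h1
        exact h1
      zero_mem' := ⟨QuadraticMap.polar_zero_left Q z₂, fun c => by
        rw [smul_zero, bT_zero_right hb]; exact M.one_mem⟩
      smul_mem' := fun d a' ha' => ⟨by rw [QuadraticMap.polar_smul_left, ha'.1, smul_zero],
        fun c => by rw [smul_smul]; exact ha'.2 (c * d)⟩ }
  have hKmem : ∀ w', w' ∈ K ↔ (QuadraticMap.polar Q w' z₂ = 0 ∧
      ∀ c : F, slT z₂ (covec (QuadraticMap.polar ⇑Q) (c • w')) ∈ M) := fun w' => Iff.rfl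
  have hKstar : ∀ s' ∈ K, ∀ y, Q y = 0 → QuadraticMap.polar Q y z₂ = 0 →
      QuadraticMap.polar Q s' y ≠ 0 → y ∈ K := by
    intro s' hs' y hyy hyz hsy
    rw [hKmem] at hs' ⊢
    refine ⟨hyz, fun c' => ?_⟩
    obtain ⟨w', hw', hw'a⟩ := exists_nonsing_perp Q hnd ![y, z₂] (by omega)
    have hw'y : QuadraticMap.polar Q w' y = 0 := hw'a 0
    have hw'z : QuadraticMap.polar Q w' z₂ = 0 := hw'a 1
    have hyw' : QuadraticMap.polar Q y w' = 0 := by rw [QuadraticMap.polar_comm]; exact hw'y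
    have hynw' : QuadraticMap.polar Q y (-w') = 0 := by
      rw [QuadraticMap.polar_neg_right, hyw', neg_zero]
    have hzy : QuadraticMap.polar Q z₂ y = 0 := by rw [QuadraticMap.polar_comm]; exact hyz
    have hzw' : QuadraticMap.polar Q z₂ w' = 0 := by rw [QuadraticMap.polar_comm]; exact hw'z
    have hzs' : QuadraticMap.polar Q z₂ s' = 0 := by rw [QuadraticMap.polar_comm]; exact hs'.1
    have hden : -(2 * Q w' * QuadraticMap.polar Q s' y) ≠ 0 :=
      neg_ne_zero.mpr (mul_ne_zero (mul_ne_zero h2 hw') hsy)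
    obtain ⟨c, hc⟩ : ∃ c : F, c = c' / (-(2 * Q w' * QuadraticMap.polar Q s' y)) := ⟨_, rfl⟩
    have hcc : c * (-(2 * Q w' * QuadraticMap.polar Q s' y)) = c' := by
      rw [hc, div_mul_cancel₀ _ hden]
    have hEP := hPM (qE_mem Q y w' hyy hyw')
    have hEN := hPM (qE_mem Q y (-w') hyy hynw')
    have hzcs : QuadraticMap.polar Q z₂ (c • s') = 0 := by
      rw [QuadraticMap.polar_smul_right, hzs', smul_zero]
    have eEzP : ((qE Q y w' : GL ι F) : Matrix ι ι F) *ᵥ z₂ = z₂ := by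
      rw [qE_mulVec Q y w' hyy hyw', hzw', hzy, zero_smul, zero_smul, mul_zero, zero_smul,
        add_zero, sub_zero, sub_zero]
    have eEzN : ((qE Q y (-w') : GL ι F) : Matrix ι ι F) *ᵥ z₂ = z₂ := by
      rw [qE_mulVec Q y (-w') hyy hynw', QuadraticMap.polar_neg_right, hzw', neg_zero, hzy,
        zero_smul, zero_smul, mul_zero, zero_smul, add_zero, sub_zero, sub_zero]
    obtain ⟨tP, htP⟩ : ∃ tP, tP = ((qE Q y w' : GL ι F) : Matrix ι ι F) *ᵥ (c • s') := ⟨_, rfl⟩
    obtain ⟨tN, htN⟩ : ∃ tN, tN = ((qE Q y (-w') : GL ι F) : Matrix ι ι F) *ᵥ (c • s') :=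
      ⟨_, rfl⟩
    have hztP : QuadraticMap.polar Q z₂ tP = 0 := by
      have h5 := qE_polar Q y w' hyy hyw' z₂ (c • s')
      rw [eEzP, ← htP, hzcs] at h5
      exact h5
    have hztN : QuadraticMap.polar Q z₂ tN = 0 := by
      have h5 := qE_polar Q y (-w') hyy hynw' z₂ (c • s')
      rw [eEzN, ← htN, hzcs] at h5
      exact h5
    have h1 := M.mul_mem (M.mul_mem hEP (hs'.2 c)) (M.inv_mem hEP)
    have h3 := M.mul_mem (M.mul_mem hEN (hs'.2 c)) (M.inv_mem hEN)
    rw [bT_conj hb _ (qE_polar Q y w' hyy hyw') z₂ (c • s') hzcs, eEzP, ← htP] at h1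
    rw [bT_conj hb _ (qE_polar Q y (-w') hyy hynw') z₂ (c • s') hzcs, eEzN, ← htN] at h3
    have h4 := M.mul_mem (M.mul_mem h1 h3) (hs'.2 (-(2 * c)))
    rw [bT_mul_right hb z₂ tP tN hztP hztN, bT_mul_right hb z₂ (tP + tN) _
      (by rw [QuadraticMap.polar_add_right, hztP, hztN, add_zero])
      (by rw [QuadraticMap.polar_smul_right, hzs', smul_zero])] at h4
    have e : tP + tN + (-(2 * c)) • s' = c' • y := by
      rw [htP, htN, qE_mulVec Q y w' hyy hyw', qE_mulVec Q y (-w') hyy hynw', ← hcc]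
      simp only [QuadraticMap.map_neg, QuadraticMap.polar_neg_right,
        QuadraticMap.polar_smul_left, smul_eq_mul]
      module
    rw [e] at h4
    exact h4
  have hx₀K : x₀ ∈ K := (hKmem x₀).mpr ⟨hx₀z, hC⟩
  have hKall := qf_star h2 hodd Q hnd (by omega) z₂ K hKstar x₀ hx₀K hx₀span
  have hD : ∀ w', QuadraticMap.polar Q z₂ w' = 0 →
      slT z₂ (covec (QuadraticMap.polar ⇑Q) w') ∈ M := by
    intro w' hw'
    have h1 := ((hKmem w').mp (hKall w' (by rw [QuadraticMap.polar_comm]; exact hw'))).2 1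
    rw [one_smul] at h1
    exact h1
  -- all transvections
  have hCsmul : ∀ (c : F) (u' : ι → F), (∀ φ' : ι → F, φ' ⬝ᵥ u' = 0 → slT u' φ' ∈ M) →
      ∀ φ' : ι → F, φ' ⬝ᵥ (c • u') = 0 → slT (c • u') φ' ∈ M := by
    intro c u' hu' φ' hφ'
    by_cases hc : c = 0
    · rw [hc, zero_smul, slT_zero_left]; exact M.one_mem
    · have h1 : φ' ⬝ᵥ u' = 0 := by
        rw [dotProduct_smul, smul_eq_mul] at hφ'
        rcases mul_eq_zero.mp hφ' with h | h
        · exact absurd h hc
        · exact h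
      rw [slT_smul_left c u' φ' h1]
      exact hu' _ (by rw [smul_dotProduct, h1, smul_zero])
  have hCinv : ∀ (g' : GL ι F), g' ∈ M → ∀ u' : ι → F,
      (∀ φ' : ι → F, φ' ⬝ᵥ u' = 0 → slT u' φ' ∈ M) →
      ∀ φ' : ι → F, φ' ⬝ᵥ ((g' : Matrix ι ι F) *ᵥ u') = 0 →
        slT ((g' : Matrix ι ι F) *ᵥ u') φ' ∈ M := by
    intro g' hg' u' hu' φ' hφ'
    rw [slT_conj g' u' φ' hφ']
    exact M.mul_mem (M.mul_mem hg' (hu' _ (by rw [← Matrix.dotProduct_mulVec]; exact hφ')))
      (M.inv_mem hg')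
  let C : Submodule F (ι → F) :=
    { carrier := {u' | ∀ φ' : ι → F, φ' ⬝ᵥ u' = 0 → slT u' φ' ∈ M}
      add_mem' := fun {a' b'} ha' hb' => by
        show ∀ φ' : ι → F, φ' ⬝ᵥ (a' + b') = 0 → slT (a' + b') φ' ∈ M
        by_cases hspan : ∃ c : F, a' = c • b'
        · obtain ⟨c, hc⟩ := hspan
          have e : a' + b' = (c + 1) • b' := by rw [hc, add_smul, one_smul]
          rw [e]
          exact hCsmul (c + 1) b' hb'
        · have h1 : ∃ w', QuadraticMap.polar Q w' b' = 0 ∧ QuadraticMap.polar Q w' a' ≠ 0 := by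
            by_contra hcon
            push Not at hcon
            exact hspan (qf_mem_span_of_perp Q hnd b' a' hcon)
          obtain ⟨w', hw'b, hw'a⟩ := h1
          have haw' : QuadraticMap.polar Q a' w' ≠ 0 := by
            rw [QuadraticMap.polar_comm]; exact hw'a
          have hbw' : QuadraticMap.polar Q b' w' = 0 := by
            rw [QuadraticMap.polar_comm]; exact hw'b
          obtain ⟨w'', hw''⟩ : ∃ w'', w'' = (QuadraticMap.polar Q a' w')⁻¹ • w' := ⟨_, rfl⟩
          have haw'' : QuadraticMap.polar Q a' w'' = 1 := by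
            rw [hw'', QuadraticMap.polar_smul_right, smul_eq_mul, inv_mul_cancel₀ haw']
          have hbw'' : QuadraticMap.polar Q b' w'' = 0 := by
            rw [hw'', QuadraticMap.polar_smul_right, hbw', smul_zero]
          have hg' : slT b' (covec (QuadraticMap.polar ⇑Q) w'') ∈ M :=
            hb' _ (by rw [covec_dot _ hb]; exact hbw'')
          have e : a' + b' =
              ((slT b' (covec (QuadraticMap.polar ⇑Q) w'') : GL ι F) : Matrix ι ι F) *ᵥ a' := by
            rw [bT_mulVec hb b' w'' hbw'', haw'', one_smul]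
          rw [e]
          exact hCinv _ hg' a' ha'
      zero_mem' := fun φ' _ => by rw [slT_zero_left]; exact M.one_mem
      smul_mem' := fun c a' ha' => hCsmul c a' ha' }
  have hCmem : ∀ u', u' ∈ C ↔ ∀ φ' : ι → F, φ' ⬝ᵥ u' = 0 → slT u' φ' ∈ M := fun u' => Iff.rfl
  have hzC : z₂ ∈ C := by
    rw [hCmem]
    intro φ' hφ'
    obtain ⟨w', hw'⟩ := qf_exists_covec Q hnd φ'
    rw [← hw']
    exact hD w' (by rw [← covec_dot _ hb w' z₂, hw']; exact hφ')
  have hCstar : ∀ s' ∈ C, ∀ y, Q y = 0 → QuadraticMap.polar Q y 0 = 0 →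
      QuadraticMap.polar Q s' y ≠ 0 → y ∈ C := by
    intro s' hs' y hyy _ hsy
    obtain ⟨w', hw', hw'a⟩ := exists_nonsing_perp Q hnd (fun _ : Fin 1 => y) (by omega)
    have hw'y : QuadraticMap.polar Q w' y = 0 := hw'a 0
    have hyw' : QuadraticMap.polar Q y w' = 0 := by rw [QuadraticMap.polar_comm]; exact hw'y
    have hynw' : QuadraticMap.polar Q y (-w') = 0 := by
      rw [QuadraticMap.polar_neg_right, hyw', neg_zero]
    have hEP := hPM (qE_mem Q y w' hyy hyw')
    have hEN := hPM (qE_mem Q y (-w') hyy hynw')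
    have h1 : ((qE Q y w' : GL ι F) : Matrix ι ι F) *ᵥ s' ∈ C := by
      rw [hCmem]
      exact hCinv _ hEP s' ((hCmem s').mp hs')
    have h3 : ((qE Q y (-w') : GL ι F) : Matrix ι ι F) *ᵥ s' ∈ C := by
      rw [hCmem]
      exact hCinv _ hEN s' ((hCmem s').mp hs')
    have h4 := C.sub_mem (C.add_mem h1 h3) (C.smul_mem (2 : F) hs')
    have e : ((qE Q y w' : GL ι F) : Matrix ι ι F) *ᵥ s' +
        ((qE Q y (-w') : GL ι F) : Matrix ι ι F) *ᵥ s' - (2 : F) • s' =
        (-(2 * Q w' * QuadraticMap.polar Q s' y)) • y := by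
      rw [qE_mulVec Q y w' hyy hyw', qE_mulVec Q y (-w') hyy hynw']
      simp only [QuadraticMap.map_neg, QuadraticMap.polar_neg_right]
      module
    rw [e] at h4
    have hden : -(2 * Q w' * QuadraticMap.polar Q s' y) ≠ 0 :=
      neg_ne_zero.mpr (mul_ne_zero (mul_ne_zero h2 hw') hsy)
    have h5 := C.smul_mem (-(2 * Q w' * QuadraticMap.polar Q s' y))⁻¹ h4
    rw [smul_smul, inv_mul_cancel₀ hden, one_smul] at h5
    exact h5
  have hCall := qf_star h2 hodd Q hnd (by omega) 0 C hCstar z₂ hzC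
    (fun c hc => hz₂0 (by rw [hc, smul_zero]))
  exact (hCmem u).mp (hCall u (QuadraticMap.polar_zero_right Q u)) φ huφ

end

section
variable {F : Type*} [Field F] [Fintype F]

/-- The similarities of determinant one of a non-degenerate quadratic form over a finite field of
odd order are a maximal subgroup of the special linear group (dimension at least 13). -/
theorem q_sim_maximal {n : ℕ} (hn : 13 ≤ n) (hodd : Odd (Fintype.card F))
    (Q : QuadraticForm F (Fin n → F)) (hnd : (QuadraticMap.polarBilin Q).Nondegenerate) :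
    IsMaximalIn (specialLinear (Fin n) F) (quadSimilarityGroup ⇑Q ⊓ specialLinear (Fin n) F) := by
  have : Nontrivial (Fin n) := Fin.nontrivial_iff_two_le.mpr (by omega)
  have hcard : Fintype.card (Fin n) = n := Fintype.card_fin n
  have hodd' : Fintype.card F % 2 = 1 := Nat.odd_iff.mp hodd
  have h2 : (2 : F) ≠ 0 := two_ne_zero_of_odd_card hodd'
  have hb := qf_isBilinear Q
  have hndf := qf_nondegForm Q hnd
  refine ⟨?_, ?_⟩
  · refine lt_of_le_of_ne inf_le_right ?_
    intro heq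
    obtain ⟨u, hu0⟩ : ∃ u : Fin n → F, u ≠ 0 := ⟨Pi.single ⟨0, by omega⟩ 1, fun h0 => by
      have h1 := congrFun h0 ⟨0, by omega⟩
      simp at h1⟩
    obtain ⟨w, hww, hwa⟩ := exists_nonsing_perp Q hnd (fun _ : Fin 1 => u)
      (by rw [hcard]; omega)
    have hwu : QuadraticMap.polar Q w u = 0 := hwa 0
    have huw : QuadraticMap.polar Q u w = 0 := by rw [QuadraticMap.polar_comm]; exact hwu
    have hg : slT u (covec (QuadraticMap.polar ⇑Q) w) ∈ quadSimilarityGroup ⇑Q := by
      have hmem : slT u (covec (QuadraticMap.polar ⇑Q) w) ∈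
          quadSimilarityGroup ⇑Q ⊓ specialLinear (Fin n) F := by
        rw [heq]; exact slT_mem _ _
      exact hmem.1
    obtain ⟨c, hc⟩ := hg
    have hform : ∀ x, Q x + QuadraticMap.polar Q x w ^ 2 * Q u +
        QuadraticMap.polar Q x w * QuadraticMap.polar Q x u = (c : F) * Q x := by
      intro x
      have h0 := hc x
      rw [bT_mulVec hb u w huw, QuadraticMap.map_add (⇑Q), QuadraticMap.map_smul,
        QuadraticMap.polar_smul_right] at h0
      simp only [smul_eq_mul] at h0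
      rw [← h0]
      ring
    have hQu : Q u = 0 := by
      have h0 := hform w
      have h1 := hform u
      rw [qf_polar_self, hwu, mul_zero, add_zero] at h0
      rw [huw, qf_polar_self] at h1
      have h3 : ((c : F) - 1) * Q u = 0 := by linear_combination -h1
      have h4 : (c : F) - 1 = 4 * Q w * Q u := by
        have h5 : ((c : F) - 1 - 4 * Q w * Q u) * Q w = 0 := by linear_combination -h0
        rcases mul_eq_zero.mp h5 with h6 | h6
        · exact sub_eq_zero.mp h6
        · exact absurd h6 hww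
      rw [h4] at h3
      have h7 : (2 : F) * 2 * Q w * (Q u * Q u) = 0 := by linear_combination h3
      rcases mul_eq_zero.mp h7 with h8 | h8
      · rcases mul_eq_zero.mp h8 with h9 | h9
        · rcases mul_eq_zero.mp h9 with h10 | h10 <;> exact absurd h10 h2
        · exact absurd h9 hww
      · rcases mul_eq_zero.mp h8 with h9 | h9 <;> exact h9
    have hc1 : (c : F) = 1 := by
      have h0 := hform w
      rw [qf_polar_self, hwu, mul_zero, add_zero, hQu, mul_zero, add_zero] at h0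
      have h5 : ((c : F) - 1) * Q w = 0 := by linear_combination -h0
      rcases mul_eq_zero.mp h5 with h6 | h6
      · exact sub_eq_zero.mp h6
      · exact absurd h6 hww
    obtain ⟨y, hy⟩ := (hndf u hu0).1
    have h0 := hform y
    have h1 := hform (y + w)
    rw [hQu, mul_zero, add_zero, hc1, one_mul] at h0 h1
    have h3 : QuadraticMap.polar Q y w = 0 := by
      have h4 : QuadraticMap.polar Q y w * QuadraticMap.polar Q y u = 0 := by
        linear_combination h0
      rcases mul_eq_zero.mp h4 with h5 | h5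
      · exact h5
      · exact absurd h5 hy
    rw [QuadraticMap.polar_add_left, QuadraticMap.polar_add_left, h3, hwu, qf_polar_self, zero_add,
      add_zero] at h1
    have h4 : 2 * Q w * QuadraticMap.polar Q y u = 0 := by linear_combination h1
    rcases mul_eq_zero.mp h4 with h5 | h5
    · rcases mul_eq_zero.mp h5 with h6 | h6
      · exact h2 h6
      · exact hww h6
    · exact hy h5
  · intro M hPM hMG
    by_cases hM : M ≤ quadSimilarityGroup ⇑Q
    · left; exact le_antisymm (le_inf hM hMG) hPM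
    · right
      obtain ⟨h, hhM, hhf⟩ := SetLike.not_le_iff_exists.mp hM
      exact le_antisymm hMG (specialLinear_le_of_transv M (fun u φ huφ =>
        q_sim_transv_all h2 hodd' Q hnd (by rw [hcard]; omega) M hPM h hhM hhf u φ huφ))

end

end Cfsg.Agent.Lib.helper95
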