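import Cfsg.Agent.Lib.helper48.LBRefl
import Cfsg.Agent.Lib.helper50.PSUTransfer
import Cfsg.Agent.Lib.helper50.PSUF4
import Cfsg.Agent.Lib.helper48.PSUOut
import Cfsg.Agent.S0282
import Cfsg.Agent.Lib.helper27.PLocal2

/-!
# Local balance for `PSU_n(q)`: general glue lemmas (S2687)
-/

set_option autoImplicit false

namespace Cfsg.Agent.Lib.helper95.PSUBal

open Matrix Cfsg
open Cfsg.Agent.Lib.helper50
open Cfsg.Agent.Lib.helper48.LB
open Cfsg.Agent.Lib.helper48.PSp (core_ne_bot_iff aut_conj)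
open Cfsg.Agent.Lib.helper48.AbsBal (fixG mem_fixG)
open Cfsg.Agent.Lib.helper99 (suMat)

universe u v

section Abstract
variable {K : Type*} [Group K]

/-- the fixed points of a conjugate automorphism -/
theorem fixG_conj (d x : MulAut K) : fixG (d * x * d⁻¹) = (fixG x).map d.toMonoidHom := by
  ext k
  rw [mem_fixG, Subgroup.mem_map]
  constructor
  · intro hk
    refine ⟨d⁻¹ k, ?_, MulAut.apply_inv_self _ d k⟩
    rw [mem_fixG]
    have h1 : d⁻¹ ((d * x * d⁻¹) k) = d⁻¹ k := by rw [hk]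
    simpa only [MulAut.mul_apply, MulAut.inv_apply_self] using h1
  · rintro ⟨k', hk', rfl⟩
    rw [mem_fixG] at hk'
    show (d * x * d⁻¹) (d k') = d k'
    simp only [MulAut.mul_apply, MulAut.inv_apply_self, hk']

theorem card_fixG_conj (d x : MulAut K) :
    Nat.card (fixG (d * x * d⁻¹)) = Nat.card (fixG x) := by
  rw [fixG_conj]
  exact Subgroup.card_map_of_injective d.injective

theorem fixG_conj_ne_bot (d x : MulAut K) (h : fixG x ≠ ⊥) : fixG (d * x * d⁻¹) ≠ ⊥ := by
  rw [fixG_conj, Ne, Subgroup.map_eq_bot_iff_of_injective _ d.injective]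
  exact h

/-- the number of fixed points of an automorphism of `p`-power order -/
theorem card_fix_modEq [Finite K] (β : MulAut K) (p : ℕ) [Fact p.Prime] (hβ : β ^ p = 1) :
    Nat.card K ≡ Nat.card (fixG β) [MOD p] := by
  have hP : IsPGroup p (Subgroup.zpowers β) := by
    rintro ⟨g, hg⟩
    refine ⟨1, ?_⟩
    obtain ⟨k, rfl⟩ := Subgroup.mem_zpowers_iff.mp hg
    apply Subtype.ext
    show (β ^ k) ^ (p ^ 1) = 1
    rw [pow_one, ← zpow_natCast, ← _root_.zpow_mul, mul_comm, _root_.zpow_mul, zpow_natCast, hβ, _root_.one_zpow]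
  have h := hP.card_modEq_card_fixedPoints K
  have e : Nat.card (MulAction.fixedPoints (Subgroup.zpowers β) K) = Nat.card (fixG β) := by
    apply Nat.card_congr
    refine Equiv.subtypeEquivRight ?_
    intro k
    rw [MulAction.mem_fixedPoints]
    constructor
    · intro hk
      exact hk ⟨β, Subgroup.mem_zpowers β⟩
    · rintro hk ⟨g, hg⟩
      have hle : Subgroup.zpowers β ≤ MulAction.stabilizer (MulAut K) k := by
        rw [Subgroup.zpowers_le]
        exact hk
      exact hle hg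
  rw [e] at h
  exact h

/-- `NoCore` from the triviality of the `p'`-core of the centralizer in a subgroup containing
the inner automorphisms -/
theorem noCore_of_core_bot (hinj : Function.Injective (MulAut.conj : K →* MulAut K))
    (I : Subgroup (MulAut K)) (hI : ∀ k : K, MulAut.conj k ∈ I) (p : ℕ) (x : MulAut K)
    (h : Cfsg.pPrimeCore p ↥(I ⊓ Subgroup.centralizer {x}) = ⊥) : NoCore p x := by
  intro M hM hinv hcop
  by_contra hne
  refine (core_ne_bot_iff p (I ⊓ Subgroup.centralizer {x})).mpr ?_ h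
  refine ⟨M.map (MulAut.conj : K →* MulAut K), ?_, ?_, ?_, ?_⟩
  · rintro _ ⟨k, hk, rfl⟩
    exact ⟨hI k, Subgroup.mem_centralizer_singleton_iff.mpr (conj_comm_of_fixed x (hM k hk))⟩
  · rintro c hc _ ⟨k, hk, rfl⟩
    exact ⟨c k, hinv c (Subgroup.mem_centralizer_singleton_iff.mp hc.2) k hk, (aut_conj c k).symm⟩
  · rw [Subgroup.card_map_of_injective hinj]
    exact hcop
  · rw [Ne, Subgroup.map_eq_bot_iff_of_injective _ hinj]
    exact hne

/-- a finite simple solvable group has prime order -/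
theorem prime_card_of_simple_solvable [Finite K] (hs : IsSimpleGroup K) (hsol : Group.IsSolvable K) :
    (Nat.card K).Prime := by
  have hcomm : ∀ a b : K, a * b = b * a := IsSimpleGroup.comm_iff_isSolvable.mpr hsol
  let _ : CommGroup K := { (inferInstance : Group K) with mul_comm := hcomm }
  exact IsSimpleGroup.prime_card

end Abstract

section PSU
variable {n q : ℕ} {F : Type u} [Field F] [Fintype F]

/-- conjugation is injective on `PSU_n`, `n ≥ 3` -/
theorem psu_conj_inj (hF : Fintype.card F = q ^ 2) (hn : 3 ≤ n) :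
    Function.Injective (MulAut.conj : PSU n F q →* MulAut (PSU n F q)) := by
  rw [injective_iff_map_eq_one]
  intro k hk
  induction k using QuotientGroup.induction_on with
  | H t =>
    obtain ⟨g, hg⟩ := Cfsg.Agent.Lib.helper17.exists_gu_of_preserves hF n (suMat t)
      (Cfsg.Agent.Lib.helper99.suMat_isIsom t)
    rw [PSUF.conj_eq_phi' hF t g hg, phiPSU_eq_one_iff hF hn, Geo.mem_scalars_iff] at hk
    obtain ⟨c, hc⟩ := hk
    have hsc : suMat t = (c : F) • (1 : Matrix (Fin n) (Fin n) F) := by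
      rw [← hg]
      exact hc
    rw [QuotientGroup.eq_one_iff, Subgroup.mem_center_iff]
    intro s
    apply Cfsg.Agent.Lib.helper99.suMat_inj
    rw [Cfsg.Agent.Lib.helper99.suMat_mul, Cfsg.Agent.Lib.helper99.suMat_mul, hsc, Matrix.smul_mul,
      Matrix.one_mul, Matrix.mul_smul, Matrix.mul_one]

/-- inner automorphisms are inner-diagonal -/
theorem conj_mem_inndiagPSU (hF : Fintype.card F = q ^ 2) (k : PSU n F q) :
    MulAut.conj k ∈ inndiagPSU n F q := by
  induction k using QuotientGroup.induction_on with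
  | H t =>
    obtain ⟨g, hg⟩ := PSUA.conj_eq_phi hF t
    rw [inndiagPSU_eq, hg]
    exact ⟨g, rfl⟩

/-- `q` is a power of the characteristic -/
theorem exists_q_pow (hF : Fintype.card F = q ^ 2) (r : ℕ) [Fact r.Prime] [CharP F r] :
    ∃ f : ℕ, 1 ≤ f ∧ q = r ^ f := by
  have hr : r.Prime := Fact.out
  obtain ⟨k, -, hk⟩ := FiniteField.card F r
  have h1 : q ∣ r ^ (k : ℕ) := by
    rw [← hk, hF]
    exact Dvd.intro_left (q ^ 1) (by ring)
  obtain ⟨j, -, hj⟩ := (Nat.dvd_prime_pow hr).mp h1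
  refine ⟨j, ?_, hj⟩
  by_contra h0
  have hj0 : j = 0 := by omega
  rw [hj0, pow_zero] at hj
  have h2 := Fintype.one_lt_card (α := F)
  rw [hF, hj] at h2
  norm_num at h2

/-- a simple `PSU_n(q)` is not `PSU_3(2)` -/
theorem not_three_two (hF : Fintype.card F = q ^ 2) (hK : IsSimpleGroup (PSU n F q)) :
    ¬ (n = 3 ∧ q = 2) := by
  rintro ⟨rfl, rfl⟩
  obtain ⟨hcard, hsol⟩ := Cfsg.Agent.S0282.result (F := F) (by rw [hF]; norm_num)
  have : Finite (PSU 3 F 2) := Nat.finite_of_card_ne_zero (by rw [hcard]; norm_num)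
  have hp := prime_card_of_simple_solvable hK hsol
  rw [hcard] at hp
  norm_num at hp

omit [Fintype F] in
/-- the first conjunct of the right-hand side always holds -/
theorem first_conj (β : MulAut (PSU n F q)) (g : ↥(GU n F q)) (σ : F ≃+* F)
    (h : β = phiPSU g * fieldPSU σ) :
    ∃ γ φ : MulAut (PSU n F q), IsInnerDiagonalAutPSU γ ∧ (∃ σ : F ≃+* F, IsFieldAutPSUOf σ φ) ∧
      β = φ.trans γ :=
  ⟨phiPSU g, fieldPSU σ, (isInnerDiagonalU_iff _).mpr ⟨g, rfl⟩,
    ⟨σ, (isFieldAutPSUOf_iff σ _).mpr rfl⟩, h⟩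

/-- `NoCore 2` for an involutory graph automorphism of `PSU_n(q)`, transferred from `PSL_n(F₀)` -/
theorem graphU_noCore {F₀ : Type v} [Field F₀] (hF : Fintype.card F = q ^ 2) (hn : 3 ≤ n)
    (σ : F ≃+* F) (hσ : ∀ a, σ a = a ^ q) (ι : F₀ →+* F) (hι1 : ∀ y, σ (ι y) = ι y)
    (hι2 : ∀ x, σ x = x → ∃ y, ι y = x) (δs : F) (hδs : δs ≠ 0) (A : ↥(GU n F q))
    (A₀ : GL (Fin n) F₀) (hrel : Rel σ ι δs A A₀)
    (hT1 : Cfsg.pPrimeCore 2 ↥(inndiagPSL n F₀ ⊓ Subgroup.centralizer {graphAut A₀}) = ⊥) :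
    NoCore 2 (graphU σ A) := by
  obtain ⟨e⟩ := rel_cent hF hn σ hσ ι hι1 hι2 δs hδs A A₀ hrel
  exact noCore_of_core_bot (psu_conj_inj hF hn) (inndiagPSU n F q) (conj_mem_inndiagPSU hF) 2 _
    (Cfsg.Agent.Lib.helper27.pPrimeCore_eq_bot_of_equiv 2 e.symm hT1)

end PSU

end Cfsg.Agent.Lib.helper95.PSUBal
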