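import Mathlib

/-!
# An orbit count for a `3²` acting on a group of order dividing `8`  (S2687, piece FC-32)
-/

set_option autoImplicit false

namespace Cfsg.Agent.Lib.helper95.PSUBal

variable {K : Type*} [Group K]

/-- Let `M` be a subgroup of order dividing `8`, normalised by commuting elements `a, b` with
`a ^ 3 = 1`, such that no non-identity element of `M` commutes with `a`, `b`, `a * b` or
`a ^ 2 * b`. Then `M` is trivial. -/
theorem orbit_count_eight (M : Subgroup K) (hM8 : Nat.card M ∣ 8) (a b : K) (ha3 : a ^ 3 = 1)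
    (hab : a * b = b * a) (haM : ∀ m ∈ M, a * m * a⁻¹ ∈ M) (hbM : ∀ m ∈ M, b * m * b⁻¹ ∈ M)
    (hca : ∀ m ∈ M, a * m = m * a → m = 1)
    (hcb : ∀ m ∈ M, ∀ i : ℕ, (a ^ i * b) * m = m * (a ^ i * b) → m = 1) : M = ⊥ := by
  classical
  have hfin : Finite M := Nat.finite_of_card_ne_zero (fun h => by rw [h] at hM8; omega)
  have hft : Fintype M := Fintype.ofFinite _
  -- the conjugation map
  let φ : Function.End M := fun m => ⟨a * m.1 * a⁻¹, haM m.1 m.2⟩
  have hφ_apply : ∀ m : M, ((φ m : M) : K) = a * m.1 * a⁻¹ := fun m => rfl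
  have hpow : ∀ (k : ℕ) (m : M), (((φ ^ k) m : M) : K) = a ^ k * m.1 * (a ^ k)⁻¹ := by
    intro k
    induction k with
    | zero =>
      intro m
      rw [pow_zero, pow_zero]
      show (m : K) = 1 * m.1 * 1⁻¹
      group
    | succ k ih =>
      intro m
      have h1 : (φ ^ (k + 1)) m = φ ((φ ^ k) m) := by rw [pow_succ']; rfl
      rw [h1, hφ_apply, ih, pow_succ']
      group
  have hφ3 : φ ^ 3 ^ 1 = 1 := by
    funext m
    apply Subtype.ext
    rw [pow_one, hpow, ha3]
    show (1 : K) * m.1 * 1⁻¹ = m.1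
    group
  have hmod := Equiv.Perm.card_fixedPoints_modEq (p := 3) (n := 1) hφ3
  -- the only fixed point is `1`
  have hfix : Fintype.card (Function.fixedPoints φ) = 1 := by
    rw [Fintype.card_eq_one_iff]
    refine ⟨⟨1, ?_⟩, ?_⟩
    · show φ 1 = 1
      apply Subtype.ext
      rw [hφ_apply]
      simp
    · rintro ⟨m, hm⟩
      apply Subtype.ext
      apply Subtype.ext
      have h1 : ((φ m : M) : K) = m.1 := congrArg Subtype.val hm
      rw [hφ_apply] at h1
      have h2 : a * m.1 = m.1 * a := by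
        calc a * m.1 = a * m.1 * a⁻¹ * a := by group
          _ = m.1 * a := by rw [h1]
      exact hca m.1 m.2 h2
  rw [hfix] at hmod
  have hcard : Fintype.card M = Nat.card M := (Nat.card_eq_fintype_card).symm
  rw [hcard] at hmod
  have hle : Nat.card M ≤ 8 := Nat.le_of_dvd (by norm_num) hM8
  have h14 : Nat.card M = 1 ∨ Nat.card M = 4 := by
    have hdiv : Nat.card M ∈ ({1, 2, 4, 8} : Finset ℕ) := by
      have h5 : Nat.card M ∈ Nat.divisors 8 := Nat.mem_divisors.mpr ⟨hM8, by norm_num⟩
      have h6 : Nat.divisors 8 = {1, 2, 4, 8} := by decide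
      rwa [h6] at h5
    simp only [Finset.mem_insert, Finset.mem_singleton] at hdiv
    have h3 : Nat.card M % 3 = 1 % 3 := hmod
    rcases hdiv with h | h | h | h
    · left; exact h
    · rw [h] at h3; omega
    · right; exact h
    · rw [h] at h3; omega
  rcases h14 with h1 | h4
  · exact Subgroup.card_eq_one.mp h1
  · exfalso
    -- pick a non-identity element
    have hne : M ≠ ⊥ := by
      intro h
      rw [h, Subgroup.card_bot] at h4
      omega
    obtain ⟨m₀, hm₀, hm₀1⟩ : ∃ m₀ : K, m₀ ∈ M ∧ m₀ ≠ 1 := by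
      by_contra hcon
      apply hne
      rw [Subgroup.eq_bot_iff_forall]
      intro x hx
      by_contra hx1
      exact hcon ⟨x, hx, hx1⟩
    -- no power of `a` other than the trivial ones fixes `m₀`
    have hfree : ∀ i : ℕ, a ^ i * m₀ = m₀ * a ^ i → a ^ i = 1 ∨ False := by
      intro i hi
      left
      -- reduce `i` mod 3
      have h3 : a ^ i = a ^ (i % 3) := by
        conv_lhs => rw [← Nat.mod_add_div i 3, pow_add, pow_mul, ha3, one_pow, mul_one]
      rw [h3] at hi ⊢
      have hlt : i % 3 < 3 := Nat.mod_lt _ (by norm_num)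
      interval_cases (i % 3)
      · simp
      · exfalso
        rw [pow_one] at hi
        exact hm₀1 (hca m₀ hm₀ hi)
      · exfalso
        -- `a ^ 2` commutes with `m₀`, so `a = (a ^ 2) ^ 2` does
        have h5 : a * m₀ = m₀ * a := by
          have h6 : a = a ^ 2 * a ^ 2 := by
            rw [← pow_add]
            have : a ^ (2 + 2) = a ^ 3 * a := by rw [← pow_succ]
            rw [this, ha3, one_mul]
          calc a * m₀ = a ^ 2 * (a ^ 2 * m₀) := by rw [← mul_assoc, ← h6]
            _ = a ^ 2 * (m₀ * a ^ 2) := by rw [hi]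
            _ = (a ^ 2 * m₀) * a ^ 2 := by rw [mul_assoc]
            _ = m₀ * (a ^ 2 * a ^ 2) := by rw [hi, mul_assoc]
            _ = m₀ * a := by rw [← h6]
        exact hm₀1 (hca m₀ hm₀ h5)
    -- the four elements `1, m₀, a m₀ a⁻¹, a² m₀ a⁻²`
    let x0 : M := ⟨m₀, hm₀⟩
    have hx : ∀ k : ℕ, (((φ ^ k) x0 : M) : K) = a ^ k * m₀ * (a ^ k)⁻¹ := fun k => hpow k x0
    have hinj : ∀ i j : ℕ, i < 3 → j < 3 → (φ ^ i) x0 = (φ ^ j) x0 → i = j := by
      -- wlog i ≤ j
      have key : ∀ i j : ℕ, i ≤ j → j < 3 → (φ ^ i) x0 = (φ ^ j) x0 → i = j := by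
        intro i j hij hj h
        have h1 : a ^ i * m₀ * (a ^ i)⁻¹ = a ^ j * m₀ * (a ^ j)⁻¹ := by
          rw [← hx, ← hx, h]
        have h2 : a ^ (j - i) * m₀ = m₀ * a ^ (j - i) := by
          have h3 : a ^ j = a ^ i * a ^ (j - i) := by rw [← pow_add]; congr 1; omega
          rw [h3] at h1
          have h4 : m₀ = a ^ (j - i) * m₀ * (a ^ (j - i))⁻¹ := by
            calc m₀ = (a ^ i)⁻¹ * (a ^ i * m₀ * (a ^ i)⁻¹) * a ^ i := by group
              _ = (a ^ i)⁻¹ * (a ^ i * a ^ (j - i) * m₀ * (a ^ i * a ^ (j - i))⁻¹) * a ^ i := by rw [h1]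
              _ = a ^ (j - i) * m₀ * (a ^ (j - i))⁻¹ := by group
          calc a ^ (j - i) * m₀ = a ^ (j - i) * m₀ * (a ^ (j - i))⁻¹ * a ^ (j - i) := by group
            _ = m₀ * a ^ (j - i) := by rw [← h4]
        rcases hfree (j - i) h2 with h5 | h5
        · -- a ^ (j - i) = 1 with j - i < 3
          by_contra hne'
          have hd : j - i = 1 ∨ j - i = 2 := by omega
          rcases hd with hd | hd
          · rw [hd, pow_one] at h5
            rw [hd, h5] at h2
            exact hm₀1 (hca m₀ hm₀ (by rw [h5]; simp))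
          · rw [hd] at h5
            have h6 : a = 1 := by
              have : a ^ 3 = a ^ 2 * a := pow_succ a 2
              rw [ha3, h5, one_mul] at this
              exact this.symm
            exact hm₀1 (hca m₀ hm₀ (by rw [h6]; simp))
        · exact h5.elim
      intro i j hi hj h
      rcases le_total i j with hij | hij
      · exact key i j hij hj h
      · exact (key j i hij hi h.symm).symm
    have hne1 : ∀ k : ℕ, (φ ^ k) x0 ≠ 1 := by
      intro k h
      have h1 : a ^ k * m₀ * (a ^ k)⁻¹ = 1 := by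
        rw [← hx, h]; rfl
      apply hm₀1
      calc m₀ = (a ^ k)⁻¹ * (a ^ k * m₀ * (a ^ k)⁻¹) * a ^ k := by group
        _ = 1 := by rw [h1]; group
    -- the finset of these four elements is everything
    let S : Finset M := {1, (φ ^ 0) x0, (φ ^ 1) x0, (φ ^ 2) x0}
    have hS4 : S.card = 4 := by
      have e01 : (φ ^ 0) x0 ≠ (φ ^ 1) x0 := fun h => by
        have := hinj 0 1 (by norm_num) (by norm_num) h; omega
      have e02 : (φ ^ 0) x0 ≠ (φ ^ 2) x0 := fun h => by
        have := hinj 0 2 (by norm_num) (by norm_num) h; omega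
      have e12 : (φ ^ 1) x0 ≠ (φ ^ 2) x0 := fun h => by
        have := hinj 1 2 (by norm_num) (by norm_num) h; omega
      rw [Finset.card_insert_of_notMem, Finset.card_insert_of_notMem, Finset.card_insert_of_notMem,
        Finset.card_singleton]
      · simpa using e12
      · simp only [Finset.mem_insert, Finset.mem_singleton, not_or]
        exact ⟨e01, e02⟩
      · simp only [Finset.mem_insert, Finset.mem_singleton, not_or]
        exact ⟨(hne1 0).symm, (hne1 1).symm, (hne1 2).symm⟩
    have hSuniv : S = Finset.univ := by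
      apply Finset.eq_univ_of_card
      rw [hS4, hcard, h4]
    -- `b m₀ b⁻¹` is one of them
    let y : M := ⟨b * m₀ * b⁻¹, hbM m₀ hm₀⟩
    have hy : y ∈ S := by rw [hSuniv]; exact Finset.mem_univ y
    have hy1 : y ≠ 1 := by
      intro h
      have h1 : b * m₀ * b⁻¹ = 1 := congrArg Subtype.val h
      apply hm₀1
      calc m₀ = b⁻¹ * (b * m₀ * b⁻¹) * b := by group
        _ = 1 := by rw [h1]; group
    have hyk : ∃ k : ℕ, k < 3 ∧ y = (φ ^ k) x0 := by
      simp only [S, Finset.mem_insert, Finset.mem_singleton] at hy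
      rcases hy with h | h | h | h
      · exact absurd h hy1
      · exact ⟨0, by norm_num, h⟩
      · exact ⟨1, by norm_num, h⟩
      · exact ⟨2, by norm_num, h⟩
    obtain ⟨k, hk3, hk⟩ := hyk
    have h7 : b * m₀ * b⁻¹ = a ^ k * m₀ * (a ^ k)⁻¹ := by
      have := congrArg Subtype.val hk
      rw [hx] at this
      exact this
    -- `a ^ (3 - k) * b` commutes with `m₀`
    have hinv : (a ^ k)⁻¹ = a ^ (3 - k) := by
      rw [inv_eq_iff_mul_eq_one, ← pow_add, show k + (3 - k) = 3 by omega, ha3]
    have hbk : a ^ (3 - k) * b = b * a ^ (3 - k) := by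
      exact (Commute.pow_left (show Commute a b from hab) _).eq
    have h8 : (a ^ (3 - k) * b) * m₀ = m₀ * (a ^ (3 - k) * b) := by
      rw [← hinv]
      rw [← hinv] at hbk
      calc (a ^ k)⁻¹ * b * m₀ = (a ^ k)⁻¹ * (b * m₀ * b⁻¹) * b := by group
        _ = (a ^ k)⁻¹ * (a ^ k * m₀ * (a ^ k)⁻¹) * b := by rw [h7]
        _ = m₀ * ((a ^ k)⁻¹ * b) := by group
    exact hm₀1 (hcb m₀ hm₀ (3 - k) h8)

end Cfsg.Agent.Lib.helper95.PSUBal
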