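import Cfsg.Agent.Lib.helper33.S2687FC32A
import Cfsg.Agent.Lib.helper39.S2687FCCNT
import Cfsg.Agent.Lib.helper95.PSUBalOrb

/-!
# S2687, piece FC-32: the exceptional case `PSU_3(2^p)`  (assembly from helper33's centralizer
lemma and the orbit count)
-/

set_option autoImplicit false

namespace Cfsg.Agent.Lib.helper95.PSUBal

open Matrix Cfsg
open Cfsg.Agent.Lib.helper50
open Cfsg.Agent.Lib.helper48.LB
open Cfsg.Agent.Lib.helper48.AbsBal (fixG mem_fixG)
open Cfsg.Agent.Lib.helper99 (suMat mkSU suMat_mkSU suMat_inj suMat_mul)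
open Cfsg.Agent.Lib.helper33.S2687 (dgm cmt dgm_eq m3eq comm_trivial suMat_pow3 mk_eq_of_smul
  omega_quad)

universe u

section
variable {q : ℕ} {F : Type u} [Field F]

theorem fc32_dgm_isom (ω : F) (hω : ω * ω ^ q = 1) (u v : Fin 3 → F) :
    hermForm 3 F q (dgm ω *ᵥ u) (dgm ω *ᵥ v) = hermForm 3 F q u v := by
  unfold hermForm dgm
  simp only [Matrix.mulVec_diagonal, Fin.sum_univ_three, Matrix.cons_val_zero, Matrix.cons_val_one,
    Matrix.cons_val_two, Matrix.head_cons, Matrix.tail_cons, mul_pow]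
  have e1 : ω * u 1 * (ω ^ q * v 1 ^ q) = (ω * ω ^ q) * (u 1 * v 1 ^ q) := by ring
  have e2 : ω ^ 2 * u 2 * ((ω ^ 2) ^ q * v 2 ^ q) = (ω * ω ^ q) ^ 2 * (u 2 * v 2 ^ q) := by ring
  rw [e1, e2, hω]
  ring

theorem fc32_cmt_isom (u v : Fin 3 → F) :
    hermForm 3 F q ((cmt : Matrix (Fin 3) (Fin 3) F) *ᵥ u) (cmt *ᵥ v) = hermForm 3 F q u v := by
  unfold hermForm cmt
  simp [Fin.sum_univ_three, Matrix.mulVec, dotProduct]
  ring

theorem fc32_dgm_det (ω : F) (hω3 : ω ^ 3 = 1) : (dgm ω).det = 1 := by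
  unfold dgm
  rw [Matrix.det_diagonal, Fin.prod_univ_three]
  simp only [Matrix.cons_val_zero, Matrix.cons_val_one, Matrix.cons_val_two, Matrix.head_cons,
    Matrix.tail_cons]
  linear_combination hω3

theorem fc32_cmt_det : (cmt : Matrix (Fin 3) (Fin 3) F).det = 1 := by
  unfold cmt
  rw [Matrix.det_fin_three]
  simp

end

section Main
variable {q : ℕ} {F : Type u} [Field F] [Fintype F]

/-- a field with `64` elements has characteristic `2` -/
theorem fc32_two_eq_zero (hF : Fintype.card F = 64) : (2 : F) = 0 := by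
  obtain ⟨r, hr⟩ := CharP.exists F
  have hrp : r.Prime := by
    rcases CharP.char_is_prime_or_zero F r with h | h
    · exact h
    · exfalso
      subst h
      have : CharZero F := CharP.charP_to_charZero F
      exact not_finite F
  have : Fact r.Prime := ⟨hrp⟩
  obtain ⟨k, -, hk⟩ := FiniteField.card F r
  rw [hF] at hk
  have h1 : r ∣ 2 ^ 6 := by
    have : r ∣ r ^ (k : ℕ) := dvd_pow_self r k.pos.ne'
    rw [← hk] at this
    exact this
  have h2 : r = 2 := (Nat.prime_dvd_prime_iff_eq hrp Nat.prime_two).mp (hrp.dvd_of_dvd_pow h1)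
  subst h2
  have h3 : ((2 : ℕ) : F) = 0 := CharP.cast_eq_zero F 2
  exact_mod_cast h3

/-- **FC-32**: `NoCore` for the field automorphism of order `3` of `PSU_3(8)`. -/
theorem field_noCore_32 (hF : Fintype.card F = q ^ 2) {p : ℕ} [Fact p.Prime] (hp2 : p ≠ 2)
    (hq₀ : q = 2 ^ p) (σ : F ≃+* F) (hσ : orderOf σ = p)
    (hdvd : p ∣ Nat.card (fixG (fieldPSU σ : MulAut (PSU 3 F q)))) :
    NoCore p (fieldPSU σ : MulAut (PSU 3 F q)) := by
  classical
  have hp : p.Prime := Fact.out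
  have hcnt := Cfsg.Agent.Lib.helper39.S2687.card_fix_dvd hF (le_refl 3) hp hp2 hq₀ σ hσ
  have h648 : 2 ^ (3 * (3 - 1) / 2) * ∏ i ∈ Finset.range 3,
      (if Even i then 2 ^ (i + 1) + 1 else 2 ^ (i + 1) - 1) = 648 := by decide
  rw [h648] at hcnt
  -- `p = 3`
  have hp3 : p = 3 := by
    have h1 : p ∣ 2 ^ 3 * 3 ^ 4 := hdvd.trans hcnt
    rcases (Nat.Prime.dvd_mul hp).mp h1 with h | h
    · exact absurd ((Nat.prime_dvd_prime_iff_eq hp Nat.prime_two).mp (hp.dvd_of_dvd_pow h)) hp2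
    · exact (Nat.prime_dvd_prime_iff_eq hp Nat.prime_three).mp (hp.dvd_of_dvd_pow h)
  subst hp3
  have hq8 : q = 8 := by rw [hq₀]; norm_num
  subst hq8
  have hF64 : Fintype.card F = 64 := by rw [hF]; norm_num
  have h2 : (2 : F) = 0 := fc32_two_eq_zero hF64
  -- a primitive cube root of unity
  obtain ⟨ω, hω3, hω1⟩ : ∃ ω : F, ω ^ 3 = 1 ∧ ω ≠ 1 := by
    have hcard : Nat.card Fˣ = 63 := by
      rw [Nat.card_units, Nat.card_eq_fintype_card, hF64]
    obtain ⟨u, hu⟩ := exists_prime_orderOf_dvd_card' (G := Fˣ) 3 (by rw [hcard]; norm_num)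
    refine ⟨(u : F), ?_, ?_⟩
    · have h1 : u ^ 3 = 1 := by rw [← hu]; exact pow_orderOf_eq_one u
      have h2' := congrArg (fun x : Fˣ => (x : F)) h1
      simpa using h2'
    · intro h1
      have h2' : u = 1 := Units.ext h1
      rw [h2', orderOf_one] at hu
      norm_num at hu
  have hω := omega_quad ω hω3 hω1
  have hω0 : ω ≠ 0 := by
    rintro rfl
    norm_num at hω3
  -- `σ` fixes `ω`
  have hσ3 : σ ^ 3 = 1 := by rw [← hσ]; exact pow_orderOf_eq_one σ
  have hσω : σ ω = ω := by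
    have h1 : (σ ω) ^ 2 + σ ω + 1 = 0 := by
      have := congrArg σ hω
      simpa using this
    have h3 : (σ ω - ω) * (σ ω - ω ^ 2) = 0 := by
      linear_combination h1 - σ ω * hω + hω3
    rcases mul_eq_zero.mp h3 with h4 | h4
    · exact sub_eq_zero.mp h4
    · exfalso
      have h5 : σ ω = ω ^ 2 := sub_eq_zero.mp h4
      have h6 : σ (σ ω) = ω := by
        rw [h5, map_pow, h5]
        linear_combination ω * hω3
      have h7 : σ (σ (σ ω)) = ω ^ 2 := by rw [h6, h5]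
      have h8 : (σ ^ 3) ω = σ (σ (σ ω)) := rfl
      rw [hσ3, h7] at h8
      have h9 : ω = ω ^ 2 := h8
      apply hω1
      have h10 : ω * (ω - 1) = 0 := by linear_combination -h9
      rcases mul_eq_zero.mp h10 with h11 | h11
      · exact absurd h11 hω0
      · exact sub_eq_zero.mp h11
  have hω9 : ω * ω ^ 8 = 1 := by
    have : ω * ω ^ 8 = (ω ^ 3) ^ 3 := by ring
    rw [this, hω3, one_pow]
  -- the two elements
  obtain ⟨d, hd⟩ : ∃ d : ↥(SU 3 F 8), suMat d = dgm ω :=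
    ⟨mkSU (dgm ω) (fc32_dgm_det ω hω3) (fc32_dgm_isom ω hω9), rfl⟩
  obtain ⟨c, hc⟩ : ∃ c : ↥(SU 3 F 8), suMat c = (cmt : Matrix (Fin 3) (Fin 3) F) :=
    ⟨mkSU cmt fc32_cmt_det fc32_cmt_isom, rfl⟩
  have hdσ : fieldSU σ d = d := by
    apply suMat_inj
    show (suMat d).map σ = suMat d
    rw [hd, dgm_eq]
    ext i j
    fin_cases i <;> fin_cases j <;> simp [hσω]
  have hcσ : fieldSU σ c = c := by
    apply suMat_inj
    show (suMat c).map σ = suMat c
    rw [hc]
    unfold cmt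
    ext i j
    fin_cases i <;> fin_cases j <;> simp
  obtain ⟨a, ha⟩ : ∃ a : PSU 3 F 8, a = QuotientGroup.mk d := ⟨_, rfl⟩
  obtain ⟨b, hb⟩ : ∃ b : PSU 3 F 8, b = QuotientGroup.mk c := ⟨_, rfl⟩
  have hax : fieldPSU σ a = a := by rw [ha, fieldPSU_mk, hdσ]
  have hbx : fieldPSU σ b = b := by rw [hb, fieldPSU_mk, hcσ]
  have ha3 : a ^ 3 = 1 := by
    have h1 : d ^ 3 = 1 := by
      apply suMat_inj
      rw [suMat_pow3, hd, Cfsg.Agent.Lib.helper99.suMat_one, dgm_eq]
      rw [pow_succ, pow_two, Matrix.mul_fin_three, Matrix.mul_fin_three, Matrix.one_fin_three]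
      refine m3eq ?_ ?_ ?_ ?_ ?_ ?_ ?_ ?_ ?_ <;> first | ring1 | linear_combination hω3 | linear_combination (ω ^ 3 + 1) * hω3
    rw [ha, ← QuotientGroup.mk_pow, h1]
    rfl
  have hab : a * b = b * a := by
    rw [ha, hb, ← QuotientGroup.mk_mul, ← QuotientGroup.mk_mul]
    apply mk_eq_of_smul _ _ ω
    rw [suMat_mul, suMat_mul, hd, hc, dgm_eq]
    unfold cmt
    rw [Matrix.mul_fin_three, Matrix.mul_fin_three, Matrix.smul_of, Matrix.smul_cons, Matrix.smul_cons,
      Matrix.smul_cons]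
    simp only [Matrix.smul_cons, Matrix.smul_empty, smul_eq_mul]
    refine m3eq ?_ ?_ ?_ ?_ ?_ ?_ ?_ ?_ ?_ <;> first | ring1 | linear_combination hω3 | linear_combination (-1 : F) * hω3
  -- the invariant subgroup
  intro M hM hinv hcop
  have hMle : M ≤ fixG (fieldPSU σ : MulAut (PSU 3 F 8)) := fun k hk => hM k hk
  have hM8 : Nat.card M ∣ 8 := by
    have h1 : Nat.card M ∣ 8 * 81 := (Subgroup.card_dvd_of_le hMle).trans hcnt
    have h2' : (Nat.card M).Coprime 81 := by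
      have : (81 : ℕ) = 3 ^ 4 := by norm_num
      rw [this]
      exact Nat.Coprime.pow_right 4 hcop
    exact h2'.dvd_of_dvd_mul_right h1
  have hpow8 : ∀ m ∈ M, m ^ 8 = 1 := by
    intro m hm
    have h1 : orderOf (⟨m, hm⟩ : M) ∣ Nat.card M := orderOf_dvd_natCard _
    have h3 : orderOf m ∣ 8 := by
      rw [← Subgroup.orderOf_mk m hm]
      exact h1.trans hM8
    exact orderOf_dvd_iff_pow_eq_one.mp h3
  have haM : ∀ m ∈ M, a * m * a⁻¹ ∈ M := fun m hm =>
    hinv (MulAut.conj a) (conj_comm_of_fixed _ hax) m hm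
  have hbM : ∀ m ∈ M, b * m * b⁻¹ ∈ M := fun m hm =>
    hinv (MulAut.conj b) (conj_comm_of_fixed _ hbx) m hm
  have hca : ∀ m ∈ M, a * m = m * a → m = 1 := by
    intro m hm hcomm
    exact comm_trivial hF h2 ω hω3 hω1 d (Or.inl hd) m (by rw [← ha]; exact hcomm.symm)
      (hpow8 m hm)
  have hcb : ∀ m ∈ M, ∀ i : ℕ, (a ^ i * b) * m = m * (a ^ i * b) → m = 1 := by
    intro m hm i hcomm
    have h3 : a ^ i = a ^ (i % 3) := by
      conv_lhs => rw [← Nat.mod_add_div i 3, pow_add, pow_mul, ha3, one_pow, mul_one]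
    rw [h3] at hcomm
    have hlt : i % 3 < 3 := Nat.mod_lt _ (by norm_num)
    interval_cases (i % 3)
    · rw [pow_zero, one_mul] at hcomm
      exact comm_trivial hF h2 ω hω3 hω1 c (Or.inr (Or.inl hc)) m (by rw [← hb]; exact hcomm.symm)
        (hpow8 m hm)
    · rw [pow_one] at hcomm
      refine comm_trivial hF h2 ω hω3 hω1 (d * c) (Or.inr (Or.inr (Or.inl ?_))) m ?_ (hpow8 m hm)
      · rw [suMat_mul, hd, hc]
      · rw [QuotientGroup.mk_mul, ← ha, ← hb]
        exact hcomm.symm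
    · refine comm_trivial hF h2 ω hω3 hω1 (d * d * c) (Or.inr (Or.inr (Or.inr ?_))) m ?_ (hpow8 m hm)
      · rw [suMat_mul, suMat_mul, hd, hc]
      · rw [QuotientGroup.mk_mul, QuotientGroup.mk_mul, ← ha, ← hb, ← pow_two]
        exact hcomm.symm
  exact orbit_count_eight M hM8 a b ha3 hab haM hbM hca hcb

end Main

end Cfsg.Agent.Lib.helper95.PSUBal
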