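import Cfsg.Agent.Lib.helper95.PSUBalA
import Cfsg.Agent.Lib.helper48.LBGlue
import Cfsg.Agent.Lib.helper95.PSUBalFC32
import Cfsg.Agent.Lib.helper49.S2687EVEN
import Cfsg.Agent.Lib.helper39.S2687FIXNE
import Cfsg.Agent.Lib.helper80.S2687FCENT
import Cfsg.Agent.Lib.helper50.S2687GCENT
import Cfsg.Agent.Lib.helper49.S2687FCGENa
import Cfsg.Agent.Lib.helper57.S2687FCEMB
import Cfsg.Agent.Lib.helper57.S2687FCORDa
import Cfsg.Agent.Lib.helper39.S2687FCCNT

/-!
# Local balance for `PSU_n(q)`: the assembly (S2687)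
-/

set_option autoImplicit false

namespace Cfsg.Agent.Lib.helper95.PSUBal

open Matrix Cfsg
open Cfsg.Agent.Lib.helper50
open Cfsg.Agent.Lib.helper48.LB
open Cfsg.Agent.Lib.helper48.AbsBal (fixG mem_fixG)

universe u v

section T1
variable {n : ℕ} {F₀ : Type v} [Field F₀] [Fintype F₀]

omit [Fintype F₀] in
/-- inner automorphisms of `PSL_n` are inner-diagonal -/
theorem conj_mem_inndiagPSL (k : Matrix.ProjectiveSpecialLinearGroup (Fin n) F₀) :
    MulAut.conj k ∈ inndiagPSL n F₀ := by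
  obtain ⟨s, rfl⟩ := Cfsg.Agent.Lib.helper47.PSLn.pr_surj k
  rw [Cfsg.Agent.Lib.helper47.PSLn.inndiag_eq_range, Cfsg.Agent.Lib.helper47.PSLn.conj_pr_eq]
  exact ⟨_, rfl⟩

/-- the `2'`-core of the centralizer of an involutory graph automorphism of `PSL_n(F₀)` in the
inner-diagonal group is trivial -/
theorem graph_core_bot {r f : ℕ} [Fact r.Prime] [CharP F₀ r] (hF₀ : Fintype.card F₀ = r ^ f)
    (hr2 : 2 ≠ r) (hn : 3 ≤ n) (A₀ : GL (Fin n) F₀) (hord : orderOf (graphAut A₀) = 2) :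
    Cfsg.pPrimeCore 2 ↥(inndiagPSL n F₀ ⊓ Subgroup.centralizer {graphAut A₀}) = ⊥ := by
  have key : (Cfsg.Agent.Lib.helper47.PSLn.cAut A₀ * Cfsg.Agent.Lib.helper47.PSLn.fAut 1
      * Cfsg.Agent.Lib.helper47.PSLn.gAut :
        MulAut (Matrix.ProjectiveSpecialLinearGroup (Fin n) F₀)) = graphAut A₀ := by
    rw [map_one, mul_one, Cfsg.Agent.Lib.helper48.LB.cAut_mul_gAut]
  have h := Cfsg.Agent.Lib.helper48.LBGlue.graph_type hF₀ hn (inndiagPSL n F₀)
    conj_mem_inndiagPSL (p := 2) hr2 A₀ 1 (by rw [key]; exact hord)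
  rw [key] at h
  exact h

end T1

section Main
variable {n q : ℕ} {F : Type u} [Field F] [Fintype F]

/-- **Local balance for almost simple groups with socle `PSU_n(q)`** -/
theorem local_balance_psu (r : ℕ) [Fact r.Prime] [CharP F r] (hF : Fintype.card F = q ^ 2)
    (hn : 3 ≤ n) (hK : IsSimpleGroup (PSU n F q))
    (𝒢 : Subgroup (MulAut (PSU n F q))) (hinn : ∀ k : PSU n F q, MulAut.conj k ∈ 𝒢)
    (p : ℕ) [Fact p.Prime] (hpr : p ≠ r) (β : MulAut (PSU n F q)) (hord : orderOf β = p)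
    (hnot : ¬ IsInnerDiagonalAutPSU β) :
    Cfsg.pPrimeCore p ↥(𝒢 ⊓ Subgroup.centralizer {β}) ≠ ⊥ ↔
      ((∃ γ φ : MulAut (PSU n F q), IsInnerDiagonalAutPSU γ ∧
          (∃ σ : F ≃+* F, IsFieldAutPSUOf σ φ) ∧ β = φ.trans γ) ∧
        Nat.Coprime p (Nat.card ↥(MonoidHom.eqLocus β.toMonoidHom (MonoidHom.id (PSU n F q))))) := by
  have hp : p.Prime := Fact.out
  have hr : r.Prime := Fact.out
  obtain ⟨f, hf, hq⟩ := exists_q_pow hF r
  have h32 := not_three_two hF hK
  have hinj := psu_conj_inj hF hn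
  obtain ⟨σ, g, hβ'⟩ := Cfsg.Agent.Lib.helper48.PSUOut.exists_typ hF hn h32 hq hf β
  have h1 := first_conj β g σ hβ'
  have hσ1 : σ ≠ 1 := by
    rintro rfl
    apply hnot
    rw [hβ', fieldPSU_one, mul_one]
    exact (isInnerDiagonalU_iff _).mpr ⟨g, rfl⟩
  have hβp : β ^ p = 1 := by
    rw [← hord]
    exact pow_orderOf_eq_one β
  have hσp : σ ^ p = 1 := by
    have h3 := hβp
    rw [hβ', PSUF.pow_phi_field] at h3
    exact (phi_field_eq_one hF hn _ _ h3).1
  have hσord : orderOf σ = p := orderOf_eq_prime hσp hσ1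
  rw [and_iff_right h1]
  by_cases hp2 : p = 2
  · -- graph involutions
    subst hp2
    have h2F : (2 : F) ≠ 0 := by
      intro h
      have h3 : ((2 : ℕ) : F) = 0 := by exact_mod_cast h
      rw [CharP.cast_eq_zero_iff F r] at h3
      exact hpr ((Nat.prime_dvd_prime_iff_eq hr Nat.prime_two).mp h3).symm
    have hσq : ∀ a, σ a = a ^ q := eq_frob_of_order_two hF σ hσord
    have hord2 : orderOf (graphU σ g) = 2 := by
      have : graphU σ g = β := hβ'.symm
      rw [this]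
      exact hord
    have hf0 : f ≠ 0 := by omega
    let _ : Fintype (GaloisField r f) := Fintype.ofFinite _
    have hF₀ : Fintype.card (GaloisField r f) = q := by
      rw [← Nat.card_eq_fintype_card, GaloisField.card r f hf0, hq]
    obtain ⟨σ', ι, δs, hσ', hι1, hι2, hδs0, hδs⟩ := exists_setup hF hF₀
    have hσσ : σ' = σ := RingEquiv.ext fun a => by rw [hσ', hσq]
    subst hσσ
    obtain ⟨A₀, hrel⟩ := exists_rel_of_GU hF hn σ' hσq ι hι2 δs hδs0 hδs g hord2
    have hT1 := graph_core_bot (F₀ := GaloisField r f) (r := r) (f := f)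
      (by rw [hF₀, hq]) hpr hn A₀ (rel_order hF hn σ' hσq ι δs g A₀ hrel).2
    have hNCore : NoCore 2 β := by
      rw [hβ']
      exact graphU_noCore hF hn σ' hσq ι hι1 hι2 δs hδs0 g A₀ hrel hT1
    have hNCent : NoCent 2 β := by
      rw [hβ']
      exact Cfsg.Agent.Lib.helper50.S2687.graphU_noCent hF hn h32 hq hf h2F σ' hσq ι hι1 hι2 δs hδs0 g A₀ hrel
    have hbot := core_eq_bot hinj 𝒢 hinn β hNCore hNCent
    have hpar := card_fix_modEq β 2 hβp
    have heven : 2 ∣ Nat.card (PSU n F q) := Cfsg.Agent.Lib.helper49.S2687.even_card_PSU hF hn h2F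
    have hfixeven : 2 ∣ Nat.card (fixG β) :=
      (Nat.modEq_zero_iff_dvd).mp (hpar.symm.trans ((Nat.modEq_zero_iff_dvd).mpr heven))
    constructor
    · intro h
      exact absurd hbot h
    · intro hcop
      exfalso
      have h3 : (2 : ℕ) ∣ 1 := by
        have := Nat.dvd_gcd (dvd_refl 2) hfixeven
        rwa [Nat.Coprime.gcd_eq_one hcop] at this
      omega
  · -- field automorphisms of odd prime order
    have hpf : p ∣ f := PSUF.prime_dvd_f hF hq σ hp hp2 hσord
    have hq₀ : q = (r ^ (f / p)) ^ p := by rw [hq, ← pow_mul, Nat.div_mul_cancel hpf]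
    obtain ⟨h, hh⟩ := PSUF.lang_GU hF hn hp hp2 hq₀ σ hσord g (by rw [← hβ']; exact hβp)
    have hβc : β = phiPSU h * fieldPSU σ * (phiPSU h)⁻¹ := hβ'.trans hh
    have hNCent : NoCent p β := by
      rw [hβc]
      exact noCent_conj _ _ (Cfsg.Agent.Lib.helper80.S2687.field_noCent hF hn h32 hq hf hp hp2 hq₀ σ hσord)
    have hfix : fixG β ≠ ⊥ := by
      rw [hβc]
      exact fixG_conj_ne_bot _ _ (Cfsg.Agent.Lib.helper39.S2687.field_fix_ne_bot hF hn σ)
    have hNCore : p ∣ Nat.card (fixG β) → NoCore p β := by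
      intro hd
      rw [hβc] at hd ⊢
      rw [card_fixG_conj] at hd
      apply noCore_conj
      by_cases h32' : n = 3 ∧ r ^ (f / p) = 2
      · obtain ⟨rfl, h2⟩ := h32'
        exact field_noCore_32 hF hp2 (by rw [hq₀, h2]) σ hσord hd
      · exact Cfsg.Agent.Lib.helper49.S2687.field_noCore_generic_of hF hn hp2 hq₀ σ hσord h32'
          (Cfsg.Agent.Lib.helper57.S2687.exists_subfield_emb hF hp hp2 hq₀ σ hσord n)
          (Cfsg.Agent.Lib.helper57.S2687.exists_fixed_order_of hF hn hp2 hq₀ σ hσord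
            (Cfsg.Agent.Lib.helper39.S2687.card_fix_dvd hF hn hp hp2 hq₀ σ hσord) hd)
          (fun a ha => Cfsg.Agent.Lib.helper80.S2687.field_fix_form hF hn h32 hq hf hp hp2 hq₀ σ
            hσord a ha)
    exact core_ne_bot_iff_coprime hinj 𝒢 hinn β hNCore hNCent hfix

end Main

end Cfsg.Agent.Lib.helper95.PSUBal
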