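import Mathlib
import Cfsg.Prelude.Def_GeometricClasses
import Cfsg.Agent.Lib.helper17.SympBasis
import Cfsg.Agent.Lib.helper95.SpMax
import Cfsg.Agent.Lib.helper95.Blocks
import Cfsg.Agent.Lib.helper95.Tensor

/-!
Maximality of the stabiliser in `spGL m F` of a decomposition into pairwise orthogonal non-degenerate
subspaces (`Sp_k ≀ S_t`), unless `k = 2` and `|F| = 2`: evenness of the dimension of a non-degenerate
alternating space, symplectic bases of the blocks, block moves and block swaps inside the stabiliser,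
and the argument through the set of vectors all of whose transvections lie in the overgroup.
-/

set_option autoImplicit false

namespace Cfsg.Agent.Lib.helper95

open Matrix Cfsg Cfsg.Geo Cfsg.Agent.Lib.helper17

universe u v

/-- A non-degenerate alternating space has even dimension. -/
theorem even_finrank_of_alt_nondeg {F : Type u} [Field F] (n : ℕ) :
    ∀ {V : Type v} [AddCommGroup V] [Module F V] [FiniteDimensional F V] (ω : V →ₗ[F] V →ₗ[F] F),
      (∀ v, ω v v = 0) → (∀ v, (∀ w, ω v w = 0) → v = 0) → Module.finrank F V = n → Even n := by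
  induction n using Nat.strong_induction_on with
  | _ n ih =>
    intro V _ _ _ ω halt hnd hdim
    by_cases h0 : n = 0
    · subst h0; exact ⟨0, rfl⟩
    · have hpos : 0 < Module.finrank F V := by omega
      have : Nontrivial V := Module.nontrivial_of_finrank_pos (R := F) hpos
      obtain ⟨e₀, he₀⟩ := exists_ne (0 : V)
      obtain ⟨w, hw⟩ : ∃ w, ω e₀ w ≠ 0 := by
        by_contra hcon
        push Not at hcon
        exact he₀ (hnd e₀ hcon)
      have hfr := Cfsg.Agent.Lib.helper50.finrank_perp2 ω halt e₀ w hw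
      have hev := ih (n - 2) (by omega)
        (ω.domRestrict₁₂ (Cfsg.Agent.Lib.helper50.perp2 ω e₀ w)
          (Cfsg.Agent.Lib.helper50.perp2 ω e₀ w))
        (fun v => by rw [LinearMap.domRestrict₁₂_apply]; exact halt _)
        (Cfsg.Agent.Lib.helper50.nondeg_perp2 ω halt hnd e₀ w hw) (by omega)
      obtain ⟨r, hr⟩ := hev
      exact ⟨r + 1, by omega⟩

section
variable {F : Type*} [Field F]

/-- A GL element mapping `W` into `W'`, of the same dimension, maps `W` onto `W'`. -/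
theorem map_eq_of_mapsTo_of_finrank {ι : Type} [Fintype ι] [DecidableEq ι]
    (W W' : Submodule F (ι → F)) (g : GL ι F)
    (h : ∀ x ∈ W, (g : Matrix ι ι F) *ᵥ x ∈ W')
    (hfr : Module.finrank F W = Module.finrank F W') :
    W.map (Matrix.toLin' (g : Matrix ι ι F)) = W' := by
  have hinj : Function.Injective (Matrix.toLin' (g : Matrix ι ι F)) := by
    intro x y hxy
    rw [Matrix.toLin'_apply, Matrix.toLin'_apply] at hxy
    exact gl_mulVec_injective g hxy
  apply Submodule.eq_of_le_of_finrank_eq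
  · rintro _ ⟨x, hx, rfl⟩
    rw [Matrix.toLin'_apply]
    exact h x hx
  · rw [← hfr]
    exact (Submodule.equivMapOfInjective _ hinj W).symm.finrank_eq

/-- Block components for an `m`-decomposition. -/
theorem exists_components {ι : Type} [Fintype ι] [DecidableEq ι] {t k : ℕ}
    {D : Fin t → Submodule F (ι → F)} (hD : IsMDecomposition k D) :
    ∃ cp : Fin t → ((ι → F) →ₗ[F] (ι → F)), (∀ l x, cp l x ∈ D l) ∧ (∀ x, ∑ l, cp l x = x) ∧
      (∀ l, ∀ x ∈ D l, cp l x = x) ∧ (∀ l l', l ≠ l' → ∀ x ∈ D l, cp l' x = 0) := by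
  refine ⟨fun l => bproj (decompBasis hD) l, ?_, ?_, ?_, ?_⟩
  · intro l x
    rw [← blk_decompBasis hD l]
    exact bproj_mem _ l x
  · intro x
    exact sum_bproj _ x
  · intro l x hx
    exact bproj_of_mem _ (by rw [blk_decompBasis]; exact hx)
  · intro l l' hne x hx
    exact bproj_of_mem_ne _ (by rw [blk_decompBasis]; exact hx) hne

end

section
variable {F : Type*} [Field F] (m : ℕ)

/-- A symplectic basis of a non-degenerate subspace. -/
theorem exists_block_symp_basis (W : Submodule F (Fin m ⊕ Fin m → F))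
    (hW : IsNondegenerateOn (sympForm m F) W) :
    ∃ (κ : ℕ) (e f : Fin κ → (Fin m ⊕ Fin m → F)), Module.finrank F W = 2 * κ ∧
      (∀ a, e a ∈ W) ∧ (∀ a, f a ∈ W) ∧
      (∀ a b, sympForm m F (e a) (e b) = 0) ∧ (∀ a b, sympForm m F (f a) (f b) = 0) ∧
      (∀ a b, sympForm m F (e a) (f b) = if a = b then 1 else 0) := by
  have halt : ∀ v : W, ((sympBilin m (F := F)).domRestrict₁₂ W W) v v = 0 := fun v => by
    rw [LinearMap.domRestrict₁₂_apply]; exact sympBilin_alt _ _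
  have hnd : ∀ v : W, (∀ w : W, ((sympBilin m (F := F)).domRestrict₁₂ W W) v w = 0) → v = 0 := by
    intro v hv
    by_contra hv0
    have hv0' : (v : Fin m ⊕ Fin m → F) ≠ 0 := fun h => hv0 (Subtype.ext h)
    obtain ⟨x, hxW, hx⟩ := (hW v.1 v.2 hv0').2
    have := hv ⟨x, hxW⟩
    rw [LinearMap.domRestrict₁₂_apply] at this
    exact hx this
  obtain ⟨κ, hκ⟩ := even_finrank_of_alt_nondeg (Module.finrank F W) _ halt hnd rfl
  have hdim : Module.finrank F W = 2 * κ := by omega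
  obtain ⟨e, f, hee, hff, hef⟩ := exists_symp_basis κ _ halt hnd hdim
  simp only [LinearMap.domRestrict₁₂_apply, sympBilin_apply] at hee hff hef
  exact ⟨κ, fun a => (e a : Fin m ⊕ Fin m → F), fun a => (f a : Fin m ⊕ Fin m → F), hdim,
    fun a => (e a).2, fun a => (f a).2, hee, hff, hef⟩

variable {t k : ℕ} {D : Fin t → Submodule F (Fin m ⊕ Fin m → F)}

/-- An element of the stabiliser moving a non-zero vector of a block to another one of the same block
and fixing the other blocks pointwise. -/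
theorem exists_block_move (hD : IsNondegenerateMDecomposition (sympForm m F) k D) (i : Fin t)
    (x x' : Fin m ⊕ Fin m → F) (hx : x ∈ D i) (hx' : x' ∈ D i) (hx0 : x ≠ 0) (hx'0 : x' ≠ 0) :
    ∃ g : GL (Fin m ⊕ Fin m) F, g ∈ decompositionStabilizer D ⊓ spGL m F ∧
      (g : Matrix (Fin m ⊕ Fin m) (Fin m ⊕ Fin m) F) *ᵥ x = x' ∧
      ∀ l, l ≠ i → ∀ y ∈ D l, (g : Matrix (Fin m ⊕ Fin m) (Fin m ⊕ Fin m) F) *ᵥ y = y := by
  obtain ⟨A, -, hAx, hAfix, hAU⟩ := transv_transitive_vectors_rel m (D i)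
    (fun u hu hu0 => (hD.nondegenerate i u hu hu0).2) x x' hx hx' hx0 hx'0
  obtain ⟨g, hg⟩ := exists_spGL m A.2
  have hfix : ∀ l, l ≠ i → ∀ y ∈ D l,
      ((g : GL (Fin m ⊕ Fin m) F) : Matrix (Fin m ⊕ Fin m) (Fin m ⊕ Fin m) F) *ᵥ y = y := by
    intro l hl y hy
    rw [hg]
    exact hAfix y (fun w hw => hD.orthogonal l i hl y hy w hw)
  refine ⟨g, ⟨⟨1, fun l => ?_⟩, g.2⟩, by rw [hg]; exact hAx, hfix⟩
  rw [Equiv.Perm.one_apply]
  apply map_eq_of_mapsTo
  intro y hy
  by_cases hl : l = i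
  · subst hl; rw [hg]; exact hAU y hy
  · rw [hfix l hl y hy]; exact hy

/-- An element of the stabiliser interchanging the blocks `i` and `j` and mapping every other block to
itself. -/
theorem exists_block_swap (hD : IsNondegenerateMDecomposition (sympForm m F) k D) (i j : Fin t) :
    ∃ g : GL (Fin m ⊕ Fin m) F, g ∈ decompositionStabilizer D ⊓ spGL m F ∧
      ∀ l, (D l).map (Matrix.toLin' (g : Matrix (Fin m ⊕ Fin m) (Fin m ⊕ Fin m) F)) =
        D (Equiv.swap i j l) := by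
  classical
  have hb := fun l => exists_block_symp_basis m (D l) (hD.nondegenerate l)
  obtain ⟨κ, hκ⟩ : ∃ κ, k = 2 * κ := by
    obtain ⟨κ, _, _, hdim, -⟩ := hb i
    exact ⟨κ, by rw [← hdim, hD.decomp.finrank_eq i]⟩
  have hb' : ∀ l, ∃ (e f : Fin κ → (Fin m ⊕ Fin m → F)), (∀ a, e a ∈ D l) ∧ (∀ a, f a ∈ D l) ∧
      (∀ a b, sympForm m F (e a) (e b) = 0) ∧ (∀ a b, sympForm m F (f a) (f b) = 0) ∧
      (∀ a b, sympForm m F (e a) (f b) = if a = b then 1 else 0) := by
    intro l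
    obtain ⟨κ', e, f, hdim, h1, h2, h3, h4, h5⟩ := hb l
    have hκ' : κ' = κ := by
      have := hD.decomp.finrank_eq l
      omega
    subst hκ'
    exact ⟨e, f, h1, h2, h3, h4, h5⟩
  choose e f he hf hee hff hef using hb'
  obtain ⟨X, hXl, hXr⟩ : ∃ X : Fin t × (Fin κ ⊕ Fin κ) → (Fin m ⊕ Fin m → F),
      (∀ l a, X (l, Sum.inl a) = e l a) ∧ (∀ l a, X (l, Sum.inr a) = f l a) :=
    ⟨fun p => Sum.elim (e p.1) (f p.1) p.2, fun _ _ => rfl, fun _ _ => rfl⟩
  obtain ⟨J₀, hJll, hJlr, hJrl, hJrr⟩ : ∃ J₀ : Fin κ ⊕ Fin κ → Fin κ ⊕ Fin κ → F,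
      (∀ a b, J₀ (Sum.inl a) (Sum.inl b) = 0) ∧
      (∀ a b, J₀ (Sum.inl a) (Sum.inr b) = if a = b then 1 else 0) ∧
      (∀ a b, J₀ (Sum.inr a) (Sum.inl b) = if a = b then -1 else 0) ∧
      (∀ a b, J₀ (Sum.inr a) (Sum.inr b) = 0) :=
    ⟨fun a b => Sum.elim (fun a' => Sum.elim (fun _ => (0 : F)) (fun b' => if a' = b' then 1 else 0) b)
      (fun a' => Sum.elim (fun b' => if a' = b' then (-1 : F) else 0) (fun _ => 0) b) a,
      fun _ _ => rfl, fun _ _ => rfl, fun _ _ => rfl, fun _ _ => rfl⟩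
  have hXmem : ∀ l a, X (l, a) ∈ D l := by
    rintro l (a | a)
    · rw [hXl]; exact he l a
    · rw [hXr]; exact hf l a
  have hG : ∀ l l' a a', sympForm m F (X (l, a)) (X (l', a')) = if l = l' then J₀ a a' else 0 := by
    intro l l' a a'
    by_cases hl : l = l'
    · subst hl
      rw [if_pos rfl]
      rcases a with a | a <;> rcases a' with a' | a'
      · rw [hXl, hXl, hJll]; exact hee l a a'
      · rw [hXl, hXr, hJlr]; exact hef l a a'
      · rw [hXr, hXl, hJrl, sympForm_swap, hef l a' a]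
        by_cases h : a = a'
        · subst h; simp
        · rw [if_neg h, if_neg (Ne.symm h), neg_zero]
      · rw [hXr, hXr, hJrr]; exact hff l a a'
    · rw [if_neg hl]
      exact hD.orthogonal l l' hl _ (hXmem l a) _ (hXmem l' a')
  have hX : LinearIndependent F X := by
    apply linearIndependent_of_dual m X (fun p => (p.1, Sum.swap p.2))
    · rintro ⟨l, a | a⟩
      · show sympForm m F (X (l, Sum.inl a)) (X (l, Sum.inr a)) ≠ 0
        rw [hG, if_pos rfl, hJlr, if_pos rfl]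
        exact one_ne_zero
      · show sympForm m F (X (l, Sum.inr a)) (X (l, Sum.inl a)) ≠ 0
        rw [hG, if_pos rfl, hJrl, if_pos rfl]
        exact neg_ne_zero.mpr one_ne_zero
    · rintro ⟨l, a⟩ ⟨l', a'⟩ hne
      show sympForm m F (X (l', a')) (X (l, Sum.swap a)) = 0
      rw [hG]
      by_cases hl : l' = l
      · subst hl
        rw [if_pos rfl]
        have haa : a' ≠ a := fun h => hne (by rw [h])
        rcases a with a | a <;> rcases a' with a' | a'
        · rw [Sum.swap_inl, hJlr, if_neg (fun h => haa (by rw [h]))]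
        · rw [Sum.swap_inl, hJrr]
        · rw [Sum.swap_inr, hJll]
        · rw [Sum.swap_inr, hJrl, if_neg (fun h => haa (by rw [h]))]
      · rw [if_neg hl]
  have hinj : Function.Injective (fun p : Fin t × (Fin κ ⊕ Fin κ) => (Equiv.swap i j p.1, p.2)) := by
    rintro ⟨l, a⟩ ⟨l', a'⟩ h
    simp only [Prod.mk.injEq, EmbeddingLike.apply_eq_iff_eq] at h
    rw [h.1, h.2]
  obtain ⟨A, hA⟩ := sp_witt_family' m X (fun p => X (Equiv.swap i j p.1, p.2)) hX
    (hX.comp _ hinj) (fun p p' => by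
      obtain ⟨l, a⟩ := p
      obtain ⟨l', a'⟩ := p'
      rw [hG, hG]
      by_cases hl : l = l'
      · rw [if_pos hl, if_pos (by rw [hl])]
      · rw [if_neg hl, if_neg (fun h => hl ((Equiv.swap i j).injective h))])
  obtain ⟨g, hg⟩ := exists_spGL m A.2
  have hspan : ∀ l, D l = Submodule.span F (Set.range (fun a : Fin κ ⊕ Fin κ => X (l, a))) := by
    intro l
    symm
    apply Submodule.eq_of_le_of_finrank_eq
    · rw [Submodule.span_le]
      rintro _ ⟨a, rfl⟩
      exact hXmem l a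
    · have hli : LinearIndependent F (fun a : Fin κ ⊕ Fin κ => X (l, a)) :=
        hX.comp (fun a : Fin κ ⊕ Fin κ => (l, a)) (fun a b h => (Prod.mk.injEq _ _ _ _ ▸ h).2)
      rw [finrank_span_eq_card hli, hD.decomp.finrank_eq l, hκ]
      simp [two_mul]
  have hmaps : ∀ l, ∀ x ∈ D l,
      ((g : GL (Fin m ⊕ Fin m) F) : Matrix (Fin m ⊕ Fin m) (Fin m ⊕ Fin m) F) *ᵥ x ∈
        D (Equiv.swap i j l) := by
    intro l x hx
    rw [hspan l] at hx
    refine Submodule.span_induction (p := fun x _ =>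
      ((g : GL (Fin m ⊕ Fin m) F) : Matrix (Fin m ⊕ Fin m) (Fin m ⊕ Fin m) F) *ᵥ x ∈
        D (Equiv.swap i j l)) ?_ ?_ ?_ ?_ hx
    · rintro _ ⟨a, rfl⟩
      rw [hg, hA]
      exact hXmem _ a
    · rw [Matrix.mulVec_zero]; exact Submodule.zero_mem _
    · intro a b _ _ ha hb
      rw [Matrix.mulVec_add]; exact Submodule.add_mem _ ha hb
    · intro c a _ ha
      rw [Matrix.mulVec_smul]; exact Submodule.smul_mem _ c ha
  have hmap : ∀ l, (D l).map (Matrix.toLin'
      ((g : GL (Fin m ⊕ Fin m) F) : Matrix (Fin m ⊕ Fin m) (Fin m ⊕ Fin m) F)) =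
        D (Equiv.swap i j l) := fun l =>
    map_eq_of_mapsTo_of_finrank (D l) (D (Equiv.swap i j l)) g (hmaps l)
      (by rw [hD.decomp.finrank_eq, hD.decomp.finrank_eq])
  exact ⟨g, ⟨⟨Equiv.swap i j, hmap⟩, g.2⟩, hmap⟩

/-- In a block, a non-zero vector `y ≠ x` orthogonal to a given non-zero `x` (unless `k = 2`, `|F| = 2`). -/
theorem exists_block_orth [Fintype F] (hD : IsNondegenerateMDecomposition (sympForm m F) k D)
    (hex : ¬ (k = 2 ∧ Fintype.card F = 2)) (i : Fin t) (x : Fin m ⊕ Fin m → F) (hx : x ∈ D i)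
    (hx0 : x ≠ 0) : ∃ y ∈ D i, y ≠ 0 ∧ y ≠ x ∧ sympForm m F x y = 0 := by
  classical
  by_cases hq : Fintype.card F = 2
  · obtain ⟨κ, e, f, hdim, he, hf, hee, hff, hef⟩ :=
      exists_block_symp_basis m (D i) (hD.nondegenerate i)
    have hk : k = 2 * κ := by rw [← hdim, hD.decomp.finrank_eq i]
    have hκ : 2 ≤ κ := by
      by_contra hlt
      apply hex
      have := hD.decomp.pos
      exact ⟨by omega, hq⟩
    obtain ⟨a₀, a₁, ha01⟩ : ∃ a₀ a₁ : Fin κ, a₀ ≠ a₁ :=
      ⟨⟨0, by omega⟩, ⟨1, by omega⟩, by simp [Fin.ext_iff]⟩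
    have he0 : ∀ a, e a ≠ 0 := by
      intro a h0
      have := hef a a
      rw [h0, sympForm_zero_left, if_pos rfl] at this
      exact zero_ne_one this
    by_cases hα : sympForm m F x (e a₀) = 0
    · by_cases hxe : x = e a₀
      · refine ⟨e a₁, he a₁, he0 a₁, ?_, ?_⟩
        · intro h1
          have := hef a₁ a₀
          rw [h1, hxe, hef a₀ a₀, if_pos rfl, if_neg (Ne.symm ha01)] at this
          exact one_ne_zero this
        · rw [hxe]; exact hee a₀ a₁
      · exact ⟨e a₀, he a₀, he0 a₀, fun h => hxe h.symm, hα⟩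
    · refine ⟨sympForm m F x (e a₁) • e a₀ - sympForm m F x (e a₀) • e a₁,
        (D i).sub_mem ((D i).smul_mem _ (he a₀)) ((D i).smul_mem _ (he a₁)), ?_, ?_, ?_⟩
      · intro h0
        have h1 := congrArg (fun z => sympForm m F z (f a₁)) h0
        simp only [sympForm_sub_left, sympForm_smul_left, hef, sympForm_zero_left, if_neg ha01,
          if_true, mul_zero, mul_one, zero_sub] at h1
        exact hα (neg_eq_zero.mp h1)
      · intro h1
        apply hα
        have h2 : sympForm m F x (e a₀) =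
            sympForm m F (sympForm m F x (e a₁) • e a₀ - sympForm m F x (e a₀) • e a₁) (e a₀) := by
          rw [h1]
        rw [h2, sympForm_sub_left, sympForm_smul_left, sympForm_smul_left, hee, hee, mul_zero,
          mul_zero, sub_zero]
      · rw [sympForm_sub_right, sympForm_smul_right, sympForm_smul_right]
        ring
  · obtain ⟨c, hc0, hc1⟩ : ∃ c : F, c ≠ 0 ∧ c ≠ 1 := by
      by_contra hcon
      push Not at hcon
      apply hq
      have h1 : Fintype.card F ≤ 2 := by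
        have hsub : (Finset.univ : Finset F) ⊆ {0, 1} := by
          intro c _
          by_cases hc : c = 0
          · simp [hc]
          · simp [hcon c hc]
        calc Fintype.card F = (Finset.univ : Finset F).card := Finset.card_univ.symm
          _ ≤ ({0, 1} : Finset F).card := Finset.card_le_card hsub
          _ ≤ 2 := Finset.card_le_two
      have h2 : 1 < Fintype.card F := Fintype.one_lt_card
      omega
    refine ⟨c • x, (D i).smul_mem c hx, smul_ne_zero hc0 hx0, ?_, ?_⟩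
    · intro h
      have h3 : (c - 1) • x = 0 := by rw [sub_smul, one_smul, h, sub_self]
      rcases smul_eq_zero.mp h3 with h' | h'
      · exact hc1 (sub_eq_zero.mp h')
      · exact hx0 h'
    · rw [sympForm_smul_right, sympForm_self, mul_zero]

/-- A non-zero vector in each block. -/
theorem exists_ne_zero_mem_block (hD : IsNondegenerateMDecomposition (sympForm m F) k D) (i : Fin t) :
    ∃ x ∈ D i, x ≠ 0 := by
  have hpos : 0 < Module.finrank F (D i) := by rw [hD.decomp.finrank_eq]; exact hD.decomp.pos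
  have : Nontrivial (D i) := Module.nontrivial_of_finrank_pos (R := F) hpos
  obtain ⟨z, hz⟩ := exists_ne (0 : D i)
  exact ⟨z.1, z.2, fun h0 => hz (Subtype.ext h0)⟩

/-- If `M ≤ spGL` contains the stabiliser of the non-degenerate decomposition `D` and an element not
stabilising `D`, then `M` contains every symplectic transvection (unless `k = 2` and `|F| = 2`). -/
theorem sp_decomp_transv_all [Fintype F] (hD : IsNondegenerateMDecomposition (sympForm m F) k D)
    (hex : ¬ (k = 2 ∧ Fintype.card F = 2))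
    (M : Subgroup (GL (Fin m ⊕ Fin m) F))
    (hPM : decompositionStabilizer D ⊓ spGL m F ≤ M) (hMG : M ≤ spGL m F)
    (h : GL (Fin m ⊕ Fin m) F) (hhM : h ∈ M) (hhD : h ∉ decompositionStabilizer D)
    (v : Fin m ⊕ Fin m → F) (c : F) : spT m v c ∈ M := by
  classical
  obtain ⟨cp, hcpmem, hsum, hcpself, hcpne⟩ := exists_components hD.decomp
  have horthc : ∀ i, ∀ z ∈ D i, ∀ r, cp i r = 0 → sympForm m F z r = 0 := by
    intro i z hz r hr
    rw [← sympBilin_apply, ← hsum r, map_sum]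
    apply Finset.sum_eq_zero
    intro l _
    rw [sympBilin_apply]
    by_cases hl : l = i
    · rw [hl, hr, sympForm_zero_right]
    · exact hD.orthogonal i l (Ne.symm hl) z hz _ (hcpmem l r)
  have horthc' : ∀ i, ∀ z ∈ D i, ∀ r, cp i r = 0 → sympForm m F r z = 0 := by
    intro i z hz r hr
    rw [sympForm_swap, horthc i z hz r hr, neg_zero]
  have hfixc : ∀ (g : GL (Fin m ⊕ Fin m) F) (i : Fin t),
      (∀ l, l ≠ i → ∀ y ∈ D l, (g : Matrix (Fin m ⊕ Fin m) (Fin m ⊕ Fin m) F) *ᵥ y = y) →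
      ∀ z, cp i z = 0 → (g : Matrix (Fin m ⊕ Fin m) (Fin m ⊕ Fin m) F) *ᵥ z = z := by
    intro g i hg z hz
    have e : (g : Matrix (Fin m ⊕ Fin m) (Fin m ⊕ Fin m) F) *ᵥ (∑ l, cp l z) = ∑ l, cp l z := by
      rw [Matrix.mulVec_sum]
      apply Finset.sum_congr rfl
      intro l _
      by_cases hl : l = i
      · rw [hl, hz, Matrix.mulVec_zero]
      · exact hg l hl _ (hcpmem l z)
    rw [hsum z] at e
    exact e
  have hex1 : ∀ v : Fin m ⊕ Fin m → F, v ≠ 0 → ∃ l, cp l v ≠ 0 := by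
    intro v hv
    by_contra hcon
    push Not at hcon
    apply hv
    rw [← hsum v]
    exact Finset.sum_eq_zero (fun l _ => hcon l)
  have hmemD : ∀ (v : Fin m ⊕ Fin m → F) (i : Fin t), (∀ l, l ≠ i → cp l v = 0) → v ∈ D i := by
    intro v i hv
    have e : ∑ l, cp l v = cp i v :=
      Finset.sum_eq_single i (fun l _ hl => hv l hl) (fun hi => absurd (Finset.mem_univ i) hi)
    rw [hsum v] at e
    rw [e]
    exact hcpmem i v
  have ha : ∀ i, ∀ u ∈ D i, ∀ c, spT m u c ∈ M := by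
    intro i u hu c
    apply hPM
    refine ⟨⟨1, fun l => ?_⟩, spT_mem m u c⟩
    rw [Equiv.Perm.one_apply]
    apply map_eq_of_mapsTo
    intro y hy
    rw [spT_mulVec]
    by_cases hl : l = i
    · subst hl
      exact (D l).add_mem hy ((D l).smul_mem _ hu)
    · rw [hD.orthogonal l i hl y hy u hu, mul_zero, zero_smul, add_zero]
      exact hy
  have hb : ∀ g ∈ M, ∀ v, (∀ c, spT m v c ∈ M) →
      ∀ c, spT m ((g : Matrix (Fin m ⊕ Fin m) (Fin m ⊕ Fin m) F) *ᵥ v) c ∈ M := by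
    intro g hg v hv c
    rw [← spT_conj m g (hMG hg) v c]
    exact M.mul_mem (M.mul_mem hg (hv c)) (M.inv_mem hg)
  have hc : ∀ (a : F) v, (∀ c, spT m v c ∈ M) → ∀ c, spT m (a • v) c ∈ M := by
    intro a v hv c
    rw [spT_smul]
    exact hv _
  have hmove : ∀ u, (∀ c, spT m u c ∈ M) → ∀ v, (∀ c, spT m v c ∈ M) → sympForm m F u v ≠ 0 →
      ∀ c, spT m (u + v) c ∈ M := by
    intro u hu v hv huv
    have h1 := hb (spT m v (sympForm m F u v)⁻¹) (hv _) u hu
    rw [spT_mulVec, inv_mul_cancel₀ huv, one_smul] at h1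
    exact h1
  -- a vector with two non-zero components all of whose transvections lie in `M`
  have hA : ∃ v₀ i₁ i₂, (∀ c, spT m v₀ c ∈ M) ∧ i₁ ≠ i₂ ∧ cp i₁ v₀ ≠ 0 ∧ cp i₂ v₀ ≠ 0 := by
    by_contra hcon
    have hS1 : ∀ v, (∀ c, spT m v c ∈ M) → ∀ l l', l ≠ l' → cp l' v ≠ 0 → cp l v = 0 := by
      intro v hv l l' hll' h2
      by_contra h1
      exact hcon ⟨v, l, l', hv, hll', h1, h2⟩
    apply hhD
    have hσ : ∀ i : Fin t, ∃ j : Fin t, ∀ y ∈ D i,
        (h : Matrix (Fin m ⊕ Fin m) (Fin m ⊕ Fin m) F) *ᵥ y ∈ D j := by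
      intro i
      obtain ⟨x₀, hx₀, hx₀0⟩ := exists_ne_zero_mem_block m hD i
      have hhx₀ : (h : Matrix (Fin m ⊕ Fin m) (Fin m ⊕ Fin m) F) *ᵥ x₀ ≠ 0 := by
        intro h0
        apply hx₀0
        have := gl_inv_mulVec_mulVec h x₀
        rw [h0, Matrix.mulVec_zero] at this
        exact this.symm
      obtain ⟨j, hj⟩ := hex1 _ hhx₀
      refine ⟨j, fun y hy => hmemD _ j (fun l hl => ?_)⟩
      by_contra hly
      have h1 : cp j ((h : Matrix (Fin m ⊕ Fin m) (Fin m ⊕ Fin m) F) *ᵥ y) = 0 :=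
        hS1 _ (hb h hhM y (ha i y hy)) j l (Ne.symm hl) hly
      have h2 : cp l ((h : Matrix (Fin m ⊕ Fin m) (Fin m ⊕ Fin m) F) *ᵥ x₀) = 0 :=
        hS1 _ (hb h hhM x₀ (ha i x₀ hx₀)) l j hl hj
      have h3 := hS1 _ (hb h hhM (x₀ + y) (ha i _ ((D i).add_mem hx₀ hy))) l j hl (by
        rw [Matrix.mulVec_add, map_add, h1, add_zero]; exact hj)
      rw [Matrix.mulVec_add, map_add, h2, zero_add] at h3
      exact hly h3
    choose σ hσ using hσ
    have hmap : ∀ i, (D i).map (Matrix.toLin' (h : Matrix (Fin m ⊕ Fin m) (Fin m ⊕ Fin m) F)) =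
        D (σ i) := fun i =>
      map_eq_of_mapsTo_of_finrank (D i) (D (σ i)) h (hσ i)
        (by rw [hD.decomp.finrank_eq, hD.decomp.finrank_eq])
    have hDne : ∀ i j, i ≠ j → D i ≠ D j := by
      intro i j hij heq
      obtain ⟨x, hx, hx0⟩ := exists_ne_zero_mem_block m hD i
      apply hx0
      have h1 := hcpne i j hij x hx
      have h2 := hcpself j x (heq ▸ hx)
      rw [← h2, h1]
    have hinjh : Function.Injective
        (Matrix.toLin' (h : Matrix (Fin m ⊕ Fin m) (Fin m ⊕ Fin m) F)) := by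
      intro x y hxy
      rw [Matrix.toLin'_apply, Matrix.toLin'_apply] at hxy
      exact gl_mulVec_injective h hxy
    have hσinj : Function.Injective σ := by
      intro i j hij
      by_contra hne
      apply hDne i j hne
      apply Submodule.map_injective_of_injective hinjh
      rw [hmap, hmap, hij]
    exact ⟨Equiv.ofBijective σ (Finite.injective_iff_bijective.mp hσinj), fun i => by
      rw [Equiv.ofBijective_apply]; exact hmap i⟩
  obtain ⟨v₀, i₁, i₂, hv₀, hi12, hx₁0, hx₂0⟩ := hA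
  obtain ⟨x₁, hx₁⟩ : ∃ x₁, x₁ = cp i₁ v₀ := ⟨_, rfl⟩
  obtain ⟨x₂, hx₂⟩ : ∃ x₂, x₂ = cp i₂ v₀ := ⟨_, rfl⟩
  obtain ⟨r, hr⟩ : ∃ r, r = v₀ - x₁ - x₂ := ⟨_, rfl⟩
  have hx₁D : x₁ ∈ D i₁ := hx₁ ▸ hcpmem i₁ v₀
  have hx₂D : x₂ ∈ D i₂ := hx₂ ▸ hcpmem i₂ v₀
  rw [← hx₁] at hx₁0
  rw [← hx₂] at hx₂0
  have hr1 : cp i₁ r = 0 := by
    rw [hr, map_sub, map_sub, ← hx₁, hcpself i₁ x₁ hx₁D, hcpne i₂ i₁ (Ne.symm hi12) x₂ hx₂D,
      sub_self, sub_zero]
  have hr2 : cp i₂ r = 0 := by
    rw [hr, map_sub, map_sub, ← hx₂, hcpself i₂ x₂ hx₂D, hcpne i₁ i₂ hi12 x₁ hx₁D,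
      sub_zero, sub_self]
  have hv₀eq : v₀ = x₁ + x₂ + r := by rw [hr]; abel
  obtain ⟨x₁', hx₁'D, hx₁'⟩ := (hD.nondegenerate i₁ x₁ hx₁D hx₁0).2
  have hx₁'0 : x₁' ≠ 0 := by
    rintro rfl
    exact hx₁' (sympForm_zero_right m x₁)
  obtain ⟨y₂, hy₂D, hy₂0, hy₂ne, hy₂⟩ := exists_block_orth m hD hex i₂ x₂ hx₂D hx₂0
  have hab : ∀ c, spT m ((x₁ - x₁') + (x₂ - y₂)) c ∈ M := by
    obtain ⟨g₁, hg₁P, hg₁x, hg₁fix⟩ := exists_block_move m hD i₁ x₁ x₁' hx₁D hx₁'D hx₁0 hx₁'0
    obtain ⟨g₂, hg₂P, hg₂x, hg₂fix⟩ := exists_block_move m hD i₂ x₂ y₂ hx₂D hy₂D hx₂0 hy₂0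
    have hw : ∀ c, spT m (x₁' + y₂ + r) c ∈ M := by
      have h1 := hb _ (M.mul_mem (hPM hg₂P) (hPM hg₁P)) v₀ hv₀
      have e : ((g₂ * g₁ : GL (Fin m ⊕ Fin m) F) : Matrix (Fin m ⊕ Fin m) (Fin m ⊕ Fin m) F) *ᵥ
          v₀ = x₁' + y₂ + r := by
        rw [Units.val_mul, ← Matrix.mulVec_mulVec, hv₀eq]
        simp only [Matrix.mulVec_add]
        rw [hg₁x, hg₁fix i₂ (Ne.symm hi12) x₂ hx₂D, hfixc g₁ i₁ hg₁fix r hr1,
          hg₂fix i₁ hi12 x₁' hx₁'D, hg₂x, hfixc g₂ i₂ hg₂fix r hr2]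
      rw [e] at h1
      exact h1
    have h1 := hc (-1) _ hw
    have h2 := hmove v₀ hv₀ _ h1 (by
      rw [hv₀eq, sympForm_smul_right]
      simp only [sympForm_add_left, sympForm_add_right]
      rw [hD.orthogonal i₁ i₂ hi12 x₁ hx₁D y₂ hy₂D, horthc i₁ x₁ hx₁D r hr1,
        hD.orthogonal i₂ i₁ (Ne.symm hi12) x₂ hx₂D x₁' hx₁'D, hy₂, horthc i₂ x₂ hx₂D r hr2,
        horthc' i₁ x₁' hx₁'D r hr1, horthc' i₂ y₂ hy₂D r hr2, sympForm_self]
      simpa using hx₁')
    have e : v₀ + (-1 : F) • (x₁' + y₂ + r) = (x₁ - x₁') + (x₂ - y₂) := by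
      rw [hv₀eq]; module
    rw [e] at h2
    exact h2
  have ha0 : x₁ - x₁' ≠ 0 := by
    intro h0
    apply hx₁'
    rw [← sub_eq_zero.mp h0, sympForm_self]
  have hb0 : x₂ - y₂ ≠ 0 := fun h0 => hy₂ne (sub_eq_zero.mp h0).symm
  have hR0 : ∀ x ∈ D i₁, ∀ y ∈ D i₂, ∀ c, spT m (x + y) c ∈ M := by
    intro x hx y hy
    by_cases hx0 : x = 0
    · rw [hx0, zero_add]; exact ha i₂ y hy
    by_cases hy0 : y = 0
    · rw [hy0, add_zero]; exact ha i₁ x hx
    obtain ⟨g₁, hg₁P, hg₁x, hg₁fix⟩ := exists_block_move m hD i₁ (x₁ - x₁') x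
      ((D i₁).sub_mem hx₁D hx₁'D) hx ha0 hx0
    obtain ⟨g₂, hg₂P, hg₂x, hg₂fix⟩ := exists_block_move m hD i₂ (x₂ - y₂) y
      ((D i₂).sub_mem hx₂D hy₂D) hy hb0 hy0
    have h1 := hb _ (M.mul_mem (hPM hg₂P) (hPM hg₁P)) _ hab
    have e : ((g₂ * g₁ : GL (Fin m ⊕ Fin m) F) : Matrix (Fin m ⊕ Fin m) (Fin m ⊕ Fin m) F) *ᵥ
        ((x₁ - x₁') + (x₂ - y₂)) = x + y := by
      rw [Units.val_mul, ← Matrix.mulVec_mulVec, Matrix.mulVec_add, hg₁x,
        hg₁fix i₂ (Ne.symm hi12) _ ((D i₂).sub_mem hx₂D hy₂D), Matrix.mulVec_add,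
        hg₂fix i₁ hi12 x hx, hg₂x]
    rw [e] at h1
    exact h1
  have hRstep : ∀ a b c' : Fin t, a ≠ b → c' ≠ a → c' ≠ b →
      (∀ x ∈ D a, ∀ y ∈ D b, ∀ c, spT m (x + y) c ∈ M) →
      ∀ x ∈ D a, ∀ y ∈ D c', ∀ c, spT m (x + y) c ∈ M := by
    intro a b c' hab' hca hcb hR x hx y hy
    obtain ⟨g, hgP, hgmap⟩ := exists_block_swap m hD b c'
    have h1 : x ∈ (D a).map (Matrix.toLin' (g : Matrix (Fin m ⊕ Fin m) (Fin m ⊕ Fin m) F)) := by
      rw [hgmap a, Equiv.swap_apply_of_ne_of_ne hab' (Ne.symm hca)]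
      exact hx
    have h2 : y ∈ (D b).map (Matrix.toLin' (g : Matrix (Fin m ⊕ Fin m) (Fin m ⊕ Fin m) F)) := by
      rw [hgmap b, Equiv.swap_apply_left]
      exact hy
    obtain ⟨x', hx', rfl⟩ := h1
    obtain ⟨y', hy', rfl⟩ := h2
    have h3 := hb g (hPM hgP) _ (hR x' hx' y' hy')
    rw [Matrix.mulVec_add] at h3
    rw [Matrix.toLin'_apply, Matrix.toLin'_apply]
    exact h3
  have hRsymm : ∀ a b : Fin t, (∀ x ∈ D a, ∀ y ∈ D b, ∀ c, spT m (x + y) c ∈ M) →
      ∀ x ∈ D b, ∀ y ∈ D a, ∀ c, spT m (x + y) c ∈ M := by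
    intro a b hR x hx y hy
    rw [add_comm]
    exact hR y hy x hx
  have hR1 : ∀ b : Fin t, b ≠ i₁ → ∀ x ∈ D i₁, ∀ y ∈ D b, ∀ c, spT m (x + y) c ∈ M := by
    intro b hb1
    by_cases hb2 : b = i₂
    · rw [hb2]; exact hR0
    · exact hRstep i₁ i₂ b hi12 hb1 hb2 hR0
  have hRall : ∀ a b : Fin t, a ≠ b → ∀ x ∈ D a, ∀ y ∈ D b, ∀ c, spT m (x + y) c ∈ M := by
    intro a b hab'
    by_cases ha1 : a = i₁
    · rw [ha1]; exact hR1 b (fun hb1 => hab' (by rw [ha1, hb1]))
    · by_cases hb1 : b = i₁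
      · rw [hb1]; exact hRsymm i₁ a (hR1 a ha1)
      · exact hRstep a i₁ b ha1 (Ne.symm hab') hb1 (hRsymm i₁ a (hR1 a ha1))
  have hfin : ∀ (I : Finset (Fin t)) (v : Fin m ⊕ Fin m → F), (∀ l, l ∉ I → cp l v = 0) →
      ∀ c, spT m v c ∈ M := by
    intro I
    induction I using Finset.induction_on with
    | empty =>
      intro v hv
      have hv0 : v = 0 := by
        rw [← hsum v]
        exact Finset.sum_eq_zero (fun l _ => hv l (Finset.notMem_empty l))
      rw [hv0]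
      exact ha i₁ 0 (D i₁).zero_mem
    | insert l I' hl ih =>
      intro v hv
      obtain ⟨y, hy⟩ : ∃ y, y = cp l v := ⟨_, rfl⟩
      obtain ⟨v', hv'⟩ : ∃ v', v' = v - y := ⟨_, rfl⟩
      have hyD : y ∈ D l := hy ▸ hcpmem l v
      have hv'l : cp l v' = 0 := by
        rw [hv', map_sub, hcpself l y hyD, hy, sub_self]
      have hv'supp : ∀ l', l' ∉ I' → cp l' v' = 0 := by
        intro l' hl'
        by_cases hll : l' = l
        · rw [hll]; exact hv'l
        · rw [hv', map_sub, hcpne l l' (Ne.symm hll) y hyD, sub_zero]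
          exact hv l' (fun hmem => by
            rcases Finset.mem_insert.mp hmem with h1 | h1
            · exact hll h1
            · exact hl' h1)
      have hvv : v = v' + y := by rw [hv']; abel
      by_cases hv'0 : v' = 0
      · rw [hvv, hv'0, zero_add]
        exact ha l y hyD
      obtain ⟨i, hi⟩ := hex1 v' hv'0
      have hil : i ≠ l := fun h1 => hi (h1 ▸ hv'l)
      have hiI : i ∈ I' := by
        by_contra h1
        exact hi (hv'supp i h1)
      obtain ⟨z, hzD, hz⟩ := (hD.nondegenerate i (cp i v') (hcpmem i v') hi).2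
      have hu : ∀ c, spT m (v' - z) c ∈ M := by
        apply ih
        intro l' hl'
        rw [map_sub, hv'supp l' hl', hcpne i l' (fun h1 => hl' (h1 ▸ hiI)) z hzD, sub_zero]
      have hu' : ∀ c, spT m (z + y) c ∈ M := hRall i l hil z hzD y hyD
      have hform : sympForm m F (v' - z) (z + y) ≠ 0 := by
        have e1 : sympForm m F v' z = sympForm m F (cp i v') z := by
          have e2 : sympForm m F (cp i v' + (v' - cp i v')) z = sympForm m F (cp i v') z := by
            rw [sympForm_add_left, horthc' i z hzD (v' - cp i v') (by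
              rw [map_sub, hcpself i _ (hcpmem i v'), sub_self]), add_zero]
          rw [add_sub_cancel] at e2
          exact e2
        rw [sympForm_sub_left, sympForm_add_right, sympForm_add_right, sympForm_self, e1,
          horthc' l y hyD v' hv'l, hD.orthogonal i l hil z hzD y hyD]
        simpa using hz
      have h1 := hmove _ hu _ hu' hform
      have e : v' - z + (z + y) = v := by rw [hvv]; abel
      rw [e] at h1
      exact h1
  exact hfin Finset.univ v (fun l hl => absurd (Finset.mem_univ l) hl) c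

/-- The stabiliser in `spGL m F` of a non-degenerate decomposition is a maximal subgroup, unless
`k = 2` and `|F| = 2`. -/
theorem sp_decomp_maximal [Fintype F] (hD : IsNondegenerateMDecomposition (sympForm m F) k D)
    (hex : ¬ (k = 2 ∧ Fintype.card F = 2)) :
    IsMaximalIn (spGL m F) (decompositionStabilizer D ⊓ spGL m F) := by
  classical
  refine ⟨?_, ?_⟩
  · refine lt_of_le_of_ne inf_le_right ?_
    intro heq
    obtain ⟨cp, hcpmem, hsum, hcpself, hcpne⟩ := exists_components hD.decomp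
    have ht : 2 ≤ t := hD.decomp.two_le
    obtain ⟨i₀, i₁, hi01⟩ : ∃ i₀ i₁ : Fin t, i₀ ≠ i₁ :=
      ⟨⟨0, by omega⟩, ⟨1, by omega⟩, by simp [Fin.ext_iff]⟩
    obtain ⟨x, hxD, hx0⟩ := exists_ne_zero_mem_block m hD i₀
    obtain ⟨y, hyD, hy0⟩ := exists_ne_zero_mem_block m hD i₁
    obtain ⟨z, hzD, hz⟩ := (hD.nondegenerate i₀ x hxD hx0).1
    have hg : spT m (x + y) 1 ∈ decompositionStabilizer D := by
      have hmem : spT m (x + y) 1 ∈ decompositionStabilizer D ⊓ spGL m F := by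
        rw [heq]; exact spT_mem m _ _
      exact hmem.1
    obtain ⟨σ, hσ⟩ := hg
    have h1 : ((spT m (x + y) 1 : GL (Fin m ⊕ Fin m) F) :
        Matrix (Fin m ⊕ Fin m) (Fin m ⊕ Fin m) F) *ᵥ z ∈ D (σ i₀) := by
      rw [← hσ i₀]
      exact ⟨z, hzD, by rw [Matrix.toLin'_apply]⟩
    rw [spT_mulVec, one_mul, sympForm_add_right, hD.orthogonal i₀ i₁ hi01 z hzD y hyD,
      add_zero] at h1
    obtain ⟨a, ha⟩ : ∃ a, a = sympForm m F z x := ⟨_, rfl⟩
    rw [← ha] at h1 hz
    have hc0 : cp i₀ (z + a • (x + y)) ≠ 0 := by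
      rw [map_add, map_smul, map_add, hcpself i₀ z hzD, hcpself i₀ x hxD,
        hcpne i₁ i₀ (Ne.symm hi01) y hyD, add_zero]
      intro h0
      have h2 : sympForm m F (z + a • x) x = 0 := by rw [h0, sympForm_zero_left]
      rw [sympForm_add_left, sympForm_smul_left, sympForm_self, mul_zero, add_zero, ← ha] at h2
      exact hz h2
    have hc1 : cp i₁ (z + a • (x + y)) ≠ 0 := by
      rw [map_add, map_smul, map_add, hcpne i₀ i₁ hi01 z hzD, hcpne i₀ i₁ hi01 x hxD,
        hcpself i₁ y hyD, zero_add, zero_add]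
      exact smul_ne_zero hz hy0
    by_cases hs : σ i₀ = i₀
    · exact hc1 (hcpne (σ i₀) i₁ (by rw [hs]; exact hi01) _ h1)
    · exact hc0 (hcpne (σ i₀) i₀ hs _ h1)
  · intro M hPM hMG
    by_cases hM : M ≤ decompositionStabilizer D
    · left; exact le_antisymm (le_inf hM hMG) hPM
    · right
      obtain ⟨h, hhM, hhD⟩ := SetLike.not_le_iff_exists.mp hM
      exact le_antisymm hMG (spGL_le_of_transv m M (fun v c =>
        sp_decomp_transv_all m hD hex M hPM hMG h hhM hhD v c))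

end

end Cfsg.Agent.Lib.helper95
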