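import Mathlib
import Cfsg.Prelude.Def_GeometricClasses
import Cfsg.Agent.Lib.helper95.SpMax
import Cfsg.Agent.Lib.helper95.NonsingPoint

/-!
Characteristic two: the isometry group of a quadratic form `Q` whose polar form is the standard
alternating form is a maximal subgroup of `spGL m F`.  The argument runs through the set of vectors `w`
whose transvection `x ↦ x + f(x, w) w` lies in the overgroup: it contains the vectors with `Q w = 1`,
is invariant under the overgroup, and then contains a non-zero vector with `Q w ≠ 1`, hence vectors of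
every value of `Q`, hence every non-zero vector.
-/

set_option autoImplicit false

namespace Cfsg.Agent.Lib.helper95

open Matrix Cfsg Cfsg.Geo Cfsg.Agent.Lib.helper17

section
variable {F : Type*} [Field F] (m : ℕ)

theorem spT_zero (c : F) : spT m (0 : Fin m ⊕ Fin m → F) c = 1 := by
  apply gl_ext_mulVec
  intro x
  rw [spT_mulVec, smul_zero, add_zero, Units.val_one, Matrix.one_mulVec]

/-- In a finite field of characteristic two every element is a square. -/
theorem exists_mul_self_of_two_eq_zero [Fintype F] (h2 : (2 : F) = 0) (a : F) :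
    ∃ s : F, s * s = a := by
  have hinj : Function.Injective (fun s : F => s * s) := by
    intro x y hxy
    have hxy' : x * x = y * y := hxy
    have h1 : (x - y) * (x - y) = 0 := by
      have e : (x - y) * (x - y) = x * x - y * y - 2 * (x * y - y * y) := by ring
      rw [e, h2, zero_mul, sub_zero]
      exact sub_eq_zero.mpr hxy'
    exact sub_eq_zero.mp (mul_self_eq_zero.mp h1)
  exact (Finite.injective_iff_surjective.mp hinj) a

end

section
variable {F : Type*} [Field F] {m : ℕ} (Q : (Fin m ⊕ Fin m → F) → F)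

theorem quad_add_of_polar (hpol : ∀ u v, QuadraticMap.polar Q u v = sympForm m F u v)
    (x y : Fin m ⊕ Fin m → F) : Q (x + y) = Q x + Q y + sympForm m F x y := by
  rw [← hpol x y, QuadraticMap.polar]
  ring

/-- A non-singular vector orthogonal to three given vectors. -/
theorem exists_nonsing_perp3 (hm : 4 ≤ m) (hQ : IsNondegenerateQuadraticForm Q)
    (hpol : ∀ u v, QuadraticMap.polar Q u v = sympForm m F u v) (a b c : Fin m ⊕ Fin m → F) :
    ∃ z, Q z ≠ 0 ∧ sympForm m F z a = 0 ∧ sympForm m F z b = 0 ∧ sympForm m F z c = 0 := by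
  obtain ⟨z, hz, hzo⟩ := exists_nonsing_perp (qfOfNondeg Q hQ) (polarBilin_nondeg_of Q hQ)
    (![a, b, c] : Fin 3 → (Fin m ⊕ Fin m → F))
    (by rw [Fintype.card_sum, Fintype.card_fin]; omega)
  refine ⟨z, hz, ?_, ?_, ?_⟩
  · rw [← hpol]; exact hzo 0
  · rw [← hpol]; exact hzo 1
  · rw [← hpol]; exact hzo 2

/-- If `M ≤ spGL` contains the isometries of `Q` and an element that is not a similarity of `Q`, then
`M` contains every symplectic transvection (characteristic two). -/
theorem sp_quad_transv_all [Fintype F] (hm : 4 ≤ m) (h2 : (2 : F) = 0)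
    (hQ : IsNondegenerateQuadraticForm Q)
    (hpol : ∀ u v, QuadraticMap.polar Q u v = sympForm m F u v)
    (M : Subgroup (GL (Fin m ⊕ Fin m) F))
    (hPM : quadSimilarityGroup Q ⊓ spGL m F ≤ M) (hMG : M ≤ spGL m F)
    (h : GL (Fin m ⊕ Fin m) F) (hhM : h ∈ M) (hhQ : h ∉ quadSimilarityGroup Q)
    (v : Fin m ⊕ Fin m → F) (c : F) : spT m v c ∈ M := by
  have hsq := exists_mul_self_of_two_eq_zero (F := F) h2
  have hadd := quad_add_of_polar Q hpol
  have hsmul : ∀ (a : F) (x : Fin m ⊕ Fin m → F), Q (a • x) = a * a * Q x := by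
    intro a x; rw [hQ.smul, sq]
  have hQ0 : Q 0 = 0 := by
    have h0 := hsmul 0 0
    rw [zero_smul, zero_mul, zero_mul] at h0
    exact h0
  have hneg : ∀ a : F, -a = a := by
    intro a
    have h0 : a + a = 0 := by rw [← two_mul, h2, zero_mul]
    exact neg_eq_of_add_eq_zero_left h0
  have hswap : ∀ x y : Fin m ⊕ Fin m → F, sympForm m F x y = sympForm m F y x := by
    intro x y; rw [sympForm_swap, hneg]
  have hnd : ∀ x : Fin m ⊕ Fin m → F, x ≠ 0 → ∃ u, sympForm m F x u ≠ 0 :=
    fun x hx => exists_sympForm_ne_zero m x hx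
  have hΘ1 : ∀ w, Q w = 1 → spT m w 1 ∈ M := by
    intro w hw
    apply hPM
    refine ⟨⟨1, fun x => ?_⟩, spT_mem m w 1⟩
    rw [spT_mulVec, hadd, hsmul, hw, sympForm_smul_right]
    simp only [one_mul, mul_one, Units.val_one]
    linear_combination (sympForm m F x w * sympForm m F x w) * h2
  have hΘc : ∀ g ∈ M, ∀ w, spT m w 1 ∈ M →
      spT m ((g : Matrix (Fin m ⊕ Fin m) (Fin m ⊕ Fin m) F) *ᵥ w) 1 ∈ M := by
    intro g hg w hw
    rw [← spT_conj m g (hMG hg) w 1]
    exact M.mul_mem (M.mul_mem hg hw) (M.inv_mem hg)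
  have hrefl : ∀ x, spT m x 1 ∈ M → ∀ y, Q y ≠ 0 →
      spT m (x + (sympForm m F x y / Q y) • y) 1 ∈ M := by
    intro x hx y hy
    obtain ⟨s, hs⟩ := hsq (Q y)⁻¹
    have h1 : Q (s • y) = 1 := by rw [hsmul, hs, inv_mul_cancel₀ hy]
    have h3 := hΘc _ (hΘ1 _ h1) x hx
    rw [spT_mulVec, sympForm_smul_right, one_mul, smul_smul] at h3
    have e : s * sympForm m F x y * s = sympForm m F x y / Q y := by
      rw [div_eq_mul_inv, ← hs]; ring
    rw [e] at h3
    exact h3
  have hR1 : ∀ x, spT m x 1 ∈ M → ∀ x', Q x' = Q x → sympForm m F x x' ≠ 0 →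
      spT m x' 1 ∈ M := by
    intro x hx x' hQx hf
    have hy : Q (x + x') = sympForm m F x x' := by
      rw [hadd, hQx]
      linear_combination (Q x) * h2
    have h1 := hrefl x hx (x + x') (by rw [hy]; exact hf)
    rw [hy, sympForm_add_right, sympForm_self, zero_add, div_self hf, one_smul] at h1
    have e : x + (x + x') = x' := by
      have h0 : x + x = 0 := by rw [← two_smul F x, h2, zero_smul]
      rw [← add_assoc, h0, zero_add]
    rw [e] at h1
    exact h1
  have hL : ∀ x v' : Fin m ⊕ Fin m → F, x ≠ 0 → v' ≠ 0 → ∀ β : F,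
      ∃ z, Q z = β ∧ sympForm m F x z ≠ 0 ∧ sympForm m F v' z ≠ 0 := by
    intro x v' hx hv' β
    obtain ⟨u, hxu, hvu⟩ : ∃ u, sympForm m F x u ≠ 0 ∧ sympForm m F v' u ≠ 0 := by
      obtain ⟨u₁, hu₁⟩ := hnd x hx
      obtain ⟨u₂, hu₂⟩ := hnd v' hv'
      by_cases h1 : sympForm m F v' u₁ = 0
      · by_cases h2' : sympForm m F x u₂ = 0
        · refine ⟨u₁ + u₂, ?_, ?_⟩
          · rw [sympForm_add_right, h2', add_zero]; exact hu₁
          · rw [sympForm_add_right, h1, zero_add]; exact hu₂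
        · exact ⟨u₂, h2', hu₂⟩
      · exact ⟨u₁, hu₁, h1⟩
    obtain ⟨d, hd, hdx, hdv, hdu⟩ := exists_nonsing_perp3 Q hm hQ hpol x v' u
    obtain ⟨s, hs⟩ := hsq ((β - Q u) / Q d)
    refine ⟨u + s • d, ?_, ?_, ?_⟩
    · rw [hadd, hsmul, hs, sympForm_smul_right, hswap u d, hdu, mul_zero, add_zero,
        div_mul_cancel₀ _ hd]
      ring
    · rw [sympForm_add_right, sympForm_smul_right, hswap x d, hdx, mul_zero, add_zero]
      exact hxu
    · rw [sympForm_add_right, sympForm_smul_right, hswap v' d, hdv, mul_zero, add_zero]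
      exact hvu
  have hw₀ : ∃ w₀, spT m w₀ 1 ∈ M ∧ w₀ ≠ 0 ∧ Q w₀ ≠ 1 := by
    by_contra hcon
    push Not at hcon
    apply hhQ
    have hhsp := (mem_spGL_iff m h).mp (hMG hhM)
    have h1 : ∀ w, Q w = 1 → Q ((h : Matrix (Fin m ⊕ Fin m) (Fin m ⊕ Fin m) F) *ᵥ w) = 1 := by
      intro w hw
      apply hcon _ (hΘc h hhM w (hΘ1 w hw))
      intro h0
      have hw0 : w = 0 := by
        have h4 := gl_inv_mulVec_mulVec h w
        rw [h0, Matrix.mulVec_zero] at h4
        exact h4.symm
      rw [hw0, hQ0] at hw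
      exact zero_ne_one hw
    have h3 : ∀ x, Q x ≠ 0 → Q ((h : Matrix (Fin m ⊕ Fin m) (Fin m ⊕ Fin m) F) *ᵥ x) = Q x := by
      intro x hx
      obtain ⟨s, hs⟩ := hsq (Q x)⁻¹
      have h4 := h1 (s • x) (by rw [hsmul, hs, inv_mul_cancel₀ hx])
      rw [Matrix.mulVec_smul, hsmul, hs, inv_mul_eq_one₀ hx] at h4
      exact h4.symm
    refine ⟨1, fun x => ?_⟩
    rw [Units.val_one, one_mul]
    by_cases hx : Q x = 0
    · obtain ⟨y, hy, hyx, -, -⟩ := exists_nonsing_perp3 Q hm hQ hpol x x x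
      have h5 : Q (x + y) = Q y := by rw [hadd, hx, zero_add, hswap x y, hyx, add_zero]
      have h6 := h3 (x + y) (by rw [h5]; exact hy)
      rw [Matrix.mulVec_add, hadd, hhsp, h3 y hy, h5, hswap x y, hyx, add_zero] at h6
      rw [hx]
      exact add_eq_right.mp h6
    · exact h3 x hx
  obtain ⟨w₀, hw₀M, hw₀0, hw₀Q⟩ := hw₀
  have hκ : 1 + Q w₀ ≠ 0 := by
    intro h0
    apply hw₀Q
    have h4 := eq_neg_of_add_eq_zero_right h0
    rw [h4, hneg]
  have hval : ∀ β : F, ∃ x, spT m x 1 ∈ M ∧ x ≠ 0 ∧ Q x = β := by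
    intro β
    obtain ⟨s, hs⟩ := hsq ((β + 1) / (1 + Q w₀))
    obtain ⟨u, hu⟩ := hnd w₀ hw₀0
    obtain ⟨y₀, hy₀⟩ : ∃ y₀, sympForm m F y₀ w₀ = 1 := by
      refine ⟨(sympForm m F u w₀)⁻¹ • u, ?_⟩
      rw [sympForm_smul_left, inv_mul_cancel₀]
      rw [hswap]; exact hu
    obtain ⟨d, hd, hdw, hdy, -⟩ := exists_nonsing_perp3 Q hm hQ hpol w₀ y₀ y₀
    obtain ⟨s', hs'⟩ := hsq ((1 + s * s * Q y₀) / Q d)
    obtain ⟨y, hy⟩ : ∃ y, y = s • y₀ + s' • d := ⟨_, rfl⟩
    have hyQ : Q y = 1 := by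
      rw [hy, hadd, hsmul, hsmul, hs', sympForm_smul_left, sympForm_smul_right, hswap y₀ d, hdy,
        div_mul_cancel₀ _ hd]
      linear_combination (s * s * Q y₀) * h2
    have hyw : sympForm m F y w₀ = s := by
      rw [hy, sympForm_add_left, sympForm_smul_left, sympForm_smul_left, hy₀, hdw, mul_one,
        mul_zero, add_zero]
    have hx := hΘc _ hw₀M y (hΘ1 y hyQ)
    rw [spT_mulVec, one_mul, hyw] at hx
    refine ⟨y + s • w₀, hx, ?_, ?_⟩
    · intro h0
      have h5 : sympForm m F (y + s • w₀) w₀ = 0 := by rw [h0, sympForm_zero_left]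
      rw [sympForm_add_left, sympForm_smul_left, sympForm_self, mul_zero, add_zero, hyw] at h5
      rw [h5, zero_smul, add_zero] at h0
      rw [h0, hQ0] at hyQ
      exact zero_ne_one hyQ
    · rw [hadd, hsmul, hyQ, sympForm_smul_right, hyw]
      have e : s * s * (1 + Q w₀) = β + 1 := by rw [hs, div_mul_cancel₀ _ hκ]
      linear_combination e + h2
  have hall : ∀ x : Fin m ⊕ Fin m → F, x ≠ 0 → spT m x 1 ∈ M := by
    intro x hx
    obtain ⟨x₀, hx₀M, hx₀0, hx₀Q⟩ := hval (Q x)
    by_cases hf : sympForm m F x₀ x = 0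
    · obtain ⟨z, hzQ, hzx₀, hzx⟩ := hL x₀ x hx₀0 hx (Q x)
      have hz := hR1 x₀ hx₀M z (by rw [hzQ, hx₀Q]) hzx₀
      exact hR1 z hz x hzQ.symm (by rw [hswap]; exact hzx)
    · exact hR1 x₀ hx₀M x hx₀Q.symm hf
  obtain ⟨s, hs⟩ := hsq c
  have e : spT m v c = spT m (s • v) 1 := by rw [spT_smul, mul_one, hs]
  rw [e]
  by_cases hsv : s • v = 0
  · rw [hsv, spT_zero]; exact M.one_mem
  · exact hall _ hsv

/-- Characteristic two: the isometry group of a non-degenerate quadratic form polarising to the standard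
alternating form is a maximal subgroup of `spGL m F`. -/
theorem sp_quad_maximal [Fintype F] (hm : 4 ≤ m) (h2 : (2 : F) = 0)
    (hQ : IsNondegenerateQuadraticForm Q)
    (hpol : ∀ u v, QuadraticMap.polar Q u v = sympForm m F u v) :
    IsMaximalIn (spGL m F) (quadSimilarityGroup Q ⊓ spGL m F) := by
  refine ⟨?_, ?_⟩
  · refine lt_of_le_of_ne inf_le_right ?_
    intro heq
    have hsq := exists_mul_self_of_two_eq_zero (F := F) h2
    have hadd := quad_add_of_polar Q hpol
    have hsmul : ∀ (a : F) (x : Fin m ⊕ Fin m → F), Q (a • x) = a * a * Q x := by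
      intro a x; rw [hQ.smul, sq]
    have hQ0 : Q 0 = 0 := by
      have h0 := hsmul 0 0
      rw [zero_smul, zero_mul, zero_mul] at h0
      exact h0
    have hneg : ∀ a : F, -a = a := by
      intro a
      have h0 : a + a = 0 := by rw [← two_mul, h2, zero_mul]
      exact neg_eq_of_add_eq_zero_left h0
    have hswap : ∀ x y : Fin m ⊕ Fin m → F, sympForm m F x y = sympForm m F y x := by
      intro x y; rw [sympForm_swap, hneg]
    obtain ⟨d₀, hd₀, -, -, -⟩ := exists_nonsing_perp3 Q hm hQ hpol 0 0 0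
    obtain ⟨s, hs⟩ := hsq (Q d₀)⁻¹
    obtain ⟨d, hd⟩ : ∃ d, d = s • d₀ := ⟨_, rfl⟩
    have hdQ : Q d = 1 := by rw [hd, hsmul, hs, inv_mul_cancel₀ hd₀]
    have hd0 : d ≠ 0 := by
      intro h0
      rw [h0, hQ0] at hdQ
      exact zero_ne_one hdQ
    obtain ⟨b₀, hb₀⟩ := exists_sympForm_ne_zero m d hd0
    obtain ⟨e₀, he₀, he₀d, he₀b, -⟩ := exists_nonsing_perp3 Q hm hQ hpol d b₀ b₀
    obtain ⟨s₂, hs₂⟩ := hsq (Q e₀)⁻¹
    obtain ⟨e, he⟩ : ∃ e, e = s₂ • e₀ := ⟨_, rfl⟩
    have heQ : Q e = 1 := by rw [he, hsmul, hs₂, inv_mul_cancel₀ he₀]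
    have hed : sympForm m F e d = 0 := by rw [he, sympForm_smul_left, he₀d, mul_zero]
    have heb : sympForm m F e b₀ = 0 := by rw [he, sympForm_smul_left, he₀b, mul_zero]
    have hwQ : Q (d + e) = 0 := by
      rw [hadd, hdQ, heQ, hswap d e, hed, add_zero]
      linear_combination h2
    have hg : spT m (d + e) 1 ∈ quadSimilarityGroup Q := by
      have hmem : spT m (d + e) 1 ∈ quadSimilarityGroup Q ⊓ spGL m F := by
        rw [heq]; exact spT_mem m _ _
      exact hmem.1
    obtain ⟨c, hc⟩ := hg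
    have hform : ∀ x, Q x + sympForm m F x (d + e) * sympForm m F x (d + e) = (c : F) * Q x := by
      intro x
      have h0 := hc x
      rw [spT_mulVec, hadd, hsmul, hwQ, sympForm_smul_right] at h0
      simp only [one_mul, mul_zero, add_zero] at h0
      exact h0
    have hc1 : (c : F) = 1 := by
      have h0 := hform d
      rw [sympForm_add_right, sympForm_self, hswap d e, hed, add_zero, mul_zero, add_zero, hdQ,
        mul_one] at h0
      exact h0.symm
    have h5 := hform b₀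
    rw [hc1, one_mul] at h5
    have h6 : sympForm m F b₀ (d + e) * sympForm m F b₀ (d + e) = 0 := add_eq_left.mp h5
    have h7 := mul_self_eq_zero.mp h6
    rw [sympForm_add_right, hswap b₀ e, heb, add_zero, hswap b₀ d] at h7
    exact hb₀ h7
  · intro M hPM hMG
    by_cases hM : M ≤ quadSimilarityGroup Q
    · left; exact le_antisymm (le_inf hM hMG) hPM
    · right
      obtain ⟨h, hhM, hhQ⟩ := SetLike.not_le_iff_exists.mp hM
      exact le_antisymm hMG (spGL_le_of_transv m M (fun v c =>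
        sp_quad_transv_all Q hm h2 hQ hpol M hPM hMG h hhM hhQ v c))

end

end Cfsg.Agent.Lib.helper95
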