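import Mathlib
import Cfsg.Prelude.Def_GeometricClasses
import Cfsg.Agent.Lib.helper17.SympBasis
import Cfsg.Agent.Lib.helper95.SubfieldSL

/-!
Tools for subfield subgroups of the symplectic group: Heisenberg-type elements
`x ↦ x + f(x,v) u + f(x,u) v + τ f(x,u) u`, the rational symplectic group (matrices over a subfield
preserving the form), its transitivity properties, and rationality lemmas for matrices.
-/

set_option autoImplicit false

namespace Cfsg.Agent.Lib.helper95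

open Matrix Cfsg Cfsg.Geo Cfsg.Agent.Lib.helper17

section
variable {F : Type*} [Field F] (m : ℕ)

/-- The standard basis vectors of the first kind. -/
def bE (F : Type*) [Field F] {m : ℕ} (i : Fin m) : Fin m ⊕ Fin m → F := Pi.single (Sum.inl i) 1

/-- The standard basis vectors of the second kind. -/
def bF (F : Type*) [Field F] {m : ℕ} (i : Fin m) : Fin m ⊕ Fin m → F := Pi.single (Sum.inr i) 1

theorem sf_E_left (i : Fin m) (x : Fin m ⊕ Fin m → F) :
    sympForm m F (bE F i) x = - x (Sum.inr i) := sympForm_single_inl_left m i x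

theorem sf_F_left (i : Fin m) (x : Fin m ⊕ Fin m → F) :
    sympForm m F (bF F i) x = x (Sum.inl i) := sympForm_single_inr_left m i x

theorem sf_E_right (i : Fin m) (x : Fin m ⊕ Fin m → F) :
    sympForm m F x (bE F i) = x (Sum.inr i) := by
  rw [sympForm_swap, sf_E_left, neg_neg]

theorem sf_F_right (i : Fin m) (x : Fin m ⊕ Fin m → F) :
    sympForm m F x (bF F i) = - x (Sum.inl i) := by
  rw [sympForm_swap, sf_F_left]

theorem bE_inl (i j : Fin m) : bE F i (Sum.inl j) = if j = i then 1 else 0 := by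
  unfold bE
  rw [Pi.single_apply]
  simp

theorem bE_inr (i j : Fin m) : bE F i (Sum.inr j) = 0 := by
  unfold bE
  rw [Pi.single_apply]
  simp

theorem bF_inl (i j : Fin m) : bF F i (Sum.inl j) = 0 := by
  unfold bF
  rw [Pi.single_apply]
  simp

theorem bF_inr (i j : Fin m) : bF F i (Sum.inr j) = if j = i then 1 else 0 := by
  unfold bF
  rw [Pi.single_apply]
  simp

theorem bE_ne_zero (i : Fin m) : bE F i ≠ 0 := by
  intro h
  have h1 := congrFun h (Sum.inl i)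
  rw [bE_inl] at h1
  simp at h1

theorem bF_ne_zero (i : Fin m) : bF F i ≠ 0 := by
  intro h
  have h1 := congrFun h (Sum.inr i)
  rw [bF_inr] at h1
  simp at h1

theorem ratV_bE (F₀ : Subfield F) (i : Fin m) : ratV F₀ (bE F i) := ratV_single _ F₀.one_mem

theorem ratV_bF (F₀ : Subfield F) (i : Fin m) : ratV F₀ (bF F i) := ratV_single _ F₀.one_mem

theorem ratV_neg {ι : Type} (F₀ : Subfield F) {v : ι → F} (hv : ratV F₀ v) : ratV F₀ (-v) :=
  fun i => F₀.neg_mem (hv i)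

theorem ratV_zero {ι : Type} (F₀ : Subfield F) : ratV F₀ (0 : ι → F) := fun _ => F₀.zero_mem

/-! ### Transvections -/

theorem spT_mul_same (w : Fin m ⊕ Fin m → F) (c d : F) :
    spT m w c * spT m w d = spT m w (c + d) := by
  apply gl_ext_mulVec
  intro x
  rw [Units.val_mul, ← Matrix.mulVec_mulVec, spT_mulVec, spT_mulVec, spT_mulVec]
  simp only [sympForm_add_left, sympForm_smul_left, sympForm_self, mul_zero, add_zero]
  module

theorem spT_zero_right (w : Fin m ⊕ Fin m → F) : spT m w 0 = 1 := by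
  apply gl_ext_mulVec
  intro x
  rw [spT_mulVec, zero_mul, zero_smul, add_zero, Units.val_one, Matrix.one_mulVec]

theorem spT_inv (w : Fin m ⊕ Fin m → F) (c : F) : (spT m w c)⁻¹ = spT m w (-c) := by
  apply inv_eq_of_mul_eq_one_right
  rw [spT_mul_same, add_neg_cancel, spT_zero_right]

theorem spE_conj (g : GL (Fin m ⊕ Fin m) F) (hg : g ∈ spGL m F) (w z : Fin m ⊕ Fin m → F) :
    g * spE m w z * g⁻¹ =
      spE m ((g : Matrix (Fin m ⊕ Fin m) (Fin m ⊕ Fin m) F) *ᵥ w)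
        ((g : Matrix (Fin m ⊕ Fin m) (Fin m ⊕ Fin m) F) *ᵥ z) := by
  unfold spE
  have e : g * (spT m (w + z) 1 * spT m w (-1) * spT m z (-1)) * g⁻¹ =
      (g * spT m (w + z) 1 * g⁻¹) * (g * spT m w (-1) * g⁻¹) * (g * spT m z (-1) * g⁻¹) := by
    group
  rw [e, spT_conj m g hg, spT_conj m g hg, spT_conj m g hg, Matrix.mulVec_add]

/-! ### Heisenberg-type elements -/

/-- The element `x ↦ x + f(x,v) u + f(x,u) v + τ f(x,u) u` (for `f(v,u) = 0`). -/
noncomputable def spQ (u v : Fin m ⊕ Fin m → F) (τ : F) : GL (Fin m ⊕ Fin m) F :=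
  spE m v u * spT m u τ

theorem spQ_mem (u v : Fin m ⊕ Fin m → F) (τ : F) : spQ m u v τ ∈ spGL m F :=
  mul_mem (spE_mem m _ _) (spT_mem m _ _)

theorem spQ_mulVec (u v : Fin m ⊕ Fin m → F) (τ : F) (hvu : sympForm m F v u = 0)
    (x : Fin m ⊕ Fin m → F) :
    ((spQ m u v τ : GL (Fin m ⊕ Fin m) F) : Matrix (Fin m ⊕ Fin m) (Fin m ⊕ Fin m) F) *ᵥ x =
      x + sympForm m F x v • u + sympForm m F x u • v + (τ * sympForm m F x u) • u := by
  have huv : sympForm m F u v = 0 := by rw [sympForm_swap, hvu, neg_zero]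
  unfold spQ
  rw [Units.val_mul, ← Matrix.mulVec_mulVec, spT_mulVec, spE_mulVec m v u hvu]
  simp only [sympForm_add_left, sympForm_smul_left, sympForm_self, huv, mul_zero, add_zero]
  module

theorem spQ_mul (u v v' : Fin m ⊕ Fin m → F) (τ τ' : F) (hvu : sympForm m F v u = 0)
    (hv'u : sympForm m F v' u = 0) :
    spQ m u v τ * spQ m u v' τ' = spQ m u (v + v') (τ + τ' + sympForm m F v' v) := by
  have huv : sympForm m F u v = 0 := by rw [sympForm_swap, hvu, neg_zero]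
  have huv' : sympForm m F u v' = 0 := by rw [sympForm_swap, hv'u, neg_zero]
  apply gl_ext_mulVec
  intro x
  rw [Units.val_mul, ← Matrix.mulVec_mulVec, spQ_mulVec m u v' τ' hv'u, spQ_mulVec m u v τ hvu,
    spQ_mulVec m u (v + v') _ (by rw [sympForm_add_left, hvu, hv'u, add_zero])]
  simp only [sympForm_add_left, sympForm_add_right, sympForm_smul_left, sympForm_self, huv, huv',
    hvu, hv'u, mul_zero, add_zero]
  module

theorem spQ_zero (u : Fin m ⊕ Fin m → F) : spQ m u 0 0 = 1 := by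
  apply gl_ext_mulVec
  intro x
  rw [spQ_mulVec m u 0 0 (sympForm_zero_left m u), sympForm_zero_right, zero_smul, zero_mul,
    zero_smul, smul_zero, add_zero, add_zero, add_zero, Units.val_one, Matrix.one_mulVec]

theorem spQ_inv (u v : Fin m ⊕ Fin m → F) (τ : F) (hvu : sympForm m F v u = 0) :
    (spQ m u v τ)⁻¹ = spQ m u (-v) (-τ) := by
  apply inv_eq_of_mul_eq_one_right
  rw [spQ_mul m u v (-v) τ (-τ) hvu (by rw [sympForm_neg_left, hvu, neg_zero]), add_neg_cancel,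
    add_neg_cancel, zero_add, sympForm_neg_left, sympForm_self, neg_zero, spQ_zero]

theorem spQ_conj (g : GL (Fin m ⊕ Fin m) F) (hg : g ∈ spGL m F) (u v : Fin m ⊕ Fin m → F) (τ : F) :
    g * spQ m u v τ * g⁻¹ =
      spQ m ((g : Matrix (Fin m ⊕ Fin m) (Fin m ⊕ Fin m) F) *ᵥ u)
        ((g : Matrix (Fin m ⊕ Fin m) (Fin m ⊕ Fin m) F) *ᵥ v) τ := by
  unfold spQ
  have e : g * (spE m v u * spT m u τ) * g⁻¹ = (g * spE m v u * g⁻¹) * (g * spT m u τ * g⁻¹) := by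
    group
  rw [e, spE_conj m g hg, spT_conj m g hg]

theorem spQ_zero_right (u v : Fin m ⊕ Fin m → F) : spQ m u v 0 = spE m v u := by
  unfold spQ
  rw [spT_zero_right, mul_one]

theorem spT_add_eq (w u : Fin m ⊕ Fin m → F) (lam t : F) (hwu : sympForm m F w u = 0) :
    spT m (w + lam • u) t = spQ m u ((t * lam) • w) (t * lam * lam) * spT m w t := by
  have huw : sympForm m F u w = 0 := by rw [sympForm_swap, hwu, neg_zero]
  apply gl_ext_mulVec
  intro x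
  rw [Units.val_mul, ← Matrix.mulVec_mulVec, spT_mulVec, spT_mulVec,
    spQ_mulVec m u _ _ (by rw [sympForm_smul_left, hwu, mul_zero])]
  simp only [sympForm_add_left, sympForm_add_right, sympForm_smul_left, sympForm_smul_right,
    sympForm_self, huw, hwu, mul_zero, add_zero]
  module

end

section
variable {F : Type*} [Field F] (m : ℕ)

/-! ### The rational symplectic group -/

/-- The matrices over the subfield that preserve the symplectic form. -/
def ratSp (F₀ : Subfield F) : Subgroup (GL (Fin m ⊕ Fin m) F) :=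
  (Matrix.GeneralLinearGroup.map (F₀.subtype : F₀ →+* F)).range ⊓ spGL m F

theorem ratT_mem (F₀ : Subfield F) (v : Fin m ⊕ Fin m → F) (hv : ratV F₀ v) (c : F)
    (hc : c ∈ F₀) : spT m v c ∈ ratSp m F₀ := by
  refine ⟨sf_mem_range F₀ _ (fun k l => ?_), spT_mem m v c⟩
  rw [spT_val]
  unfold sympTransvection
  rw [Matrix.add_apply, Matrix.smul_apply, Matrix.vecMulVec_apply, smul_eq_mul]
  refine F₀.add_mem ?_ (F₀.mul_mem hc (F₀.mul_mem (hv k) ?_))
  · by_cases hkl : k = l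
    · rw [hkl, Matrix.one_apply_eq]; exact F₀.one_mem
    · rw [Matrix.one_apply_ne hkl]; exact F₀.zero_mem
  · rcases l with i | i
    · rw [J_mulVec_inl]; exact F₀.neg_mem (hv _)
    · rw [J_mulVec_inr]; exact hv _

theorem ratE_mem (F₀ : Subfield F) (w z : Fin m ⊕ Fin m → F) (hw : ratV F₀ w) (hz : ratV F₀ z) :
    spE m w z ∈ ratSp m F₀ :=
  mul_mem (mul_mem (ratT_mem m F₀ _ (ratV_add hw hz) 1 F₀.one_mem)
    (ratT_mem m F₀ _ hw (-1) (F₀.neg_mem F₀.one_mem)))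
    (ratT_mem m F₀ _ hz (-1) (F₀.neg_mem F₀.one_mem))

theorem ratV_mulVec_range {ι : Type} [Fintype ι] [DecidableEq ι] (F₀ : Subfield F) (g : GL ι F)
    (hg : g ∈ (Matrix.GeneralLinearGroup.map (F₀.subtype : F₀ →+* F)).range) (v : ι → F)
    (hv : ratV F₀ v) : ratV F₀ ((g : Matrix ι ι F) *ᵥ v) := by
  obtain ⟨g₀, rfl⟩ := hg
  intro k
  show ∑ l, _ * v l ∈ F₀
  exact F₀.sum_mem (fun l _ => F₀.mul_mem ((g₀ : Matrix ι ι F₀) k l).2 (hv l))

/-- A vector over the subfield, as a vector over the big field. -/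
def ratc {ι : Type} (F₀ : Subfield F) (u : ι → ↥F₀) : ι → F := fun i => (u i : F)

theorem ratc_ratV {ι : Type} (F₀ : Subfield F) (u : ι → ↥F₀) : ratV F₀ (ratc F₀ u) :=
  fun i => (u i).2

theorem exists_ratc {ι : Type} (F₀ : Subfield F) (v : ι → F) (hv : ratV F₀ v) :
    ∃ u, ratc F₀ u = v := ⟨fun i => ⟨v i, hv i⟩, rfl⟩

theorem ratc_injective {ι : Type} (F₀ : Subfield F) :
    Function.Injective (ratc F₀ : (ι → ↥F₀) → (ι → F)) := by
  intro u v h
  funext i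
  exact Subtype.ext (congrFun h i)

theorem ratc_zero {ι : Type} (F₀ : Subfield F) : ratc F₀ (0 : ι → ↥F₀) = 0 := rfl

theorem ratc_add {ι : Type} (F₀ : Subfield F) (u v : ι → ↥F₀) :
    ratc F₀ (u + v) = ratc F₀ u + ratc F₀ v := rfl

theorem ratc_smul {ι : Type} (F₀ : Subfield F) (a : ↥F₀) (u : ι → ↥F₀) :
    ratc F₀ (a • u) = (a : F) • ratc F₀ u := rfl

theorem ratc_single {ι : Type} [DecidableEq ι] (F₀ : Subfield F) (l : ι) :
    ratc F₀ (Pi.single l 1) = Pi.single l 1 := by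
  funext k
  unfold ratc
  by_cases hk : k = l
  · rw [hk, Pi.single_eq_same, Pi.single_eq_same]; rfl
  · rw [Pi.single_eq_of_ne hk, Pi.single_eq_of_ne hk]; rfl

theorem sympForm_ratc (F₀ : Subfield F) (u v : Fin m ⊕ Fin m → ↥F₀) :
    sympForm m F (ratc F₀ u) (ratc F₀ v) = ((sympForm m ↥F₀ u v : ↥F₀) : F) := by
  unfold sympForm
  have h1 : (Matrix.J (Fin m) F *ᵥ ratc F₀ v) = ratc F₀ (Matrix.J (Fin m) ↥F₀ *ᵥ v) := by
    funext l
    rcases l with i | i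
    · rw [J_mulVec_inl]
      show _ = ((Matrix.J (Fin m) ↥F₀ *ᵥ v) (Sum.inl i) : F)
      rw [J_mulVec_inl]
      rfl
    · rw [J_mulVec_inr]
      show _ = ((Matrix.J (Fin m) ↥F₀ *ᵥ v) (Sum.inr i) : F)
      rw [J_mulVec_inr]
      rfl
  rw [h1]
  unfold ratc dotProduct
  push_cast
  rfl

theorem sympForm_rat (F₀ : Subfield F) (x y : Fin m ⊕ Fin m → F) (hx : ratV F₀ x)
    (hy : ratV F₀ y) : sympForm m F x y ∈ F₀ := by
  obtain ⟨u, rfl⟩ := exists_ratc F₀ x hx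
  obtain ⟨v, rfl⟩ := exists_ratc F₀ y hy
  rw [sympForm_ratc]
  exact (sympForm m ↥F₀ u v).2

/-- A matrix that scales the form on basis vectors scales it everywhere. -/
theorem sympForm_ext_basis (A : Matrix (Fin m ⊕ Fin m) (Fin m ⊕ Fin m) F) (c : F)
    (h : ∀ k l, sympForm m F (A *ᵥ Pi.single k 1) (A *ᵥ Pi.single l 1) =
      c * sympForm m F (Pi.single k 1) (Pi.single l 1)) :
    ∀ x y, sympForm m F (A *ᵥ x) (A *ᵥ y) = c * sympForm m F x y := by
  have key : (sympBilin m (F := F)).compl₁₂ (Matrix.mulVecLin A) (Matrix.mulVecLin A) =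
      c • sympBilin m (F := F) := by
    apply (Pi.basisFun F (Fin m ⊕ Fin m)).ext
    intro k
    apply (Pi.basisFun F (Fin m ⊕ Fin m)).ext
    intro l
    simp only [Pi.basisFun_apply, LinearMap.compl₁₂_apply, Matrix.mulVecLin_apply, sympBilin_apply,
      LinearMap.smul_apply, smul_eq_mul]
    exact h k l
  intro x y
  have h2 := LinearMap.congr_fun (LinearMap.congr_fun key x) y
  simpa only [LinearMap.compl₁₂_apply, Matrix.mulVecLin_apply, sympBilin_apply,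
    LinearMap.smul_apply, smul_eq_mul] using h2

/-- Symplectic matrices over the subfield give elements of the rational symplectic group. -/
theorem sp_bridge (F₀ : Subfield F) (A : Matrix.symplecticGroup (Fin m) ↥F₀) :
    ∃ g : GL (Fin m ⊕ Fin m) F, g ∈ ratSp m F₀ ∧ ∀ u : Fin m ⊕ Fin m → ↥F₀,
      (g : Matrix (Fin m ⊕ Fin m) (Fin m ⊕ Fin m) F) *ᵥ ratc F₀ u =
        ratc F₀ ((A : Matrix (Fin m ⊕ Fin m) (Fin m ⊕ Fin m) ↥F₀) *ᵥ u) := by
  obtain ⟨B, hB⟩ : ∃ B : Matrix (Fin m ⊕ Fin m) (Fin m ⊕ Fin m) F,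
      B = (A : Matrix (Fin m ⊕ Fin m) (Fin m ⊕ Fin m) ↥F₀).map (F₀.subtype : F₀ →+* F) :=
    ⟨_, rfl⟩
  have hBv : ∀ u : Fin m ⊕ Fin m → ↥F₀, B *ᵥ ratc F₀ u =
      ratc F₀ ((A : Matrix (Fin m ⊕ Fin m) (Fin m ⊕ Fin m) ↥F₀) *ᵥ u) := by
    intro u
    funext k
    rw [hB]
    exact (RingHom.map_mulVec (F₀.subtype : F₀ →+* F) A.1 u k).symm
  have hpres : ∀ x y, sympForm m F (B *ᵥ x) (B *ᵥ y) = sympForm m F x y := by
    have h1 := sympForm_ext_basis m B 1 (fun k l => by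
      rw [← ratc_single F₀ k, ← ratc_single F₀ l, hBv, hBv, sympForm_ratc, sympForm_ratc, one_mul,
        sympForm_mulVec_of_mem m A.2])
    intro x y
    rw [h1 x y, one_mul]
  have hBs : B ∈ Matrix.symplecticGroup (Fin m) F := mem_symplectic_of_preserves m B hpres
  obtain ⟨g, hg⟩ := exists_spGL m hBs
  refine ⟨g.1, ⟨sf_mem_range F₀ g.1 (fun k l => ?_), g.2⟩, fun u => ?_⟩
  · rw [hg, hB]
    exact ((A : Matrix (Fin m ⊕ Fin m) (Fin m ⊕ Fin m) ↥F₀) k l).2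
  · rw [hg]
    exact hBv u

/-- The rational symplectic group is transitive on non-zero rational vectors. -/
theorem rat_transitive (F₀ : Subfield F) (v v' : Fin m ⊕ Fin m → F) (hv : ratV F₀ v)
    (hv' : ratV F₀ v') (hv0 : v ≠ 0) (hv'0 : v' ≠ 0) :
    ∃ g ∈ ratSp m F₀, (g : Matrix (Fin m ⊕ Fin m) (Fin m ⊕ Fin m) F) *ᵥ v = v' := by
  obtain ⟨u, rfl⟩ := exists_ratc F₀ v hv
  obtain ⟨u', rfl⟩ := exists_ratc F₀ v' hv'
  have hu0 : u ≠ 0 := fun h => hv0 (by rw [h, ratc_zero])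
  have hu'0 : u' ≠ 0 := fun h => hv'0 (by rw [h, ratc_zero])
  obtain ⟨A, -, hA⟩ := transv_transitive_vectors m u u' hu0 hu'0
  obtain ⟨g, hg, hgv⟩ := sp_bridge m F₀ A
  exact ⟨g, hg, by rw [hgv, hA]⟩

/-- The rational symplectic group is transitive on independent orthogonal pairs of rational
vectors. -/
theorem rat_witt_pair (F₀ : Subfield F) (u y u' y' : Fin m ⊕ Fin m → F) (hu : ratV F₀ u)
    (hy : ratV F₀ y) (hu' : ratV F₀ u') (hy' : ratV F₀ y') (huy : sympForm m F u y = 0)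
    (hu'y' : sympForm m F u' y' = 0)
    (hind : ∀ s t : F, s • u + t • y = 0 → s = 0 ∧ t = 0)
    (hind' : ∀ s t : F, s • u' + t • y' = 0 → s = 0 ∧ t = 0) :
    ∃ g ∈ ratSp m F₀, (g : Matrix (Fin m ⊕ Fin m) (Fin m ⊕ Fin m) F) *ᵥ u = u' ∧
      (g : Matrix (Fin m ⊕ Fin m) (Fin m ⊕ Fin m) F) *ᵥ y = y' := by
  obtain ⟨u₀, rfl⟩ := exists_ratc F₀ u hu
  obtain ⟨y₀, rfl⟩ := exists_ratc F₀ y hy
  obtain ⟨u₀', rfl⟩ := exists_ratc F₀ u' hu'
  obtain ⟨y₀', rfl⟩ := exists_ratc F₀ y' hy'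
  have hli : ∀ a b : Fin m ⊕ Fin m → ↥F₀,
      (∀ s t : F, s • ratc F₀ a + t • ratc F₀ b = 0 → s = 0 ∧ t = 0) →
      LinearIndependent ↥F₀ ![a, b] := by
    intro a b hab
    rw [LinearIndependent.pair_iff]
    intro s t hst
    have h1 := hab (s : F) (t : F) (by
      rw [← ratc_smul, ← ratc_smul, ← ratc_add, hst, ratc_zero])
    exact ⟨by exact_mod_cast h1.1, by exact_mod_cast h1.2⟩
  have hz : ∀ a b : Fin m ⊕ Fin m → ↥F₀, sympForm m F (ratc F₀ a) (ratc F₀ b) = 0 →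
      sympForm m ↥F₀ a b = 0 := by
    intro a b hab
    rw [sympForm_ratc] at hab
    exact_mod_cast hab
  have e1 := hz u₀ y₀ huy
  have e2 := hz u₀' y₀' hu'y'
  have e1' : sympForm m ↥F₀ y₀ u₀ = 0 := by rw [sympForm_swap, e1, neg_zero]
  have e2' : sympForm m ↥F₀ y₀' u₀' = 0 := by rw [sympForm_swap, e2, neg_zero]
  have hG : ∀ i j : Fin 2, sympForm m ↥F₀ (![u₀, y₀] i) (![u₀, y₀] j) =
      sympForm m ↥F₀ (![u₀', y₀'] i) (![u₀', y₀'] j) := by
    intro i j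
    fin_cases i <;> fin_cases j <;> simp [sympForm_self, e1, e2, e1', e2']
  obtain ⟨A, hA⟩ := sp_witt_family' m ![u₀, y₀] ![u₀', y₀'] (hli _ _ hind) (hli _ _ hind') hG
  obtain ⟨g, hg, hgv⟩ := sp_bridge m F₀ A
  refine ⟨g, hg, ?_, ?_⟩
  · rw [hgv]
    exact congrArg (ratc F₀) (hA 0)
  · rw [hgv]
    exact congrArg (ratc F₀) (hA 1)

end

section
variable {ι : Type} [Fintype ι] [DecidableEq ι] {F : Type*} [Field F]

/-! ### Rationality of matrices -/

theorem rat_two_coeff (F₀ : Subfield F) (r r' : ι → F) (hr : ratV F₀ r) (hr' : ratV F₀ r')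
    (hind : ∀ s t : F, s • r + t • r' = 0 → s = 0 ∧ t = 0) (α β : F)
    (h : ratV F₀ (α • r + β • r')) : α ∈ F₀ ∧ β ∈ F₀ := by
  have hr0 : r ≠ 0 := by
    intro h0
    have h1 := hind 1 0 (by rw [h0, smul_zero, zero_smul, add_zero])
    exact one_ne_zero h1.1
  obtain ⟨k, hk⟩ : ∃ k, r k ≠ 0 := by
    by_contra hh
    push Not at hh
    exact hr0 (funext hh)
  obtain ⟨l, hl⟩ : ∃ l, r' l - r' k / r k * r l ≠ 0 := by
    by_contra hh
    push Not at hh
    have h1 := hind (-(r' k / r k)) 1 (by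
      funext l
      have h2 := hh l
      simp only [Pi.add_apply, Pi.smul_apply, smul_eq_mul, Pi.zero_apply]
      linear_combination h2)
    exact one_ne_zero h1.2
  have hβ : β ∈ F₀ := by
    have h1 := h l
    have h2 := h k
    simp only [Pi.add_apply, Pi.smul_apply, smul_eq_mul] at h1 h2
    have h3 : (α * r l + β * r' l) - r l / r k * (α * r k + β * r' k) ∈ F₀ :=
      F₀.sub_mem h1 (F₀.mul_mem (F₀.div_mem (hr l) (hr k)) h2)
    have h4 : (α * r l + β * r' l) - r l / r k * (α * r k + β * r' k) =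
        β * (r' l - r' k / r k * r l) := by
      field_simp
      ring
    rw [h4] at h3
    have h5 : r' l - r' k / r k * r l ∈ F₀ :=
      F₀.sub_mem (hr' l) (F₀.mul_mem (F₀.div_mem (hr' k) (hr k)) (hr l))
    have h6 := F₀.div_mem h3 h5
    rwa [mul_div_cancel_right₀ _ hl] at h6
  have hα : α ∈ F₀ := by
    have h2 := h k
    simp only [Pi.add_apply, Pi.smul_apply, smul_eq_mul] at h2
    have h3 : α * r k ∈ F₀ := by
      have h4 := F₀.sub_mem h2 (F₀.mul_mem hβ (hr' k))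
      rwa [add_sub_cancel_right] at h4
    have h5 := F₀.div_mem h3 (hr k)
    rwa [mul_div_cancel_right₀ _ hk] at h5
  exact ⟨hα, hβ⟩

theorem gl_mulVec_eq_zero (g : GL ι F) (x : ι → F) (h : (g : Matrix ι ι F) *ᵥ x = 0) : x = 0 := by
  have h1 := congrArg (fun y => ((g⁻¹ : GL ι F) : Matrix ι ι F) *ᵥ y) h
  simp only [gl_inv_mulVec_mulVec, Matrix.mulVec_zero] at h1
  exact h1

/-- A matrix mapping every rational point to a rational point is rational up to a scalar. -/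
theorem rat_points_matrix (F₀ : Subfield F) (g : GL ι F)
    (h : ∀ v : ι → F, ratV F₀ v → v ≠ 0 →
      ∃ ζ : F, ζ ≠ 0 ∧ ratV F₀ (ζ • ((g : Matrix ι ι F) *ᵥ v))) (l₀ : ι) :
    ∃ ζ : F, ζ ≠ 0 ∧ ∀ k l, ζ * (g : Matrix ι ι F) k l ∈ F₀ := by
  have hsingle0 : ∀ l : ι, (Pi.single l (1 : F) : ι → F) ≠ 0 := fun l hl => by
    have h1 := congrFun hl l
    simp at h1
  choose Z hZ0 hZ using fun l => h (Pi.single l 1) (ratV_single l F₀.one_mem) (hsingle0 l)
  have key : ∀ l, Z l₀ / Z l ∈ F₀ := by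
    intro l
    by_cases hl : l = l₀
    · rw [hl, div_self (hZ0 l₀)]
      exact F₀.one_mem
    have hv : ratV F₀ (Pi.single l (1 : F) + Pi.single l₀ 1) :=
      ratV_add (ratV_single l F₀.one_mem) (ratV_single l₀ F₀.one_mem)
    have hv0 : (Pi.single l (1 : F) + Pi.single l₀ 1 : ι → F) ≠ 0 := by
      intro h0
      have h1 := congrFun h0 l
      simp [hl] at h1
    obtain ⟨ζ, hζ0, hζ⟩ := h _ hv hv0
    have hind : ∀ s t : F, s • (Z l • ((g : Matrix ι ι F) *ᵥ Pi.single l 1)) +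
        t • (Z l₀ • ((g : Matrix ι ι F) *ᵥ Pi.single l₀ 1)) = 0 → s = 0 ∧ t = 0 := by
      intro s t hst
      have h1 : (g : Matrix ι ι F) *ᵥ ((s * Z l) • Pi.single l (1 : F) +
          (t * Z l₀) • Pi.single l₀ (1 : F)) = 0 := by
        rw [Matrix.mulVec_add, Matrix.mulVec_smul, Matrix.mulVec_smul, ← hst, smul_smul, smul_smul]
      have h2 := gl_mulVec_eq_zero g _ h1
      have h3 := congrFun h2 l
      have h4 := congrFun h2 l₀
      simp only [Pi.add_apply, Pi.smul_apply, smul_eq_mul, Pi.zero_apply, Pi.single_eq_same,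
        Pi.single_eq_of_ne hl, Pi.single_eq_of_ne (Ne.symm hl), mul_one, mul_zero, add_zero,
        zero_add] at h3 h4
      exact ⟨(mul_eq_zero.mp h3).resolve_right (hZ0 l), (mul_eq_zero.mp h4).resolve_right (hZ0 l₀)⟩
    have h5 : ratV F₀ ((ζ / Z l) • (Z l • ((g : Matrix ι ι F) *ᵥ Pi.single l 1)) +
        (ζ / Z l₀) • (Z l₀ • ((g : Matrix ι ι F) *ᵥ Pi.single l₀ 1))) := by
      have e : (ζ / Z l) • (Z l • ((g : Matrix ι ι F) *ᵥ Pi.single l 1)) +
          (ζ / Z l₀) • (Z l₀ • ((g : Matrix ι ι F) *ᵥ Pi.single l₀ 1)) =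
          ζ • ((g : Matrix ι ι F) *ᵥ (Pi.single l (1 : F) + Pi.single l₀ 1)) := by
        rw [Matrix.mulVec_add, smul_add, smul_smul, smul_smul, div_mul_cancel₀ _ (hZ0 l),
          div_mul_cancel₀ _ (hZ0 l₀)]
      rw [e]
      exact hζ
    obtain ⟨ha, hb⟩ := rat_two_coeff F₀ _ _ (hZ l) (hZ l₀) hind _ _ h5
    have h6 := F₀.div_mem ha hb
    have e : ζ / Z l / (ζ / Z l₀) = Z l₀ / Z l := by
      have := hZ0 l
      have := hZ0 l₀
      field_simp
    rwa [e] at h6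
  refine ⟨Z l₀, hZ0 l₀, fun k l => ?_⟩
  have h1 := hZ l k
  rw [Pi.smul_apply, sf_mulVec_single, smul_eq_mul] at h1
  have h2 := F₀.mul_mem (key l) h1
  have e : Z l₀ / Z l * (Z l * (g : Matrix ι ι F) k l) = Z l₀ * (g : Matrix ι ι F) k l := by
    have := hZ0 l
    field_simp
  rwa [e] at h2

theorem ratV_of_entries (F₀ : Subfield F) (g : GL ι F) (ζ : F)
    (h : ∀ k l, ζ * (g : Matrix ι ι F) k l ∈ F₀) (x : ι → F) (hx : ratV F₀ x) :
    ratV F₀ (ζ • ((g : Matrix ι ι F) *ᵥ x)) := by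
  intro k
  rw [Pi.smul_apply, smul_eq_mul]
  show ζ * ∑ l, (g : Matrix ι ι F) k l * x l ∈ F₀
  rw [Finset.mul_sum]
  refine F₀.sum_mem (fun l _ => ?_)
  rw [← mul_assoc]
  exact F₀.mul_mem (h k l) (hx l)

theorem single_pair_indep (l l' : ι) (hll' : l ≠ l') (s t : F)
    (h : s • (Pi.single l (1 : F) : ι → F) + t • (Pi.single l' (1 : F) : ι → F) = 0) :
    s = 0 ∧ t = 0 := by
  have h1 := congrFun h l
  have h2 := congrFun h l'
  simp only [Pi.add_apply, Pi.smul_apply, smul_eq_mul, Pi.zero_apply, Pi.single_eq_same,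
    Pi.single_eq_of_ne hll', Pi.single_eq_of_ne (Ne.symm hll'), mul_one, mul_zero, add_zero,
    zero_add] at h1 h2
  exact ⟨h1, h2⟩

end

section
variable {F : Type*} [Field F] (m : ℕ)

/-- A non-zero rational vector orthogonal to two given rational vectors. -/
theorem exists_rat_perp2 (F₀ : Subfield F) (i0 i1 i2 : Fin m) (h01 : i0 ≠ i1) (h02 : i0 ≠ i2)
    (h12 : i1 ≠ i2) (a v : Fin m ⊕ Fin m → F) (ha : ratV F₀ a) (hv : ratV F₀ v) :
    ∃ z : Fin m ⊕ Fin m → F, ratV F₀ z ∧ z ≠ 0 ∧ sympForm m F z a = 0 ∧ sympForm m F z v = 0 := by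
  obtain ⟨α₀, hα₀⟩ : ∃ α₀, α₀ = a (Sum.inr i0) := ⟨_, rfl⟩
  obtain ⟨α₁, hα₁⟩ : ∃ α₁, α₁ = a (Sum.inr i1) := ⟨_, rfl⟩
  obtain ⟨α₂, hα₂⟩ : ∃ α₂, α₂ = a (Sum.inr i2) := ⟨_, rfl⟩
  obtain ⟨β₀, hβ₀⟩ : ∃ β₀, β₀ = v (Sum.inr i0) := ⟨_, rfl⟩
  obtain ⟨β₁, hβ₁⟩ : ∃ β₁, β₁ = v (Sum.inr i1) := ⟨_, rfl⟩
  obtain ⟨β₂, hβ₂⟩ : ∃ β₂, β₂ = v (Sum.inr i2) := ⟨_, rfl⟩
  have hα₀r : α₀ ∈ F₀ := by rw [hα₀]; exact ha _
  have hα₁r : α₁ ∈ F₀ := by rw [hα₁]; exact ha _
  have hα₂r : α₂ ∈ F₀ := by rw [hα₂]; exact ha _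
  have hβ₀r : β₀ ∈ F₀ := by rw [hβ₀]; exact hv _
  have hβ₁r : β₁ ∈ F₀ := by rw [hβ₁]; exact hv _
  have hβ₂r : β₂ ∈ F₀ := by rw [hβ₂]; exact hv _
  have forma : ∀ c₀ c₁ c₂ : F,
      sympForm m F (c₀ • bE F i0 + c₁ • bE F i1 + c₂ • bE F i2) a =
        -(c₀ * α₀ + c₁ * α₁ + c₂ * α₂) := by
    intro c₀ c₁ c₂
    simp only [sympForm_add_left, sympForm_smul_left, sf_E_left, hα₀, hα₁, hα₂]
    ring
  have formv : ∀ c₀ c₁ c₂ : F,
      sympForm m F (c₀ • bE F i0 + c₁ • bE F i1 + c₂ • bE F i2) v =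
        -(c₀ * β₀ + c₁ * β₁ + c₂ * β₂) := by
    intro c₀ c₁ c₂
    simp only [sympForm_add_left, sympForm_smul_left, sf_E_left, hβ₀, hβ₁, hβ₂]
    ring
  have nz : ∀ c₀ c₁ c₂ : F, (c₀ ≠ 0 ∨ c₁ ≠ 0 ∨ c₂ ≠ 0) →
      c₀ • bE F i0 + c₁ • bE F i1 + c₂ • bE F i2 ≠ 0 := by
    intro c₀ c₁ c₂ hc h0
    have e0 := congrFun h0 (Sum.inl i0)
    have e1 := congrFun h0 (Sum.inl i1)
    have e2 := congrFun h0 (Sum.inl i2)
    simp only [Pi.add_apply, Pi.smul_apply, smul_eq_mul, Pi.zero_apply, bE_inl, if_true,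
      if_neg h01, if_neg h02, if_neg h12, if_neg (Ne.symm h01), if_neg (Ne.symm h02),
      if_neg (Ne.symm h12), mul_one, mul_zero, add_zero, zero_add] at e0 e1 e2
    rcases hc with h | h | h
    · exact h e0
    · exact h e1
    · exact h e2
  have rat : ∀ c₀ c₁ c₂ : F, c₀ ∈ F₀ → c₁ ∈ F₀ → c₂ ∈ F₀ →
      ratV F₀ (c₀ • bE F i0 + c₁ • bE F i1 + c₂ • bE F i2) := by
    intro c₀ c₁ c₂ h0 h1 h2
    exact ratV_add (ratV_add (ratV_smul h0 (ratV_bE m F₀ i0)) (ratV_smul h1 (ratV_bE m F₀ i1)))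
      (ratV_smul h2 (ratV_bE m F₀ i2))
  by_cases hc : (α₁ * β₂ - α₂ * β₁ ≠ 0 ∨ α₂ * β₀ - α₀ * β₂ ≠ 0 ∨ α₀ * β₁ - α₁ * β₀ ≠ 0)
  · refine ⟨_, rat _ _ _ (F₀.sub_mem (F₀.mul_mem hα₁r hβ₂r) (F₀.mul_mem hα₂r hβ₁r))
      (F₀.sub_mem (F₀.mul_mem hα₂r hβ₀r) (F₀.mul_mem hα₀r hβ₂r))
      (F₀.sub_mem (F₀.mul_mem hα₀r hβ₁r) (F₀.mul_mem hα₁r hβ₀r)), nz _ _ _ hc, ?_, ?_⟩
    · rw [forma]; ring
    · rw [formv]; ring
  · push Not at hc
    obtain ⟨-, -, hc2⟩ := hc
    by_cases hα : α₁ ≠ 0 ∨ α₀ ≠ 0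
    · refine ⟨_, rat α₁ (-α₀) 0 hα₁r (F₀.neg_mem hα₀r) F₀.zero_mem, nz _ _ _ ?_, ?_, ?_⟩
      · rcases hα with h | h
        · exact Or.inl h
        · exact Or.inr (Or.inl (neg_ne_zero.mpr h))
      · rw [forma]; ring
      · rw [formv]; linear_combination hc2
    · push Not at hα
      obtain ⟨hα1, hα0⟩ := hα
      by_cases hβ : β₁ ≠ 0 ∨ β₀ ≠ 0
      · refine ⟨_, rat β₁ (-β₀) 0 hβ₁r (F₀.neg_mem hβ₀r) F₀.zero_mem, nz _ _ _ ?_, ?_, ?_⟩
        · rcases hβ with h | h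
          · exact Or.inl h
          · exact Or.inr (Or.inl (neg_ne_zero.mpr h))
        · rw [forma, hα0, hα1]; ring
        · rw [formv]; ring
      · push Not at hβ
        obtain ⟨hβ1, hβ0⟩ := hβ
        refine ⟨_, rat 1 0 0 F₀.one_mem F₀.zero_mem F₀.zero_mem, nz _ _ _ (Or.inl one_ne_zero),
          ?_, ?_⟩
        · rw [forma, hα0]; ring
        · rw [formv, hβ0]; ring

end

end Cfsg.Agent.Lib.helper95
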