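import Mathlib
import Cfsg.Prelude.Def_GeometricClasses
import Cfsg.Agent.Lib.helper95.SuMax
import Cfsg.Agent.Lib.helper95.SubfieldSL
import Cfsg.Agent.Lib.helper95.SubfieldSp1
import Cfsg.Agent.Lib.helper49.SuOrth
import Cfsg.Agent.Lib.helper17.GUWitt
import Cfsg.Agent.Lib.helper17.GUdet
import Cfsg.Agent.Lib.helper17.HermForm

/-!
Subfield subgroups of the special unitary group for a subfield of odd prime index: the restricted
field automorphism, standard rational isotropic vectors, the rational special unitary group and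
its transitivity properties (via Witt's lemma over the subfield).
-/

set_option autoImplicit false

namespace Cfsg.Agent.Lib.helper95

open Matrix Cfsg Cfsg.Geo Cfsg.Agent.Lib.helper17

section
variable {F : Type*} [Field F] [Fintype F] {q : ℕ} (hF : Fintype.card F = q ^ 2)
include hF

/-- A subfield of odd prime index is not fixed pointwise by `x ↦ x ^ q`. -/
theorem su_exists_not_fixed (F₀ : Subfield F) (r : ℕ) (hr : r.Prime) (hro : Odd r)
    (hcard : Fintype.card F = Nat.card F₀ ^ r) : ∃ x ∈ F₀, x ^ q ≠ x := by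
  classical
  by_contra hcon
  push Not at hcon
  have hq2 := two_le_of_card_eq_sq hF
  have : Fintype F₀ := Fintype.ofFinite F₀
  have hfin : Module.finrank F₀ F = r := by
    have h1 := Module.card_eq_pow_finrank (K := F₀) (V := F)
    rw [hcard, Nat.card_eq_fintype_card] at h1
    exact (Nat.pow_right_injective (Fintype.one_lt_card) h1).symm
  have hso : IsSimpleOrder (Subalgebra F₀ F) :=
    Subalgebra.isSimpleOrder_of_finrank_prime F₀ F (by rw [hfin]; exact hr)
  let S : Subalgebra F₀ F :=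
    { carrier := {x | x ^ q = x}
      mul_mem' := fun {a b} ha hb => by
        show (a * b) ^ q = a * b
        have ha' : a ^ q = a := ha
        have hb' : b ^ q = b := hb
        rw [mul_pow, ha', hb']
      add_mem' := fun {a b} ha hb => by
        show (a + b) ^ q = a + b
        have ha' : a ^ q = a := ha
        have hb' : b ^ q = b := hb
        rw [add_pow_q hF, ha', hb']
      one_mem' := one_pow q
      zero_mem' := zero_pow (by omega)
      algebraMap_mem' := fun c => hcon c c.2 }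
  obtain ⟨a, ha⟩ := exists_pow_q_ne hF
  rcases eq_bot_or_eq_top S with hS | hS
  · have hfix : ∀ x : F, x ^ q = x → x ∈ F₀ := by
      intro x hx
      have h1 : x ∈ S := hx
      rw [hS, Algebra.mem_bot] at h1
      obtain ⟨y, hy⟩ := h1
      rw [← hy]
      exact y.2
    have hd : a - a ^ q ≠ 0 := sub_ne_zero.mpr (Ne.symm ha)
    obtain ⟨t, ht⟩ : ∃ t : F → F, t = fun x => (x - x ^ q) / (a - a ^ q) := ⟨_, rfl⟩
    have htq : ∀ x, t x ^ q = t x := by
      intro x
      rw [ht]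
      show ((x - x ^ q) / (a - a ^ q)) ^ q = _
      rw [div_pow, sub_pow_q hF, sub_pow_q hF, pow_q_pow_q hF, pow_q_pow_q hF, ← neg_sub x,
        ← neg_sub a, neg_div_neg_eq]
    have hta : ∀ x, t x * (a - a ^ q) = x - x ^ q := by
      intro x
      rw [ht]
      exact div_mul_cancel₀ _ hd
    have hsq : ∀ x, (x - t x * a) ^ q = x - t x * a := by
      intro x
      rw [sub_pow_q hF, mul_pow, htq]
      linear_combination hta x
    have hinj : Function.Injective (fun x : F =>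
        ((⟨x - t x * a, hfix _ (hsq x)⟩ : F₀), (⟨t x, hfix _ (htq x)⟩ : F₀))) := by
      intro x y hxy
      have h1 : x - t x * a = y - t y * a := congrArg (fun p : F₀ × F₀ => (p.1 : F)) hxy
      have h2 : t x = t y := congrArg (fun p : F₀ × F₀ => (p.2 : F)) hxy
      rw [h2] at h1
      linear_combination h1
    have h3 := Fintype.card_le_of_injective _ hinj
    rw [Fintype.card_prod, hcard, Nat.card_eq_fintype_card] at h3
    have hN : 1 < Fintype.card F₀ := Fintype.one_lt_card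
    have hr3 : 3 ≤ r := by
      rcases hro with ⟨k, hk⟩
      have := hr.two_le
      omega
    have h4 : Fintype.card F₀ ^ 3 ≤ Fintype.card F₀ ^ r := Nat.pow_le_pow_right (by omega) hr3
    have h5 : Fintype.card F₀ ^ 3 = Fintype.card F₀ * Fintype.card F₀ * Fintype.card F₀ := by ring
    nlinarith
  · have h1 : a ∈ S := by rw [hS]; exact Algebra.mem_top
    exact ha h1

/-- The restriction of `x ↦ x ^ q` to a subfield that it does not fix pointwise. -/
theorem su_exists_frob₀ (F₀ : Subfield F) (hnf : ∃ x ∈ F₀, x ^ q ≠ x) :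
    ∃ σ₀ : ↥F₀ →+* ↥F₀, (∀ x : ↥F₀, ((σ₀ x : ↥F₀) : F) = (x : F) ^ q) ∧
      σ₀ ≠ RingHom.id ↥F₀ ∧ ∀ a, σ₀ (σ₀ a) = a := by
  obtain ⟨σ, hσ⟩ := exists_frob hF
  have hcoe : ∀ x : ↥F₀, (((σ.restrict F₀ F₀ (fun x hx => by rw [hσ]; exact F₀.pow_mem hx q)) x :
      ↥F₀) : F) = (x : F) ^ q := fun x => by
    rw [RingHom.coe_restrict_apply, hσ]
  refine ⟨σ.restrict F₀ F₀ (fun x hx => by rw [hσ]; exact F₀.pow_mem hx q), hcoe, ?_, ?_⟩
  · intro h
    obtain ⟨x, hx, hne⟩ := hnf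
    apply hne
    have h1 := hcoe ⟨x, hx⟩
    rw [h] at h1
    exact h1.symm
  · intro a
    apply Subtype.ext
    rw [hcoe, hcoe, pow_q_pow_q hF]

/-- Rational constants: a norm `-1` element, a non-trivial norm one element, and a non-zero trace
zero element. -/
theorem su_exists_consts (F₀ : Subfield F) (hnf : ∃ x ∈ F₀, x ^ q ≠ x) :
    ∃ ε ω s : F, ε ∈ F₀ ∧ ω ∈ F₀ ∧ s ∈ F₀ ∧ ε * ε ^ q = -1 ∧ ω * ω ^ q = 1 ∧ ω ≠ 1 ∧ s ≠ 0 ∧
      s + s ^ q = 0 := by
  have hq2 := two_le_of_card_eq_sq hF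
  obtain ⟨σ₀, hσ₀, hne, hinv⟩ := su_exists_frob₀ hF F₀ hnf
  obtain ⟨x, hx, hxq⟩ := hnf
  have hx0 : x ≠ 0 := by
    intro h
    apply hxq
    rw [h, zero_pow (by omega)]
  have : Finite ↥F₀ := Finite.of_injective (fun x : ↥F₀ => (x : F)) Subtype.val_injective
  obtain ⟨c, hc⟩ := norm_surj σ₀ hne hinv (-1 : ↥F₀) (neg_ne_zero.mpr one_ne_zero)
    (by rw [map_neg, map_one])
  refine ⟨(c : F), x ^ q / x, x - x ^ q, c.2, F₀.div_mem (F₀.pow_mem hx q) hx,
    F₀.sub_mem hx (F₀.pow_mem hx q), ?_, ?_, ?_, sub_ne_zero.mpr (Ne.symm hxq), ?_⟩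
  · rw [← hσ₀ c]
    have h1 := congrArg (fun y : ↥F₀ => (y : F)) hc
    simpa using h1
  · rw [div_pow, pow_q_pow_q hF]
    have : x ^ q ≠ 0 := pow_ne_zero q hx0
    field_simp
  · intro h
    apply hxq
    field_simp at h
    exact h
  · rw [sub_pow_q hF, pow_q_pow_q hF]
    ring

end

section
variable {F : Type*} [Field F]

/-- The vector `e_a + e • e_b`. -/
def isoV {n : ℕ} (a b : Fin n) (e : F) : Fin n → F := Pi.single a 1 + e • Pi.single b 1

theorem isoV_apply {n : ℕ} (a b : Fin n) (e : F) (k : Fin n) :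
    isoV a b e k = (if k = a then 1 else 0) + e * (if k = b then 1 else 0) := by
  unfold isoV
  simp [Pi.single_apply]

theorem ratV_isoV {n : ℕ} (F₀ : Subfield F) (a b : Fin n) {e : F} (he : e ∈ F₀) :
    ratV F₀ (isoV a b e) :=
  ratV_add (ratV_single a F₀.one_mem) (ratV_smul he (ratV_single b F₀.one_mem))

theorem herm_rat (n q : ℕ) (F₀ : Subfield F) (x y : Fin n → F) (hx : ratV F₀ x)
    (hy : ratV F₀ y) : hermForm n F q x y ∈ F₀ := by
  unfold hermForm
  exact F₀.sum_mem (fun i _ => F₀.mul_mem (hx i) (F₀.pow_mem (hy i) q))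

theorem herm_isoV_left (n q : ℕ) (a b : Fin n) (e : F) (x : Fin n → F) :
    hermForm n F q (isoV a b e) x = x a ^ q + e * x b ^ q := by
  unfold isoV
  rw [hermForm_add_left, hermForm_smul_left, hermForm_single_left, hermForm_single_left]

/-- The rational special unitary group: matrices over the subfield in the special unitary group. -/
def ratSU (n q : ℕ) (F₀ : Subfield F) : Subgroup (GL (Fin n) F) :=
  (Matrix.GeneralLinearGroup.map (F₀.subtype : F₀ →+* F)).range ⊓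
    (GU n F q ⊓ specialLinear (Fin n) F)

end

section
variable {F : Type*} [Field F] [Fintype F] {q : ℕ} (hF : Fintype.card F = q ^ 2)
include hF

theorem herm_isoV_right (n : ℕ) (a b : Fin n) (e : F) (x : Fin n → F) :
    hermForm n F q x (isoV a b e) = x a + e ^ q * x b := by
  have hq2 := two_le_of_card_eq_sq hF
  unfold isoV
  rw [hermForm_add_right hF, hermForm_smul_right, hermForm_single_right n q (by omega),
    hermForm_single_right n q (by omega)]

theorem herm_isoV_self (n : ℕ) (a b : Fin n) (hab : a ≠ b) (e : F) (he : e * e ^ q = -1) :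
    hermForm n F q (isoV a b e) (isoV a b e) = 0 := by
  rw [herm_isoV_right hF, isoV_apply, isoV_apply]
  simp only [if_true, if_neg hab, if_neg hab.symm, mul_zero, add_zero, mul_one, zero_add]
  linear_combination he

theorem uE_rat_mem (n : ℕ) (F₀ : Subfield F) (v y : Fin n → F) (β : F) (hv : ratV F₀ v)
    (hy : ratV F₀ y) (hβ : β ∈ F₀) (hvv : hermForm n F q v v = 0)
    (hyv : hermForm n F q y v = 0) (hβ' : β + β ^ q + hermForm n F q y y = 0) :
    uE n q v y β ∈ ratSU n q F₀ := by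
  refine ⟨sf_mem_range F₀ _ (fun k l => ?_), uE_mem hF n v y β hvv hyv hβ'⟩
  rw [uE_val hF n v y β hvv hyv]
  unfold eichlerU
  simp only [Matrix.add_apply, Matrix.sub_apply, Matrix.smul_apply, Matrix.vecMulVec_apply,
    smul_eq_mul]
  refine F₀.add_mem (F₀.sub_mem (F₀.add_mem ?_ (F₀.mul_mem (hy k) (F₀.pow_mem (hv l) q)))
    (F₀.mul_mem (hv k) (F₀.pow_mem (hy l) q)))
    (F₀.mul_mem hβ (F₀.mul_mem (hv k) (F₀.pow_mem (hv l) q)))
  by_cases hkl : k = l
  · rw [hkl, Matrix.one_apply_eq]; exact F₀.one_mem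
  · rw [Matrix.one_apply_ne hkl]; exact F₀.zero_mem

/-- A matrix that preserves the Hermitian form on basis vectors preserves it everywhere. -/
theorem herm_ext_basis (n : ℕ) (B : Matrix (Fin n) (Fin n) F)
    (h : ∀ k l, hermForm n F q (B *ᵥ Pi.single k 1) (B *ᵥ Pi.single l 1) =
      hermForm n F q (Pi.single k 1) (Pi.single l 1)) :
    ∀ x y, hermForm n F q (B *ᵥ x) (B *ᵥ y) = hermForm n F q x y := by
  have hq := two_le_of_card_eq_sq hF
  obtain ⟨σ, hσ⟩ := exists_frob hF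
  have hmat : Bᵀ * B.map σ = 1 := by
    ext a b
    have h1 := h a b
    rw [hermForm_single_single n (by omega) a b] at h1
    rw [Matrix.one_apply, ← h1]
    unfold hermForm
    rw [Matrix.mul_apply]
    apply Finset.sum_congr rfl
    intro i _
    simp [hσ]
  intro x y
  have e1 : ∀ u w : Fin n → F, hermForm n F q u w = u ⬝ᵥ (fun i => σ (w i)) := by
    intro u w
    unfold hermForm dotProduct
    simp only [hσ]
  have e2 : (fun i => σ ((B *ᵥ y) i)) = B.map σ *ᵥ (fun i => σ (y i)) := by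
    funext i
    exact RingHom.map_mulVec σ B y i
  rw [e1, e1, e2, ← Matrix.vecMul_transpose, ← Matrix.dotProduct_mulVec, Matrix.mulVec_mulVec,
    hmat, Matrix.one_mulVec]

/-- Witt's lemma for the rational special unitary group: rational families with equal Gram
matrices are conjugate, provided the target family has a common zero coordinate. -/
theorem rat_su_witt (n : ℕ) (F₀ : Subfield F) (hnf : ∃ x ∈ F₀, x ^ q ≠ x) {k : ℕ}
    (x y : Fin k → (Fin n → ↥F₀)) (hx : LinearIndependent ↥F₀ x) (hy : LinearIndependent ↥F₀ y)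
    (hG : ∀ i j, hermForm n F q (ratc F₀ (x i)) (ratc F₀ (x j)) =
      hermForm n F q (ratc F₀ (y i)) (ratc F₀ (y j)))
    (j₀ : Fin n) (hj : ∀ i, y i j₀ = 0) :
    ∃ g ∈ ratSU n q F₀, ∀ i,
      (g : Matrix (Fin n) (Fin n) F) *ᵥ ratc F₀ (x i) = ratc F₀ (y i) := by
  classical
  have hq2 := two_le_of_card_eq_sq hF
  obtain ⟨σ₀, hσ₀, hne, hinv⟩ := su_exists_frob₀ hF F₀ hnf
  have hσ₀' : ∀ x : ↥F₀, σ₀ x = x ^ q := fun x => Subtype.ext (by rw [hσ₀]; rfl)
  have : Finite ↥F₀ := Finite.of_injective (fun x : ↥F₀ => (x : F)) Subtype.val_injective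
  have hbridge : ∀ u w : Fin n → ↥F₀, hermForm n F q (ratc F₀ u) (ratc F₀ w) =
      ((hermForm n ↥F₀ q u w : ↥F₀) : F) := by
    intro u w
    unfold hermForm ratc
    push_cast
    rfl
  have hS : (hermSesq n σ₀).IsSymm := ⟨fun u w => by
    rw [hermSesq_apply n q σ₀ hσ₀', hermSesq_apply n q σ₀ hσ₀']
    apply Subtype.ext
    rw [hσ₀, ← hbridge, ← hbridge, hermForm_conj hF]⟩
  have hB := hermSesq_nondegenerate n q (by omega) σ₀ hσ₀'
  have hk : k ≤ n := by
    have := hx.fintype_card_le_finrank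
    simpa using this
  obtain ⟨g, hg1, hg2⟩ := witt_family σ₀ hne hinv (hermSesq n σ₀) hS hB (n - k) k
    (by rw [Module.finrank_fin_fun]; omega) x y hx hy (fun i j => by
      rw [hermSesq_apply n q σ₀ hσ₀', hermSesq_apply n q σ₀ hσ₀']
      apply Subtype.ext
      rw [← hbridge, ← hbridge]
      exact hG j i)
  obtain ⟨A₀, hA₀⟩ : ∃ A₀ : Matrix (Fin n) (Fin n) ↥F₀,
      A₀ = LinearMap.toMatrix' (g : (Fin n → ↥F₀) →ₗ[↥F₀] (Fin n → ↥F₀)) := ⟨_, rfl⟩
  have hA₀v : ∀ u, A₀ *ᵥ u = g u := fun u => by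
    rw [hA₀, LinearMap.toMatrix'_mulVec]
    rfl
  obtain ⟨B, hB'⟩ : ∃ B : Matrix (Fin n) (Fin n) F, B = A₀.map (F₀.subtype : F₀ →+* F) :=
    ⟨_, rfl⟩
  have hBv : ∀ u : Fin n → ↥F₀, B *ᵥ ratc F₀ u = ratc F₀ (g u) := by
    intro u
    funext i
    rw [hB', ← hA₀v]
    exact (RingHom.map_mulVec (F₀.subtype : F₀ →+* F) A₀ u i).symm
  have hpres : ∀ x y, hermForm n F q (B *ᵥ x) (B *ᵥ y) = hermForm n F q x y :=
    herm_ext_basis hF n B (fun a b => by
      rw [← ratc_single F₀ a, ← ratc_single F₀ b, hBv, hBv, hbridge, hbridge]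
      have h1 := hg1 (Pi.single b 1) (Pi.single a 1)
      rw [hermSesq_apply n q σ₀ hσ₀', hermSesq_apply n q σ₀ hσ₀'] at h1
      rw [h1])
  have hdetB : B.det ≠ 0 := by
    intro h0
    obtain ⟨v, hv0, hv⟩ := Matrix.exists_mulVec_eq_zero_iff.mpr h0
    apply hv0
    funext i
    have h1 := hpres v (Pi.single i 1)
    rw [hv, hermForm_zero_left, hermForm_single_right n q (by omega)] at h1
    exact h1.symm
  obtain ⟨G, hG'⟩ : ∃ G : GL (Fin n) F, (G : Matrix (Fin n) (Fin n) F) = B :=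
    ⟨Matrix.GeneralLinearGroup.mkOfDetNeZero B hdetB, rfl⟩
  have hGU : G ∈ GU n F q := by
    show ∀ u v, hermForm n F q ((G : Matrix (Fin n) (Fin n) F) *ᵥ u)
      ((G : Matrix (Fin n) (Fin n) F) *ᵥ v) = hermForm n F q u v
    rw [hG']
    exact hpres
  have hGr : ∀ a b, (G : Matrix (Fin n) (Fin n) F) a b ∈ F₀ := fun a b => by
    rw [hG', hB']
    exact (A₀ a b).2
  obtain ⟨δ, hδ⟩ : ∃ δ : F, δ = B.det := ⟨_, rfl⟩
  have hδr : δ ∈ F₀ := by
    have h1 : (A₀.map (F₀.subtype : F₀ →+* F)).det = ((A₀.det : ↥F₀) : F) := by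
      rw [← RingHom.mapMatrix_apply, ← RingHom.map_det]
      rfl
    rw [hδ, hB', h1]
    exact A₀.det.2
  have hδ1 : δ ^ (q + 1) = 1 := by
    have h1 := det_pow_of_mem_GU hF n G hGU
    rwa [hG', ← hδ] at h1
  have hδ0 : δ ≠ 0 := by rw [hδ]; exact hdetB
  obtain ⟨d, hd⟩ : ∃ d : Fin n → F, d = fun i => if i = j₀ then δ⁻¹ else 1 := ⟨_, rfl⟩
  have hd1 : ∀ i, d i ^ (q + 1) = 1 := by
    intro i
    rw [hd]
    by_cases hi : i = j₀
    · simp only [if_pos hi]
      rw [inv_pow, hδ1, inv_one]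
    · simp only [if_neg hi]
      exact one_pow _
  have hdr : ∀ i, d i ∈ F₀ := by
    intro i
    rw [hd]
    by_cases hi : i = j₀
    · simp only [if_pos hi]
      exact F₀.inv_mem hδr
    · simp only [if_neg hi]
      exact F₀.one_mem
  have hdetD : (Matrix.diagonal d).det = δ⁻¹ := by
    rw [Matrix.det_diagonal, hd]
    simp
  obtain ⟨DG, hDG⟩ : ∃ DG : GL (Fin n) F,
      (DG : Matrix (Fin n) (Fin n) F) = Matrix.diagonal d :=
    ⟨Matrix.GeneralLinearGroup.mkOfDetNeZero (Matrix.diagonal d)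
      (by rw [hdetD]; exact inv_ne_zero hδ0), rfl⟩
  refine ⟨DG * G, ⟨?_, ?_, ?_⟩, fun i => ?_⟩
  · apply sf_mem_range
    intro a b
    rw [Units.val_mul, hDG, Matrix.diagonal_mul]
    exact F₀.mul_mem (hdr a) (hGr a b)
  · refine (GU n F q).mul_mem ?_ hGU
    show ∀ u v, hermForm n F q ((DG : Matrix (Fin n) (Fin n) F) *ᵥ u)
      ((DG : Matrix (Fin n) (Fin n) F) *ᵥ v) = hermForm n F q u v
    rw [hDG]
    exact diagonal_preserves_herm n q d hd1
  · apply (mem_specialLinear_iff _).mpr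
    rw [Units.val_mul, Matrix.det_mul, hDG, hdetD, hG', ← hδ, inv_mul_cancel₀ hδ0]
  · rw [Units.val_mul, ← Matrix.mulVec_mulVec, hG', hBv, hg2, hDG]
    funext a
    rw [Matrix.mulVec_diagonal, hd]
    by_cases ha : a = j₀
    · simp only [if_pos ha]
      rw [ha]
      show δ⁻¹ * ((y i j₀ : ↥F₀) : F) = ((y i j₀ : ↥F₀) : F)
      rw [hj i]
      simp
    · simp only [if_neg ha, one_mul]

end

section
variable {F : Type*} [Field F]

/-- Rational constants (norm `-1`, non-trivial norm one, non-zero trace zero) and an injective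
index frame. -/
structure SuFrame (n q : ℕ) (F₀ : Subfield F) (ix : Fin 7 → Fin n) (ε ω s : F) : Prop where
  inj : Function.Injective ix
  hε : ε ∈ F₀
  hω : ω ∈ F₀
  hs : s ∈ F₀
  hεn : ε * ε ^ q = -1
  hωn : ω * ω ^ q = 1
  hω1 : ω ≠ 1
  hs0 : s ≠ 0
  hst : s + s ^ q = 0
  hnf : ∃ x ∈ F₀, x ^ q ≠ x

theorem isoV_ne_zero {n : ℕ} (a b : Fin n) (hab : a ≠ b) (e : F) : isoV a b e ≠ 0 := by
  intro h
  have h1 := congrFun h a
  rw [isoV_apply] at h1
  simp [hab] at h1

theorem isoV_pair_indep {n : ℕ} (a b c d : Fin n) (hab : a ≠ b) (hcd : c ≠ d) (hac : a ≠ c)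
    (had : a ≠ d) (hbc : b ≠ c) (e e' : F) (s t : F)
    (h : s • isoV a b e + t • isoV c d e' = 0) : s = 0 ∧ t = 0 := by
  have h1 := congrFun h a
  have h2 := congrFun h c
  simp only [Pi.add_apply, Pi.smul_apply, smul_eq_mul, Pi.zero_apply, isoV_apply, if_true,
    if_neg hab, if_neg hcd, if_neg hac, if_neg had, if_neg hac.symm, if_neg hbc.symm, mul_zero,
    add_zero, mul_one, zero_add] at h1 h2
  exact ⟨h1, h2⟩

end

section
variable {F : Type*} [Field F] [Fintype F] {q : ℕ} (hF : Fintype.card F = q ^ 2)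
include hF

theorem herm_isoV_disj (n : ℕ) (a b c d : Fin n) (hac : a ≠ c) (had : a ≠ d) (hbc : b ≠ c)
    (hbd : b ≠ d) (e e' : F) : hermForm n F q (isoV a b e) (isoV c d e') = 0 := by
  rw [herm_isoV_right hF, isoV_apply, isoV_apply]
  simp only [if_neg hac.symm, if_neg had.symm, if_neg hbc.symm, if_neg hbd.symm, mul_zero,
    add_zero]

variable {n : ℕ} {F₀ : Subfield F} {ix : Fin 7 → Fin n} {ε ω s : F}

theorem SuFrame.ωq_ne (hfr : SuFrame n q F₀ ix ε ω s) : ω ^ q ≠ 1 := by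
  intro h
  apply hfr.hω1
  have h1 := pow_q_pow_q hF ω
  rw [h, one_pow] at h1
  exact h1.symm

omit [Fintype F] hF in
theorem SuFrame.εω_norm (hfr : SuFrame n q F₀ ix ε ω s) : (ε * ω) * (ε * ω) ^ q = -1 := by
  rw [mul_pow]
  linear_combination (ω * ω ^ q) * hfr.hεn - hfr.hωn

/-- The rational special unitary group maps a non-zero rational isotropic vector to the first
standard one. -/
theorem rat_su_to_std1 (hfr : SuFrame n q F₀ ix ε ω s) (u : Fin n → F) (hu : ratV F₀ u)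
    (hu0 : u ≠ 0) (huu : hermForm n F q u u = 0) :
    ∃ g ∈ ratSU n q F₀, (g : Matrix (Fin n) (Fin n) F) *ᵥ u = isoV (ix 0) (ix 1) ε := by
  obtain ⟨u₀, rfl⟩ := exists_ratc F₀ u hu
  obtain ⟨e₀, he₀⟩ := exists_ratc F₀ (isoV (ix 0) (ix 1) ε) (ratV_isoV F₀ _ _ hfr.hε)
  have h01 : ix 0 ≠ ix 1 := hfr.inj.ne (by decide)
  have hu₀0 : u₀ ≠ 0 := fun h => hu0 (by rw [h, ratc_zero])
  have he₀0 : e₀ ≠ 0 := fun h => isoV_ne_zero (ix 0) (ix 1) h01 ε (by rw [← he₀, h, ratc_zero])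
  obtain ⟨g, hg, hgv⟩ := rat_su_witt hF n F₀ hfr.hnf (fun _ : Fin 1 => u₀) (fun _ : Fin 1 => e₀)
    (linearIndependent_unique_iff.mpr hu₀0) (linearIndependent_unique_iff.mpr he₀0)
    (fun _ _ => by rw [huu, he₀, herm_isoV_self hF n _ _ h01 ε hfr.hεn]) (ix 6) (fun _ => by
      apply Subtype.ext
      have h1 := congrFun he₀ (ix 6)
      show ((e₀ (ix 6) : ↥F₀) : F) = 0
      have h2 : ratc F₀ e₀ (ix 6) = ((e₀ (ix 6) : ↥F₀) : F) := rfl
      rw [← h2, h1, isoV_apply]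
      simp [hfr.inj.eq_iff])
  exact ⟨g, hg, by rw [hgv 0, he₀]⟩

/-- The rational special unitary group is transitive on non-zero rational isotropic vectors. -/
theorem rat_su_trans (hfr : SuFrame n q F₀ ix ε ω s) (u u' : Fin n → F) (hu : ratV F₀ u)
    (hu' : ratV F₀ u') (hu0 : u ≠ 0) (hu'0 : u' ≠ 0) (huu : hermForm n F q u u = 0)
    (hu'u' : hermForm n F q u' u' = 0) :
    ∃ g ∈ ratSU n q F₀, (g : Matrix (Fin n) (Fin n) F) *ᵥ u = u' := by
  obtain ⟨g₁, hg₁, h1⟩ := rat_su_to_std1 hF hfr u hu hu0 huu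
  obtain ⟨g₂, hg₂, h2⟩ := rat_su_to_std1 hF hfr u' hu' hu'0 hu'u'
  refine ⟨g₂⁻¹ * g₁, mul_mem (inv_mem hg₂) hg₁, ?_⟩
  rw [Units.val_mul, ← Matrix.mulVec_mulVec, h1, ← h2, gl_inv_mulVec_mulVec]

/-- The rational special unitary group maps an independent orthogonal pair of rational
isotropic vectors to the first two standard ones. -/
theorem rat_su_to_std2 (hfr : SuFrame n q F₀ ix ε ω s) (u y : Fin n → F) (hu : ratV F₀ u)
    (hy : ratV F₀ y) (huu : hermForm n F q u u = 0) (hyy : hermForm n F q y y = 0)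
    (hyu : hermForm n F q y u = 0)
    (hind : ∀ a b : F, a • u + b • y = 0 → a = 0 ∧ b = 0) :
    ∃ g ∈ ratSU n q F₀, (g : Matrix (Fin n) (Fin n) F) *ᵥ u = isoV (ix 0) (ix 1) ε ∧
      (g : Matrix (Fin n) (Fin n) F) *ᵥ y = isoV (ix 2) (ix 3) ε := by
  obtain ⟨u₀, rfl⟩ := exists_ratc F₀ u hu
  obtain ⟨y₀, rfl⟩ := exists_ratc F₀ y hy
  obtain ⟨e₀, he₀⟩ := exists_ratc F₀ (isoV (ix 0) (ix 1) ε) (ratV_isoV F₀ _ _ hfr.hε)
  obtain ⟨e₁, he₁⟩ := exists_ratc F₀ (isoV (ix 2) (ix 3) ε) (ratV_isoV F₀ _ _ hfr.hε)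
  have h01 : ix 0 ≠ ix 1 := hfr.inj.ne (by decide)
  have h23 : ix 2 ≠ ix 3 := hfr.inj.ne (by decide)
  have hli : ∀ a b : Fin n → ↥F₀,
      (∀ c d : F, c • ratc F₀ a + d • ratc F₀ b = 0 → c = 0 ∧ d = 0) →
      LinearIndependent ↥F₀ ![a, b] := by
    intro a b hab
    rw [LinearIndependent.pair_iff]
    intro c d hcd
    have h1 := hab (c : F) (d : F) (by
      rw [← ratc_smul, ← ratc_smul, ← ratc_add, hcd, ratc_zero])
    exact ⟨by exact_mod_cast h1.1, by exact_mod_cast h1.2⟩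
  have hind' : ∀ c d : F, c • ratc F₀ e₀ + d • ratc F₀ e₁ = 0 → c = 0 ∧ d = 0 := by
    rw [he₀, he₁]
    exact isoV_pair_indep _ _ _ _ h01 h23 (hfr.inj.ne (by decide)) (hfr.inj.ne (by decide))
      (hfr.inj.ne (by decide)) ε ε
  have huy : hermForm n F q (ratc F₀ u₀) (ratc F₀ y₀) = 0 := hermForm_swap_zero hF n _ _ hyu
  have e01 : hermForm n F q (ratc F₀ e₀) (ratc F₀ e₁) = 0 := by
    rw [he₀, he₁]
    exact herm_isoV_disj hF n _ _ _ _ (hfr.inj.ne (by decide)) (hfr.inj.ne (by decide))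
      (hfr.inj.ne (by decide)) (hfr.inj.ne (by decide)) ε ε
  have e10 : hermForm n F q (ratc F₀ e₁) (ratc F₀ e₀) = 0 := hermForm_swap_zero hF n _ _ e01
  have e00 : hermForm n F q (ratc F₀ e₀) (ratc F₀ e₀) = 0 := by
    rw [he₀]
    exact herm_isoV_self hF n _ _ h01 ε hfr.hεn
  have e11 : hermForm n F q (ratc F₀ e₁) (ratc F₀ e₁) = 0 := by
    rw [he₁]
    exact herm_isoV_self hF n _ _ h23 ε hfr.hεn
  obtain ⟨g, hg, hgv⟩ := rat_su_witt hF n F₀ hfr.hnf ![u₀, y₀] ![e₀, e₁] (hli _ _ hind)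
    (hli _ _ hind') (fun i j => by
      fin_cases i <;> fin_cases j <;> simp [huu, hyy, hyu, huy, e00, e01, e10, e11]) (ix 6)
    (fun i => by
      have h0 : e₀ (ix 6) = 0 := by
        apply Subtype.ext
        have h1 := congrFun he₀ (ix 6)
        have h2 : ratc F₀ e₀ (ix 6) = ((e₀ (ix 6) : ↥F₀) : F) := rfl
        show ((e₀ (ix 6) : ↥F₀) : F) = 0
        rw [← h2, h1, isoV_apply]
        simp [hfr.inj.eq_iff]
      have h1' : e₁ (ix 6) = 0 := by
        apply Subtype.ext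
        have h1 := congrFun he₁ (ix 6)
        have h2 : ratc F₀ e₁ (ix 6) = ((e₁ (ix 6) : ↥F₀) : F) := rfl
        show ((e₁ (ix 6) : ↥F₀) : F) = 0
        rw [← h2, h1, isoV_apply]
        simp [hfr.inj.eq_iff]
      fin_cases i
      · exact h0
      · exact h1')
  refine ⟨g, hg, ?_, ?_⟩
  · have h1 := hgv 0
    rw [← he₀]
    exact h1
  · have h1 := hgv 1
    rw [← he₁]
    exact h1

/-- The rational special unitary group is transitive on independent orthogonal pairs of rational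
isotropic vectors. -/
theorem rat_su_pair (hfr : SuFrame n q F₀ ix ε ω s) (u y u' y' : Fin n → F) (hu : ratV F₀ u)
    (hy : ratV F₀ y) (hu' : ratV F₀ u') (hy' : ratV F₀ y') (huu : hermForm n F q u u = 0)
    (hyy : hermForm n F q y y = 0) (hyu : hermForm n F q y u = 0)
    (hu'u' : hermForm n F q u' u' = 0) (hy'y' : hermForm n F q y' y' = 0)
    (hy'u' : hermForm n F q y' u' = 0)
    (hind : ∀ a b : F, a • u + b • y = 0 → a = 0 ∧ b = 0)
    (hind' : ∀ a b : F, a • u' + b • y' = 0 → a = 0 ∧ b = 0) :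
    ∃ g ∈ ratSU n q F₀, (g : Matrix (Fin n) (Fin n) F) *ᵥ u = u' ∧
      (g : Matrix (Fin n) (Fin n) F) *ᵥ y = y' := by
  obtain ⟨g₁, hg₁, h1, h1'⟩ := rat_su_to_std2 hF hfr u y hu hy huu hyy hyu hind
  obtain ⟨g₂, hg₂, h2, h2'⟩ := rat_su_to_std2 hF hfr u' y' hu' hy' hu'u' hy'y' hy'u' hind'
  refine ⟨g₂⁻¹ * g₁, mul_mem (inv_mem hg₂) hg₁, ?_, ?_⟩
  · rw [Units.val_mul, ← Matrix.mulVec_mulVec, h1, ← h2, gl_inv_mulVec_mulVec]
  · rw [Units.val_mul, ← Matrix.mulVec_mulVec, h1', ← h2', gl_inv_mulVec_mulVec]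

end

end Cfsg.Agent.Lib.helper95
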