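import Mathlib
import Cfsg.Prelude.Def_GeometricClasses
import Cfsg.Agent.Lib.helper95.SubfieldSU1

/-!
Subfield subgroups of the special unitary group: identities between Eichler elements and unitary
transvections, and rationality lemmas for vectors and matrices.
-/

set_option autoImplicit false

namespace Cfsg.Agent.Lib.helper95

open Matrix Cfsg Cfsg.Geo Cfsg.Agent.Lib.helper17

section
variable {F : Type*} [Field F] [Fintype F] {q : ℕ} (hF : Fintype.card F = q ^ 2)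
include hF

theorem uE_zero' (n : ℕ) (v : Fin n → F) (hvv : hermForm n F q v v = 0) : uE n q v 0 0 = 1 := by
  apply gl_ext_mulVec
  intro x
  rw [uT_mulVec hF n v 0 hvv, zero_mul, zero_smul, add_zero, Units.val_one, Matrix.one_mulVec]

theorem uE_inv' (n : ℕ) (v y : Fin n → F) (β : F) (hvv : hermForm n F q v v = 0)
    (hyv : hermForm n F q y v = 0) :
    (uE n q v y β)⁻¹ = uE n q v (-y) (-β - hermForm n F q y y) := by
  have hnyv : hermForm n F q (-y) v = 0 := by rw [hermForm_neg_left, hyv, neg_zero]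
  apply inv_eq_of_mul_eq_one_right
  rw [Cfsg.Agent.Lib.helper49.uE_mul hF n v y (-y) β _ hvv hyv hnyv, add_neg_cancel,
    hermForm_neg_left]
  have e : β + (-β - hermForm n F q y y) - -hermForm n F q y y = 0 := by ring
  rw [e]
  exact uE_zero' hF n v hvv

/-- The transvection at `w + lam • u` as a product of the transvection at `w` and an Eichler
element at `u`. -/
theorem uT_add_eq' (n : ℕ) (w u : Fin n → F) (lam t : F) (hww : hermForm n F q w w = 0)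
    (huu : hermForm n F q u u = 0) (hwu : hermForm n F q w u = 0) (ht : t + t ^ q = 0) :
    uE n q (w + lam • u) 0 t =
      uE n q w 0 t * uE n q u ((t * lam ^ q) • w) (t * lam * lam ^ q) := by
  have huw : hermForm n F q u w = 0 := hermForm_swap_zero hF n w u hwu
  have htq : t ^ q = -t := by linear_combination ht
  have hsum : hermForm n F q (w + lam • u) (w + lam • u) = 0 := by
    rw [hermForm_add_left, hermForm_add_right hF, hermForm_add_right hF, hermForm_smul_left,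
      hermForm_smul_left, hermForm_smul_right, hermForm_smul_right, hww, huu, hwu, huw]
    ring
  have hκ : hermForm n F q ((t * lam ^ q) • w) u = 0 := by
    rw [hermForm_smul_left, hwu, mul_zero]
  apply gl_ext_mulVec
  intro x
  rw [Units.val_mul, ← Matrix.mulVec_mulVec, uT_mulVec hF n _ t hsum,
    uE_mulVec hF n u _ _ huu hκ, uT_mulVec hF n w t hww]
  simp only [hermForm_add_left, hermForm_sub_left, hermForm_smul_left, hermForm_add_right hF,
    hermForm_smul_right, hww, huw, mul_pow, pow_q_pow_q hF, htq]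
  funext i
  simp only [Pi.add_apply, Pi.sub_apply, Pi.smul_apply, smul_eq_mul]
  ring

theorem uE_swap (n : ℕ) (u y : Fin n → F) (c : F) (huu : hermForm n F q u u = 0)
    (hyy : hermForm n F q y y = 0) (hyu : hermForm n F q y u = 0) :
    uE n q u (c • y) 0 = uE n q y ((-c ^ q) • u) 0 := by
  have huy := hermForm_swap_zero hF n y u hyu
  apply gl_ext_mulVec
  intro x
  rw [uE_mulVec hF n u _ 0 huu (by rw [hermForm_smul_left, hyu, mul_zero]),
    uE_mulVec hF n y _ 0 hyy (by rw [hermForm_smul_left, huy, mul_zero]), hermForm_smul_right,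
    hermForm_smul_right, neg_pow_q hF, pow_q_pow_q hF]
  funext i
  simp only [Pi.add_apply, Pi.sub_apply, Pi.smul_apply, smul_eq_mul]
  ring

theorem uE_smul_self (n : ℕ) (u : Fin n → F) (lam β : F) (huu : hermForm n F q u u = 0) :
    uE n q u (lam • u) β = uE n q u 0 (lam - lam ^ q + β) := by
  apply gl_ext_mulVec
  intro x
  rw [uE_mulVec hF n u _ β huu (by rw [hermForm_smul_left, huu, mul_zero]),
    uT_mulVec hF n u _ huu, hermForm_smul_right]
  funext i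
  simp only [Pi.add_apply, Pi.sub_apply, Pi.smul_apply, smul_eq_mul]
  ring

theorem uT_eq_slT (n : ℕ) (v : Fin n → F) (c : F) (hvv : hermForm n F q v v = 0) :
    uE n q v 0 c = slT v (c • fun j => v j ^ q) := by
  have h0 : (c • fun j => v j ^ q) ⬝ᵥ v = 0 := by
    rw [smul_dotProduct, pow_dotProduct, hvv, smul_zero]
  apply gl_ext_mulVec
  intro x
  rw [uT_mulVec hF n v c hvv, slT_mulVec _ _ h0, smul_dotProduct, pow_dotProduct, smul_eq_mul]

end

theorem exists_ne_three {n : ℕ} (hn : 4 ≤ n) (i j k : Fin n) :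
    ∃ l : Fin n, l ≠ i ∧ l ≠ j ∧ l ≠ k := by
  classical
  by_contra hcon
  push Not at hcon
  have h1 : (Finset.univ : Finset (Fin n)) ⊆ {i, j, k} := by
    intro l _
    by_cases hi : l = i
    · simp [hi]
    by_cases hj : l = j
    · simp [hj]
    have := hcon l hi hj
    simp [this]
  have h2 := Finset.card_le_card h1
  have h3 : ({i, j, k} : Finset (Fin n)).card ≤ 3 := Finset.card_le_three
  rw [Finset.card_univ, Fintype.card_fin] at h2
  omega

section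
variable {F : Type*} [Field F] [Fintype F] {q : ℕ} (hF : Fintype.card F = q ^ 2)
include hF
variable {n : ℕ} {F₀ : Subfield F} {ix : Fin 7 → Fin n} {ε ω s : F}

omit [Fintype F] hF in
theorem SuFrame.seven_le (hfr : SuFrame n q F₀ ix ε ω s) : 7 ≤ n := by
  have h := Fintype.card_le_of_injective ix hfr.inj
  simpa using h

/-- Combinations of the three standard isotropic vectors are isotropic. -/
theorem tri_iso (hfr : SuFrame n q F₀ ix ε ω s) (c₀ c₁ c₂ : F) :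
    hermForm n F q
      (c₀ • isoV (ix 0) (ix 1) ε + c₁ • isoV (ix 2) (ix 3) ε + c₂ • isoV (ix 4) (ix 5) ε)
      (c₀ • isoV (ix 0) (ix 1) ε + c₁ • isoV (ix 2) (ix 3) ε + c₂ • isoV (ix 4) (ix 5) ε) =
      0 := by
  have e00 := herm_isoV_self hF n (ix 0) (ix 1) (hfr.inj.ne (by decide)) ε hfr.hεn
  have e11 := herm_isoV_self hF n (ix 2) (ix 3) (hfr.inj.ne (by decide)) ε hfr.hεn
  have e22 := herm_isoV_self hF n (ix 4) (ix 5) (hfr.inj.ne (by decide)) ε hfr.hεn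
  have e01 := herm_isoV_disj hF n (ix 0) (ix 1) (ix 2) (ix 3) (hfr.inj.ne (by decide))
    (hfr.inj.ne (by decide)) (hfr.inj.ne (by decide)) (hfr.inj.ne (by decide)) ε ε
  have e02 := herm_isoV_disj hF n (ix 0) (ix 1) (ix 4) (ix 5) (hfr.inj.ne (by decide))
    (hfr.inj.ne (by decide)) (hfr.inj.ne (by decide)) (hfr.inj.ne (by decide)) ε ε
  have e12 := herm_isoV_disj hF n (ix 2) (ix 3) (ix 4) (ix 5) (hfr.inj.ne (by decide))
    (hfr.inj.ne (by decide)) (hfr.inj.ne (by decide)) (hfr.inj.ne (by decide)) ε ε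
  have e10 := hermForm_swap_zero hF n _ _ e01
  have e20 := hermForm_swap_zero hF n _ _ e02
  have e21 := hermForm_swap_zero hF n _ _ e12
  simp only [hermForm_add_left, hermForm_smul_left, hermForm_add_right hF, hermForm_smul_right,
    e00, e11, e22, e01, e02, e12, e10, e20, e21]
  ring

omit [Fintype F] hF in
theorem tri_ne (hfr : SuFrame n q F₀ ix ε ω s) (c₀ c₁ c₂ : F)
    (h : c₀ • isoV (ix 0) (ix 1) ε + c₁ • isoV (ix 2) (ix 3) ε + c₂ • isoV (ix 4) (ix 5) ε = 0) :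
    c₀ = 0 ∧ c₁ = 0 ∧ c₂ = 0 := by
  have e0 := congrFun h (ix 0)
  have e1 := congrFun h (ix 2)
  have e2 := congrFun h (ix 4)
  simp [isoV_apply, hfr.inj.eq_iff] at e0 e1 e2
  exact ⟨e0, e1, e2⟩

omit [Fintype F] hF in
theorem tri_rat (hfr : SuFrame n q F₀ ix ε ω s) (c₀ c₁ c₂ : F) (h0 : c₀ ∈ F₀) (h1 : c₁ ∈ F₀)
    (h2 : c₂ ∈ F₀) :
    ratV F₀ (c₀ • isoV (ix 0) (ix 1) ε + c₁ • isoV (ix 2) (ix 3) ε +
      c₂ • isoV (ix 4) (ix 5) ε) :=
  ratV_add (ratV_add (ratV_smul h0 (ratV_isoV F₀ _ _ hfr.hε))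
    (ratV_smul h1 (ratV_isoV F₀ _ _ hfr.hε))) (ratV_smul h2 (ratV_isoV F₀ _ _ hfr.hε))

/-- A non-zero rational isotropic vector orthogonal to two given rational vectors. -/
theorem exists_rat_iso_perp2 (hfr : SuFrame n q F₀ ix ε ω s) (a v : Fin n → F)
    (ha : ratV F₀ a) (hv : ratV F₀ v) :
    ∃ z : Fin n → F, ratV F₀ z ∧ z ≠ 0 ∧ hermForm n F q z z = 0 ∧ hermForm n F q z a = 0 ∧
      hermForm n F q z v = 0 := by
  obtain ⟨α₀, hα₀⟩ : ∃ α₀, α₀ = hermForm n F q (isoV (ix 0) (ix 1) ε) a := ⟨_, rfl⟩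
  obtain ⟨α₁, hα₁⟩ : ∃ α₁, α₁ = hermForm n F q (isoV (ix 2) (ix 3) ε) a := ⟨_, rfl⟩
  obtain ⟨α₂, hα₂⟩ : ∃ α₂, α₂ = hermForm n F q (isoV (ix 4) (ix 5) ε) a := ⟨_, rfl⟩
  obtain ⟨β₀, hβ₀⟩ : ∃ β₀, β₀ = hermForm n F q (isoV (ix 0) (ix 1) ε) v := ⟨_, rfl⟩
  obtain ⟨β₁, hβ₁⟩ : ∃ β₁, β₁ = hermForm n F q (isoV (ix 2) (ix 3) ε) v := ⟨_, rfl⟩
  obtain ⟨β₂, hβ₂⟩ : ∃ β₂, β₂ = hermForm n F q (isoV (ix 4) (ix 5) ε) v := ⟨_, rfl⟩
  have hα₀r : α₀ ∈ F₀ := by rw [hα₀]; exact herm_rat n q F₀ _ _ (ratV_isoV F₀ _ _ hfr.hε) ha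
  have hα₁r : α₁ ∈ F₀ := by rw [hα₁]; exact herm_rat n q F₀ _ _ (ratV_isoV F₀ _ _ hfr.hε) ha
  have hα₂r : α₂ ∈ F₀ := by rw [hα₂]; exact herm_rat n q F₀ _ _ (ratV_isoV F₀ _ _ hfr.hε) ha
  have hβ₀r : β₀ ∈ F₀ := by rw [hβ₀]; exact herm_rat n q F₀ _ _ (ratV_isoV F₀ _ _ hfr.hε) hv
  have hβ₁r : β₁ ∈ F₀ := by rw [hβ₁]; exact herm_rat n q F₀ _ _ (ratV_isoV F₀ _ _ hfr.hε) hv
  have hβ₂r : β₂ ∈ F₀ := by rw [hβ₂]; exact herm_rat n q F₀ _ _ (ratV_isoV F₀ _ _ hfr.hε) hv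
  have forma : ∀ c₀ c₁ c₂ : F,
      hermForm n F q (c₀ • isoV (ix 0) (ix 1) ε + c₁ • isoV (ix 2) (ix 3) ε +
        c₂ • isoV (ix 4) (ix 5) ε) a = c₀ * α₀ + c₁ * α₁ + c₂ * α₂ := by
    intro c₀ c₁ c₂
    simp only [hermForm_add_left, hermForm_smul_left, hα₀, hα₁, hα₂]
  have formv : ∀ c₀ c₁ c₂ : F,
      hermForm n F q (c₀ • isoV (ix 0) (ix 1) ε + c₁ • isoV (ix 2) (ix 3) ε +
        c₂ • isoV (ix 4) (ix 5) ε) v = c₀ * β₀ + c₁ * β₁ + c₂ * β₂ := by
    intro c₀ c₁ c₂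
    simp only [hermForm_add_left, hermForm_smul_left, hβ₀, hβ₁, hβ₂]
  have nz : ∀ c₀ c₁ c₂ : F, (c₀ ≠ 0 ∨ c₁ ≠ 0 ∨ c₂ ≠ 0) →
      c₀ • isoV (ix 0) (ix 1) ε + c₁ • isoV (ix 2) (ix 3) ε + c₂ • isoV (ix 4) (ix 5) ε ≠ 0 := by
    intro c₀ c₁ c₂ hc h0
    obtain ⟨e0, e1, e2⟩ := tri_ne hfr c₀ c₁ c₂ h0
    rcases hc with h | h | h
    · exact h e0
    · exact h e1
    · exact h e2
  by_cases hc : (α₁ * β₂ - α₂ * β₁ ≠ 0 ∨ α₂ * β₀ - α₀ * β₂ ≠ 0 ∨ α₀ * β₁ - α₁ * β₀ ≠ 0)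
  · refine ⟨_, tri_rat hfr _ _ _ (F₀.sub_mem (F₀.mul_mem hα₁r hβ₂r) (F₀.mul_mem hα₂r hβ₁r))
      (F₀.sub_mem (F₀.mul_mem hα₂r hβ₀r) (F₀.mul_mem hα₀r hβ₂r))
      (F₀.sub_mem (F₀.mul_mem hα₀r hβ₁r) (F₀.mul_mem hα₁r hβ₀r)), nz _ _ _ hc,
      tri_iso hF hfr _ _ _, ?_, ?_⟩
    · rw [forma]; ring
    · rw [formv]; ring
  · push Not at hc
    obtain ⟨-, -, hc2⟩ := hc
    by_cases hα : α₁ ≠ 0 ∨ α₀ ≠ 0
    · refine ⟨_, tri_rat hfr α₁ (-α₀) 0 hα₁r (F₀.neg_mem hα₀r) F₀.zero_mem, nz _ _ _ ?_,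
        tri_iso hF hfr _ _ _, ?_, ?_⟩
      · rcases hα with h | h
        · exact Or.inl h
        · exact Or.inr (Or.inl (neg_ne_zero.mpr h))
      · rw [forma]; ring
      · rw [formv]; linear_combination -hc2
    · push Not at hα
      obtain ⟨hα1, hα0⟩ := hα
      by_cases hβ : β₁ ≠ 0 ∨ β₀ ≠ 0
      · refine ⟨_, tri_rat hfr β₁ (-β₀) 0 hβ₁r (F₀.neg_mem hβ₀r) F₀.zero_mem, nz _ _ _ ?_,
          tri_iso hF hfr _ _ _, ?_, ?_⟩
        · rcases hβ with h | h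
          · exact Or.inl h
          · exact Or.inr (Or.inl (neg_ne_zero.mpr h))
        · rw [forma, hα0, hα1]; ring
        · rw [formv]; ring
      · push Not at hβ
        obtain ⟨hβ1, hβ0⟩ := hβ
        refine ⟨_, tri_rat hfr 1 0 0 F₀.one_mem F₀.zero_mem F₀.zero_mem,
          nz _ _ _ (Or.inl one_ne_zero), tri_iso hF hfr _ _ _, ?_, ?_⟩
        · rw [forma, hα0]; ring
        · rw [formv, hβ0]; ring

/-- For two rational isotropic vectors some rational combination with non-zero coefficient is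
isotropic. -/
theorem exists_iso_combo (hfr : SuFrame n q F₀ ix ε ω s) (v₀ v : Fin n → F)
    (hv₀ : ratV F₀ v₀) (hv : ratV F₀ v) (h00 : hermForm n F q v₀ v₀ = 0)
    (h11 : hermForm n F q v v = 0) :
    ∃ c : F, c ∈ F₀ ∧ c ≠ 0 ∧ hermForm n F q (v₀ + c • v) (v₀ + c • v) = 0 := by
  obtain ⟨η, hη⟩ : ∃ η, η = hermForm n F q v₀ v := ⟨_, rfl⟩
  have hηr : η ∈ F₀ := by rw [hη]; exact herm_rat n q F₀ _ _ hv₀ hv
  have hηq : hermForm n F q v v₀ = η ^ q := by rw [hη, hermForm_conj hF]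
  have expand : ∀ c : F, hermForm n F q (v₀ + c • v) (v₀ + c • v) = c ^ q * η + c * η ^ q := by
    intro c
    rw [hermForm_add_left, hermForm_add_right hF, hermForm_add_right hF, hermForm_smul_left,
      hermForm_smul_left, hermForm_smul_right, hermForm_smul_right, h00, h11, hηq, ← hη]
    ring
  by_cases hη0 : η = 0
  · refine ⟨1, F₀.one_mem, one_ne_zero, ?_⟩
    rw [expand, hη0, zero_pow (by have := two_le_of_card_eq_sq hF; omega)]
    ring
  · refine ⟨(s / η) ^ q, F₀.pow_mem (F₀.div_mem hfr.hs hηr) q,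
      pow_ne_zero q (div_ne_zero hfr.hs0 hη0), ?_⟩
    rw [expand, pow_q_pow_q hF, div_pow, div_mul_cancel₀ _ hη0,
      div_mul_cancel₀ _ (pow_ne_zero q hη0)]
    exact hfr.hst

/-- A coordinate of a vector in terms of its pairings with two rational isotropic vectors. -/
theorem coord_from_iso (hfr : SuFrame n q F₀ ix ε ω s) (x : Fin n → F) (l l' : Fin n) :
    x l = (ω ^ q - 1)⁻¹ * (ω ^ q * hermForm n F q x (isoV l l' ε) -
      hermForm n F q x (isoV l l' (ε * ω))) := by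
  rw [herm_isoV_right hF, herm_isoV_right hF, mul_pow]
  have h1 := sub_ne_zero.mpr (hfr.ωq_ne hF)
  field_simp
  ring

omit [Fintype F] hF in
/-- A standard basis vector as a rational combination of two rational isotropic vectors. -/
theorem single_from_iso (hfr : SuFrame n q F₀ ix ε ω s) (l l' : Fin n) (hll' : l ≠ l') :
    (Pi.single l (1 : F) : Fin n → F) =
      (ω - 1)⁻¹ • (ω • isoV l l' ε - isoV l l' (ε * ω)) := by
  have h1 := sub_ne_zero.mpr hfr.hω1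
  funext k
  simp only [Pi.smul_apply, Pi.sub_apply, smul_eq_mul, isoV_apply, Pi.single_apply]
  by_cases hk : k = l
  · have hk' : k ≠ l' := fun h => hll' (by rw [← hk, h])
    simp only [if_pos hk, if_neg hk']
    field_simp
    ring
  · simp only [if_neg hk]
    by_cases hk' : k = l'
    · simp only [if_pos hk']
      field_simp
      ring
    · simp only [if_neg hk']
      ring

/-- A matrix mapping every rational isotropic point to a rational point is rational up to a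
scalar. -/
theorem su_rat_points_matrix (hfr : SuFrame n q F₀ ix ε ω s) (g : GL (Fin n) F)
    (h : ∀ v : Fin n → F, ratV F₀ v → v ≠ 0 → hermForm n F q v v = 0 →
      ∃ ζ : F, ζ ≠ 0 ∧ ratV F₀ (ζ • ((g : Matrix (Fin n) (Fin n) F) *ᵥ v))) :
    ∃ ζ : F, ζ ≠ 0 ∧ ∀ k l, ζ * (g : Matrix (Fin n) (Fin n) F) k l ∈ F₀ := by
  have h01 : ix 0 ≠ ix 1 := hfr.inj.ne (by decide)
  obtain ⟨E₀, hE₀⟩ : ∃ E₀ : Fin n → F, E₀ = isoV (ix 0) (ix 1) ε := ⟨_, rfl⟩
  have hE₀r : ratV F₀ E₀ := by rw [hE₀]; exact ratV_isoV F₀ _ _ hfr.hε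
  have hE₀0 : E₀ ≠ 0 := by rw [hE₀]; exact isoV_ne_zero _ _ h01 ε
  have hE₀i : hermForm n F q E₀ E₀ = 0 := by
    rw [hE₀]; exact herm_isoV_self hF n _ _ h01 ε hfr.hεn
  have hE₀c : E₀ (ix 0) = 1 := by
    rw [hE₀, isoV_apply]
    simp [h01]
  obtain ⟨ζ₀, hζ₀0, hζ₀⟩ := h E₀ hE₀r hE₀0 hE₀i
  have pair : ∀ v : Fin n → F, ratV F₀ v → v ≠ 0 → hermForm n F q v v = 0 →
      ratV F₀ (ζ₀ • ((g : Matrix (Fin n) (Fin n) F) *ᵥ v)) := by
    intro v hv hv0 hvv
    by_cases hdep : ∃ a : F, v = a • E₀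
    · obtain ⟨a, rfl⟩ := hdep
      have ha : a ∈ F₀ := by
        have h1 := hv (ix 0)
        rwa [Pi.smul_apply, hE₀c, smul_eq_mul, mul_one] at h1
      rw [Matrix.mulVec_smul, smul_comm]
      exact ratV_smul ha hζ₀
    · have hind : ∀ a b : F, a • E₀ + b • v = 0 → a = 0 ∧ b = 0 := by
        intro a b hab
        have hb : b = 0 := by
          by_contra hb
          apply hdep
          refine ⟨-a / b, ?_⟩
          have h1 : b • v = -(a • E₀) := eq_neg_of_add_eq_zero_right hab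
          calc v = b⁻¹ • (b • v) := by rw [smul_smul, inv_mul_cancel₀ hb, one_smul]
            _ = (-a / b) • E₀ := by
              rw [h1, smul_neg, smul_smul, ← neg_smul]
              congr 1
              field_simp
        rw [hb, zero_smul, add_zero] at hab
        exact ⟨(smul_eq_zero.mp hab).resolve_right hE₀0, hb⟩
      obtain ⟨c, hc, hc0, hciso⟩ := exists_iso_combo hF hfr E₀ v hE₀r hv hE₀i hvv
      have hv'0 : E₀ + c • v ≠ 0 := by
        intro h0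
        have h1 := hind 1 c (by rw [one_smul]; exact h0)
        exact one_ne_zero h1.1
      obtain ⟨ζ, hζ0, hζ⟩ := h (E₀ + c • v) (ratV_add hE₀r (ratV_smul hc hv)) hv'0 hciso
      obtain ⟨ζv, hζv0, hζv⟩ := h v hv hv0 hvv
      have hind2 : ∀ a b : F, a • (ζ₀ • ((g : Matrix (Fin n) (Fin n) F) *ᵥ E₀)) +
          b • (ζv • ((g : Matrix (Fin n) (Fin n) F) *ᵥ v)) = 0 → a = 0 ∧ b = 0 := by
        intro a b hab
        have h1 : (g : Matrix (Fin n) (Fin n) F) *ᵥ ((a * ζ₀) • E₀ + (b * ζv) • v) = 0 := by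
          rw [Matrix.mulVec_add, Matrix.mulVec_smul, Matrix.mulVec_smul, ← hab, smul_smul,
            smul_smul]
        have h2 := hind _ _ (gl_mulVec_eq_zero g _ h1)
        exact ⟨(mul_eq_zero.mp h2.1).resolve_right hζ₀0,
          (mul_eq_zero.mp h2.2).resolve_right hζv0⟩
      have h5 : ratV F₀ ((ζ / ζ₀) • (ζ₀ • ((g : Matrix (Fin n) (Fin n) F) *ᵥ E₀)) +
          (ζ * c / ζv) • (ζv • ((g : Matrix (Fin n) (Fin n) F) *ᵥ v))) := by
        have e : (ζ / ζ₀) • (ζ₀ • ((g : Matrix (Fin n) (Fin n) F) *ᵥ E₀)) +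
            (ζ * c / ζv) • (ζv • ((g : Matrix (Fin n) (Fin n) F) *ᵥ v)) =
            ζ • ((g : Matrix (Fin n) (Fin n) F) *ᵥ (E₀ + c • v)) := by
          rw [Matrix.mulVec_add, Matrix.mulVec_smul, smul_add, smul_smul, smul_smul, smul_smul,
            div_mul_cancel₀ _ hζ₀0, div_mul_cancel₀ _ hζv0]
        rw [e]
        exact hζ
      obtain ⟨ha, hb⟩ := rat_two_coeff F₀ _ _ hζ₀ hζv hind2 _ _ h5
      have h6 : ζ₀ / ζv ∈ F₀ := by
        have h7 := F₀.div_mem (F₀.div_mem hb ha) hc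
        have e : ζ * c / ζv / (ζ / ζ₀) / c = ζ₀ / ζv := by
          field_simp
        rwa [e] at h7
      have e2 : ζ₀ • ((g : Matrix (Fin n) (Fin n) F) *ᵥ v) =
          (ζ₀ / ζv) • (ζv • ((g : Matrix (Fin n) (Fin n) F) *ᵥ v)) := by
        rw [smul_smul, div_mul_cancel₀ _ hζv0]
      rw [e2]
      exact ratV_smul h6 hζv
  refine ⟨ζ₀, hζ₀0, fun k l => ?_⟩
  obtain ⟨l', hl'⟩ : ∃ l' : Fin n, l ≠ l' := by
    by_cases hl : l = ix 0
    · exact ⟨ix 1, by rw [hl]; exact h01⟩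
    · exact ⟨ix 0, hl⟩
  have hz₁ := pair (isoV l l' ε) (ratV_isoV F₀ _ _ hfr.hε) (isoV_ne_zero _ _ hl' ε)
    (herm_isoV_self hF n _ _ hl' ε hfr.hεn)
  have hz₂ := pair (isoV l l' (ε * ω)) (ratV_isoV F₀ _ _ (F₀.mul_mem hfr.hε hfr.hω))
    (isoV_ne_zero _ _ hl' _) (herm_isoV_self hF n _ _ hl' _ hfr.εω_norm)
  have h1 : ratV F₀ (ζ₀ • ((g : Matrix (Fin n) (Fin n) F) *ᵥ Pi.single l 1)) := by
    rw [single_from_iso hfr l l' hl', Matrix.mulVec_smul, Matrix.mulVec_sub, Matrix.mulVec_smul,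
      smul_comm, smul_sub, smul_comm ζ₀ ω]
    exact ratV_smul (F₀.inv_mem (F₀.sub_mem hfr.hω F₀.one_mem))
      (ratV_sub (ratV_smul hfr.hω hz₁) hz₂)
  have h2 := h1 k
  rwa [Pi.smul_apply, sf_mulVec_single, smul_eq_mul] at h2

end

end Cfsg.Agent.Lib.helper95
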