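import Mathlib
import Cfsg.Prelude.Def_GeometricClasses
import Cfsg.Agent.Lib.helper95.SubfieldSU2

/-!
Overgroups of the rational special unitary group in which the short root elements at rational
centres have rational parameters: every such overgroup consists of matrices that are rational up
to a scalar.
-/

set_option autoImplicit false

namespace Cfsg.Agent.Lib.helper95

open Matrix Cfsg Cfsg.Geo Cfsg.Agent.Lib.helper17

section
variable {F : Type*} [Field F]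

/-- The data: `M` lies between the rational special unitary group and the special unitary group,
and the short root elements of `M` at the first two standard vectors have rational parameters. -/
structure SuSubfData (n q : ℕ) (F₀ : Subfield F) (M : Subgroup (GL (Fin n) F))
    (ix : Fin 7 → Fin n) (ε ω s : F) : Prop where
  fr : SuFrame n q F₀ ix ε ω s
  le : M ≤ GU n F q ⊓ specialLinear (Fin n) F
  rat : ratSU n q F₀ ≤ M
  elem : ∀ c : F, uE n q (isoV (ix 0) (ix 1) ε) (c • isoV (ix 2) (ix 3) ε) 0 ∈ M → c ∈ F₀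

variable {n q : ℕ} {F₀ : Subfield F} {M : Subgroup (GL (Fin n) F)} {ix : Fin 7 → Fin n}
  {ε ω s : F}

theorem su_conj_mem (hD : SuSubfData n q F₀ M ix ε ω s) (g : GL (Fin n) F)
    (hg : g ∈ ratSU n q F₀) {x : GL (Fin n) F} (hx : x ∈ M) : g * x * g⁻¹ ∈ M :=
  M.mul_mem (M.mul_mem (hD.rat hg) hx) (M.inv_mem (hD.rat hg))

end

section
variable {F : Type*} [Field F] [Fintype F] {q : ℕ} (hF : Fintype.card F = q ^ 2)
include hF
variable {n : ℕ} {F₀ : Subfield F} {M : Subgroup (GL (Fin n) F)} {ix : Fin 7 → Fin n}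
  {ε ω s : F}

theorem herm_isoV_same (a b : Fin n) (hab : a ≠ b) (e e' : F) :
    hermForm n F q (isoV a b e) (isoV a b e') = 1 + e * e' ^ q := by
  rw [herm_isoV_right hF, isoV_apply, isoV_apply]
  simp only [if_true, if_neg hab, if_neg hab.symm, mul_zero, add_zero, mul_one, zero_add]
  ring

/-- Short root elements of `M` at rational centres have rational parameters. -/
theorem su_pure (hD : SuSubfData n q F₀ M ix ε ω s) (u y : Fin n → F) (hu : ratV F₀ u)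
    (hy : ratV F₀ y) (huu : hermForm n F q u u = 0) (hyy : hermForm n F q y y = 0)
    (hyu : hermForm n F q y u = 0)
    (hind : ∀ a b : F, a • u + b • y = 0 → a = 0 ∧ b = 0) (c : F)
    (h : uE n q u (c • y) 0 ∈ M) : c ∈ F₀ := by
  obtain ⟨g, hg, hgu, hgy⟩ := rat_su_to_std2 hF hD.fr u y hu hy huu hyy hyu hind
  have h1 := su_conj_mem hD g hg h
  rw [Cfsg.Agent.Lib.helper49.uE_conj hF n g hg.2.1 u (c • y) 0 huu
    (by rw [hermForm_smul_left, hyu, mul_zero]), hgu, Matrix.mulVec_smul, hgy] at h1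
  exact hD.elem c h1

/-- Transvections of `M` at rational centres have rational parameters. -/
theorem su_star (hD : SuSubfData n q F₀ M ix ε ω s) (u : Fin n → F) (hu : ratV F₀ u)
    (hu0 : u ≠ 0) (huu : hermForm n F q u u = 0) (t : F) (ht : t + t ^ q = 0)
    (h : uE n q u 0 t ∈ M) : t ∈ F₀ := by
  have hfr := hD.fr
  have h01 : ix 0 ≠ ix 1 := hfr.inj.ne (by decide)
  have h23 : ix 2 ≠ ix 3 := hfr.inj.ne (by decide)
  obtain ⟨E₀, hE₀⟩ : ∃ E₀ : Fin n → F, E₀ = isoV (ix 0) (ix 1) ε := ⟨_, rfl⟩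
  obtain ⟨E₁, hE₁⟩ : ∃ E₁ : Fin n → F, E₁ = isoV (ix 2) (ix 3) ε := ⟨_, rfl⟩
  have hE₀r : ratV F₀ E₀ := by rw [hE₀]; exact ratV_isoV F₀ _ _ hfr.hε
  have hE₁r : ratV F₀ E₁ := by rw [hE₁]; exact ratV_isoV F₀ _ _ hfr.hε
  have hE₀i : hermForm n F q E₀ E₀ = 0 := by
    rw [hE₀]; exact herm_isoV_self hF n _ _ h01 ε hfr.hεn
  have hE₁i : hermForm n F q E₁ E₁ = 0 := by
    rw [hE₁]; exact herm_isoV_self hF n _ _ h23 ε hfr.hεn
  have hE₁E₀ : hermForm n F q E₁ E₀ = 0 := by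
    rw [hE₀, hE₁]
    exact herm_isoV_disj hF n _ _ _ _ (hfr.inj.ne (by decide)) (hfr.inj.ne (by decide))
      (hfr.inj.ne (by decide)) (hfr.inj.ne (by decide)) ε ε
  have hE₀E₁ : hermForm n F q E₀ E₁ = 0 := hermForm_swap_zero hF n _ _ hE₁E₀
  have hE₀0 : E₀ ≠ 0 := by rw [hE₀]; exact isoV_ne_zero _ _ h01 ε
  have hE₁0 : E₁ ≠ 0 := by rw [hE₁]; exact isoV_ne_zero _ _ h23 ε
  have move : ∀ v : Fin n → F, ratV F₀ v → v ≠ 0 → hermForm n F q v v = 0 →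
      uE n q v 0 t ∈ M := by
    intro v hv hv0 hvv
    obtain ⟨g, hg, hgu⟩ := rat_su_trans hF hfr u v hu hv hu0 hv0 huu hvv
    have h1 := su_conj_mem hD g hg h
    rwa [uT_conj hF n g hg.2.1 u t huu, hgu] at h1
  have h0 := move E₀ hE₀r hE₀0 hE₀i
  have h1 := move E₁ hE₁r hE₁0 hE₁i
  have hsum0 : E₁ + (1 : F) • E₀ ≠ 0 := by
    intro h2
    have h3 : (1 : F) • E₁ + (1 : F) • E₀ = 0 := by rw [one_smul]; exact h2
    rw [hE₀, hE₁] at h3
    have h4 := isoV_pair_indep _ _ _ _ h23 h01 (hfr.inj.ne (by decide)) (hfr.inj.ne (by decide))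
      (hfr.inj.ne (by decide)) ε ε 1 1 h3
    exact one_ne_zero h4.1
  have hsumi : hermForm n F q (E₁ + (1 : F) • E₀) (E₁ + (1 : F) • E₀) = 0 := by
    rw [hermForm_add_left, hermForm_add_right hF, hermForm_add_right hF, hermForm_smul_left,
      hermForm_smul_left, hermForm_smul_right, hermForm_smul_right, hE₀i, hE₁i, hE₁E₀, hE₀E₁]
    ring
  have h01' := move (E₁ + (1 : F) • E₀) (ratV_add hE₁r (ratV_smul F₀.one_mem hE₀r)) hsum0 hsumi
  rw [uT_add_eq' hF n E₁ E₀ 1 t hE₁i hE₀i hE₁E₀ ht] at h01'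
  have h2 : uE n q E₀ ((t * 1 ^ q) • E₁) (t * 1 * 1 ^ q) ∈ M := by
    have h3 := M.mul_mem (M.inv_mem h1) h01'
    rwa [inv_mul_cancel_left] at h3
  rw [one_pow, mul_one, mul_one] at h2
  have h3 : uE n q E₀ (t • E₁) 0 ∈ M := by
    have e : uE n q E₀ (t • E₁) t = uE n q E₀ (t • E₁) 0 * uE n q E₀ 0 t := by
      rw [Cfsg.Agent.Lib.helper49.uE_mul hF n E₀ (t • E₁) 0 0 t hE₀i
        (by rw [hermForm_smul_left, hE₁E₀, mul_zero]) (hermForm_zero_left n q E₀), add_zero,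
        hermForm_zero_left, zero_add, sub_zero]
    rw [e] at h2
    have h4 := M.mul_mem h2 (M.inv_mem h0)
    rwa [mul_inv_cancel_right] at h4
  rw [hE₀, hE₁] at h3
  exact hD.elem t h3

/-- Heisenberg-type elements of `M` at rational centres have rational short-root part. -/
theorem su_PT (hD : SuSubfData n q F₀ M ix ε ω s) (u y : Fin n → F) (hu : ratV F₀ u)
    (hy : ratV F₀ y) (huu : hermForm n F q u u = 0) (hyy : hermForm n F q y y = 0)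
    (hyu : hermForm n F q y u = 0)
    (hind : ∀ a b : F, a • u + b • y = 0 → a = 0 ∧ b = 0) (c β : F)
    (h : uE n q u (c • y) β ∈ M) : c ∈ F₀ := by
  have hfr := hD.fr
  have hq2 := two_le_of_card_eq_sq hF
  have h01 : ix 0 ≠ ix 1 := hfr.inj.ne (by decide)
  have h23 : ix 2 ≠ ix 3 := hfr.inj.ne (by decide)
  have h45 : ix 4 ≠ ix 5 := hfr.inj.ne (by decide)
  obtain ⟨g, hg, hgu, hgy⟩ := rat_su_to_std2 hF hfr u y hu hy huu hyy hyu hind
  have h1 := su_conj_mem hD g hg h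
  rw [Cfsg.Agent.Lib.helper49.uE_conj hF n g hg.2.1 u (c • y) β huu
    (by rw [hermForm_smul_left, hyu, mul_zero]), hgu, Matrix.mulVec_smul, hgy] at h1
  obtain ⟨E₀, hE₀⟩ : ∃ E₀ : Fin n → F, E₀ = isoV (ix 0) (ix 1) ε := ⟨_, rfl⟩
  obtain ⟨E₁, hE₁⟩ : ∃ E₁ : Fin n → F, E₁ = isoV (ix 2) (ix 3) ε := ⟨_, rfl⟩
  obtain ⟨E₂, hE₂⟩ : ∃ E₂ : Fin n → F, E₂ = isoV (ix 4) (ix 5) ε := ⟨_, rfl⟩
  obtain ⟨F₁, hF₁⟩ : ∃ F₁ : Fin n → F, F₁ = isoV (ix 2) (ix 3) (ε * ω) := ⟨_, rfl⟩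
  rw [← hE₀, ← hE₁] at h1
  have hE₀r : ratV F₀ E₀ := by rw [hE₀]; exact ratV_isoV F₀ _ _ hfr.hε
  have hE₂r : ratV F₀ E₂ := by rw [hE₂]; exact ratV_isoV F₀ _ _ hfr.hε
  have hF₁r : ratV F₀ F₁ := by rw [hF₁]; exact ratV_isoV F₀ _ _ (F₀.mul_mem hfr.hε hfr.hω)
  have hE₀i : hermForm n F q E₀ E₀ = 0 := by
    rw [hE₀]; exact herm_isoV_self hF n _ _ h01 ε hfr.hεn
  have hE₁i : hermForm n F q E₁ E₁ = 0 := by
    rw [hE₁]; exact herm_isoV_self hF n _ _ h23 ε hfr.hεn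
  have hE₂i : hermForm n F q E₂ E₂ = 0 := by
    rw [hE₂]; exact herm_isoV_self hF n _ _ h45 ε hfr.hεn
  have hF₁i : hermForm n F q F₁ F₁ = 0 := by
    rw [hF₁]; exact herm_isoV_self hF n _ _ h23 _ hfr.εω_norm
  have hE₁E₀ : hermForm n F q E₁ E₀ = 0 := by
    rw [hE₀, hE₁]
    exact herm_isoV_disj hF n _ _ _ _ (hfr.inj.ne (by decide)) (hfr.inj.ne (by decide))
      (hfr.inj.ne (by decide)) (hfr.inj.ne (by decide)) ε ε
  have hE₂E₀ : hermForm n F q E₂ E₀ = 0 := by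
    rw [hE₀, hE₂]
    exact herm_isoV_disj hF n _ _ _ _ (hfr.inj.ne (by decide)) (hfr.inj.ne (by decide))
      (hfr.inj.ne (by decide)) (hfr.inj.ne (by decide)) ε ε
  have hE₀E₂ : hermForm n F q E₀ E₂ = 0 := hermForm_swap_zero hF n _ _ hE₂E₀
  have hE₁E₂ : hermForm n F q E₁ E₂ = 0 := by
    rw [hE₁, hE₂]
    exact herm_isoV_disj hF n _ _ _ _ (hfr.inj.ne (by decide)) (hfr.inj.ne (by decide))
      (hfr.inj.ne (by decide)) (hfr.inj.ne (by decide)) ε ε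
  have hF₁E₂ : hermForm n F q F₁ E₂ = 0 := by
    rw [hF₁, hE₂]
    exact herm_isoV_disj hF n _ _ _ _ (hfr.inj.ne (by decide)) (hfr.inj.ne (by decide))
      (hfr.inj.ne (by decide)) (hfr.inj.ne (by decide)) _ ε
  have hE₀F₁ : hermForm n F q E₀ F₁ = 0 := by
    rw [hE₀, hF₁]
    exact herm_isoV_disj hF n _ _ _ _ (hfr.inj.ne (by decide)) (hfr.inj.ne (by decide))
      (hfr.inj.ne (by decide)) (hfr.inj.ne (by decide)) ε _
  have hE₁F₁ : hermForm n F q E₁ F₁ = 1 - ω ^ q := by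
    rw [hE₁, hF₁, herm_isoV_same hF _ _ h23, mul_pow]
    linear_combination (ω ^ q) * hfr.hεn
  obtain ⟨θ, hθ⟩ : ∃ θ : F, θ = ω ^ q - 1 := ⟨_, rfl⟩
  have hθr : θ ∈ F₀ := by rw [hθ]; exact F₀.sub_mem (F₀.pow_mem hfr.hω q) F₀.one_mem
  have hθ0 : θ ≠ 0 := by rw [hθ]; exact sub_ne_zero.mpr (hfr.ωq_ne hF)
  have hk : uE n q E₂ F₁ 0 ∈ ratSU n q F₀ :=
    uE_rat_mem hF n F₀ E₂ F₁ 0 hE₂r hF₁r F₀.zero_mem hE₂i hF₁E₂
      (by rw [zero_pow (by omega), add_zero, zero_add, hF₁i])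
  have hk0 : ((uE n q E₂ F₁ 0 : GL (Fin n) F) : Matrix (Fin n) (Fin n) F) *ᵥ E₀ = E₀ := by
    rw [uE_mulVec hF n E₂ F₁ 0 hE₂i hF₁E₂, hE₀E₂, hE₀F₁, zero_smul, zero_smul, mul_zero,
      zero_smul, add_zero, sub_zero, add_zero]
  have hk1 : ((uE n q E₂ F₁ 0 : GL (Fin n) F) : Matrix (Fin n) (Fin n) F) *ᵥ E₁ =
      E₁ + θ • E₂ := by
    rw [uE_mulVec hF n E₂ F₁ 0 hE₂i hF₁E₂, hE₁E₂, hE₁F₁, zero_smul, mul_zero, zero_smul,
      add_zero, add_zero, hθ]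
    module
  have hcE₁E₀ : hermForm n F q (c • E₁) E₀ = 0 := by rw [hermForm_smul_left, hE₁E₀, mul_zero]
  have h2 := su_conj_mem hD _ hk h1
  rw [Cfsg.Agent.Lib.helper49.uE_conj hF n _ hk.2.1 E₀ (c • E₁) β hE₀i hcE₁E₀, hk0,
    Matrix.mulVec_smul, hk1] at h2
  have h3 := M.mul_mem h2 (M.inv_mem h1)
  rw [uE_inv' hF n E₀ (c • E₁) β hE₀i hcE₁E₀,
    Cfsg.Agent.Lib.helper49.uE_mul hF n E₀ _ _ _ _ hE₀i
      (by rw [hermForm_smul_left, hermForm_add_left, hE₁E₀, hermForm_smul_left, hE₂E₀, mul_zero,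
        add_zero, mul_zero])
      (by rw [hermForm_neg_left, hcE₁E₀, neg_zero])] at h3
  have ev : c • (E₁ + θ • E₂) + -(c • E₁) = (c * θ) • E₂ := by module
  have eτ : β + (-β - hermForm n F q (c • E₁) (c • E₁)) -
      hermForm n F q (-(c • E₁)) (c • (E₁ + θ • E₂)) = 0 := by
    simp only [hermForm_neg_left, hermForm_smul_left, hermForm_smul_right, hermForm_add_right hF,
      hE₁i, hE₁E₂]
    ring
  rw [ev, eτ] at h3
  have hind2 : ∀ a b : F, a • E₀ + b • E₂ = 0 → a = 0 ∧ b = 0 := by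
    rw [hE₀, hE₂]
    exact isoV_pair_indep _ _ _ _ h01 h45 (hfr.inj.ne (by decide)) (hfr.inj.ne (by decide))
      (hfr.inj.ne (by decide)) ε ε
  have h4 := su_pure hF hD E₀ E₂ hE₀r hE₂r hE₀i hE₂i hE₂E₀ hind2 (c * θ) h3
  have h5 := F₀.div_mem h4 hθr
  rwa [mul_div_cancel_right₀ _ hθ0] at h5

/-- A transvection of `M` whose centre is orthogonal to a rational isotropic vector `u`: the
products `t₀ h(w,y)^q h(w,z)` are rational for rational isotropic `y, z` orthogonal to `u`. -/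
theorem su_B1 (hD : SuSubfData n q F₀ M ix ε ω s) (w : Fin n → F) (t₀ : F)
    (hww : hermForm n F q w w = 0) (ht₀ : t₀ + t₀ ^ q = 0) (hT : uE n q w 0 t₀ ∈ M)
    (u y z : Fin n → F) (hu : ratV F₀ u) (hy : ratV F₀ y) (hz : ratV F₀ z)
    (huu : hermForm n F q u u = 0) (hyy : hermForm n F q y y = 0)
    (hzz : hermForm n F q z z = 0) (hwu : hermForm n F q w u = 0)
    (hyu : hermForm n F q y u = 0) (hzu : hermForm n F q z u = 0)
    (hind : ∀ a b : F, a • u + b • z = 0 → a = 0 ∧ b = 0) :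
    t₀ * hermForm n F q w y ^ q * hermForm n F q w z ∈ F₀ := by
  have hfr := hD.fr
  have hq2 := two_le_of_card_eq_sq hF
  have huz := hermForm_swap_zero hF n z u hzu
  obtain ⟨cy, hcy⟩ : ∃ cy, cy = hermForm n F q w y := ⟨_, rfl⟩
  obtain ⟨cz, hcz⟩ : ∃ cz, cz = hermForm n F q w z := ⟨_, rfl⟩
  rw [← hcy, ← hcz]
  have hg₁ : uE n q u y 0 ∈ ratSU n q F₀ :=
    uE_rat_mem hF n F₀ u y 0 hu hy F₀.zero_mem huu hyu
      (by rw [zero_pow (by omega), add_zero, zero_add, hyy])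
  have e1 : ((uE n q u y 0 : GL (Fin n) F) : Matrix (Fin n) (Fin n) F) *ᵥ w =
      w + (-cy) • u := by
    rw [uE_mulVec hF n u y 0 huu hyu, hwu, zero_smul, add_zero, mul_zero, zero_smul, add_zero,
      hcy, sub_eq_add_neg, neg_smul]
  have h1 := su_conj_mem hD _ hg₁ hT
  rw [uT_conj hF n _ hg₁.2.1 w t₀ hww, e1, uT_add_eq' hF n w u (-cy) t₀ hww huu hwu ht₀] at h1
  obtain ⟨κ, hκ⟩ : ∃ κ, κ = t₀ * (-cy) ^ q := ⟨_, rfl⟩
  obtain ⟨τ, hτ⟩ : ∃ τ, τ = t₀ * (-cy) * (-cy) ^ q := ⟨_, rfl⟩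
  rw [← hκ, ← hτ] at h1
  have h2 : uE n q u (κ • w) τ ∈ M := by
    have h3 := M.mul_mem (M.inv_mem hT) h1
    rwa [inv_mul_cancel_left] at h3
  have hk : uE n q z 0 s ∈ ratSU n q F₀ :=
    uE_rat_mem hF n F₀ z 0 s hz (ratV_zero F₀) hfr.hs hzz (hermForm_zero_left n q z)
      (by rw [hermForm_zero_left, add_zero]; exact hfr.hst)
  have e2 : ((uE n q z 0 s : GL (Fin n) F) : Matrix (Fin n) (Fin n) F) *ᵥ u = u := by
    rw [uT_mulVec hF n z s hzz, huz, mul_zero, zero_smul, add_zero]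
  have e3 : ((uE n q z 0 s : GL (Fin n) F) : Matrix (Fin n) (Fin n) F) *ᵥ (κ • w) =
      κ • w + (κ * s * cz) • z := by
    rw [Matrix.mulVec_smul, uT_mulVec hF n z s hzz, smul_add, smul_smul, hcz, mul_assoc]
  have hκu : hermForm n F q (κ • w) u = 0 := by rw [hermForm_smul_left, hwu, mul_zero]
  have h3 := su_conj_mem hD _ hk h2
  rw [Cfsg.Agent.Lib.helper49.uE_conj hF n _ hk.2.1 u (κ • w) τ huu hκu, e2, e3] at h3
  have h4 := M.mul_mem h3 (M.inv_mem h2)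
  rw [uE_inv' hF n u (κ • w) τ huu hκu,
    Cfsg.Agent.Lib.helper49.uE_mul hF n u _ _ _ _ huu
      (by rw [hermForm_add_left, hκu, hermForm_smul_left, hzu, mul_zero, add_zero])
      (by rw [hermForm_neg_left, hκu, neg_zero])] at h4
  have ev : κ • w + (κ * s * cz) • z + -(κ • w) = (κ * s * cz) • z := by module
  rw [ev] at h4
  have h5 := su_PT hF hD u z hu hz huu hzz hzu hind _ _ h4
  have h6 := F₀.div_mem h5 (F₀.neg_mem hfr.hs)
  have e : κ * s * cz / (-s) = t₀ * cy ^ q * cz := by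
    rw [hκ, neg_pow_q hF]
    have := hfr.hs0
    field_simp
  rwa [e] at h6

/-- A transvection of `M` whose centre is orthogonal to the first standard vector has a centre
that is rational up to a scalar. -/
theorem su_B_std (hD : SuSubfData n q F₀ M ix ε ω s) (w : Fin n → F) (hw0 : w ≠ 0)
    (hww : hermForm n F q w w = 0) (t₀ : F) (ht₀0 : t₀ ≠ 0) (ht₀ : t₀ + t₀ ^ q = 0)
    (hT : uE n q w 0 t₀ ∈ M) (hwu : hermForm n F q w (isoV (ix 0) (ix 1) ε) = 0) :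
    ∃ c : F, c ≠ 0 ∧ ratV F₀ (c • w) := by
  have hfr := hD.fr
  have hn := hfr.seven_le
  have hq2 := two_le_of_card_eq_sq hF
  have h01 : ix 0 ≠ ix 1 := hfr.inj.ne (by decide)
  obtain ⟨E₀, hE₀⟩ : ∃ E₀ : Fin n → F, E₀ = isoV (ix 0) (ix 1) ε := ⟨_, rfl⟩
  rw [← hE₀] at hwu
  have hE₀r : ratV F₀ E₀ := by rw [hE₀]; exact ratV_isoV F₀ _ _ hfr.hε
  have hE₀i : hermForm n F q E₀ E₀ = 0 := by
    rw [hE₀]; exact herm_isoV_self hF n _ _ h01 ε hfr.hεn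
  have hE₀0 : E₀ (ix 0) = 1 := by
    rw [hE₀, isoV_apply]
    simp [h01]
  have hE₀1 : E₀ (ix 1) = ε := by
    rw [hE₀, isoV_apply]
    simp [h01.symm]
  have hE₀l : ∀ l, l ≠ ix 0 → l ≠ ix 1 → E₀ l = 0 := by
    intro l h0 h1
    rw [hE₀, isoV_apply]
    simp [h0, h1]
  have hε0 : ε ≠ 0 := by
    intro h
    have h1 := hfr.hεn
    rw [h, zero_mul] at h1
    exact one_ne_zero (neg_eq_zero.mp h1.symm)
  have hw01 : w (ix 0) + ε ^ q * w (ix 1) = 0 := by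
    rw [hE₀, herm_isoV_right hF] at hwu
    exact hwu
  have hωq : ω ^ q ∈ F₀ := F₀.pow_mem hfr.hω q
  have hωq1 : ω ^ q - 1 ≠ 0 := sub_ne_zero.mpr (hfr.ωq_ne hF)
  have stepB : ∀ (l l' m m' : Fin n) (e e' : F), l ≠ ix 0 → l ≠ ix 1 → l' ≠ ix 0 → l' ≠ ix 1 →
      l ≠ l' → e ∈ F₀ → e * e ^ q = -1 → m ≠ ix 0 → m ≠ ix 1 → m' ≠ ix 0 → m' ≠ ix 1 →
      m ≠ m' → e' ∈ F₀ → e' * e' ^ q = -1 →
      t₀ * hermForm n F q w (isoV l l' e) ^ q * hermForm n F q w (isoV m m' e') ∈ F₀ := by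
    intro l l' m m' e e' hl0 hl1 hl'0 hl'1 hll' he hen hm0 hm1 hm'0 hm'1 hmm' he' he'n
    refine su_B1 hF hD w t₀ hww ht₀ hT E₀ (isoV l l' e) (isoV m m' e') hE₀r
      (ratV_isoV F₀ _ _ he) (ratV_isoV F₀ _ _ he') hE₀i (herm_isoV_self hF n _ _ hll' e hen)
      (herm_isoV_self hF n _ _ hmm' e' he'n) hwu ?_ ?_ ?_
    · rw [hE₀]
      exact herm_isoV_disj hF n _ _ _ _ hl0 hl1 hl'0 hl'1 e ε
    · rw [hE₀]
      exact herm_isoV_disj hF n _ _ _ _ hm0 hm1 hm'0 hm'1 e' ε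
    · rw [hE₀]
      exact isoV_pair_indep _ _ _ _ h01 hmm' hm0.symm hm'0.symm hm1.symm ε e'
  have stepA : ∀ (l l' m : Fin n) (e : F), l ≠ ix 0 → l ≠ ix 1 → l' ≠ ix 0 → l' ≠ ix 1 →
      l ≠ l' → e ∈ F₀ → e * e ^ q = -1 → m ≠ ix 0 → m ≠ ix 1 →
      t₀ * hermForm n F q w (isoV l l' e) ^ q * w m ∈ F₀ := by
    intro l l' m e hl0 hl1 hl'0 hl'1 hll' he hen hm0 hm1
    obtain ⟨m', hm'0, hm'1, hm'm⟩ := exists_ne_three (by omega : 4 ≤ n) (ix 0) (ix 1) m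
    have hA1 := stepB l l' m m' e ε hl0 hl1 hl'0 hl'1 hll' he hen hm0 hm1 hm'0 hm'1
      (Ne.symm hm'm) hfr.hε hfr.hεn
    have hA2 := stepB l l' m m' e (ε * ω) hl0 hl1 hl'0 hl'1 hll' he hen hm0 hm1 hm'0 hm'1
      (Ne.symm hm'm) (F₀.mul_mem hfr.hε hfr.hω) hfr.εω_norm
    have e0 := coord_from_iso hF hfr w m m'
    obtain ⟨Y, hY⟩ : ∃ Y, Y = hermForm n F q w (isoV l l' e) := ⟨_, rfl⟩
    obtain ⟨H₁, hH₁⟩ : ∃ H₁, H₁ = hermForm n F q w (isoV m m' ε) := ⟨_, rfl⟩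
    obtain ⟨H₂, hH₂⟩ : ∃ H₂, H₂ = hermForm n F q w (isoV m m' (ε * ω)) := ⟨_, rfl⟩
    rw [← hY, ← hH₁] at hA1
    rw [← hY, ← hH₂] at hA2
    rw [← hH₁, ← hH₂] at e0
    rw [← hY, e0]
    have e1 : t₀ * Y ^ q * ((ω ^ q - 1)⁻¹ * (ω ^ q * H₁ - H₂)) =
        (ω ^ q - 1)⁻¹ * (ω ^ q * (t₀ * Y ^ q * H₁) - t₀ * Y ^ q * H₂) := by ring
    rw [e1]
    exact F₀.mul_mem (F₀.inv_mem (F₀.sub_mem hωq F₀.one_mem))
      (F₀.sub_mem (F₀.mul_mem hωq hA1) hA2)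
  have step1 : ∀ l m : Fin n, l ≠ ix 0 → l ≠ ix 1 → m ≠ ix 0 → m ≠ ix 1 →
      t₀ * w l ^ q * w m ∈ F₀ := by
    intro l m hl0 hl1 hm0 hm1
    obtain ⟨l', hl'0, hl'1, hl'l⟩ := exists_ne_three (by omega : 4 ≤ n) (ix 0) (ix 1) l
    have hB1 := stepA l l' m ε hl0 hl1 hl'0 hl'1 (Ne.symm hl'l) hfr.hε hfr.hεn hm0 hm1
    have hB2 := stepA l l' m (ε * ω) hl0 hl1 hl'0 hl'1 (Ne.symm hl'l)
      (F₀.mul_mem hfr.hε hfr.hω) hfr.εω_norm hm0 hm1
    have e0 := coord_from_iso hF hfr w l l'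
    obtain ⟨H₁, hH₁⟩ : ∃ H₁, H₁ = hermForm n F q w (isoV l l' ε) := ⟨_, rfl⟩
    obtain ⟨H₂, hH₂⟩ : ∃ H₂, H₂ = hermForm n F q w (isoV l l' (ε * ω)) := ⟨_, rfl⟩
    rw [← hH₁] at hB1
    rw [← hH₂] at hB2
    rw [← hH₁, ← hH₂] at e0
    have e1 : w l ^ q = (ω - 1)⁻¹ * (ω * H₁ ^ q - H₂ ^ q) := by
      rw [e0, mul_pow, inv_pow, sub_pow_q hF, sub_pow_q hF, mul_pow, pow_q_pow_q hF, one_pow]
    rw [e1]
    have e2 : t₀ * ((ω - 1)⁻¹ * (ω * H₁ ^ q - H₂ ^ q)) * w m =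
        (ω - 1)⁻¹ * (ω * (t₀ * H₁ ^ q * w m) - t₀ * H₂ ^ q * w m) := by ring
    rw [e2]
    exact F₀.mul_mem (F₀.inv_mem (F₀.sub_mem hfr.hω F₀.one_mem))
      (F₀.sub_mem (F₀.mul_mem hfr.hω hB1) hB2)
  by_cases hall : ∀ l, l ≠ ix 0 → l ≠ ix 1 → w l = 0
  · have hw1 : w (ix 1) ≠ 0 := by
      intro h0
      apply hw0
      funext l
      by_cases hl0 : l = ix 0
      · rw [hl0]
        rw [h0, mul_zero, add_zero] at hw01
        exact hw01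
      by_cases hl1 : l = ix 1
      · rw [hl1, h0]
        rfl
      · exact hall l hl0 hl1
    refine ⟨ε / w (ix 1), div_ne_zero hε0 hw1, ?_⟩
    have e : (ε / w (ix 1)) • w = E₀ := by
      funext l
      rw [Pi.smul_apply, smul_eq_mul]
      by_cases hl0 : l = ix 0
      · rw [hl0, hE₀0]
        have h5 : w (ix 0) = -(ε ^ q * w (ix 1)) := by linear_combination hw01
        rw [h5]
        field_simp
        linear_combination -hfr.hεn
      by_cases hl1 : l = ix 1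
      · rw [hl1, hE₀1]
        field_simp
      · rw [hE₀l l hl0 hl1, hall l hl0 hl1, mul_zero]
    rw [e]
    exact hE₀r
  · push Not at hall
    obtain ⟨l₀, hl₀0, hl₀1, hwl₀⟩ := hall
    obtain ⟨c₀, hc₀⟩ : ∃ c₀, c₀ = w l₀ := ⟨_, rfl⟩
    have hc₀0 : c₀ ≠ 0 := by rw [hc₀]; exact hwl₀
    have hc₀q0 : c₀ ^ q ≠ 0 := pow_ne_zero q hc₀0
    obtain ⟨t₁, ht₁⟩ : ∃ t₁, t₁ = c₀ * c₀ ^ q * t₀ := ⟨_, rfl⟩
    have ht₁r : t₁ ∈ F₀ := by
      have h1 := step1 l₀ l₀ hl₀0 hl₀1 hl₀0 hl₀1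
      rw [← hc₀] at h1
      have e : t₁ = t₀ * c₀ ^ q * c₀ := by rw [ht₁]; ring
      rw [e]
      exact h1
    have ht₁0 : t₁ ≠ 0 := by
      rw [ht₁]
      exact mul_ne_zero (mul_ne_zero hc₀0 hc₀q0) ht₀0
    have ht₁tr : t₁ + t₁ ^ q = 0 := by
      rw [ht₁, mul_pow, mul_pow, pow_q_pow_q hF]
      linear_combination (c₀ * c₀ ^ q) * ht₀
    have hrat : ∀ l, l ≠ ix 0 → l ≠ ix 1 → w l / c₀ ∈ F₀ := by
      intro l hl0 hl1
      have h1 := step1 l₀ l hl₀0 hl₀1 hl0 hl1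
      rw [← hc₀] at h1
      have h2 := F₀.div_mem h1 ht₁r
      have e : t₀ * c₀ ^ q * w l / t₁ = w l / c₀ := by
        rw [ht₁]
        field_simp
      rwa [e] at h2
    obtain ⟨w₀, hw₀⟩ : ∃ w₀ : Fin n → F,
        w₀ = fun l => if l = ix 0 then 0 else if l = ix 1 then 0 else w l / c₀ := ⟨_, rfl⟩
    obtain ⟨lam, hlam⟩ : ∃ lam : F, lam = w (ix 1) / (ε * c₀) := ⟨_, rfl⟩
    have hw₀0 : w₀ (ix 0) = 0 := by rw [hw₀]; simp
    have hw₀1 : w₀ (ix 1) = 0 := by rw [hw₀]; simp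
    have hw₀l : ∀ l, l ≠ ix 0 → l ≠ ix 1 → w₀ l = w l / c₀ := by
      intro l h0 h1
      rw [hw₀]
      simp [h0, h1]
    have hw₀r : ratV F₀ w₀ := by
      intro l
      by_cases hl0 : l = ix 0
      · rw [hl0, hw₀0]; exact F₀.zero_mem
      by_cases hl1 : l = ix 1
      · rw [hl1, hw₀1]; exact F₀.zero_mem
      · rw [hw₀l l hl0 hl1]; exact hrat l hl0 hl1
    have hdec : c₀⁻¹ • w = w₀ + lam • E₀ := by
      funext l
      rw [Pi.add_apply, Pi.smul_apply, Pi.smul_apply, smul_eq_mul, smul_eq_mul]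
      by_cases hl0 : l = ix 0
      · rw [hl0, hw₀0, hE₀0, hlam]
        have h5 : w (ix 0) = -(ε ^ q * w (ix 1)) := by linear_combination hw01
        rw [h5]
        field_simp
        linear_combination (-(w (ix 1))) * hfr.hεn
      by_cases hl1 : l = ix 1
      · rw [hl1, hw₀1, hE₀1, hlam]
        field_simp
        ring
      · rw [hw₀l l hl0 hl1, hE₀l l hl0 hl1, mul_zero, add_zero, div_eq_inv_mul]
    have hw₀u : hermForm n F q w₀ E₀ = 0 := by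
      rw [hE₀, herm_isoV_right hF, hw₀0, hw₀1, mul_zero, add_zero]
    have hE₀w₀ : hermForm n F q E₀ w₀ = 0 := hermForm_swap_zero hF n _ _ hw₀u
    have hw₀i : hermForm n F q w₀ w₀ = 0 := by
      have h1 : hermForm n F q (c₀⁻¹ • w) (c₀⁻¹ • w) = 0 := by
        rw [hermForm_smul_left, hermForm_smul_right, hww, mul_zero, mul_zero]
      rw [hdec, hermForm_add_left, hermForm_add_right hF, hermForm_add_right hF,
        hermForm_smul_left, hermForm_smul_left, hermForm_smul_right, hermForm_smul_right, hw₀u,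
        hE₀w₀, hE₀i] at h1
      linear_combination h1
    have hw_eq : w = c₀ • (w₀ + lam • E₀) := by
      rw [← hdec, smul_smul, mul_inv_cancel₀ hc₀0, one_smul]
    have hsumi : hermForm n F q (w₀ + lam • E₀) (w₀ + lam • E₀) = 0 := by
      rw [hermForm_add_left, hermForm_add_right hF, hermForm_add_right hF, hermForm_smul_left,
        hermForm_smul_left, hermForm_smul_right, hermForm_smul_right, hw₀u, hE₀w₀, hE₀i, hw₀i]
      ring
    have hT2 : uE n q (w₀ + lam • E₀) 0 t₁ ∈ M := by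
      rw [ht₁, ← uT_smul hF n c₀ _ t₀ hsumi, ← hw_eq]
      exact hT
    rw [uT_add_eq' hF n w₀ E₀ lam t₁ hw₀i hE₀i hw₀u ht₁tr] at hT2
    have hT3 : uE n q w₀ 0 t₁ ∈ M :=
      hD.rat (uE_rat_mem hF n F₀ w₀ 0 t₁ hw₀r (ratV_zero F₀) ht₁r hw₀i
        (hermForm_zero_left n q w₀) (by rw [hermForm_zero_left, add_zero]; exact ht₁tr))
    have hQ : uE n q E₀ ((t₁ * lam ^ q) • w₀) (t₁ * lam * lam ^ q) ∈ M := by
      have h3 := M.mul_mem (M.inv_mem hT3) hT2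
      rwa [inv_mul_cancel_left] at h3
    have hw₀l₀ : w₀ l₀ = 1 := by
      rw [hw₀l l₀ hl₀0 hl₀1, ← hc₀, div_self hc₀0]
    have hind : ∀ a b : F, a • E₀ + b • w₀ = 0 → a = 0 ∧ b = 0 := by
      intro a b hab
      have h1 := congrFun hab l₀
      have h2 := congrFun hab (ix 0)
      simp only [Pi.add_apply, Pi.smul_apply, smul_eq_mul, Pi.zero_apply, hw₀l₀,
        hE₀l l₀ hl₀0 hl₀1, hw₀0, hE₀0, mul_one, mul_zero, add_zero, zero_add] at h1 h2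
      exact ⟨h2, h1⟩
    have hβ := su_PT hF hD E₀ w₀ hE₀r hw₀r hE₀i hw₀i hw₀u hind _ _ hQ
    have hlamq : lam ^ q ∈ F₀ := by
      have h3 := F₀.div_mem hβ ht₁r
      rwa [mul_div_cancel_left₀ _ ht₁0] at h3
    have hlamr : lam ∈ F₀ := by
      have h3 := F₀.pow_mem hlamq q
      rwa [pow_q_pow_q hF] at h3
    refine ⟨c₀⁻¹, inv_ne_zero hc₀0, ?_⟩
    rw [hdec]
    exact ratV_add hw₀r (ratV_smul hlamr hE₀r)

/-- A transvection of `M` whose centre is orthogonal to a non-zero rational isotropic vector has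
a centre that is rational up to a scalar. -/
theorem su_B (hD : SuSubfData n q F₀ M ix ε ω s) (w : Fin n → F) (hw0 : w ≠ 0)
    (hww : hermForm n F q w w = 0) (t₀ : F) (ht₀0 : t₀ ≠ 0) (ht₀ : t₀ + t₀ ^ q = 0)
    (hT : uE n q w 0 t₀ ∈ M) (u : Fin n → F) (hu : ratV F₀ u) (hu0 : u ≠ 0)
    (huu : hermForm n F q u u = 0) (hwu : hermForm n F q w u = 0) :
    ∃ c : F, c ≠ 0 ∧ ratV F₀ (c • w) := by
  obtain ⟨g, hg, hgu⟩ := rat_su_to_std1 hF hD.fr u hu hu0 huu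
  have hgU : g ∈ GU n F q := hg.2.1
  have h1 := su_conj_mem hD g hg hT
  rw [uT_conj hF n g hgU w t₀ hww] at h1
  have h2 : hermForm n F q ((g : Matrix (Fin n) (Fin n) F) *ᵥ w) (isoV (ix 0) (ix 1) ε) = 0 := by
    rw [← hgu, (mem_GU_iff n q g).mp hgU, hwu]
  have h3 : (g : Matrix (Fin n) (Fin n) F) *ᵥ w ≠ 0 :=
    fun h => hw0 (gl_mulVec_eq_zero g w h)
  have h4 : hermForm n F q ((g : Matrix (Fin n) (Fin n) F) *ᵥ w)
      ((g : Matrix (Fin n) (Fin n) F) *ᵥ w) = 0 := by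
    rw [(mem_GU_iff n q g).mp hgU, hww]
  obtain ⟨c, hc0, hc⟩ := su_B_std hF hD _ h3 h4 t₀ ht₀0 ht₀ h1 h2
  refine ⟨c, hc0, ?_⟩
  have h5 := ratV_mulVec_range F₀ g⁻¹ (inv_mem hg.1) _ hc
  rwa [Matrix.mulVec_smul, gl_inv_mulVec_mulVec] at h5

end

end Cfsg.Agent.Lib.helper95
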