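import Mathlib
import Cfsg.Prelude.Def_GeometricClasses
import Cfsg.Agent.Lib.helper95.SubfieldSU3

/-!
Overgroups of the rational special unitary group with rational short root parameters, continued:
elements mapping a rational isotropic point to a rational point, the Sylow step and the final
contradiction.
-/

set_option autoImplicit false

namespace Cfsg.Agent.Lib.helper95

open Matrix Cfsg Cfsg.Geo Cfsg.Agent.Lib.helper17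

section
variable {F : Type*} [Field F] [Fintype F] {q : ℕ} (hF : Fintype.card F = q ^ 2)
include hF
variable {n : ℕ} {F₀ : Subfield F} {M : Subgroup (GL (Fin n) F)} {ix : Fin 7 → Fin n}
  {ε ω s : F}

theorem su_ratT_mem (hD : SuSubfData n q F₀ M ix ε ω s) (v : Fin n → F) (hv : ratV F₀ v)
    (hvv : hermForm n F q v v = 0) : uE n q v 0 s ∈ M :=
  hD.rat (uE_rat_mem hF n F₀ v 0 s hv (ratV_zero F₀) hD.fr.hs hvv (hermForm_zero_left n q v)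
    (by rw [hermForm_zero_left, add_zero]; exact hD.fr.hst))

/-- An element of `M` mapping a rational isotropic point to a rational point is rational up to a
scalar. -/
theorem su_C (hD : SuSubfData n q F₀ M ix ε ω s) (g : GL (Fin n) F) (hg : g ∈ M)
    (a a' : Fin n → F) (ha : ratV F₀ a) (ha' : ratV F₀ a') (ha'0 : a' ≠ 0)
    (ha'a' : hermForm n F q a' a' = 0) (c : F) (hc : c ≠ 0)
    (hga : (g : Matrix (Fin n) (Fin n) F) *ᵥ a = c • a') :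
    ∃ ζ : F, ζ ≠ 0 ∧ ∀ k l, ζ * (g : Matrix (Fin n) (Fin n) F) k l ∈ F₀ := by
  have hfr := hD.fr
  have hgU : g ∈ GU n F q := (hD.le hg).1
  have hpres := (mem_GU_iff n q g).mp hgU
  have hTv : ∀ v : Fin n → F, ratV F₀ v → hermForm n F q v v = 0 →
      uE n q ((g : Matrix (Fin n) (Fin n) F) *ᵥ v) 0 s ∈ M := by
    intro v hv hvv
    rw [← uT_conj hF n g hgU v s hvv]
    exact M.mul_mem (M.mul_mem hg (su_ratT_mem hF hD v hv hvv)) (M.inv_mem hg)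
  have hne : ∀ v : Fin n → F, v ≠ 0 → (g : Matrix (Fin n) (Fin n) F) *ᵥ v ≠ 0 :=
    fun v hv h => hv (gl_mulVec_eq_zero g v h)
  have hiso : ∀ v : Fin n → F, hermForm n F q v v = 0 →
      hermForm n F q ((g : Matrix (Fin n) (Fin n) F) *ᵥ v)
        ((g : Matrix (Fin n) (Fin n) F) *ᵥ v) = 0 := fun v hv => by rw [hpres, hv]
  have stepa : ∀ v : Fin n → F, ratV F₀ v → v ≠ 0 → hermForm n F q v v = 0 →
      hermForm n F q v a = 0 →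
      ∃ ζ : F, ζ ≠ 0 ∧ ratV F₀ (ζ • ((g : Matrix (Fin n) (Fin n) F) *ᵥ v)) := by
    intro v hv hv0 hvv hva
    refine su_B hF hD _ (hne v hv0) (hiso v hvv) s hfr.hs0 hfr.hst (hTv v hv hvv) a' ha' ha'0
      ha'a' ?_
    have e : a' = c⁻¹ • ((g : Matrix (Fin n) (Fin n) F) *ᵥ a) := by
      rw [hga, smul_smul, inv_mul_cancel₀ hc, one_smul]
    rw [e, hermForm_smul_right, hpres, hva, mul_zero]
  have stepb : ∀ v : Fin n → F, ratV F₀ v → v ≠ 0 → hermForm n F q v v = 0 →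
      ∃ ζ : F, ζ ≠ 0 ∧ ratV F₀ (ζ • ((g : Matrix (Fin n) (Fin n) F) *ᵥ v)) := by
    intro v hv hv0 hvv
    obtain ⟨z, hz, hz0, hzz, hza, hzv⟩ := exists_rat_iso_perp2 hF hfr a v ha hv
    obtain ⟨ζz, hζz0, hζz⟩ := stepa z hz hz0 hzz hza
    refine su_B hF hD _ (hne v hv0) (hiso v hvv) s hfr.hs0 hfr.hst (hTv v hv hvv) _ hζz
      (smul_ne_zero hζz0 (hne z hz0)) ?_ ?_
    · rw [hermForm_smul_left, hermForm_smul_right, hiso z hzz, mul_zero, mul_zero]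
    · rw [hermForm_smul_right, hpres, hermForm_swap_zero hF n z v hzv, mul_zero]
  exact su_rat_points_matrix hF hfr g stepb

/-- An element of `M` that is not rational up to a scalar has no rational isotropic zero. -/
theorem su_GP (hD : SuSubfData n q F₀ M ix ε ω s) (g : GL (Fin n) F) (hg : g ∈ M)
    (hgX : ¬ ∃ ζ : F, ζ ≠ 0 ∧ ∀ k l, ζ * (g : Matrix (Fin n) (Fin n) F) k l ∈ F₀)
    (a a' : Fin n → F) (ha : ratV F₀ a) (ha' : ratV F₀ a') (ha0 : a ≠ 0) (ha'0 : a' ≠ 0)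
    (haa : hermForm n F q a a = 0) (ha'a' : hermForm n F q a' a' = 0) :
    hermForm n F q ((g : Matrix (Fin n) (Fin n) F) *ᵥ a') a ≠ 0 := by
  intro h0
  have hfr := hD.fr
  have hgU : g ∈ GU n F q := (hD.le hg).1
  have hpres := (mem_GU_iff n q g).mp hgU
  have hne : (g : Matrix (Fin n) (Fin n) F) *ᵥ a' ≠ 0 :=
    fun h => ha'0 (gl_mulVec_eq_zero g a' h)
  have hiso : hermForm n F q ((g : Matrix (Fin n) (Fin n) F) *ᵥ a')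
      ((g : Matrix (Fin n) (Fin n) F) *ᵥ a') = 0 := by rw [hpres, ha'a']
  have hT : uE n q ((g : Matrix (Fin n) (Fin n) F) *ᵥ a') 0 s ∈ M := by
    rw [← uT_conj hF n g hgU a' s ha'a']
    exact M.mul_mem (M.mul_mem hg (su_ratT_mem hF hD a' ha' ha'a')) (M.inv_mem hg)
  obtain ⟨c, hc0, hc⟩ := su_B hF hD _ hne hiso s hfr.hs0 hfr.hst hT a ha ha0 haa h0
  apply hgX
  refine su_C hF hD g hg a' _ ha' hc (smul_ne_zero hc0 hne) ?_ c⁻¹ (inv_ne_zero hc0) ?_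
  · rw [hermForm_smul_left, hermForm_smul_right, hiso, mul_zero, mul_zero]
  · rw [smul_smul, inv_mul_cancel₀ hc0, one_smul]

/-- The Sylow step: for an element `g` of `M` that is not rational up to a scalar, and rational
isotropic `a, a'`, some element of `M` that is rational up to a scalar agrees with `g` on `a'^⊥`
up to explicit corrections along `g a'` and `a`. -/
theorem su_syl (hD : SuSubfData n q F₀ M ix ε ω s) (g : GL (Fin n) F) (hg : g ∈ M)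
    (hgX : ¬ ∃ ζ : F, ζ ≠ 0 ∧ ∀ k l, ζ * (g : Matrix (Fin n) (Fin n) F) k l ∈ F₀)
    (a a' : Fin n → F) (ha : ratV F₀ a) (ha' : ratV F₀ a') (ha0 : a ≠ 0) (ha'0 : a' ≠ 0)
    (haa : hermForm n F q a a = 0) (ha'a' : hermForm n F q a' a' = 0) :
    ∃ k ∈ M, ∃ ζ ν : F, ζ ≠ 0 ∧ ν ≠ 0 ∧
      (∀ k' l, ζ * (k : Matrix (Fin n) (Fin n) F) k' l ∈ F₀) ∧
      (k : Matrix (Fin n) (Fin n) F) *ᵥ a' = ν • a ∧
      ∀ x, hermForm n F q x a' = 0 →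
        (k : Matrix (Fin n) (Fin n) F) *ᵥ x =
          (g : Matrix (Fin n) (Fin n) F) *ᵥ x -
            (hermForm n F q ((g : Matrix (Fin n) (Fin n) F) *ᵥ x) a /
              hermForm n F q ((g : Matrix (Fin n) (Fin n) F) *ᵥ a') a) •
              ((g : Matrix (Fin n) (Fin n) F) *ᵥ a') +
            (hermForm n F q ((g : Matrix (Fin n) (Fin n) F) *ᵥ x) a /
              hermForm n F q ((g : Matrix (Fin n) (Fin n) F) *ᵥ a') a * ν) • a := by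
  have hfr := hD.fr
  have hgU : g ∈ GU n F q := (hD.le hg).1
  have hpres := (mem_GU_iff n q g).mp hgU
  have hD0 := su_GP hF hD g hg hgX a a' ha ha' ha0 ha'0 haa ha'a'
  obtain ⟨b, hb⟩ : ∃ b, b = ((g⁻¹ : GL (Fin n) F) : Matrix (Fin n) (Fin n) F) *ᵥ a := ⟨_, rfl⟩
  have hgb : (g : Matrix (Fin n) (Fin n) F) *ᵥ b = a := by
    rw [hb, gl_mulVec_inv_mulVec]
  have hfb : ∀ x, hermForm n F q x b =
      hermForm n F q ((g : Matrix (Fin n) (Fin n) F) *ᵥ x) a := by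
    intro x
    rw [← hgb, hpres]
  have hbb : hermForm n F q b b = 0 := by rw [hfb, hgb, haa]
  have hdot : ∀ v x : Fin n → F, (s • fun j => v j ^ q) ⬝ᵥ x = s * hermForm n F q x v :=
    fun v x => by rw [smul_dotProduct, pow_dotProduct, smul_eq_mul]
  have ht : slT a' (s • fun j => a' j ^ q) ∈ M := by
    rw [← uT_eq_slT hF n a' s ha'a']
    exact su_ratT_mem hF hD a' ha' ha'a'
  have hk : slT b (s • fun j => b j ^ q) ∈ M := by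
    rw [← uT_eq_slT hF n b s hbb, hb, ← uT_conj hF n g⁻¹ (inv_mem hgU) a s haa]
    refine M.mul_mem (M.mul_mem (M.inv_mem hg) (su_ratT_mem hF hD a ha haa)) ?_
    rw [inv_inv]
    exact hg
  have ha'b : hermForm n F q a' b ≠ 0 := by rw [hfb]; exact hD0
  obtain ⟨h, hhM, ν, hν0, hha, hfix⟩ := transv_conj_exists M a' (s • fun j => a' j ^ q) b
    (s • fun j => b j ^ q) (by rw [hdot, ha'a', mul_zero]) (by rw [hdot, hbb, mul_zero])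
    (by rw [hdot]; exact mul_ne_zero hfr.hs0 (hermForm_swap_ne hF n a' b ha'b))
    (by rw [hdot]; exact mul_ne_zero hfr.hs0 ha'b) ht hk
  have hka : ((g * h : GL (Fin n) F) : Matrix (Fin n) (Fin n) F) *ᵥ a' = ν • a := by
    rw [Units.val_mul, ← Matrix.mulVec_mulVec, hha, Matrix.mulVec_smul, hgb]
  obtain ⟨ζ, hζ0, hζ⟩ := su_C hF hD (g * h) (M.mul_mem hg hhM) a' a ha' ha ha0 haa ν hν0 hka
  refine ⟨g * h, M.mul_mem hg hhM, ζ, ν, hζ0, hν0, hζ, hka, fun x hx => ?_⟩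
  obtain ⟨α, hα⟩ : ∃ α, α = hermForm n F q ((g : Matrix (Fin n) (Fin n) F) *ᵥ x) a /
      hermForm n F q ((g : Matrix (Fin n) (Fin n) F) *ᵥ a') a := ⟨_, rfl⟩
  rw [← hα]
  have hy1 : (s • fun j => a' j ^ q) ⬝ᵥ (x - α • a') = 0 := by
    rw [hdot, hermForm_sub_left, hermForm_smul_left, hx, ha'a', mul_zero, sub_zero, mul_zero]
  have hy2 : (s • fun j => b j ^ q) ⬝ᵥ (x - α • a') = 0 := by
    rw [hdot, hermForm_sub_left, hermForm_smul_left, hfb, hfb, hα, div_mul_cancel₀ _ hD0,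
      sub_self, mul_zero]
  have hy := hfix _ hy1 hy2
  have hhx : (h : Matrix (Fin n) (Fin n) F) *ᵥ x = (x - α • a') + α • (ν • b) := by
    have e2 : (h : Matrix (Fin n) (Fin n) F) *ᵥ x =
        (h : Matrix (Fin n) (Fin n) F) *ᵥ (x - α • a') +
          α • ((h : Matrix (Fin n) (Fin n) F) *ᵥ a') := by
      rw [← Matrix.mulVec_smul, ← Matrix.mulVec_add, sub_add_cancel]
    rw [e2, hy, hha]
  rw [Units.val_mul, ← Matrix.mulVec_mulVec, hhx, Matrix.mulVec_add, Matrix.mulVec_sub,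
    Matrix.mulVec_smul, Matrix.mulVec_smul, Matrix.mulVec_smul, hgb, smul_smul]

/-- The final contradiction: an element of `M` that is not rational up to a scalar cannot exist. -/
theorem su_final (hD : SuSubfData n q F₀ M ix ε ω s)
    (hprime : ∀ S : Subalgebra F₀ F, S = ⊥ ∨ S = ⊤) (g : GL (Fin n) F) (hg : g ∈ M)
    (hgX : ¬ ∃ ζ : F, ζ ≠ 0 ∧ ∀ k l, ζ * (g : Matrix (Fin n) (Fin n) F) k l ∈ F₀) : False := by
  have hfr := hD.fr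
  have h01 : ix 0 ≠ ix 1 := hfr.inj.ne (by decide)
  have h23 : ix 2 ≠ ix 3 := hfr.inj.ne (by decide)
  have h45 : ix 4 ≠ ix 5 := hfr.inj.ne (by decide)
  have tiso := tri_iso hF hfr
  have tne := tri_ne hfr
  have trat := tri_rat hfr
  obtain ⟨E₀, hE₀⟩ : ∃ E₀ : Fin n → F, E₀ = isoV (ix 0) (ix 1) ε := ⟨_, rfl⟩
  obtain ⟨E₁, hE₁⟩ : ∃ E₁ : Fin n → F, E₁ = isoV (ix 2) (ix 3) ε := ⟨_, rfl⟩
  obtain ⟨E₂, hE₂⟩ : ∃ E₂ : Fin n → F, E₂ = isoV (ix 4) (ix 5) ε := ⟨_, rfl⟩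
  rw [← hE₀, ← hE₁, ← hE₂] at tiso tne trat
  have hE₀r : ratV F₀ E₀ := by rw [hE₀]; exact ratV_isoV F₀ _ _ hfr.hε
  have hE₁r : ratV F₀ E₁ := by rw [hE₁]; exact ratV_isoV F₀ _ _ hfr.hε
  have hE₂r : ratV F₀ E₂ := by rw [hE₂]; exact ratV_isoV F₀ _ _ hfr.hε
  have hE₀i : hermForm n F q E₀ E₀ = 0 := by
    rw [hE₀]; exact herm_isoV_self hF n _ _ h01 ε hfr.hεn
  have hE₁i : hermForm n F q E₁ E₁ = 0 := by
    rw [hE₁]; exact herm_isoV_self hF n _ _ h23 ε hfr.hεn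
  have hE₂i : hermForm n F q E₂ E₂ = 0 := by
    rw [hE₂]; exact herm_isoV_self hF n _ _ h45 ε hfr.hεn
  have hE₀0 : E₀ ≠ 0 := by rw [hE₀]; exact isoV_ne_zero _ _ h01 ε
  have hE₁0 : E₁ ≠ 0 := by rw [hE₁]; exact isoV_ne_zero _ _ h23 ε
  have hE₂0 : E₂ ≠ 0 := by rw [hE₂]; exact isoV_ne_zero _ _ h45 ε
  have hE₁E₀ : hermForm n F q E₁ E₀ = 0 := by
    rw [hE₀, hE₁]
    exact herm_isoV_disj hF n _ _ _ _ (hfr.inj.ne (by decide)) (hfr.inj.ne (by decide))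
      (hfr.inj.ne (by decide)) (hfr.inj.ne (by decide)) ε ε
  have hE₀E₁ : hermForm n F q E₀ E₁ = 0 := hermForm_swap_zero hF n _ _ hE₁E₀
  have hE₀c : E₀ (ix 0) = 1 := by
    rw [hE₀, isoV_apply]
    simp [h01]
  obtain ⟨φ, hφ⟩ : ∃ φ : (Fin n → F) → F,
      φ = fun v => hermForm n F q ((g : Matrix (Fin n) (Fin n) F) *ᵥ v) E₀ := ⟨_, rfl⟩
  have hφv : ∀ v, φ v = hermForm n F q ((g : Matrix (Fin n) (Fin n) F) *ᵥ v) E₀ :=
    fun v => by rw [hφ]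
  have hGP : ∀ v, ratV F₀ v → v ≠ 0 → hermForm n F q v v = 0 → φ v ≠ 0 :=
    fun v hv hv0 hvv => by
      rw [hφv]
      exact su_GP hF hD g hg hgX E₀ v hE₀r hv hE₀0 hv0 hE₀i hvv
  have hφadd : ∀ v v', φ (v + v') = φ v + φ v' := by
    intro v v'
    rw [hφv, hφv, hφv, Matrix.mulVec_add, hermForm_add_left]
  have hφsmul : ∀ (c : F) v, φ (c • v) = c * φ v := by
    intro c v
    rw [hφv, hφv, Matrix.mulVec_smul, hermForm_smul_left]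
  obtain ⟨D₁, hD₁⟩ : ∃ D₁, D₁ = φ E₀ := ⟨_, rfl⟩
  obtain ⟨D₂, hD₂⟩ : ∃ D₂, D₂ = φ E₁ := ⟨_, rfl⟩
  obtain ⟨D₃, hD₃⟩ : ∃ D₃, D₃ = φ E₂ := ⟨_, rfl⟩
  have hD₁0 : D₁ ≠ 0 := by rw [hD₁]; exact hGP _ hE₀r hE₀0 hE₀i
  have hD₂0 : D₂ ≠ 0 := by rw [hD₂]; exact hGP _ hE₁r hE₁0 hE₁i
  have hzero : ∀ c₀ c₁ c₂ : F, c₀ ∈ F₀ → c₁ ∈ F₀ → c₂ ∈ F₀ →
      c₀ * D₁ + c₁ * D₂ + c₂ * D₃ = 0 → c₀ = 0 ∧ c₁ = 0 ∧ c₂ = 0 := by
    intro c₀ c₁ c₂ h0 h1 h2 hsum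
    have hv := trat c₀ c₁ c₂ h0 h1 h2
    have hφ0 : φ (c₀ • E₀ + c₁ • E₁ + c₂ • E₂) = 0 := by
      rw [hφadd, hφadd, hφsmul, hφsmul, hφsmul, ← hD₁, ← hD₂, ← hD₃]
      exact hsum
    have hv0 : c₀ • E₀ + c₁ • E₁ + c₂ • E₂ = 0 := by
      by_contra hne
      exact hGP _ hv hne (tiso c₀ c₁ c₂) hφ0
    exact tne c₀ c₁ c₂ hv0
  obtain ⟨k₁, -, ζ₁, ν₁, hζ₁0, hν₁0, hk₁r, hk₁a, hk₁f⟩ :=
    su_syl hF hD g hg hgX E₀ E₀ hE₀r hE₀r hE₀0 hE₀0 hE₀i hE₀i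
  obtain ⟨k₂, -, ζ₂, ν₂, hζ₂0, hν₂0, hk₂r, hk₂a, hk₂f⟩ :=
    su_syl hF hD g hg hgX E₀ E₁ hE₀r hE₁r hE₀0 hE₁0 hE₀i hE₁i
  have e12 := hk₁f E₁ hE₁E₀
  have e21 := hk₂f E₀ hE₀E₁
  rw [← hφv, ← hφv, ← hD₁, ← hD₂] at e12 e21
  obtain ⟨u₁, hu₁⟩ : ∃ u₁, u₁ = (g : Matrix (Fin n) (Fin n) F) *ᵥ E₀ := ⟨_, rfl⟩
  obtain ⟨u₂, hu₂⟩ : ∃ u₂, u₂ = (g : Matrix (Fin n) (Fin n) F) *ᵥ E₁ := ⟨_, rfl⟩
  rw [← hu₁, ← hu₂] at e12 e21
  have hκ₁ : ζ₁ * ν₁ ∈ F₀ := by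
    have h1 := ratV_of_entries F₀ k₁ ζ₁ hk₁r _ hE₀r (ix 0)
    rw [hk₁a, smul_smul, Pi.smul_apply, hE₀c, smul_eq_mul, mul_one] at h1
    exact h1
  have hκ₂ : ζ₂ * ν₂ ∈ F₀ := by
    have h1 := ratV_of_entries F₀ k₂ ζ₂ hk₂r _ hE₁r (ix 0)
    rw [hk₂a, smul_smul, Pi.smul_apply, hE₀c, smul_eq_mul, mul_one] at h1
    exact h1
  obtain ⟨v₁, hv₁⟩ : ∃ v₁, v₁ = ζ₁ • ((k₁ : Matrix (Fin n) (Fin n) F) *ᵥ E₁) := ⟨_, rfl⟩
  obtain ⟨v₂, hv₂⟩ : ∃ v₂, v₂ = ζ₂ • ((k₂ : Matrix (Fin n) (Fin n) F) *ᵥ E₀) := ⟨_, rfl⟩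
  have hv₁rat : ratV F₀ v₁ := by
    rw [hv₁]; exact ratV_of_entries F₀ k₁ ζ₁ hk₁r _ hE₁r
  have hv₂rat : ratV F₀ v₂ := by
    rw [hv₂]; exact ratV_of_entries F₀ k₂ ζ₂ hk₂r _ hE₀r
  obtain ⟨δ, hδ⟩ : ∃ δ, δ = D₁ / D₂ := ⟨_, rfl⟩
  obtain ⟨ρ, hρ⟩ : ∃ ρ, ρ = δ * ζ₂ / ζ₁ := ⟨_, rfl⟩
  obtain ⟨μ, hμ⟩ : ∃ μ, μ = ζ₂ * ν₁ + δ * ζ₂ * ν₂ := ⟨_, rfl⟩
  have key : ρ • v₁ + v₂ = μ • E₀ := by
    rw [hv₁, hv₂, e12, e21]
    have e : ρ • ζ₁ • (u₂ - (D₂ / D₁) • u₁ + (D₂ / D₁ * ν₁) • E₀) +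
        ζ₂ • (u₁ - (D₁ / D₂) • u₂ + (D₁ / D₂ * ν₂) • E₀) =
        (ρ * ζ₁ - ζ₂ * (D₁ / D₂)) • u₂ + (ζ₂ - ρ * ζ₁ * (D₂ / D₁)) • u₁ +
          (ρ * ζ₁ * (D₂ / D₁ * ν₁) + ζ₂ * (D₁ / D₂ * ν₂)) • E₀ := by
      module
    rw [e]
    have c1 : ρ * ζ₁ - ζ₂ * (D₁ / D₂) = 0 := by
      rw [hρ, hδ]
      field_simp
      ring
    have c2 : ζ₂ - ρ * ζ₁ * (D₂ / D₁) = 0 := by
      rw [hρ, hδ]
      field_simp
      ring
    have c3 : ρ * ζ₁ * (D₂ / D₁ * ν₁) + ζ₂ * (D₁ / D₂ * ν₂) = μ := by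
      rw [hρ, hμ, hδ]
      field_simp
    rw [c1, c2, c3, zero_smul, zero_smul, zero_add, zero_add]
  have hind : ∀ a b : F, a • v₁ + b • E₀ = 0 → a = 0 ∧ b = 0 := by
    intro a b hab
    have h1 : (k₁ : Matrix (Fin n) (Fin n) F) *ᵥ ((a * ζ₁) • E₁ + (b / ν₁) • E₀) = 0 := by
      rw [Matrix.mulVec_add, Matrix.mulVec_smul, Matrix.mulVec_smul, hk₁a, smul_smul,
        div_mul_cancel₀ _ hν₁0, ← hab, hv₁, smul_smul]
    have h2 := gl_mulVec_eq_zero k₁ _ h1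
    rw [hE₀, hE₁] at h2
    have h3 := isoV_pair_indep _ _ _ _ h23 h01 (hfr.inj.ne (by decide))
      (hfr.inj.ne (by decide)) (hfr.inj.ne (by decide)) ε ε _ _ h2
    refine ⟨(mul_eq_zero.mp h3.1).resolve_right hζ₁0, ?_⟩
    rcases div_eq_zero_iff.mp h3.2 with h | h
    · exact h
    · exact absurd h hν₁0
  have h5 : ratV F₀ (ρ • v₁ + (-μ) • E₀) := by
    have e : ρ • v₁ + (-μ) • E₀ = -v₂ := by
      rw [neg_smul, ← key]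
      abel
    rw [e]
    exact ratV_neg F₀ hv₂rat
  obtain ⟨hρr, hμr'⟩ := rat_two_coeff F₀ v₁ E₀ hv₁rat hE₀r hind ρ (-μ) h5
  have hμr : μ ∈ F₀ := by
    have h6 := F₀.neg_mem hμr'
    rwa [neg_neg] at h6
  obtain ⟨p, hp⟩ : ∃ p, p = -(ρ * (ζ₁ * ν₁)) / (ζ₂ * ν₂) := ⟨_, rfl⟩
  obtain ⟨p₂, hp₂⟩ : ∃ p₂, p₂ = μ / (ζ₂ * ν₂) := ⟨_, rfl⟩
  have hpr : p ∈ F₀ := by
    rw [hp]; exact F₀.div_mem (F₀.neg_mem (F₀.mul_mem hρr hκ₁)) hκ₂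
  have hp₂r : p₂ ∈ F₀ := by
    rw [hp₂]; exact F₀.div_mem hμr hκ₂
  have hquad : δ * δ = p + p₂ * δ := by
    rw [hp, hp₂, hρ, hμ]
    field_simp
    ring
  let S : Subalgebra F₀ F :=
    { carrier := {x | ∃ a b : F, a ∈ F₀ ∧ b ∈ F₀ ∧ x = a + b * δ}
      mul_mem' := by
        rintro x y ⟨a, b, ha, hb, rfl⟩ ⟨a', b', ha', hb', rfl⟩
        refine ⟨a * a' + b * b' * p, a * b' + a' * b + b * b' * p₂,
          F₀.add_mem (F₀.mul_mem ha ha') (F₀.mul_mem (F₀.mul_mem hb hb') hpr),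
          F₀.add_mem (F₀.add_mem (F₀.mul_mem ha hb') (F₀.mul_mem ha' hb))
            (F₀.mul_mem (F₀.mul_mem hb hb') hp₂r), ?_⟩
        linear_combination (b * b') * hquad
      add_mem' := by
        rintro x y ⟨a, b, ha, hb, rfl⟩ ⟨a', b', ha', hb', rfl⟩
        exact ⟨a + a', b + b', F₀.add_mem ha ha', F₀.add_mem hb hb', by ring⟩
      one_mem' := ⟨1, 0, F₀.one_mem, F₀.zero_mem, by ring⟩
      zero_mem' := ⟨0, 0, F₀.zero_mem, F₀.zero_mem, by ring⟩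
      algebraMap_mem' := fun c => ⟨c, 0, c.2, F₀.zero_mem, by rw [zero_mul, add_zero]; rfl⟩ }
  have hδS : δ ∈ S := ⟨0, 1, F₀.zero_mem, F₀.one_mem, by ring⟩
  rcases hprime S with hS | hS
  · rw [hS, Algebra.mem_bot] at hδS
    obtain ⟨y, hy⟩ := hδS
    have hδr : δ ∈ F₀ := by rw [← hy]; exact y.2
    have h1 := hzero 1 (-δ) 0 F₀.one_mem (F₀.neg_mem hδr) F₀.zero_mem (by
      rw [hδ]
      field_simp
      ring)
    exact one_ne_zero h1.1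
  · have hall : ∀ x : F, ∃ a b : F, a ∈ F₀ ∧ b ∈ F₀ ∧ x = a + b * δ := by
      intro x
      have h1 : x ∈ S := by rw [hS]; exact Algebra.mem_top
      exact h1
    obtain ⟨x₀, y₀, hx₀, hy₀, e0⟩ := hall D₁
    obtain ⟨x₁, y₁, hx₁, hy₁, e1⟩ := hall D₂
    obtain ⟨x₂, y₂, hx₂, hy₂, e2⟩ := hall D₃
    have h1 := hzero (x₁ * y₂ - x₂ * y₁) (x₂ * y₀ - x₀ * y₂) (x₀ * y₁ - x₁ * y₀)
      (F₀.sub_mem (F₀.mul_mem hx₁ hy₂) (F₀.mul_mem hx₂ hy₁))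
      (F₀.sub_mem (F₀.mul_mem hx₂ hy₀) (F₀.mul_mem hx₀ hy₂))
      (F₀.sub_mem (F₀.mul_mem hx₀ hy₁) (F₀.mul_mem hx₁ hy₀)) (by rw [e0, e1, e2]; ring)
    have hc2 : x₀ * y₁ - x₁ * y₀ = 0 := h1.2.2
    have h2 := hzero y₁ (-y₀) 0 hy₁ (F₀.neg_mem hy₀) F₀.zero_mem (by
      rw [e0, e1]; linear_combination hc2)
    have h3 := hzero x₁ (-x₀) 0 hx₁ (F₀.neg_mem hx₀) F₀.zero_mem (by
      rw [e0, e1]; linear_combination (-δ) * hc2)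
    have hy0 : y₀ = 0 := neg_eq_zero.mp h2.2.1
    have hx0 : x₀ = 0 := neg_eq_zero.mp h3.2.1
    apply hD₁0
    rw [e0, hx0, hy0]
    ring

end

end Cfsg.Agent.Lib.helper95
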