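import Mathlib
import Cfsg.Prelude.Def_GeometricClasses
import Cfsg.Agent.Lib.helper95.SubfieldSU4

/-!
Overgroups of the rational special unitary group containing all short root elements at the first
two standard vectors: they contain all unitary transvections.
-/

set_option autoImplicit false

namespace Cfsg.Agent.Lib.helper95

open Matrix Cfsg Cfsg.Geo Cfsg.Agent.Lib.helper17

section
variable {F : Type*} [Field F] [Fintype F] {q : ℕ} (hF : Fintype.card F = q ^ 2)
include hF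
variable {n : ℕ} {F₀ : Subfield F} {M : Subgroup (GL (Fin n) F)} {ix : Fin 7 → Fin n}
  {ε ω s : F}

/-- Transport of short root elements between rational pairs. -/
theorem su_transport (hfr : SuFrame n q F₀ ix ε ω s) (hrat : ratSU n q F₀ ≤ M)
    (u y u' y' : Fin n → F) (hu : ratV F₀ u) (hy : ratV F₀ y) (hu' : ratV F₀ u')
    (hy' : ratV F₀ y') (huu : hermForm n F q u u = 0) (hyy : hermForm n F q y y = 0)
    (hyu : hermForm n F q y u = 0) (hu'u' : hermForm n F q u' u' = 0)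
    (hy'y' : hermForm n F q y' y' = 0) (hy'u' : hermForm n F q y' u' = 0)
    (hind : ∀ a b : F, a • u + b • y = 0 → a = 0 ∧ b = 0)
    (hind' : ∀ a b : F, a • u' + b • y' = 0 → a = 0 ∧ b = 0) (c : F)
    (h : uE n q u (c • y) 0 ∈ M) : uE n q u' (c • y') 0 ∈ M := by
  obtain ⟨g, hg, hgu, hgy⟩ := rat_su_pair hF hfr u y u' y' hu hy hu' hy' huu hyy hyu hu'u' hy'y'
    hy'u' hind hind'
  have h1 := M.mul_mem (M.mul_mem (hrat hg) h) (M.inv_mem (hrat hg))
  rwa [Cfsg.Agent.Lib.helper49.uE_conj hF n g hg.2.1 u (c • y) 0 huu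
    (by rw [hermForm_smul_left, hyu, mul_zero]), hgu, Matrix.mulVec_smul, hgy] at h1

/-- An overgroup of the rational special unitary group containing all short root elements at the
first two standard vectors contains all unitary transvections. -/
theorem su_all_transv (hfr : SuFrame n q F₀ ix ε ω s) (hrat : ratSU n q F₀ ≤ M)
    (hall : ∀ c : F, uE n q (isoV (ix 0) (ix 1) ε) (c • isoV (ix 2) (ix 3) ε) 0 ∈ M) :
    ∀ (v : Fin n → F) (c : F), hermForm n F q v v = 0 → c + c ^ q = 0 → uE n q v 0 c ∈ M := by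
  have hn := hfr.seven_le
  have hq2 := two_le_of_card_eq_sq hF
  have h01 : ix 0 ≠ ix 1 := hfr.inj.ne (by decide)
  have h23 : ix 2 ≠ ix 3 := hfr.inj.ne (by decide)
  obtain ⟨E₀, hE₀⟩ : ∃ E₀ : Fin n → F, E₀ = isoV (ix 0) (ix 1) ε := ⟨_, rfl⟩
  obtain ⟨E₁, hE₁⟩ : ∃ E₁ : Fin n → F, E₁ = isoV (ix 2) (ix 3) ε := ⟨_, rfl⟩
  obtain ⟨F₁, hF₁⟩ : ∃ F₁ : Fin n → F, F₁ = isoV (ix 2) (ix 3) (ε * ω) := ⟨_, rfl⟩
  rw [← hE₀, ← hE₁] at hall
  have hE₀r : ratV F₀ E₀ := by rw [hE₀]; exact ratV_isoV F₀ _ _ hfr.hε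
  have hE₁r : ratV F₀ E₁ := by rw [hE₁]; exact ratV_isoV F₀ _ _ hfr.hε
  have hF₁r : ratV F₀ F₁ := by rw [hF₁]; exact ratV_isoV F₀ _ _ (F₀.mul_mem hfr.hε hfr.hω)
  have hE₀i : hermForm n F q E₀ E₀ = 0 := by
    rw [hE₀]; exact herm_isoV_self hF n _ _ h01 ε hfr.hεn
  have hE₁i : hermForm n F q E₁ E₁ = 0 := by
    rw [hE₁]; exact herm_isoV_self hF n _ _ h23 ε hfr.hεn
  have hF₁i : hermForm n F q F₁ F₁ = 0 := by
    rw [hF₁]; exact herm_isoV_self hF n _ _ h23 _ hfr.εω_norm
  have hE₁E₀ : hermForm n F q E₁ E₀ = 0 := by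
    rw [hE₀, hE₁]
    exact herm_isoV_disj hF n _ _ _ _ (hfr.inj.ne (by decide)) (hfr.inj.ne (by decide))
      (hfr.inj.ne (by decide)) (hfr.inj.ne (by decide)) ε ε
  have hF₁E₀ : hermForm n F q F₁ E₀ = 0 := by
    rw [hE₀, hF₁]
    exact herm_isoV_disj hF n _ _ _ _ (hfr.inj.ne (by decide)) (hfr.inj.ne (by decide))
      (hfr.inj.ne (by decide)) (hfr.inj.ne (by decide)) _ ε
  have hE₁F₁ : hermForm n F q E₁ F₁ = 1 - ω ^ q := by
    rw [hE₁, hF₁, herm_isoV_same hF _ _ h23, mul_pow]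
    linear_combination (ω ^ q) * hfr.hεn
  have hF₁E₁ : hermForm n F q F₁ E₁ = 1 - ω := by
    rw [hE₁, hF₁, herm_isoV_same hF _ _ h23]
    linear_combination ω * hfr.hεn
  have hindE : ∀ a b : F, a • E₀ + b • E₁ = 0 → a = 0 ∧ b = 0 := by
    rw [hE₀, hE₁]
    exact isoV_pair_indep _ _ _ _ h01 h23 (hfr.inj.ne (by decide)) (hfr.inj.ne (by decide))
      (hfr.inj.ne (by decide)) ε ε
  have hindF : ∀ a b : F, a • E₀ + b • F₁ = 0 → a = 0 ∧ b = 0 := by
    rw [hE₀, hF₁]
    exact isoV_pair_indep _ _ _ _ h01 h23 (hfr.inj.ne (by decide)) (hfr.inj.ne (by decide))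
      (hfr.inj.ne (by decide)) ε _
  -- all short root elements at rational pairs
  have hX : ∀ u y : Fin n → F, ratV F₀ u → ratV F₀ y → hermForm n F q u u = 0 →
      hermForm n F q y y = 0 → hermForm n F q y u = 0 →
      (∀ a b : F, a • u + b • y = 0 → a = 0 ∧ b = 0) → ∀ c : F, uE n q u (c • y) 0 ∈ M := by
    intro u y hu hy huu hyy hyu hind c
    exact su_transport hF hfr hrat E₀ E₁ u y hE₀r hE₁r hu hy hE₀i hE₁i hE₁E₀ huu hyy hyu hindE
      hind c (hall c)
  -- commutators give transvections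
  have hcomm : ∀ a b : Fin n → F, hermForm n F q a E₀ = 0 → hermForm n F q b E₀ = 0 →
      uE n q E₀ a 0 ∈ M → uE n q E₀ b 0 ∈ M →
      uE n q E₀ 0 (hermForm n F q a b - hermForm n F q b a) ∈ M := by
    intro a b ha hb hA hB
    have h1 : uE n q E₀ a 0 * uE n q E₀ b 0 =
        uE n q E₀ b 0 * uE n q E₀ a 0 *
          uE n q E₀ 0 (hermForm n F q a b - hermForm n F q b a) := by
      rw [Cfsg.Agent.Lib.helper49.uE_mul hF n E₀ a b 0 0 hE₀i ha hb,
        Cfsg.Agent.Lib.helper49.uE_mul hF n E₀ b a 0 0 hE₀i hb ha,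
        Cfsg.Agent.Lib.helper49.uE_mul hF n E₀ (b + a) 0 _ _ hE₀i
          (by rw [hermForm_add_left, hb, ha, add_zero]) (hermForm_zero_left n q E₀),
        hermForm_zero_left, add_zero, add_comm b a]
      congr 1 <;> ring
    have h2 := M.mul_mem (M.inv_mem (M.mul_mem hB hA)) (M.mul_mem hA hB)
    rwa [h1, inv_mul_cancel_left] at h2
  have hη0 : 1 - ω ^ q ≠ 0 := sub_ne_zero.mpr (Ne.symm (hfr.ωq_ne hF))
  have hη'0 : 1 - ω ≠ 0 := sub_ne_zero.mpr (Ne.symm hfr.hω1)
  have hT0 : ∀ t : F, t + t ^ q = 0 → uE n q E₀ 0 t ∈ M := by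
    intro t ht
    obtain ⟨a₀, ha₀⟩ := exists_trace_eq hF (1 : F) (one_pow q)
    obtain ⟨c, hc⟩ : ∃ c : F, c = t * a₀ / (1 - ω ^ q) := ⟨_, rfl⟩
    have h3 := hcomm (c • E₁) ((1 : F) • F₁) (by rw [hermForm_smul_left, hE₁E₀, mul_zero])
      (by rw [hermForm_smul_left, hF₁E₀, mul_zero]) (hall c)
      (hX E₀ F₁ hE₀r hF₁r hE₀i hF₁i hF₁E₀ hindF 1)
    have htq : t ^ q = -t := by linear_combination ht
    have e1 : c * (1 - ω ^ q) = t * a₀ := by
      rw [hc]
      field_simp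
    have e2 : c ^ q * (1 - ω) = t ^ q * a₀ ^ q := by
      rw [hc, div_pow, mul_pow, sub_pow_q hF, one_pow, pow_q_pow_q hF]
      field_simp
    have e : hermForm n F q (c • E₁) ((1 : F) • F₁) - hermForm n F q ((1 : F) • F₁) (c • E₁) =
        t := by
      rw [hermForm_smul_left, hermForm_smul_right, hermForm_smul_left, hermForm_smul_right,
        one_pow, one_mul, one_mul, hE₁F₁, hF₁E₁, e1, e2, htq]
      linear_combination t * ha₀
    rwa [e] at h3
  have hT : ∀ u : Fin n → F, ratV F₀ u → u ≠ 0 → hermForm n F q u u = 0 → ∀ t : F,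
      t + t ^ q = 0 → uE n q u 0 t ∈ M := by
    intro u hu hu0 huu t ht
    obtain ⟨g, hg, hgu⟩ := rat_su_to_std1 hF hfr u hu hu0 huu
    rw [← hE₀] at hgu
    have h1 := hT0 t ht
    rw [← hgu, ← uT_conj hF n g hg.2.1 u t huu] at h1
    have h2 := M.mul_mem (M.mul_mem (M.inv_mem (hrat hg)) h1) (hrat hg)
    have e : g⁻¹ * (g * uE n q u 0 t * g⁻¹) * g = uE n q u 0 t := by group
    rwa [e] at h2
  -- the unipotent radical at a rational isotropic vector of standard shape
  have hQ : ∀ (a b : Fin n) (e : F), a ≠ b → e ∈ F₀ → e * e ^ q = -1 → ∀ v : Fin n → F,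
      hermForm n F q v (isoV a b e) = 0 → ∀ β : F, β + β ^ q + hermForm n F q v v = 0 →
      uE n q (isoV a b e) v β ∈ M := by
    intro a b e hab he hen
    obtain ⟨u₀, hu₀⟩ : ∃ u₀ : Fin n → F, u₀ = isoV a b e := ⟨_, rfl⟩
    rw [← hu₀]
    have hu₀r : ratV F₀ u₀ := by rw [hu₀]; exact ratV_isoV F₀ _ _ he
    have hu₀i : hermForm n F q u₀ u₀ = 0 := by rw [hu₀]; exact herm_isoV_self hF n _ _ hab e hen
    have hu₀0 : u₀ ≠ 0 := by rw [hu₀]; exact isoV_ne_zero _ _ hab e
    have he0 : e ≠ 0 := by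
      intro h
      rw [h, zero_mul] at hen
      exact one_ne_zero (neg_eq_zero.mp hen.symm)
    obtain ⟨P, hP⟩ : ∃ P : (Fin n → F) → Prop, P = fun v => hermForm n F q v u₀ = 0 ∧
        ∀ β : F, β + β ^ q + hermForm n F q v v = 0 → uE n q u₀ v β ∈ M := ⟨_, rfl⟩
    have hP0 : P 0 := by
      rw [hP]
      refine ⟨hermForm_zero_left n q u₀, fun β hβ => ?_⟩
      rw [hermForm_zero_left, add_zero] at hβ
      exact hT u₀ hu₀r hu₀0 hu₀i β hβ
    have hPadd : ∀ v v' : Fin n → F, P v → P v' → P (v + v') := by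
      intro v v' hv hv'
      rw [hP] at hv hv' ⊢
      obtain ⟨hv, hvM⟩ := hv
      obtain ⟨hv', hv'M⟩ := hv'
      refine ⟨by rw [hermForm_add_left, hv, hv', add_zero], fun γ hγ => ?_⟩
      obtain ⟨α, hα⟩ := exists_trace_eq hF (-hermForm n F q v v)
        (by rw [neg_pow_q hF, hermForm_conj hF])
      have hα' : α + α ^ q + hermForm n F q v v = 0 := by rw [hα]; ring
      obtain ⟨β', hβ'⟩ : ∃ β' : F, β' = γ - α + hermForm n F q v' v := ⟨_, rfl⟩
      have hβ'' : β' + β' ^ q + hermForm n F q v' v' = 0 := by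
        rw [hβ', add_pow_q hF, sub_pow_q hF, hermForm_conj hF]
        rw [hermForm_add_left, hermForm_add_right hF, hermForm_add_right hF] at hγ
        linear_combination hγ - hα'
      have e1 : uE n q u₀ (v + v') γ = uE n q u₀ v α * uE n q u₀ v' β' := by
        rw [Cfsg.Agent.Lib.helper49.uE_mul hF n u₀ v v' α β' hu₀i hv hv']
        congr 1
        rw [hβ']
        ring
      rw [e1]
      exact M.mul_mem (hvM α hα') (hv'M β' hβ'')
    have hPiso : ∀ y : Fin n → F, ratV F₀ y → hermForm n F q y y = 0 →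
        hermForm n F q y u₀ = 0 → (∀ a b : F, a • u₀ + b • y = 0 → a = 0 ∧ b = 0) →
        ∀ c : F, P (c • y) := by
      intro y hy hyy hyu hind c
      rw [hP]
      have hcy : hermForm n F q (c • y) u₀ = 0 := by rw [hermForm_smul_left, hyu, mul_zero]
      refine ⟨hcy, fun β hβ => ?_⟩
      rw [hermForm_smul_left, hermForm_smul_right, hyy, mul_zero, mul_zero, add_zero] at hβ
      have e1 : uE n q u₀ (c • y) β = uE n q u₀ (c • y) 0 * uE n q u₀ 0 β := by
        rw [Cfsg.Agent.Lib.helper49.uE_mul hF n u₀ (c • y) 0 0 β hu₀i hcy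
          (hermForm_zero_left n q u₀), add_zero, hermForm_zero_left, zero_add, sub_zero]
      rw [e1]
      exact M.mul_mem (hX u₀ y hu₀r hy hu₀i hyy hyu hind c) (hT u₀ hu₀r hu₀0 hu₀i β hβ)
    have hPu : ∀ lam : F, P (lam • u₀) := by
      intro lam
      rw [hP]
      refine ⟨by rw [hermForm_smul_left, hu₀i, mul_zero], fun β hβ => ?_⟩
      rw [hermForm_smul_left, hermForm_smul_right, hu₀i, mul_zero, mul_zero, add_zero] at hβ
      rw [uE_smul_self hF n u₀ lam β hu₀i]
      refine hT u₀ hu₀r hu₀0 hu₀i _ ?_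
      rw [add_pow_q hF, sub_pow_q hF, pow_q_pow_q hF]
      linear_combination hβ
    have hPsingle : ∀ l : Fin n, l ≠ a → l ≠ b → ∀ c : F, P (c • Pi.single l 1) := by
      intro l hla hlb c
      obtain ⟨l', hl'a, hl'b, hl'l⟩ := exists_ne_three (by omega : 4 ≤ n) a b l
      have hll' : l ≠ l' := Ne.symm hl'l
      rw [single_from_iso hfr l l' hll']
      have e1 : c • ((ω - 1)⁻¹ • (ω • isoV l l' ε - isoV l l' (ε * ω))) =
          (c * (ω - 1)⁻¹ * ω) • isoV l l' ε + (-(c * (ω - 1)⁻¹)) • isoV l l' (ε * ω) := by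
        module
      rw [e1]
      refine hPadd _ _ (hPiso _ (ratV_isoV F₀ _ _ hfr.hε) (herm_isoV_self hF n _ _ hll' ε hfr.hεn)
        ?_ ?_ _) (hPiso _ (ratV_isoV F₀ _ _ (F₀.mul_mem hfr.hε hfr.hω))
        (herm_isoV_self hF n _ _ hll' _ hfr.εω_norm) ?_ ?_ _)
      · rw [hu₀]
        exact herm_isoV_disj hF n _ _ _ _ hla hlb hl'a hl'b ε e
      · rw [hu₀]
        exact isoV_pair_indep _ _ _ _ hab hll' hla.symm hl'a.symm hlb.symm e ε
      · rw [hu₀]
        exact herm_isoV_disj hF n _ _ _ _ hla hlb hl'a hl'b _ e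
      · rw [hu₀]
        exact isoV_pair_indep _ _ _ _ hab hll' hla.symm hl'a.symm hlb.symm e _
    intro v hv β hβ
    have hva : v a + e ^ q * v b = 0 := by
      rw [hu₀, herm_isoV_right hF] at hv
      exact hv
    have hdec : v = (v b / e) • u₀ +
        ∑ l ∈ Finset.univ.filter (fun l : Fin n => l ≠ a ∧ l ≠ b), v l • Pi.single l (1 : F) := by
      funext k
      rw [Pi.add_apply, Pi.smul_apply, Finset.sum_apply, hu₀, isoV_apply]
      simp only [Pi.smul_apply, Pi.single_apply, smul_eq_mul, mul_ite, mul_one, mul_zero]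
      rw [Finset.sum_ite_eq]
      simp only [Finset.mem_filter, Finset.mem_univ, true_and]
      by_cases hka : k = a
      · have hkb : k ≠ b := fun h => hab (by rw [← hka, h])
        rw [if_pos hka, if_neg hkb, if_neg (fun h : k ≠ a ∧ k ≠ b => h.1 hka), hka]
        have h5 : v a = -(e ^ q * v b) := by linear_combination hva
        rw [h5]
        field_simp
        linear_combination (-(v b)) * hen
      · by_cases hkb : k = b
        · rw [if_neg hka, if_pos hkb, if_neg (fun h : k ≠ a ∧ k ≠ b => h.2 hkb), hkb]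
          field_simp
          ring
        · rw [if_neg hka, if_neg hkb, if_pos ⟨hka, hkb⟩]
          ring
    have hPv : P v := by
      rw [hdec]
      refine hPadd _ _ (hPu _) ?_
      refine Finset.sum_induction _ P hPadd hP0 ?_
      intro l hl
      rw [Finset.mem_filter] at hl
      exact hPsingle l hl.2.1 hl.2.2 (v l)
    rw [hP] at hPv
    exact hPv.2 β hβ
  -- every isotropic vector
  intro v c hvv hc
  by_cases hv0 : v = 0
  · have e : uE n q v 0 c = 1 := by
      apply gl_ext_mulVec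
      intro x
      rw [uT_mulVec hF n v c hvv, hv0, smul_zero, add_zero, Units.val_one, Matrix.one_mulVec]
    rw [e]
    exact M.one_mem
  · obtain ⟨l, hl⟩ : ∃ l, v l ≠ 0 := by
      by_contra hh
      push Not at hh
      exact hv0 (funext hh)
    obtain ⟨l', hll'⟩ : ∃ l' : Fin n, l ≠ l' := by
      by_cases hl0 : l = ix 0
      · exact ⟨ix 1, by rw [hl0]; exact h01⟩
      · exact ⟨ix 0, hl0⟩
    obtain ⟨e, he, hen, hne⟩ : ∃ e : F, e ∈ F₀ ∧ e * e ^ q = -1 ∧
        hermForm n F q v (isoV l l' e) ≠ 0 := by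
      by_cases h1 : hermForm n F q v (isoV l l' ε) = 0
      · refine ⟨ε * ω, F₀.mul_mem hfr.hε hfr.hω, hfr.εω_norm, ?_⟩
        intro h2
        apply hl
        rw [coord_from_iso hF hfr v l l', h1, h2]
        ring
      · exact ⟨ε, hfr.hε, hfr.hεn, h1⟩
    obtain ⟨u, hu⟩ : ∃ u : Fin n → F, u = isoV l l' e := ⟨_, rfl⟩
    rw [← hu] at hne
    have hui : hermForm n F q u u = 0 := by rw [hu]; exact herm_isoV_self hF n _ _ hll' e hen
    obtain ⟨cu, hcu⟩ : ∃ cu : F, cu = hermForm n F q v u := ⟨_, rfl⟩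
    have hcu0 : cu ≠ 0 := by rw [hcu]; exact hne
    obtain ⟨x', hx'⟩ : ∃ x' : Fin n → F, x' = cu⁻¹ • v := ⟨_, rfl⟩
    have hx'u : hermForm n F q x' u = 1 := by
      rw [hx', hermForm_smul_left, ← hcu, inv_mul_cancel₀ hcu0]
    have hx'i : hermForm n F q x' x' = 0 := by
      rw [hx', hermForm_smul_left, hermForm_smul_right, hvv, mul_zero, mul_zero]
    have hvx' : v = cu • x' := by rw [hx', smul_smul, mul_inv_cancel₀ hcu0, one_smul]
    have heω : (e * ω) * (e * ω) ^ q = -1 := by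
      rw [mul_pow]
      linear_combination (ω * ω ^ q) * hen - hfr.hωn
    obtain ⟨u', hu'⟩ : ∃ u' : Fin n → F, u' = (1 - ω)⁻¹ • isoV l l' (e * ω) := ⟨_, rfl⟩
    have hu'r : ratV F₀ u' := by
      rw [hu']
      exact ratV_smul (F₀.inv_mem (F₀.sub_mem F₀.one_mem hfr.hω))
        (ratV_isoV F₀ _ _ (F₀.mul_mem he hfr.hω))
    have hu'i : hermForm n F q u' u' = 0 := by
      rw [hu', hermForm_smul_left, hermForm_smul_right, herm_isoV_self hF n _ _ hll' _ heω,
        mul_zero, mul_zero]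
    have hu'0 : u' ≠ 0 := by
      rw [hu']
      exact smul_ne_zero (inv_ne_zero hη'0) (isoV_ne_zero _ _ hll' _)
    have hu'u : hermForm n F q u' u = 1 := by
      rw [hu', hu, hermForm_smul_left, herm_isoV_same hF _ _ hll']
      have e1 : 1 + e * ω * e ^ q = 1 - ω := by linear_combination ω * hen
      rw [e1, inv_mul_cancel₀ hη'0]
    obtain ⟨β, hβ⟩ : ∃ β : F, β = hermForm n F q x' u' := ⟨_, rfl⟩
    have hyu : hermForm n F q (u' - x') u = 0 := by
      rw [hermForm_sub_left, hu'u, hx'u, sub_self]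
    have hβc : β + β ^ q + hermForm n F q (u' - x') (u' - x') = 0 := by
      rw [hβ, hermForm_conj hF, hermForm_sub_left, hermForm_sub_right hF, hermForm_sub_right hF,
        hu'i, hx'i]
      ring
    obtain ⟨g, hg⟩ : ∃ g : GL (Fin n) F, g = uE n q u (u' - x') β := ⟨_, rfl⟩
    have hgM : g ∈ M := by
      rw [hg, hu]
      rw [hu] at hyu
      exact hQ l l' e hll' he hen (u' - x') hyu β hβc
    have hgU : g ∈ GU n F q := by
      rw [hg]
      exact (uE_mem hF n u (u' - x') β hui hyu hβc).1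
    have hgx : (g : Matrix (Fin n) (Fin n) F) *ᵥ x' = u' := by
      rw [hg, uE_mulVec hF n u (u' - x') β hui hyu, hx'u, hermForm_sub_right hF, hx'i, ← hβ]
      module
    have hTu' : uE n q u' 0 (cu * cu ^ q * c) ∈ M := by
      refine hT u' hu'r hu'0 hu'i _ ?_
      rw [mul_pow, mul_pow, pow_q_pow_q hF]
      linear_combination (cu * cu ^ q) * hc
    have hTx' : uE n q x' 0 (cu * cu ^ q * c) ∈ M := by
      have h1 := M.mul_mem (M.mul_mem (M.inv_mem hgM) hTu') hgM
      have e1 : g⁻¹ * uE n q u' 0 (cu * cu ^ q * c) * g = uE n q x' 0 (cu * cu ^ q * c) := by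
        have h2 := uT_conj hF n g⁻¹ (inv_mem hgU) u' (cu * cu ^ q * c) hu'i
        rw [inv_inv] at h2
        rw [h2, ← hgx, gl_inv_mulVec_mulVec]
      rwa [e1] at h1
    rw [hvx', uT_smul hF n cu x' c hx'i]
    exact hTx'

end

end Cfsg.Agent.Lib.helper95
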