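import Mathlib
import Cfsg.Prelude.Def_GeometricClasses
import Cfsg.Agent.Lib.helper95.SubfieldSU5

/-!
Maximality of the subfield subgroups of the special unitary group for subfields of odd prime
index: the core case (standard rational structure).
-/

set_option autoImplicit false

namespace Cfsg.Agent.Lib.helper95

open Matrix Cfsg Cfsg.Geo Cfsg.Agent.Lib.helper17

section
variable {F : Type*} [Field F] [Fintype F] {q : ℕ} (hF : Fintype.card F = q ^ 2)
include hF

/-- The core case (standard rational structure). -/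
theorem subfield_su_core {n : ℕ} (hn : 13 ≤ n)
    (hgen : Subgroup.closure {A : ↥(Cfsg.SU n F q) | ∃ (v : Fin n → F) (c : F),
      Cfsg.hermForm n F q v v = 0 ∧
      ((A : Matrix.SpecialLinearGroup (Fin n) F) : Matrix (Fin n) (Fin n) F) =
        Cfsg.unitaryTransvection n q v c} = ⊤)
    (F₀ : Subfield F) (r : ℕ) (hr : r.Prime) (hro : Odd r)
    (hcard : Fintype.card F = Nat.card F₀ ^ r) :
    IsMaximalIn (GU n F q ⊓ specialLinear (Fin n) F)
      (((Matrix.GeneralLinearGroup.map (F₀.subtype : F₀ →+* F)).range ⊔ scalars (Fin n) F) ⊓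
        (GU n F q ⊓ specialLinear (Fin n) F)) := by
  classical
  have hq2 := two_le_of_card_eq_sq hF
  have hnf := su_exists_not_fixed hF F₀ r hr hro hcard
  obtain ⟨ε, ω, s, hε, hω, hs, hεn, hωn, hω1, hs0, hst⟩ := su_exists_consts hF F₀ hnf
  obtain ⟨ix, hix⟩ : ∃ ix : Fin 7 → Fin n,
      ix = fun k => ⟨k.1, lt_of_lt_of_le k.2 (by omega)⟩ := ⟨_, rfl⟩
  have hinj : Function.Injective ix := by
    intro a b hab
    rw [hix] at hab
    simp only [Fin.mk.injEq] at hab
    exact Fin.ext hab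
  have hfr : SuFrame n q F₀ ix ε ω s := ⟨hinj, hε, hω, hs, hεn, hωn, hω1, hs0, hst, hnf⟩
  obtain ⟨X, hX⟩ : ∃ X : Subgroup (GL (Fin n) F),
      X = (Matrix.GeneralLinearGroup.map (F₀.subtype : F₀ →+* F)).range ⊔
        scalars (Fin n) F := ⟨_, rfl⟩
  rw [← hX]
  have hfin : Module.finrank F₀ F = r := by
    have : Fintype F₀ := Fintype.ofFinite F₀
    have h1 := Module.card_eq_pow_finrank (K := F₀) (V := F)
    rw [hcard, Nat.card_eq_fintype_card] at h1
    exact (Nat.pow_right_injective (Fintype.one_lt_card) h1).symm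
  have hso : IsSimpleOrder (Subalgebra F₀ F) :=
    Subalgebra.isSimpleOrder_of_finrank_prime F₀ F (by rw [hfin]; exact hr)
  have hX2 : ∀ g : GL (Fin n) F, ∀ ζ : F, ζ ≠ 0 →
      (∀ k l, ζ * (g : Matrix (Fin n) (Fin n) F) k l ∈ F₀) → g ∈ X := by
    intro g ζ hζ hg
    rw [hX]
    exact sf_mem_X F₀ g ζ hζ hg
  have hX3 : ∀ g : GL (Fin n) F, g ∈ X →
      ∃ ζ : F, ζ ≠ 0 ∧ ∀ k l, ζ * (g : Matrix (Fin n) (Fin n) F) k l ∈ F₀ := by
    intro g hg
    rw [hX] at hg
    exact sf_of_mem_X F₀ g hg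
  have hratX : ratSU n q F₀ ≤ X ⊓ (GU n F q ⊓ specialLinear (Fin n) F) := by
    intro g hg
    refine ⟨?_, hg.2⟩
    rw [hX]
    exact Subgroup.mem_sup_left hg.1
  have h01 : ix 0 ≠ ix 1 := hinj.ne (by decide)
  have h23 : ix 2 ≠ ix 3 := hinj.ne (by decide)
  have h45 : ix 4 ≠ ix 5 := hinj.ne (by decide)
  obtain ⟨E₀, hE₀⟩ : ∃ E₀ : Fin n → F, E₀ = isoV (ix 0) (ix 1) ε := ⟨_, rfl⟩
  obtain ⟨E₁, hE₁⟩ : ∃ E₁ : Fin n → F, E₁ = isoV (ix 2) (ix 3) ε := ⟨_, rfl⟩
  obtain ⟨E₂, hE₂⟩ : ∃ E₂ : Fin n → F, E₂ = isoV (ix 4) (ix 5) ε := ⟨_, rfl⟩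
  obtain ⟨F₂, hF₂⟩ : ∃ F₂ : Fin n → F, F₂ = (1 - ω)⁻¹ • isoV (ix 4) (ix 5) (ε * ω) :=
    ⟨_, rfl⟩
  have hη'0 : 1 - ω ≠ 0 := sub_ne_zero.mpr (Ne.symm hω1)
  have hη0 : 1 - ω ^ q ≠ 0 := sub_ne_zero.mpr (Ne.symm (hfr.ωq_ne hF))
  have hE₀r : ratV F₀ E₀ := by rw [hE₀]; exact ratV_isoV F₀ _ _ hε
  have hE₁r : ratV F₀ E₁ := by rw [hE₁]; exact ratV_isoV F₀ _ _ hε
  have hE₂r : ratV F₀ E₂ := by rw [hE₂]; exact ratV_isoV F₀ _ _ hε
  have hF₂r : ratV F₀ F₂ := by
    rw [hF₂]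
    exact ratV_smul (F₀.inv_mem (F₀.sub_mem F₀.one_mem hω)) (ratV_isoV F₀ _ _ (F₀.mul_mem hε hω))
  have hE₀i : hermForm n F q E₀ E₀ = 0 := by
    rw [hE₀]; exact herm_isoV_self hF n _ _ h01 ε hεn
  have hE₁i : hermForm n F q E₁ E₁ = 0 := by
    rw [hE₁]; exact herm_isoV_self hF n _ _ h23 ε hεn
  have hE₂i : hermForm n F q E₂ E₂ = 0 := by
    rw [hE₂]; exact herm_isoV_self hF n _ _ h45 ε hεn
  have hF₂i : hermForm n F q F₂ F₂ = 0 := by
    rw [hF₂, hermForm_smul_left, hermForm_smul_right, herm_isoV_self hF n _ _ h45 _ hfr.εω_norm,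
      mul_zero, mul_zero]
  have hE₁E₀ : hermForm n F q E₁ E₀ = 0 := by
    rw [hE₀, hE₁]
    exact herm_isoV_disj hF n _ _ _ _ (hinj.ne (by decide)) (hinj.ne (by decide))
      (hinj.ne (by decide)) (hinj.ne (by decide)) ε ε
  have hE₀E₁ : hermForm n F q E₀ E₁ = 0 := hermForm_swap_zero hF n _ _ hE₁E₀
  have hE₂E₀ : hermForm n F q E₂ E₀ = 0 := by
    rw [hE₀, hE₂]
    exact herm_isoV_disj hF n _ _ _ _ (hinj.ne (by decide)) (hinj.ne (by decide))
      (hinj.ne (by decide)) (hinj.ne (by decide)) ε ε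
  have hE₂E₁ : hermForm n F q E₂ E₁ = 0 := by
    rw [hE₁, hE₂]
    exact herm_isoV_disj hF n _ _ _ _ (hinj.ne (by decide)) (hinj.ne (by decide))
      (hinj.ne (by decide)) (hinj.ne (by decide)) ε ε
  have hF₂E₀ : hermForm n F q F₂ E₀ = 0 := by
    rw [hE₀, hF₂, hermForm_smul_left, herm_isoV_disj hF n _ _ _ _ (hinj.ne (by decide))
      (hinj.ne (by decide)) (hinj.ne (by decide)) (hinj.ne (by decide)) _ ε, mul_zero]
  have hF₂E₁ : hermForm n F q F₂ E₁ = 0 := by
    rw [hE₁, hF₂, hermForm_smul_left, herm_isoV_disj hF n _ _ _ _ (hinj.ne (by decide))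
      (hinj.ne (by decide)) (hinj.ne (by decide)) (hinj.ne (by decide)) _ ε, mul_zero]
  have hE₂F₂ : hermForm n F q E₂ F₂ = 1 := by
    rw [hE₂, hF₂, hermForm_smul_right, herm_isoV_same hF _ _ h45, inv_pow, sub_pow_q hF, one_pow,
      mul_pow]
    have e1 : 1 + ε * (ε ^ q * ω ^ q) = 1 - ω ^ q := by linear_combination (ω ^ q) * hεn
    rw [e1, inv_mul_cancel₀ hη0]
  have hind01 : ∀ a b : F, a • E₀ + b • E₁ = 0 → a = 0 ∧ b = 0 := by
    rw [hE₀, hE₁]
    exact isoV_pair_indep _ _ _ _ h01 h23 (hinj.ne (by decide)) (hinj.ne (by decide))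
      (hinj.ne (by decide)) ε ε
  have hind10 : ∀ a b : F, a • E₁ + b • E₀ = 0 → a = 0 ∧ b = 0 := by
    rw [hE₀, hE₁]
    exact isoV_pair_indep _ _ _ _ h23 h01 (hinj.ne (by decide)) (hinj.ne (by decide))
      (hinj.ne (by decide)) ε ε
  have hind12 : ∀ a b : F, a • E₁ + b • E₂ = 0 → a = 0 ∧ b = 0 := by
    rw [hE₁, hE₂]
    exact isoV_pair_indep _ _ _ _ h23 h45 (hinj.ne (by decide)) (hinj.ne (by decide))
      (hinj.ne (by decide)) ε ε
  have hind0F : ∀ a b : F, a • E₀ + b • F₂ = 0 → a = 0 ∧ b = 0 := by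
    intro a b hab
    rw [hE₀, hF₂, smul_smul] at hab
    have h1 := isoV_pair_indep _ _ _ _ h01 h45 (hinj.ne (by decide)) (hinj.ne (by decide))
      (hinj.ne (by decide)) ε _ _ _ hab
    exact ⟨h1.1, (mul_eq_zero.mp h1.2).resolve_right (inv_ne_zero hη'0)⟩
  refine ⟨?_, ?_⟩
  · refine lt_of_le_of_ne inf_le_right ?_
    intro heq
    obtain ⟨c, -, hc⟩ := SetLike.exists_of_lt (bot_lt_top : (⊥ : Subalgebra F₀ F) < ⊤)
    have hcF : c ∉ F₀ := by
      intro h
      apply hc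
      exact (⊥ : Subalgebra F₀ F).algebraMap_mem ⟨c, h⟩
    have hcE₁E₀ : hermForm n F q (c • E₁) E₀ = 0 := by rw [hermForm_smul_left, hE₁E₀, mul_zero]
    have hgS : uE n q E₀ (c • E₁) 0 ∈ GU n F q ⊓ specialLinear (Fin n) F :=
      uE_mem hF n E₀ (c • E₁) 0 hE₀i hcE₁E₀ (by
        rw [zero_pow (by omega), add_zero, zero_add, hermForm_smul_left, hermForm_smul_right,
          hE₁i, mul_zero, mul_zero])
    have hg : uE n q E₀ (c • E₁) 0 ∈ X := by
      have h1 : uE n q E₀ (c • E₁) 0 ∈ X ⊓ (GU n F q ⊓ specialLinear (Fin n) F) := by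
        rw [heq]
        exact hgS
      exact h1.1
    obtain ⟨ζ, hζ0, hζ⟩ := hX3 _ hg
    have hE₀6 : E₀ (ix 6) = 0 := by
      rw [hE₀, isoV_apply]
      simp [hinj.eq_iff]
    have hE₁6 : E₁ (ix 6) = 0 := by
      rw [hE₁, isoV_apply]
      simp [hinj.eq_iff]
    have hE₀0 : E₀ (ix 0) = 1 := by
      rw [hE₀, isoV_apply]
      simp [hinj.eq_iff]
    have hE₁0 : E₁ (ix 0) = 0 := by
      rw [hE₁, isoV_apply]
      simp [hinj.eq_iff]
    have hE₁2 : E₁ (ix 2) = 1 := by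
      rw [hE₁, isoV_apply]
      simp [hinj.eq_iff]
    have hv6 : ((uE n q E₀ (c • E₁) 0 : GL (Fin n) F) : Matrix (Fin n) (Fin n) F) *ᵥ
        Pi.single (ix 6) 1 = Pi.single (ix 6) 1 := by
      rw [uE_mulVec hF n E₀ (c • E₁) 0 hE₀i hcE₁E₀, hermForm_single_left, hermForm_single_left,
        Pi.smul_apply, hE₀6, hE₁6, smul_zero, zero_pow (by omega), zero_smul, zero_smul, mul_zero,
        zero_smul, add_zero, sub_zero, add_zero]
    have hv0 : ((uE n q E₀ (c • E₁) 0 : GL (Fin n) F) : Matrix (Fin n) (Fin n) F) *ᵥ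
        Pi.single (ix 0) 1 = Pi.single (ix 0) 1 + c • E₁ := by
      rw [uE_mulVec hF n E₀ (c • E₁) 0 hE₀i hcE₁E₀, hermForm_single_left, hermForm_single_left,
        Pi.smul_apply, hE₀0, hE₁0, smul_zero, one_pow, zero_pow (by omega), one_smul, zero_smul,
        zero_mul, zero_smul, sub_zero, add_zero]
    have h1 := hζ (ix 6) (ix 6)
    have h2 := hζ (ix 2) (ix 0)
    rw [← sf_mulVec_single ((uE n q E₀ (c • E₁) 0 : GL (Fin n) F) : Matrix (Fin n) (Fin n) F)
      (ix 6) (ix 6), hv6, Pi.single_eq_same, mul_one] at h1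
    rw [← sf_mulVec_single ((uE n q E₀ (c • E₁) 0 : GL (Fin n) F) : Matrix (Fin n) (Fin n) F)
      (ix 0) (ix 2), hv0, Pi.add_apply, Pi.single_eq_of_ne (hinj.ne (by decide)), zero_add,
      Pi.smul_apply, hE₁2, smul_eq_mul, mul_one] at h2
    apply hcF
    have h3 := F₀.div_mem h2 h1
    rwa [mul_div_cancel_left₀ _ hζ0] at h3
  · intro M hHM hMS
    by_cases hM : M ≤ X
    · left
      exact le_antisymm (le_inf hM hMS) hHM
    · right
      obtain ⟨h, hhM, hhX⟩ := SetLike.not_le_iff_exists.mp hM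
      have hrat : ratSU n q F₀ ≤ M := fun g hg => hHM (hratX hg)
      have hratmem : ∀ c : F, c ∈ F₀ → uE n q E₀ (c • E₁) 0 ∈ M := by
        intro c hc
        exact hrat (uE_rat_mem hF n F₀ E₀ (c • E₁) 0 hE₀r (ratV_smul hc hE₁r) F₀.zero_mem hE₀i
          (by rw [hermForm_smul_left, hE₁E₀, mul_zero])
          (by rw [zero_pow (by omega), add_zero, zero_add, hermForm_smul_left,
            hermForm_smul_right, hE₁i, mul_zero, mul_zero]))
      let R : Subalgebra F₀ F :=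
        { carrier := {c | uE n q E₀ (c • E₁) 0 ∈ M}
          mul_mem' := fun {c d} hc hd => by
            have hc0 : uE n q E₀ (c • E₁) 0 ∈ M := hc
            have hd0 : uE n q E₀ (d • E₁) 0 ∈ M := hd
            have hc1 : uE n q E₁ ((-c ^ q) • E₀) 0 ∈ M := by
              rw [← uE_swap hF n E₀ E₁ c hE₀i hE₁i hE₁E₀]
              exact hc0
            have ha : uE n q E₁ ((-c ^ q) • E₂) 0 ∈ M :=
              su_transport hF hfr hrat E₁ E₀ E₁ E₂ hE₁r hE₀r hE₁r hE₂r hE₁i hE₀i hE₀E₁ hE₁i hE₂i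
                hE₂E₁ hind10 hind12 _ hc1
            have hb : uE n q E₀ (d • F₂) 0 ∈ M :=
              su_transport hF hfr hrat E₀ E₁ E₀ F₂ hE₀r hE₁r hE₀r hF₂r hE₀i hE₁i hE₁E₀ hE₀i hF₂i
                hF₂E₀ hind01 hind0F _ hd0
            have hcomm := Cfsg.Agent.Lib.helper49.uE_comm_eq hF n E₁ ((-c ^ q) • E₂) E₀ (d • F₂)
              0 0 hE₁i (by rw [hermForm_smul_left, hE₂E₁, mul_zero]) hE₀i
              (by rw [hermForm_smul_left, hF₂E₀, mul_zero]) hE₁E₀
              (by rw [hermForm_smul_left, hE₂E₀, mul_zero])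
              (by rw [hermForm_smul_left, hF₂E₁, mul_zero])
            have h1 : uE n q E₀
                (-(hermForm n F q ((-c ^ q) • E₂) (d • F₂)) ^ q • E₁) 0 ∈ M := by
              have h2 := M.mul_mem (M.mul_mem ha hb) (M.inv_mem (M.mul_mem hb ha))
              rwa [hcomm, mul_inv_cancel_right] at h2
            have e : -(hermForm n F q ((-c ^ q) • E₂) (d • F₂)) ^ q = c * d := by
              rw [hermForm_smul_left, hermForm_smul_right, hE₂F₂, mul_one, mul_pow,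
                neg_pow_q hF, pow_q_pow_q hF, pow_q_pow_q hF]
              ring
            rw [e] at h1
            exact h1
          add_mem' := fun {c d} hc hd => by
            have hc0 : uE n q E₀ (c • E₁) 0 ∈ M := hc
            have hd0 : uE n q E₀ (d • E₁) 0 ∈ M := hd
            show uE n q E₀ ((c + d) • E₁) 0 ∈ M
            have e : uE n q E₀ ((c + d) • E₁) 0 =
                uE n q E₀ (c • E₁) 0 * uE n q E₀ (d • E₁) 0 := by
              rw [Cfsg.Agent.Lib.helper49.uE_mul hF n E₀ (c • E₁) (d • E₁) 0 0 hE₀i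
                (by rw [hermForm_smul_left, hE₁E₀, mul_zero])
                (by rw [hermForm_smul_left, hE₁E₀, mul_zero]), ← add_smul]
              congr 1
              rw [hermForm_smul_left, hermForm_smul_right, hE₁i]
              ring
            rw [e]
            exact M.mul_mem hc0 hd0
          one_mem' := hratmem 1 F₀.one_mem
          zero_mem' := hratmem 0 F₀.zero_mem
          algebraMap_mem' := fun c => hratmem c c.2 }
      have hRmem : ∀ c : F, c ∈ R ↔ uE n q E₀ (c • E₁) 0 ∈ M := fun c => Iff.rfl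
      rcases eq_bot_or_eq_top R with hR | hR
      · exfalso
        have hD : SuSubfData n q F₀ M ix ε ω s := by
          refine ⟨hfr, hMS, hrat, fun c hc => ?_⟩
          rw [← hE₀, ← hE₁] at hc
          have h1 : c ∈ R := (hRmem c).mpr hc
          rw [hR, Algebra.mem_bot] at h1
          obtain ⟨y, hy⟩ := h1
          rw [← hy]
          exact y.2
        exact su_final hF hD (fun S => eq_bot_or_eq_top S) h hhM
          (fun ⟨ζ, hζ0, hζ⟩ => hhX (hX2 h ζ hζ0 hζ))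
      · have hall : ∀ c : F,
            uE n q (isoV (ix 0) (ix 1) ε) (c • isoV (ix 2) (ix 3) ε) 0 ∈ M := by
          intro c
          have h1 : c ∈ R := by rw [hR]; exact Algebra.mem_top
          rw [← hE₀, ← hE₁]
          exact (hRmem c).mp h1
        exact le_antisymm hMS (suGL_le_of_transv hF n hgen M (su_all_transv hF hfr hrat hall))

/-- The subfield group of a subfield of odd prime index (for a rational structure on which the
Hermitian form is rational) is a maximal subgroup of the special unitary group. -/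
theorem subfield_su_maximal {n : ℕ} (hn : 13 ≤ n)
    (hgen : Subgroup.closure {A : ↥(Cfsg.SU n F q) | ∃ (v : Fin n → F) (c : F),
      Cfsg.hermForm n F q v v = 0 ∧
      ((A : Matrix.SpecialLinearGroup (Fin n) F) : Matrix (Fin n) (Fin n) F) =
        Cfsg.unitaryTransvection n q v c} = ⊤)
    (F₀ : Subfield F) (r : ℕ) (hr : r.Prime) (hro : Odd r)
    (hcard : Fintype.card F = Nat.card F₀ ^ r) (P : GL (Fin n) F)
    (hP : IsFormRationalStructure (hermForm n F q) F₀ 1 P) :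
    IsMaximalIn (GU n F q ⊓ specialLinear (Fin n) F)
      (subfieldSubgroup F₀ P ⊓ (GU n F q ⊓ specialLinear (Fin n) F)) := by
  classical
  have hq2 := two_le_of_card_eq_sq hF
  have hnf := su_exists_not_fixed hF F₀ r hr hro hcard
  obtain ⟨σ₀, hσ₀, hne, hinv⟩ := su_exists_frob₀ hF F₀ hnf
  have : Finite ↥F₀ := Finite.of_injective (fun x : ↥F₀ => (x : F)) Subtype.val_injective
  have hPr : ∀ u w : Fin n → ↥F₀,
      hermForm n F q ((P : Matrix (Fin n) (Fin n) F) *ᵥ ratc F₀ u)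
        ((P : Matrix (Fin n) (Fin n) F) *ᵥ ratc F₀ w) ∈ F₀ := by
    intro u w
    have h1 := hP (ratc F₀ u) (ratc F₀ w) (ratc_ratV F₀ u) (ratc_ratV F₀ w)
    rwa [one_mul] at h1
  let B : (Fin n → ↥F₀) →ₛₗ[σ₀] (Fin n → ↥F₀) →ₗ[↥F₀] ↥F₀ :=
    LinearMap.mk₂'ₛₗ σ₀ (RingHom.id ↥F₀)
      (fun u w => (⟨hermForm n F q ((P : Matrix (Fin n) (Fin n) F) *ᵥ ratc F₀ w)
        ((P : Matrix (Fin n) (Fin n) F) *ᵥ ratc F₀ u), hPr w u⟩ : ↥F₀))
      (fun u u' w => Subtype.ext (by
        show hermForm n F q _ ((P : Matrix (Fin n) (Fin n) F) *ᵥ ratc F₀ (u + u')) =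
          hermForm n F q _ _ + hermForm n F q _ _
        rw [ratc_add, Matrix.mulVec_add, hermForm_add_right hF]))
      (fun c u w => Subtype.ext (by
        show hermForm n F q _ ((P : Matrix (Fin n) (Fin n) F) *ᵥ ratc F₀ (c • u)) =
          ((σ₀ c : ↥F₀) : F) * hermForm n F q _ _
        rw [ratc_smul, Matrix.mulVec_smul, hermForm_smul_right, hσ₀]))
      (fun u w w' => Subtype.ext (by
        show hermForm n F q ((P : Matrix (Fin n) (Fin n) F) *ᵥ ratc F₀ (w + w')) _ =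
          hermForm n F q _ _ + hermForm n F q _ _
        rw [ratc_add, Matrix.mulVec_add, hermForm_add_left]))
      (fun c u w => Subtype.ext (by
        show hermForm n F q ((P : Matrix (Fin n) (Fin n) F) *ᵥ ratc F₀ (c • w)) _ =
          (c : F) * hermForm n F q _ _
        rw [ratc_smul, Matrix.mulVec_smul, hermForm_smul_left]))
  have hBv : ∀ u w, ((B u w : ↥F₀) : F) =
      hermForm n F q ((P : Matrix (Fin n) (Fin n) F) *ᵥ ratc F₀ w)
        ((P : Matrix (Fin n) (Fin n) F) *ᵥ ratc F₀ u) := fun u w => rfl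
  have hS : B.IsSymm := ⟨fun u w => Subtype.ext (by rw [hσ₀, hBv, hBv, hermForm_conj hF])⟩
  have hsepL : ∀ u, (∀ w, B u w = 0) → u = 0 := by
    intro u hu
    by_contra hu0
    have hy0 : (P : Matrix (Fin n) (Fin n) F) *ᵥ ratc F₀ u ≠ 0 := fun h =>
      hu0 (ratc_injective F₀ (by rw [gl_mulVec_eq_zero P _ h, ratc_zero]))
    let L : (Fin n → F) →ₗ[F] F :=
      { toFun := fun x => hermForm n F q x ((P : Matrix (Fin n) (Fin n) F) *ᵥ ratc F₀ u)
        map_add' := fun x y => hermForm_add_left n q x y _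
        map_smul' := fun c x => by
          rw [hermForm_smul_left]
          rfl }
    have hLv : ∀ x, L x = hermForm n F q x ((P : Matrix (Fin n) (Fin n) F) *ᵥ ratc F₀ u) :=
      fun x => rfl
    have hL : L.comp (Matrix.mulVecLin (P : Matrix (Fin n) (Fin n) F)) = 0 := by
      apply (Pi.basisFun F (Fin n)).ext
      intro l
      simp only [Pi.basisFun_apply, LinearMap.comp_apply, Matrix.mulVecLin_apply,
        LinearMap.zero_apply]
      have h1 := congrArg Subtype.val (hu (Pi.single l 1))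
      rw [hBv, ratc_single] at h1
      rw [hLv]
      exact h1
    obtain ⟨i, hi⟩ : ∃ i, ((P : Matrix (Fin n) (Fin n) F) *ᵥ ratc F₀ u) i ≠ 0 := by
      by_contra hh
      push Not at hh
      exact hy0 (funext hh)
    have h2 := LinearMap.congr_fun hL
      (((P⁻¹ : GL (Fin n) F) : Matrix (Fin n) (Fin n) F) *ᵥ Pi.single i 1)
    simp only [LinearMap.comp_apply, Matrix.mulVecLin_apply, LinearMap.zero_apply,
      gl_mulVec_inv_mulVec] at h2
    rw [hLv, hermForm_single_left] at h2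
    exact hi ((pow_eq_zero_iff (by omega)).mp h2)
  have hB : B.Nondegenerate := by
    constructor
    · exact hsepL
    · intro w hw
      apply hsepL w
      intro u
      rw [← hS.eq u w, hw u, map_zero]
  obtain ⟨b, hb⟩ := exists_orthonormal_basis_herm σ₀ hne hinv B hS hB
  have hfr : Module.finrank ↥F₀ (Fin n → ↥F₀) = n := Module.finrank_fin_fun ↥F₀
  obtain ⟨S₀, hS₀⟩ : ∃ S₀ : Matrix (Fin n) (Fin n) ↥F₀,
      S₀ = Matrix.of (fun k l => b (Fin.cast hfr.symm l) k) := ⟨_, rfl⟩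
  have hS₀l : ∀ l, S₀ *ᵥ Pi.single l 1 = b (Fin.cast hfr.symm l) := fun l => by
    funext k
    rw [sf_mulVec_single, hS₀]
    rfl
  obtain ⟨A, hA⟩ : ∃ A : Matrix (Fin n) (Fin n) F,
      A = (P : Matrix (Fin n) (Fin n) F) * S₀.map (F₀.subtype : F₀ →+* F) := ⟨_, rfl⟩
  have hAv : ∀ u : Fin n → ↥F₀, A *ᵥ ratc F₀ u =
      (P : Matrix (Fin n) (Fin n) F) *ᵥ ratc F₀ (S₀ *ᵥ u) := by
    intro u
    rw [hA, ← Matrix.mulVec_mulVec]
    congr 1
    funext k
    exact (RingHom.map_mulVec (F₀.subtype : F₀ →+* F) S₀ u k).symm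
  have hAk : ∀ k l, hermForm n F q (A *ᵥ Pi.single k 1) (A *ᵥ Pi.single l 1) =
      hermForm n F q (Pi.single k 1) (Pi.single l 1) := by
    intro k l
    have h1 : hermForm n F q (A *ᵥ Pi.single k 1) (A *ᵥ Pi.single l 1) =
        ((B (b (Fin.cast hfr.symm l)) (b (Fin.cast hfr.symm k)) : ↥F₀) : F) := by
      rw [hBv, ← hS₀l, ← hS₀l, ← hAv, ← hAv, ratc_single, ratc_single]
    rw [h1, hb, hermForm_single_single n (by omega) k l]
    by_cases hkl : k = l
    · subst hkl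
      simp
    · have h2 : Fin.cast hfr.symm l ≠ Fin.cast hfr.symm k :=
        fun h => hkl (Fin.cast_injective _ h).symm
      simp [hkl, h2]
  have hApres := herm_ext_basis hF n A hAk
  have hdetA : A.det ≠ 0 := by
    intro h0
    obtain ⟨v, hv0, hv⟩ := Matrix.exists_mulVec_eq_zero_iff.mpr h0
    apply hv0
    funext i
    have h1 := hApres v (Pi.single i 1)
    rw [hv, hermForm_zero_left, hermForm_single_right n q (by omega)] at h1
    exact h1.symm
  have hdetS : S₀.det ≠ 0 := by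
    intro h0
    apply hdetA
    rw [hA, Matrix.det_mul, ← RingHom.mapMatrix_apply, ← RingHom.map_det, h0, map_zero, mul_zero]
  obtain ⟨Sg, hSgr, hSgv⟩ : ∃ Sg : GL (Fin n) F,
      Sg ∈ (Matrix.GeneralLinearGroup.map (F₀.subtype : F₀ →+* F)).range ∧
      (Sg : Matrix (Fin n) (Fin n) F) = S₀.map (F₀.subtype : F₀ →+* F) :=
    ⟨Matrix.GeneralLinearGroup.map (F₀.subtype : F₀ →+* F)
      (Matrix.GeneralLinearGroup.mkOfDetNeZero S₀ hdetS), ⟨_, rfl⟩, rfl⟩
  obtain ⟨Q, hQ⟩ : ∃ Q : GL (Fin n) F, Q = P * Sg := ⟨_, rfl⟩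
  have hQA : (Q : Matrix (Fin n) (Fin n) F) = A := by
    rw [hQ, Units.val_mul, hSgv, hA]
  have hQU : Q ∈ GU n F q := by
    show ∀ u v, hermForm n F q ((Q : Matrix (Fin n) (Fin n) F) *ᵥ u)
      ((Q : Matrix (Fin n) (Fin n) F) *ᵥ v) = hermForm n F q u v
    rw [hQA]
    exact hApres
  obtain ⟨X, hX⟩ : ∃ X : Subgroup (GL (Fin n) F),
      X = (Matrix.GeneralLinearGroup.map (F₀.subtype : F₀ →+* F)).range ⊔
        scalars (Fin n) F := ⟨_, rfl⟩
  have hSgX : Sg ∈ X := by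
    rw [hX]
    exact Subgroup.mem_sup_left hSgr
  have hsub : subfieldSubgroup F₀ P = X.map (MulAut.conj Q).toMonoidHom := by
    unfold subfieldSubgroup
    rw [← hX]
    ext x
    constructor
    · rintro ⟨y, hy, rfl⟩
      refine ⟨Sg⁻¹ * y * Sg, X.mul_mem (X.mul_mem (X.inv_mem hSgX) hy) hSgX, ?_⟩
      show Q * (Sg⁻¹ * y * Sg) * Q⁻¹ = P * y * P⁻¹
      rw [hQ]
      group
    · rintro ⟨y, hy, rfl⟩
      refine ⟨Sg * y * Sg⁻¹, X.mul_mem (X.mul_mem hSgX hy) (X.inv_mem hSgX), ?_⟩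
      show P * (Sg * y * Sg⁻¹) * P⁻¹ = Q * y * Q⁻¹
      rw [hQ]
      group
  have hN : (specialLinear (Fin n) F).Normal := by
    unfold specialLinear
    infer_instance
  have hSU : (GU n F q ⊓ specialLinear (Fin n) F).map (MulAut.conj Q).toMonoidHom =
      GU n F q ⊓ specialLinear (Fin n) F := by
    ext x
    constructor
    · rintro ⟨y, hy, rfl⟩
      show Q * y * Q⁻¹ ∈ GU n F q ⊓ specialLinear (Fin n) F
      exact ⟨(GU n F q).mul_mem ((GU n F q).mul_mem hQU hy.1) ((GU n F q).inv_mem hQU),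
        hN.conj_mem y hy.2 Q⟩
    · intro hx
      refine ⟨Q⁻¹ * x * Q,
        ⟨(GU n F q).mul_mem ((GU n F q).mul_mem ((GU n F q).inv_mem hQU) hx.1) hQU, ?_⟩, ?_⟩
      · have h2 := hN.conj_mem x hx.2 Q⁻¹
        rwa [inv_inv] at h2
      · show Q * (Q⁻¹ * x * Q) * Q⁻¹ = x
        group
  have hcore := subfield_su_core hF hn hgen F₀ r hr hro hcard
  rw [← hX] at hcore
  have h1 := isMaximalIn_map_mulEquiv (MulAut.conj Q) _ _ hcore
  have hH : (X ⊓ (GU n F q ⊓ specialLinear (Fin n) F)).map (MulAut.conj Q).toMonoidHom =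
      subfieldSubgroup F₀ P ⊓ (GU n F q ⊓ specialLinear (Fin n) F) := by
    rw [Subgroup.map_inf_eq _ _ _ (MulAut.conj Q).injective, hSU, ← hsub]
  rw [hSU, hH] at h1
  exact h1

end

end Cfsg.Agent.Lib.helper95
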